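import Cfsg.Agent.H21.FS
import Cfsg.Agent.H17.Ker
import Cfsg.Agent.H17.Central
import Cfsg.Agent.H9.Basic
import Cfsg.Agent.H8.Cls

/-! The number of automorphism orbits of a non-abelian group. -/

set_option autoImplicit false

namespace Cfsg.Agent.H3

open Subgroup Cfsg MulAction
open scoped commutatorElement

variable {G : Type*} [Group G]

theorem exists_aut_ext [Finite G] {M : Subgroup G} [M.Normal] {p : ℕ} (hp : p.Prime)
    (hM : M.index = p) {g w : G} (hg : g ∉ M) (hw : w ∈ M) (hc : ∀ m ∈ M, Commute w m)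
    (h : (g * w) ^ p = g ^ p) : ∃ α : MulAut G, α g = g * w := by
  have : Fact p.Prime := ⟨hp⟩
  set π := QuotientGroup.mk' M
  have mem : ∀ x, x ∈ M ↔ π x = 1 := fun x => (QuotientGroup.eq_one_iff x).symm
  have hg1 : π g ≠ 1 := mt (mem g).2 hg
  have ho : orderOf (π g) = p := orderOf_eq_prime (by rw [← hM]; exact pow_card_eq_one') hg1
  have ex : ∀ x, ∃ i : ℤ, x * (g ^ i)⁻¹ ∈ M := fun x => by
    obtain ⟨i, hi⟩ := mem_zpowers_of_prime_card (G := G ⧸ M) hM hg1 (g' := π x)
    exact ⟨i, (mem _).2 (by simp [← hi])⟩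
  choose ι hι using ex
  have key : ∀ x (i : ℤ), x * (g ^ i)⁻¹ ∈ M →
      (g ^ ι x)⁻¹ * (g * w) ^ ι x = (g ^ i)⁻¹ * (g * w) ^ i := fun x i hi => by
    have h1 := (mem _).1 hi
    have h2 := (mem _).1 (hι x)
    simp only [map_mul, map_inv, map_zpow, mul_inv_eq_one] at h1 h2
    have h3 := zpow_eq_zpow_iff_modEq.1 (h1.symm.trans h2)
    rw [ho] at h3
    obtain ⟨k, hk⟩ := h3.dvd
    rw [show ι x = p * k + i by omega, zpow_add, zpow_add, zpow_mul, zpow_mul, zpow_natCast,
      zpow_natCast, h]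
    group
  have cj : ∀ (i : ℤ) m, m ∈ M → (g * w) ^ i * m * ((g * w) ^ i)⁻¹ = g ^ i * m * (g ^ i)⁻¹ := by
    intro i m hm
    have : MulAut.conjNormal (H := M) (g * w) = MulAut.conjNormal g := by
      ext x; simp [mul_assoc, (hc _ x.2).eq]
    have h2 := congrArg (fun φ : MulAut M => ((φ ^ i) ⟨m, hm⟩ : G)) this
    simpa only [← map_zpow, MulAut.conjNormal_apply] using h2
  let α : G →* G := MonoidHom.mk' (fun x => x * ((g ^ ι x)⁻¹ * (g * w) ^ ι x)) fun x y => by
    have h1 := (mem _).1 (hι x)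
    have h2 := (mem _).1 (hι y)
    simp only [map_mul, map_inv, mul_inv_eq_one] at h1 h2
    rw [key (x * y) (ι x + ι y) ((mem _).2 (by simp [zpow_add, h1, h2])), zpow_add, zpow_add]
    have := cj (ι x) _ (hι y)
    calc _ = x * (g ^ ι x)⁻¹ * (g ^ ι x * (y * (g ^ ι y)⁻¹) * (g ^ ι x)⁻¹) * (g * w) ^ ι x *
          (g * w) ^ ι y := by group
      _ = _ := by rw [← this]; group
  have hi : Function.Injective α := (injective_iff_map_eq_one α).2 fun x hx => by
    have h1 : π (α x) = π x := by
      change π (x * _) = _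
      simp [(mem w).1 hw]
    have h2 : x ∈ M := (mem x).2 (by rw [← h1, hx, map_one])
    change x * _ = 1 at hx
    simpa [key x 0 (by simpa using h2)] using hx
  refine ⟨MulEquiv.ofBijective α (Finite.injective_iff_bijective.1 hi), ?_⟩
  change g * _ = _
  rw [key g 1 (by simp)]; simp

theorem card_orb_le {H Ω : Type*} [Group H] [MulAction H Ω] [Fintype Ω] (wt : Ω → ℕ) (d : ℕ)
    (h : ∀ x, ∃ s : Finset Ω, (∀ y ∈ s, y ∈ orbit H x) ∧ d ≤ ∑ y ∈ s, wt y) :
    d * Nat.card (orbitRel.Quotient H Ω) ≤ ∑ y, wt y := by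
  classical
  have := Fintype.ofFinite (orbitRel.Quotient H Ω)
  rw [← Finset.sum_fiberwise (g := fun x => (Quotient.mk'' x : orbitRel.Quotient H Ω)),
    Nat.card_eq_fintype_card, mul_comm, ← smul_eq_mul, ← Finset.card_univ, ← Finset.sum_const]
  refine Finset.sum_le_sum fun q _ => ?_
  induction q using Quotient.inductionOn' with
  | h x =>
    obtain ⟨s, h1, h2⟩ := h x
    exact h2.trans (Finset.sum_le_sum_of_subset fun y hy =>
      Finset.mem_filter.2 ⟨Finset.mem_univ _, Quotient.sound' (h1 y hy)⟩)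

variable [Finite G]

theorem minFac_le {n : ℕ} (h : n ∣ Nat.card G) (h1 : n ≠ 1) : (Nat.card G).minFac ≤ n :=
  Nat.minFac_le_of_dvd (by
    have := Nat.pos_of_dvd_of_pos h Nat.card_pos; omega) h

theorem cls_le (h : (Nat.card G).minFac < Nat.card (_root_.commutator G)) :
    (Nat.card G).minFac * Nat.card (ConjClasses G) ≤ Nat.card G := by
  classical
  set p := (Nat.card G).minFac
  have hp : 1 ≤ p := Nat.minFac_pos _
  have h1 : p ^ 2 * Nat.card (ConjClasses G) ≤
      Nat.card G + (p ^ 2 - 1) * (_root_.commutator G).index := by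
    rw [← H17.card_linear_irr, ← H17.card_irr, Nat.card_eq_fintype_card (α := IrrCharacter G),
      Nat.card_eq_fintype_card (α := {χ : IrrCharacter G // _}),
      Fintype.card_subtype (α := IrrCharacter G), Finset.card_filter,
      Finset.mul_sum, ← H21.sum_deg_sq, ← Finset.sum_add_distrib,
      ← Finset.card_univ, Finset.card_eq_sum_ones, Finset.mul_sum]
    refine Finset.sum_le_sum fun χ _ => ?_
    have e := H21.irr_charDegree_cast χ
    split_ifs with h2
    · have : charDegree (χ : G → ℂ) = 1 := by rw [h2] at e; exact_mod_cast e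
      have := Nat.one_le_pow 2 p hp
      simp only [*, one_pow, mul_one]; omega
    · have := minFac_le (H17.Cfsg.IsIrrCharacter.degree_dvd_card χ.2 e.symm) fun h3 => h2 (by rw [← e, h3, Nat.cast_one])
      simpa using Nat.pow_le_pow_left this 2
  have h2 := (_root_.commutator G).index_mul_card
  have h3 : (p ^ 2 - 1) * (_root_.commutator G).index ≤ (p - 1) * Nat.card G := by
    rw [← h2, show p ^ 2 - 1 = (p - 1) * (p + 1) by
      rw [mul_comm, ← Nat.sq_sub_sq, one_pow], mul_assoc, mul_comm (p + 1)]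
    exact Nat.mul_le_mul_left _ (Nat.mul_le_mul_left _ h)
  refine Nat.le_of_mul_le_mul_left (c := p) ?_ hp
  obtain ⟨k, hk⟩ : ∃ k, p = k + 1 := ⟨p - 1, by omega⟩
  rw [hk] at h1 h3 ⊢
  simp only [Nat.add_sub_cancel] at h3
  nlinarith

theorem orb_le_cls : Nat.card (orbitRel.Quotient (MulAut G) G) ≤ Nat.card (ConjClasses G) := by
  refine Nat.card_le_card_of_surjective (Quotient.map' id fun a b h => ?_) fun q => ?_
  · obtain ⟨c, rfl⟩ := isConj_iff.1 (IsConj.symm h)
    exact ⟨MulAut.conj c, rfl⟩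
  · induction q using Quotient.inductionOn' with
    | h x => exact ⟨ConjClasses.mk x, rfl⟩

theorem le_index_cent {x : G} (hx : x ∉ center G) :
    (Nat.card G).minFac ≤ (centralizer ({x} : Set G)).index :=
  minFac_le (index_dvd_card _) fun h => hx (mem_center_iff.2 fun g =>
    mem_centralizer_singleton_iff.1 ((index_eq_one.1 h).ge (mem_top g)))

omit [Finite G] in
theorem index_cent_eq (x : G) : (centralizer ({x} : Set G)).index = {y | IsConj x y}.ncard := by
  rw [← H8.card_carrier_mk, ← Nat.card_coe_set_eq]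
  exact Nat.card_congr (Equiv.subtypeEquivRight fun y => by
    rw [ConjClasses.mem_carrier_iff_mk_eq, ConjClasses.mk_eq_mk_iff_isConj]; exact isConj_comm)

theorem count_le {x : G} (hx : x ∉ center G) {W : Subgroup G}
    (hM : (centralizer ({x} : Set G)).index = (Nat.card G).minFac)
    (hW : (Nat.card G).minFac ^ 2 ≤ Nat.card W)
    (h : ∀ g ∉ centralizer ({x} : Set G), ∀ w ∈ W, ∃ α : MulAut G, α g = g * w) :
    (Nat.card G).minFac * Nat.card (orbitRel.Quotient (MulAut G) G) ≤ Nat.card G := by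
  classical
  have := Fintype.ofFinite G
  set p := (Nat.card G).minFac with hp
  set M := centralizer ({x} : Set G)
  have hZ : center G ≤ M := center_le_centralizer _
  have p1 : 1 ≤ p := Nat.minFac_pos _
  let wt : G → ℕ := fun y =>
    1 + (if y ∈ M then p - 1 else 0) + if y ∈ center G then p ^ 2 - p else 0
  have h1 := card_orb_le (H := MulAut G) wt (p ^ 2) fun y => by
    by_cases h2 : ∃ g ∈ orbit (MulAut G) y, g ∉ M
    · obtain ⟨g, hg, hg'⟩ := h2
      refine ⟨(Finset.univ.filter (· ∈ W)).image (g * ·), fun z hz => ?_, ?_⟩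
      · obtain ⟨w, hw, rfl⟩ := Finset.mem_image.1 hz
        obtain ⟨α, hα⟩ := h g hg' w (Finset.mem_filter.1 hw).2
        exact hα ▸ mem_orbit_of_mem_orbit α hg
      · refine le_trans ?_ (Finset.card_nsmul_le_sum _ _ 1 fun z _ => by simp only [wt]; omega)
        rw [Finset.card_image_of_injective _ (mul_right_injective g), smul_eq_mul, mul_one,
          ← Fintype.card_subtype, ← Nat.card_eq_fintype_card]
        exact hW
    push Not at h2
    by_cases h3 : y ∈ center G
    · refine ⟨{y}, by simp, ?_⟩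
      have := Nat.le_self_pow two_ne_zero p
      simp only [wt, Finset.sum_singleton, h3, hZ h3, if_true]; omega
    · have ho : ∀ z, IsConj y z → z ∈ orbit (MulAut G) y := fun z hz => by
        obtain ⟨c, rfl⟩ := isConj_iff.1 hz
        exact ⟨MulAut.conj c, rfl⟩
      refine ⟨Finset.univ.filter (IsConj y), fun z hz => ho z (Finset.mem_filter.1 hz).2, ?_⟩
      refine le_trans ?_ (Finset.card_nsmul_le_sum _ _ p fun z hz => by
        simp only [wt, h2 z (ho z (Finset.mem_filter.1 hz).2), if_true]; omega)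
      have := le_index_cent h3
      rw [index_cent_eq] at this
      rw [smul_eq_mul, sq, ← Set.ncard_coe_finset, Finset.coe_filter_univ]
      exact Nat.mul_le_mul_right _ this
  simp only [wt, Finset.sum_add_distrib, ← Finset.sum_filter, Finset.sum_const, smul_eq_mul,
    ← Fintype.card_subtype, ← Nat.card_eq_fintype_card, Finset.card_univ, mul_one] at h1
  have h2 := M.index_mul_card
  have h3 := H1.card_mul_relIndex hZ
  have h4 : p ≤ (center G).relIndex M := minFac_le
    ((Dvd.intro_left _ h3).trans (card_subgroup_dvd_card M)) fun e =>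
      hx (relIndex_eq_one.1 e (mem_centralizer_singleton_iff.2 rfl))
  have h5 : Nat.card (center G) * p ≤ Nat.card M := h3 ▸ Nat.mul_le_mul_left _ h4
  have p2 : 2 ≤ p := (Nat.minFac_prime fun e => hx (by
    have := (Nat.card_eq_one_iff_unique.1 e).1
    rw [Subsingleton.elim x 1]; exact one_mem _)).two_le
  refine Nat.le_of_mul_le_mul_left (c := p) ?_ p1
  rw [hM] at h2
  obtain ⟨k, hk⟩ : ∃ k, p = k + 2 := ⟨p - 2, by omega⟩
  rw [show p ^ 2 - p = p * (p - 1) by rw [Nat.mul_sub_one, sq]] at h1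
  rw [← h2]
  change p ^ 2 * _ ≤ Nat.card G + Nat.card M * _ + Nat.card (center G) * _ at h1
  rw [← h2] at h1
  rw [hk] at h1 h5 ⊢
  rw [show k + 2 - 1 = k + 1 from rfl] at h1
  nlinarith [Nat.zero_le (k * k * Nat.card M), Nat.mul_le_mul_right (k + 1) h5]

theorem orb_le (hna : ¬ IsMulCommutative G) :
    (Nat.card G).minFac * Nat.card (orbitRel.Quotient (MulAut G) G) ≤ Nat.card G := by
  rcases lt_or_ge (Nat.card G).minFac (Nat.card (_root_.commutator G)) with h | h
  · exact (Nat.mul_le_mul_left _ orb_le_cls).trans (cls_le h)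
  obtain ⟨a, b, hab⟩ : ∃ a b : G, a * b ≠ b * a := by
    by_contra e; push Not at e; exact hna ⟨⟨e⟩⟩
  set p := (Nat.card G).minFac with hp'
  set D := _root_.commutator G
  have hD : ∀ x y : G, ⁅x, y⁆ ∈ D := fun x y => commutator_mem_commutator (mem_top x) (mem_top y)
  have c1 : ⁅b, a⁆ ≠ 1 := fun e => hab (commutatorElement_eq_one_iff_mul_comm.1 e).symm
  have hDc : Nat.card D = p := le_antisymm h (minFac_le (card_subgroup_dvd_card _) fun e =>
    c1 (mem_bot.1 (card_eq_one.1 e ▸ hD b a)))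
  have hp : p.Prime := Nat.minFac_prime fun e =>
    hab ((Nat.card_eq_one_iff_unique.1 e).1.elim _ _)
  have := Fact.mk hp
  have ix : ∀ x : G, (centralizer ({x} : Set G)).index ≤ p := fun x => by
    rw [index_cent_eq, ← hDc, ← Set.ncard_image_of_injective _ (mul_left_injective x⁻¹)]
    refine Set.ncard_le_ncard (t := (D : Set G)) ?_
    rintro _ ⟨y, hy, rfl⟩
    obtain ⟨c, rfl⟩ := isConj_iff.1 hy
    simpa [commutatorElement_def] using hD c x
  have hZ : D ≤ center G := fun x hx => by
    by_contra h1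
    have h2 := le_index_cent h1
    rw [index_cent_eq] at h2
    have h3 : {y | IsConj x y} ⊂ (D : Set G) := by
      refine ⟨fun y hy => ?_, fun e => h1 ?_⟩
      · obtain ⟨c, rfl⟩ := isConj_iff.1 hy
        exact Normal.conj_mem inferInstance x hx c
      · rw [isConj_one_left.1 (e D.one_mem)]; exact one_mem _
    exact (Set.ncard_lt_ncard h3).not_ge (hDc.le.trans h2)
  have cm : ∀ x y z : G, Commute x ⁅y, z⁆ := fun x y z => mem_center_iff.1 (hZ (hD y z)) x
  have dp : ∀ x ∈ D, x ^ p = 1 := fun x hx => by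
    simpa [hDc] using congrArg Subtype.val (pow_card_eq_one' (x := (⟨x, hx⟩ : D)))
  have pw : ∀ x y : G, (x * y) ^ p = x ^ p * y ^ p * ⁅y, x⁆ ^ p.choose 2 := fun x y =>
    H9.mul_pow_class_two (cm _ _ _) (cm _ _ _) p
  have pz : ∀ x : G, x ^ p ∈ center G := fun x => mem_center_iff.2 fun g => by
    have h1 : g * x * g⁻¹ = ⁅g, x⁆ * x := by simp [commutatorElement_def]
    have h2 : g * x ^ p * g⁻¹ = x ^ p := by
      rw [← conj_pow, h1, (cm x g x).symm.mul_pow, dp _ (hD _ _), one_mul]
    exact mul_inv_eq_iff_eq_mul.1 h2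
  have az : a ∉ center G := fun e => hab (mem_center_iff.1 e b).symm
  -- reduction to one element `v`
  suffices ∃ v x, v ∉ D ∧ x ∉ center G ∧ (v ∈ center G ∨ v = x) ∧
      ∀ g ∉ centralizer ({x} : Set G), ∀ w ∈ zpowers v ⊔ D, (g * w) ^ p = g ^ p by
    obtain ⟨v, x, h1, h2, h3, h4⟩ := this
    have hi := le_antisymm (ix x) (le_index_cent h2)
    have : (centralizer ({x} : Set G)).Normal :=
      Normal.of_commutator_le _ (hZ.trans (center_le_centralizer _))
    have hW : zpowers v ⊔ D ≤ centralizer ({x} : Set G) ⊓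
        centralizer (centralizer ({x} : Set G) : Set G) := by
      refine sup_le (zpowers_le.2 ?_)
        (hZ.trans (le_inf (center_le_centralizer _) (center_le_centralizer _)))
      rcases h3 with h3 | rfl
      · exact ⟨center_le_centralizer _ h3, center_le_centralizer _ h3⟩
      · exact ⟨mem_centralizer_singleton_iff.2 rfl, fun y hy => mem_centralizer_singleton_iff.1 hy⟩
    refine count_le h2 (W := zpowers v ⊔ D) hi ?_ fun g hg w hw => exists_aut_ext hp hi hg (hW hw).1
      (fun m hm => ((hW hw).2 m hm).symm) (h4 g hg w hw)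
    have e := H1.card_mul_relIndex (le_sup_right : D ≤ zpowers v ⊔ D)
    rw [← e, hDc, sq]
    exact Nat.mul_le_mul_left _ (minFac_le ((Dvd.intro_left _ e).trans (card_subgroup_dvd_card _))
      fun e => h1 (relIndex_eq_one.1 e (mem_sup_left (mem_zpowers v))))
  by_contra hno
  push Not at hno
  have red : ∀ v x g : G, (∀ i : ℤ, (g * v ^ i) ^ p = g ^ p) →
      ∀ w ∈ zpowers v ⊔ D, (g * w) ^ p = g ^ p := fun v x g h w hw => by
    obtain ⟨_, ⟨i, rfl⟩, d, hd, rfl⟩ := (mem_sup_of_normal_right).1 hw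
    rw [← mul_assoc, (show Commute _ d from mem_center_iff.1 (hZ hd) _).mul_pow, dp d hd, mul_one, h]
  have z1 : ∀ v ∈ center G, v ^ p = 1 → v ∈ D := fun v hv h1 => by
    by_contra h2
    obtain ⟨g, -, w, hw, h3⟩ := hno v a h2 az (.inl hv)
    refine h3 (red v a g (fun i => ?_) w hw)
    rw [(show Commute g _ from mem_center_iff.1 (zpow_mem hv i) _).mul_pow, ← zpow_natCast (v ^ i),
      zpow_comm, zpow_natCast, h1, one_zpow, mul_one]
  by_cases p2 : p = 2
  · -- squares
    have d2 : ∀ d ∈ D, d ≠ 1 → d = ⁅b, a⁆ := fun d hd h1 => by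
      have := (Nat.card_eq_two_iff' (1 : D)).1 (hDc.trans p2)
      exact congrArg Subtype.val (this.unique (y₁ := ⟨d, hd⟩) (y₂ := ⟨_, hD b a⟩)
        (fun e => h1 (congrArg Subtype.val e)) fun e => c1 (congrArg Subtype.val e))
    have z2 : ∀ x ∉ center G, ∀ z ∈ center G, x ^ 2 * ⁅b, a⁆ ≠ z ^ 2 := fun x hx z hz e => by
      have hv : x * z⁻¹ ∉ center G := fun h => hx ((mul_mem_cancel_right (inv_mem hz)).1 h)
      obtain ⟨g, hg, w, hw, h3⟩ := hno _ _ (fun h => hv (hZ h)) hv (.inr rfl)
      have cc : ⁅b, a⁆ ^ 2 = 1 := p2 ▸ dp _ (hD _ _)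
      have v2 : (x * z⁻¹) ^ 2 = ⁅b, a⁆ := by
        rw [(show Commute x _ from mem_center_iff.1 (inv_mem hz) _).mul_pow, inv_pow, ← e,
          mul_inv_rev, (cm _ _ _).symm.inv_left.eq, mul_inv_cancel_left, inv_eq_iff_mul_eq_one,
          ← sq, cc]
      generalize x * z⁻¹ = v at *
      have gv : ⁅v, g⁆ = ⁅b, a⁆ := d2 _ (hD _ _) fun h => hg
        (mem_centralizer_singleton_iff.2 (commutatorElement_eq_one_iff_mul_comm.1 h).symm)
      refine h3 (red v v g (fun i => ?_) w hw)
      obtain ⟨k, rfl | rfl⟩ := Int.even_or_odd' i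
      · rw [zpow_mul, zpow_ofNat, v2, ((cm g b a).zpow_right k).mul_pow, dp _ (zpow_mem (hD _ _) k),
          mul_one]
      · rw [zpow_add, zpow_mul, zpow_ofNat, v2, zpow_one, ((cm v b a).zpow_right k).symm.eq,
          ← mul_assoc, ((cm _ b a).zpow_right k).mul_pow, dp _ (zpow_mem (hD _ _) k), mul_one,
          pw, gv, p2, v2, Nat.choose_self, pow_one, mul_assoc, ← sq, cc, mul_one]
    let φ : center G →* center G := MonoidHom.mk' (· ^ 2) fun x y =>
      (show Commute x y from Subtype.ext (mem_center_iff.1 y.2 x)).mul_pow 2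
    have hk : φ.range.index = 2 := by
      have e1 : Nat.card φ.ker = 2 := by
        rw [← p2, ← hDc, ← H1.card_subgroupOf_of_le hZ]
        congr 2
        ext z
        exact ⟨fun h => z1 _ z.2 (p2 ▸ congrArg Subtype.val h),
          fun h => Subtype.ext (p2 ▸ dp _ h :)⟩
      have e2 := φ.ker.card_mul_index
      rw [index_ker, e1, ← φ.range.index_mul_card] at e2
      exact (Nat.eq_of_mul_eq_mul_right Nat.card_pos e2).symm
    have m : ∀ x : G, x ^ 2 * ⁅b, a⁆ ∈ center G := fun x => mul_mem (p2 ▸ pz x) (hZ (hD _ _))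
    have n : ∀ x ∉ center G, (⟨_, m x⟩ : center G) ∉ φ.range := fun x hx ⟨z, hz⟩ =>
      z2 x hx z z.2 (congrArg Subtype.val hz).symm
    have bz : b ∉ center G := fun e => hab (mem_center_iff.1 e a)
    have abz : a * b ∉ center G := fun e => hab (mul_left_cancel (a := a) (by
      rw [mem_center_iff.1 e a, mul_assoc]))
    refine n _ abz ?_
    convert (mul_mem_iff_of_index_two hk).2 (iff_of_false (n a az) (n b bz)) using 1
    apply Subtype.ext
    change _ = a ^ 2 * ⁅b, a⁆ * (b ^ 2 * ⁅b, a⁆)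
    have := pw a b
    rw [p2, Nat.choose_self, pow_one] at this
    rw [← mul_assoc, mul_assoc (a ^ 2), ← (cm (b ^ 2) b a).eq, ← mul_assoc, ← this]
  · have po : Odd p := hp.odd_of_ne_two p2
    have pw' : ∀ x y : G, (x * y) ^ p = x ^ p * y ^ p := fun x y =>
      H9.mul_pow_of_odd (cm _ _ _) (cm _ _ _) po (dp _ (hD _ _))
    let φ : G →* G := MonoidHom.mk' (· ^ p) pw'
    have hk : φ.ker ≤ D := fun v hv => by
      by_contra h2
      obtain ⟨g, -, w, hw, h3⟩ := hno v v h2 (fun h => h2 (z1 v h hv)) (.inr rfl)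
      refine h3 (red v v g (fun i => ?_) w hw)
      rw [pw', ← zpow_natCast (v ^ i), zpow_comm, zpow_natCast, show v ^ p = 1 from hv, one_zpow,
        mul_one]
    have e1 := φ.ker.card_mul_index
    rw [index_ker, ← (center G).index_mul_card] at e1
    have e2 := Nat.mul_le_mul ((card_le_of_le hk).trans hDc.le)
      (card_le_of_le (show φ.range ≤ center G by rintro _ ⟨x, rfl⟩; exact pz x))
    rw [e1] at e2
    have e3 := Nat.le_of_mul_le_mul_right e2 Nat.card_pos
    have e4 : (center G).index = p := le_antisymm e3 (minFac_le (index_dvd_card _) fun e =>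
      az ((index_eq_one.1 e).ge (mem_top a)))
    have : IsCyclic (G ⧸ center G) := isCyclic_of_prime_card e4
    exact hna ((QuotientGroup.mk' (center G)).isMulCommutative_of_isCyclic_of_ker_le_center
      (QuotientGroup.ker_mk' _).le)

end Cfsg.Agent.H3
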