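import Cfsg.Agent.H3.Py
import Cfsg.Agent.H1.ClsGraph
import Cfsg.Agent.S4034

/-! Groups with two sizes of classes of `p`-regular elements. -/

set_option autoImplicit false
set_option linter.unusedSectionVars false

namespace H3.Pt

open Subgroup _root_.Cfsg _root_.H10

local notation "C₁(" x ")" => Subgroup.centralizer (Singleton.singleton x : Set _)

variable {G : Type*} [Group G] [Finite G] {p : ℕ} {A B : Subgroup G} {x y : G}

theorem mem_C₁ : y ∈ C₁(x) ↔ Commute x y := mem_centralizer_singleton_iff.trans eq_comm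

theorem exists_part (n : ℕ) {C : Subgroup G} (h : ∀ x ∈ C, (orderOf x).Coprime n → ∀ y ∈ C,
    (orderOf y).Coprime n → Commute x y) : ∃ A : Subgroup G,
    (∀ y, y ∈ A ↔ y ∈ C ∧ (orderOf y).Coprime n) ∧ (Nat.card A).Coprime n ∧
      ∀ s : ℕ, s.Prime → s ∣ A.relIndex C → s ∣ n := by
  let A : Subgroup G :=
    { carrier := {y | y ∈ C ∧ (orderOf y).Coprime n}
      mul_mem' := fun {a b} ha hb => ⟨mul_mem ha.1 hb.1, cop_mul (h a ha.1 ha.2 b hb.1 hb.2) ha.2 hb.2⟩
      one_mem' := ⟨one_mem _, by simp⟩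
      inv_mem' := fun {a} ha => ⟨inv_mem ha.1, by simpa using ha.2⟩ }
  refine ⟨A, fun _ => Iff.rfl, Nat.Coprime.symm (Nat.coprime_of_dvd fun s hs h1 h2 => ?_),
    fun s hs hd => by_contra fun hn => ?_⟩
  · obtain ⟨a, ha, oa⟩ := exists_ord hs h2
    exact hs.one_lt.ne' ((oa ▸ ha.2 : s.Coprime n).eq_one_of_dvd h1)
  · have := Fact.mk hs
    obtain ⟨T, hT⟩ := exists_isSylowIn s C
    refine hT.not_dvd_relIndex (hd.trans (relIndex_dvd_of_le_left _ fun t ht => ⟨hT.le ht, ?_⟩))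
    obtain ⟨k, hk⟩ := orderOf_eq_pow_of_mem hT.isPGroup ht
    exact hk ▸ (hs.coprime_iff_not_dvd.2 hn).pow_left k

theorem lift_cop {G' : Type*} [Group G'] {f : G →* G'} (hf : Function.Surjective f) {n : ℕ} {y : G'}
    (hy : (orderOf y).Coprime n) : ∃ x, f x = y ∧ (orderOf x).Coprime n :=
  (H8.exists_lift_coprime f hf y).imp fun _ h => ⟨h.1, Nat.coprime_of_dvd fun s hs h1 h2 =>
    hs.one_lt.ne' (Nat.eq_one_of_dvd_coprimes hy (h.2 s hs h1) h2)⟩

theorem exists_noncentral {N : Subgroup G} {q : ℕ} (hq : q.Prime) (h : q ∣ N.relIndex A) :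
    ∃ x ∈ A, x ∉ N ∧ ∃ j, orderOf x = q ^ j := by
  have := Fact.mk hq
  by_contra! hc
  obtain ⟨T, hT⟩ := exists_isSylowIn q A
  exact hT.not_dvd_relIndex (h.trans (relIndex_dvd_of_le_left _ fun t ht => by_contra fun e =>
    (orderOf_eq_pow_of_mem hT.isPGroup ht).elim (hc t (hT.le ht) e)))

theorem dvd_relIndex {N : Subgroup G} [N.Normal] {q j : ℕ} (hq : q.Prime) (hx : x ∈ A) (h1 : x ∉ N)
    (ox : orderOf x = q ^ j) : q ∣ N.relIndex A := by
  have e := relIndex_ker A (QuotientGroup.mk' N)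
  rw [QuotientGroup.ker_mk'] at e
  obtain ⟨i, -, hi⟩ := (Nat.dvd_prime_pow hq).1 (ox ▸ orderOf_map_dvd (QuotientGroup.mk' N) x)
  rcases i with _ | i
  · exact (h1 ((QuotientGroup.eq_one_iff x).1 (by simpa using hi))).elim
  · exact e ▸ ((dvd_pow_self q i.succ_ne_zero).trans hi.symm.dvd).trans
      (orderOf_dvd_natCard _ (mem_map_of_mem _ hx))

variable (G) in
/-- the `p`-regular elements of the centralizers are central in them -/
structure CH (p : ℕ) : Prop where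
  prime : p.Prime
  cen : ∀ x ∉ center G, (orderOf x).Coprime p → ∀ y : G, (orderOf y).Coprime p → Commute x y →
    ∀ g, Commute x g → Commute y g
  ind : ∀ x ∉ center G, (orderOf x).Coprime p → ∀ y ∉ center G, (orderOf y).Coprime p →
    ∃ i j, C₁(x).index * p ^ i = C₁(y).index * p ^ j
  two : ∀ q : ℕ, ∃ r : ℕ, r.Prime ∧ r ≠ q ∧ r ≠ p ∧ r ∣ (center G).index

/-- `A` is the set of the `p`-regular elements in the centralizer of the `p`-regular element `x` -/
structure IsA (p : ℕ) (x : G) (A : Subgroup G) : Prop where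
  nc : x ∉ center G
  cop : (orderOf x).Coprime p
  mem : ∀ y, y ∈ A ↔ Commute x y ∧ (orderOf y).Coprime p

theorem IsA.self (h : IsA p x A) : x ∈ A := (h.mem x).2 ⟨Commute.refl x, h.cop⟩

theorem IsA.eq (h : IsA p x A) (h' : IsA p x B) : A = B := ext fun y => (h.mem y).trans (h'.mem y).symm

theorem IsA.cj (h : IsA p x A) (g : G) : IsA p (g * x * g⁻¹) (cj g A) := by
  refine ⟨fun e => h.nc (by simpa [mul_assoc] using Normal.conj_mem inferInstance _ e g⁻¹),
    (orderOf_conj g x).symm ▸ h.cop, fun y => ?_⟩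
  rw [mem_cj, h.mem, orderOf_conj', ← Commute.conj_iff g]
  simp [mul_assoc]

namespace CH
variable (h : CH G p)
include h

theorem exA (hx : x ∉ center G) (c : (orderOf x).Coprime p) : ∃ A, IsA p x A ∧
    (Nat.card A).Coprime p ∧ ∃ k, Nat.card A * p ^ k * C₁(x).index = Nat.card G := by
  obtain ⟨A, h1, h2, h3⟩ := exists_part p (C := C₁(x)) fun a ha ca b hb _ =>
    h.cen x hx c a ca (mem_C₁.1 ha) b (mem_C₁.1 hb)
  refine ⟨A, ⟨hx, c, fun y => by rw [h1, mem_C₁]⟩, h2,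
    (A.relIndex C₁(x)).primeFactorsList.length, ?_⟩
  rw [← Nat.eq_prime_pow_of_unique_prime_dvd (p := p) (n := A.relIndex C₁(x))
    index_ne_zero_of_finite fun hs hd => (Nat.prime_dvd_prime_iff_eq hs h.prime).1 (h3 _ hs hd),
    card_mul_relIndex fun y hy => ((h1 y).1 hy).1, card_mul_index]

theorem cop (hA : IsA p x A) : (Nat.card A).Coprime p := by
  obtain ⟨B, hB, h1, -⟩ := h.exA hA.nc hA.cop
  exact hB.eq hA ▸ h1

theorem card_dvd (hA : IsA p x A) (hB : IsA p y B) : Nat.card A ∣ Nat.card B := by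
  obtain ⟨A, h0, h1, k, h2⟩ := h.exA hA.nc hA.cop
  obtain rfl := hA.eq h0
  obtain ⟨B, h0, -, l, h3⟩ := h.exA hB.nc hB.cop
  obtain rfl := hB.eq h0
  obtain ⟨i, j, e⟩ := h.ind x hA.nc hA.cop y hB.nc hB.cop
  refine (h1.pow_right (l + i)).dvd_of_dvd_mul_right ⟨p ^ (k + j), Nat.eq_of_mul_eq_mul_right
    (H8.index_centralizer_pos x) ?_⟩
  calc _ = Nat.card B * p ^ l * (C₁(x).index * p ^ i) := by ring
    _ = Nat.card B * p ^ l * C₁(y).index * p ^ j := by rw [e]; ring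
    _ = _ := by rw [h3, ← h2]; ring

theorem card_eq (hA : IsA p x A) (hB : IsA p y B) : Nat.card A = Nat.card B :=
  Nat.dvd_antisymm (h.card_dvd hA hB) (h.card_dvd hB hA)

theorem comm (hA : IsA p x A) {a g : G} (ha : a ∈ A) (c : Commute x g) : Commute a g :=
  h.cen x hA.nc hA.cop a ((hA.mem a).1 ha).2 ((hA.mem a).1 ha).1 g c

theorem isA (hA : IsA p x A) (hy : y ∈ A) (h1 : y ∉ center G) : IsA p y A := by
  obtain ⟨B, hB, -⟩ := h.exA h1 ((hA.mem y).1 hy).2
  rwa [eq_of_le_of_card_ge (fun a ha => (hB.mem a).2 ⟨h.comm hA hy ((hA.mem a).1 ha).1,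
    ((hA.mem a).1 ha).2⟩) (h.card_eq hB hA).le]

theorem card_map (hA : IsA p x A) (hB : IsA p y B) :
    Nat.card (A.map (QuotientGroup.mk' (center G))) = Nat.card (B.map (QuotientGroup.mk' (center G))) := by
  have e : center G ⊓ A = center G ⊓ B := ext fun z => and_congr_right fun hz => by
    simp [hA.mem, hB.mem, commute_iff_eq, mem_center_iff.1 hz]
  rw [← relIndex_ker, ← relIndex_ker, QuotientGroup.ker_mk']
  refine Nat.eq_of_mul_eq_mul_left (Nat.card_pos (α := (center G ⊓ A : Subgroup G))) ?_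
  rw [card_inf_mul_relIndex, e, card_inf_mul_relIndex, h.card_eq hA hB]

theorem pp : PP p {B | ∃ x A, IsA p x A ∧ A.map (QuotientGroup.mk' (center G)) = B} := by
  have hf := QuotientGroup.mk'_surjective (center G)
  have nc : ∀ {a : G}, QuotientGroup.mk' (center G) a ≠ 1 → a ∉ center G := fun e e' =>
    e ((QuotientGroup.eq_one_iff _).2 e')
  have ex : ∀ w : G ⧸ center G, w ≠ 1 → (orderOf w).Coprime p → ∃ B ∈ {B | ∃ x A, IsA p x A ∧
      A.map (QuotientGroup.mk' (center G)) = B}, w ∈ B := fun w w1 c => by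
    obtain ⟨x, rfl, cx⟩ := lift_cop hf c
    obtain ⟨A, hA, -⟩ := h.exA (nc w1) cx
    exact ⟨_, ⟨x, A, hA, rfl⟩, mem_map_of_mem _ hA.self⟩
  refine ⟨⟨ex, ?_, ?_⟩, h.prime, ?_, ?_, ?_, ?_, ?_⟩
  · rintro _ ⟨x, A, hA, rfl⟩ _ ⟨y, B, hB, rfl⟩ _ ⟨a, ha, rfl⟩ ⟨b, hb, e⟩ a1
    have h1 := h.isA hA ha (nc a1)
    have h2 := h.isA hB hb (nc (e ▸ a1))
    obtain ⟨z, hz, rfl⟩ := (QuotientGroup.mk'_eq_mk' _).1 e
    refine congrArg _ (ext fun w => ?_)
    have c : Commute z w := (mem_center_iff.1 hz w).symm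
    rw [h1.mem, h2.mem]
    exact and_congr_left' ⟨fun c' => by simpa using c'.mul_left c.inv_left, fun c' => c'.mul_left c⟩
  · rintro _ ⟨x, A, hA, rfl⟩ g
    obtain ⟨g, rfl⟩ := hf g
    exact ⟨_, _, hA.cj g, map_cj _ _ _⟩
  · rintro _ ⟨x, A, hA, rfl⟩
    exact (h.cop hA).coprime_dvd_left (card_map_dvd _ _)
  · rintro _ ⟨x, A, hA, rfl⟩ _ ⟨a, ha, rfl⟩
    refine mem_CC.2 ?_
    rintro _ ⟨b, hb, rfl⟩
    exact (h.comm hA hb ((hA.mem a).1 ha).1).map _
  · rintro _ ⟨x, A, hA, rfl⟩ _ ⟨y, B, hB, rfl⟩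
    exact h.card_map hA hB
  · rintro _ ⟨x, A, hA, rfl⟩ q
    obtain ⟨r, hr, rq, rp, hd⟩ := h.two q
    have := Fact.mk hr
    obtain ⟨w, ow⟩ := exists_prime_orderOf_dvd_card' (G := G ⧸ center G) r hd
    obtain ⟨_, ⟨y, B, hB, rfl⟩, hw⟩ := ex w (ne_one_of_ord hr ow)
      (ow ▸ (Nat.coprime_primes hr h.prime).2 rp)
    exact ⟨r, hr, rq, h.card_map hB hA ▸ ow ▸ orderOf_dvd_natCard _ hw⟩
  · rintro _ ⟨x, A, hA, rfl⟩ _ ⟨a, ha, rfl⟩ a1 u k ou c
    have := Fact.mk h.prime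
    obtain ⟨u, rfl, j, hj⟩ := H8.exists_lift_pElt _ hf ou
    have c' : Commute a u := H1.commute_of_comm_center ((QuotientGroup.eq_one_iff _).1 (by
      have := commutatorElement_eq_one_iff_commute.2 c.symm
      rwa [← map_commutatorElement] at this)) (hj ▸ ((hA.mem a).1 ha).2.pow_right j)
    refine mem_CC.2 ?_
    rintro _ ⟨b, hb, rfl⟩
    exact (h.comm (h.isA hA ha (nc a1)) hb c').map _

theorem index_pow (c : (orderOf x).Coprime p) : ∃ k, C₁(x).index = p ^ k := by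
  by_cases hx : x ∈ center G
  · exact ⟨0, H8.index_centralizer_eq_one_iff.2 hx⟩
  obtain ⟨A, hA, -⟩ := h.exA hx c
  obtain ⟨k, hk⟩ := h.pp.index_pow ⟨x, A, hA, rfl⟩
  rw [index_map, QuotientGroup.ker_mk', MonoidHom.range_eq_top.2 (QuotientGroup.mk'_surjective _),
    index_top, mul_one] at hk
  exact H8.pow_of_dvd_pow h.prime (index_dvd_of_le (sup_le (fun a ha => mem_C₁.2 ((hA.mem a).1 ha).1)
    fun z hz => mem_C₁.2 (mem_center_iff.1 hz x))) hk

end CH

theorem exists_prim {H : Subgroup G} (hx : x ∉ H) :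
    ∃ (n s j : ℕ), s.Prime ∧ orderOf (x ^ n) = s ^ j ∧ x ^ n ∉ H := by
  induction hn : orderOf x using Nat.strong_induction_on generalizing x with
  | _ m ih =>
    obtain ⟨s, hs, hd⟩ := exists_prime_dvd_ord (x := x) (by rintro rfl; exact hx (one_mem _))
    by_contra! hc
    refine hx (mem_of_parts hs (fun n j => hc n s j hs) fun n c => by_contra fun e => ?_)
    obtain ⟨k, t, j, ht, e1, e2⟩ := ih _ (hn ▸ (Nat.le_of_dvd (orderOf_pos x)
      (orderOf_pow_dvd n)).lt_of_ne fun e' => hs.one_lt.ne' (c.symm.eq_one_of_dvd (e' ▸ hd))) e rfl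
    rw [← pow_mul] at e1 e2
    exact e2 (hc _ t j ht e1)

theorem exists_prime_pow {n q : ℕ} (hn : n ≠ 0) (h : ∀ r : ℕ, r.Prime → r ∣ n → r = q) :
    ∃ s j : ℕ, s.Prime ∧ n = s ^ j := by
  by_cases h1 : n = 1
  · exact ⟨2, 0, Nat.prime_two, h1⟩
  obtain ⟨r, hr, hd⟩ := Nat.exists_prime_and_dvd h1
  exact ⟨q, _, h r hr hd ▸ hr, Nat.eq_prime_pow_of_unique_prime_dvd hn (h _)⟩

theorem mul_not_mem {H : Subgroup G} (c : Commute x y) (hc : (orderOf x).Coprime (orderOf y))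
    (hx : x ∉ H) : x * y ∉ H := fun e => hx (zpowers_le.2 e (H8.mem_zpowers_mul_of_coprime c hc))

theorem eq_of_index (h : A ≤ B) (e : A.index = B.index) : A = B := eq_of_le_of_card_ge h
  (Nat.eq_of_mul_eq_mul_right (Nat.pos_of_ne_zero (index_ne_zero_of_finite (H := A)))
    (by rw [card_mul_index, e, card_mul_index])).le

theorem C₁_le_of_index (c : Commute x y) (hc : (orderOf x).Coprime (orderOf y))
    (e : C₁(x * y).index = C₁(x).index) : C₁(x) ≤ C₁(y) := by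
  rw [H8.centralizer_mul_of_coprime c hc] at e
  exact (eq_of_index inf_le_left e).ge.trans inf_le_right

theorem C₁_pow (x : G) (n : ℕ) : C₁(x) ≤ C₁(x ^ n) := fun _ h => mem_C₁.2 ((mem_C₁.1 h).pow_left n)

theorem center_le_C₁ (x : G) : center G ≤ C₁(x) := fun _ hz => mem_C₁.2 (mem_center_iff.1 hz x)

theorem exists_nc_of_index {r j : ℕ} (hr : r.Prime) (hy : y ∉ center G) (oy : orderOf y = r ^ j)
    {n m : ℕ} (hn : n.Coprime r) (e : C₁(x).index * m = C₁(y).index * n) :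
    ∃ v ∈ C₁(x), v ∉ center G ∧ ∃ j, orderOf v = r ^ j := by
  refine exists_noncentral hr (hn.symm.dvd_of_dvd_mul_right ?_)
  have h1 := dvd_relIndex hr (mem_C₁.2 (Commute.refl y)) hy oy
  have h2 : (center G).relIndex C₁(x) * n = (center G).relIndex C₁(y) * m :=
    Nat.eq_of_mul_eq_mul_right (H8.index_centralizer_pos y) (Nat.eq_of_mul_eq_mul_right
      (H8.index_centralizer_pos x) (by
        calc _ = (center G).relIndex C₁(x) * C₁(x).index * (C₁(y).index * n) := by ring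
          _ = (center G).relIndex C₁(y) * C₁(y).index * (C₁(x).index * m) := by
            rw [relIndex_mul_index (center_le_C₁ x), relIndex_mul_index (center_le_C₁ y), e]
          _ = _ := by ring))
  exact h2 ▸ h1.mul_right m

theorem exists_nc {r : ℕ} (hr : r.Prime) (h : r ∣ (center G).index) :
    ∃ v : G, v ∉ center G ∧ ∃ j, orderOf v = r ^ j :=
  (exists_noncentral (A := ⊤) hr (by rwa [relIndex_top_right])).imp fun _ h => h.2

theorem ch_of_two (hp : p.Prime) {m : ℕ}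
    (h : ∀ x : G, (orderOf x).Coprime p → C₁(x).index = 1 ∨ C₁(x).index = m)
    (h2 : ∀ q : ℕ, ∃ r : ℕ, r.Prime ∧ r ≠ q ∧ r ≠ p ∧ r ∣ (center G).index) : CH G p := by
  have e : ∀ x ∉ center G, (orderOf x).Coprime p → C₁(x).index = m := fun x hx c =>
    (h x c).resolve_left (mt H8.index_centralizer_eq_one_iff.1 hx)
  have K : ∀ {a b : G}, a ∉ center G → (orderOf a).Coprime p → (orderOf b).Coprime p → Commute a b →
      (orderOf a).Coprime (orderOf b) → C₁(a) ≤ C₁(b) := fun ha ca cb c hc =>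
    C₁_le_of_index c hc ((e _ (mul_not_mem c hc ha) (cop_mul c ca cb)).trans (e _ ha ca).symm)
  refine ⟨hp, fun x hx cx y cy c g hg => ?_,
    fun x hx cx y hy cy => ⟨0, 0, by rw [e x hx cx, e y hy cy]⟩, h2⟩
  obtain ⟨n, s, j, hs, o, nc⟩ := exists_prim hx
  have c0 := cop_pow cx n
  refine (mem_C₁.1 (mem_of_parts hs (fun k i ok => ?_) fun k ck => ?_)).symm
  · obtain ⟨r, hr, rs, rp, hd⟩ := h2 s
    obtain ⟨w, hw, l, ow⟩ := exists_nc hr hd
    have cr : ∀ {v : G} {l : ℕ}, orderOf v = r ^ l → (orderOf v).Coprime p := fun e => by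
      simpa [e] using cop_primes hr hp rp _ 1
    obtain ⟨v, hv, vZ, l, ov⟩ := exists_nc_of_index (x := x ^ n) hr hw ow (Nat.coprime_one_left r)
      (by rw [e _ nc c0, e w hw (cr ow)])
    have h1 := K nc c0 (cr ov) (mem_C₁.1 hv) (by rw [o, ov]; exact cop_primes hs hr rs.symm _ _)
    exact mem_C₁.2 (mem_C₁.1 (K vZ (cr ov) (cop_pow cy k) (mem_C₁.1 (h1 (mem_C₁.2 (c.pow_pow n k))))
      (by rw [ok, ov]; exact cop_primes hr hs rs _ _) (h1 (mem_C₁.2 (hg.pow_left n))))).symm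
  · exact mem_C₁.2 (mem_C₁.1 (K nc c0 (cop_pow cy k) (c.pow_pow n k) (o ▸ ck.symm.pow_left j)
      (mem_C₁.2 (hg.pow_left n)))).symm

/-- Ito: a group with two class sizes is a `p`-group modulo its centre -/
theorem ito {m : ℕ} (h : ∀ x : G, C₁(x).index = 1 ∨ C₁(x).index = m) :
    ∃ s j : ℕ, s.Prime ∧ (center G).index = s ^ j := by
  obtain ⟨p, hl, hp⟩ := Nat.exists_infinite_primes (Nat.card G + 1)
  have hc : ¬ p ∣ Nat.card G := fun e => by have := Nat.le_of_dvd Nat.card_pos e; omega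
  by_cases h2 : ∀ q : ℕ, ∃ r : ℕ, r.Prime ∧ r ≠ q ∧ r ≠ p ∧ r ∣ (center G).index
  · refine ⟨p, 0, hp, index_eq_one.2 (eq_top_iff.2 fun x _ => ?_)⟩
    obtain ⟨k, hk⟩ := (ch_of_two hp (fun x _ => h x) h2).index_pow
      ((hp.coprime_iff_not_dvd.2 hc).symm.coprime_dvd_left (orderOf_dvd_natCard x))
    rcases k with _ | k
    · exact H8.index_centralizer_eq_one_iff.1 hk
    · exact (hc (((dvd_pow_self p k.succ_ne_zero).trans hk.symm.dvd).trans (index_dvd_card _))).elim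
  · push Not at h2
    obtain ⟨q, hq⟩ := h2
    exact exists_prime_pow index_ne_zero_of_finite fun r hr hd => by_contra fun e =>
      hq r hr e (by rintro rfl; exact hc (hd.trans (index_dvd_card _))) hd

/-- the central Hall subgroup for the primes not dividing `n` has a normal complement -/
theorem exists_compl {n : ℕ} (h : ∀ r : ℕ, r.Prime → r ∣ (center G).index → r ∣ n) :
    ∃ A K : Subgroup G, A ≤ center G ∧ K.Normal ∧ A.IsComplement' K ∧ (Nat.card A).Coprime n ∧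
      ∀ r : ℕ, r.Prime → r ∣ Nat.card K → r ∣ n := by
  obtain ⟨A, h1, h2, h3⟩ := exists_part n (C := center G) fun a ha _ b _ _ => (mem_center_iff.1 ha b).symm
  have hA : A ≤ center G := fun y hy => ((h1 y).1 hy).1
  have h4 : ∀ r : ℕ, r.Prime → r ∣ A.index → r ∣ n := fun r hr hd => by
    rw [← relIndex_mul_index hA] at hd
    exact (hr.dvd_mul.1 hd).elim (h3 r hr) (h r hr)
  have : A.Normal := ⟨fun a ha g => by rwa [mem_center_iff.1 (hA ha) g, mul_inv_cancel_right]⟩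
  obtain ⟨K, hK⟩ := exists_right_complement'_of_coprime (N := A) (Nat.coprime_of_dvd fun r hr d1 d2 =>
    hr.one_lt.ne' (Nat.eq_one_of_dvd_coprimes h2 d1 (h4 r hr d2)))
  refine ⟨A, K, hA, ⟨fun k hk g => ?_⟩, hK, h2, fun r hr hd => h4 r hr (hK.symm.index_eq_card ▸ hd)⟩
  obtain ⟨⟨a, b⟩, rfl⟩ := hK.2 g
  have e : (a : G) * b * k * ((a : G) * b)⁻¹ = b * k * (b : G)⁻¹ := by
    rw [← mem_center_iff.1 (hA a.2) b, mul_inv_rev, mul_assoc (b : G), ← mem_center_iff.1 (hA a.2) k]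
    group
  exact e ▸ mul_mem (mul_mem b.2 hk) (inv_mem b.2)

theorem sylow_le {K : Subgroup G} [K.Normal] [Fact p.Prime] (P : Sylow p G) (h : ¬ p ∣ K.index) :
    (P : Subgroup G) ≤ K := fun x hx => by_contra fun e => by
  obtain ⟨k, hk⟩ := orderOf_eq_pow_of_mem P.isPGroup' hx
  exact h (relIndex_top_right K ▸ dvd_relIndex Fact.out (mem_top x) e hk)

theorem solv_of_index_pow (hp : p.Prime)
    (h : ∀ x : G, (orderOf x).Coprime p → ∃ k, C₁(x).index = p ^ k) : Group.IsSolvable G := by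
  have := Fact.mk hp
  refine Agent.S4034.solv (p := p) fun R _ hR => ⟨_, Nat.eq_prime_pow_of_unique_prime_dvd
    index_ne_zero_of_finite fun {r} hr hd => by_contra fun e => ?_⟩
  obtain ⟨x, -, h1, j, hj⟩ := exists_noncentral (A := ⊤) (N := R) hr (by rwa [relIndex_top_right])
  obtain ⟨k, hk⟩ := h x (by simpa [hj] using cop_primes hr hp e j 1)
  exact h1 (hR x k hk)

end H3.Pt
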