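import Cfsg.Agent.H3.Pz
import Cfsg.Agent.H3.Cs
import Cfsg.Agent.H17.Central
import Cfsg.Agent.H2.ThompsonFPF
import Cfsg.Agent.S4249
import Cfsg.Agent.S0069

/-! Groups in which the centralizers of the noncentral elements are incomparable; groups with three
class sizes. -/

set_option autoImplicit false
set_option linter.unusedSectionVars false

namespace H3.Pt

open Subgroup _root_.Cfsg _root_.H10
open scoped MatrixGroups
open H4 (pmk smk pL pT psl2pgl)

universe u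

local notation "C₁(" x ")" => Subgroup.centralizer (Singleton.singleton x : Set _)

section
variable {F : Type*} [Field F]

theorem mem_pT' {g : GL (Fin 2) F} (hg : ¬ H4.Sc g.1) {z b : PGL(2, F)} (hz : z ∈ pT g) (z1 : z ≠ 1)
    (hz2 : (2 : F) = 0 ∨ z * z ≠ 1) (hc : Commute b z) : b ∈ pT g := by
  by_cases h2 : (2 : F) = 0
  swap
  · exact H4.mem_pT_of_comm h2 hg hz (hz2.resolve_left h2) hc
  obtain ⟨b, rfl⟩ := Matrix.ProjGenLinGroup.mk_surjective b
  obtain ⟨z, rfl⟩ := Matrix.ProjGenLinGroup.mk_surjective z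
  rw [← H4.pT_eq_of_mem hg (fun h => z1 (H4.pmk_eq_one_iff.2 h)) hz, H4.pmk_mem_pT]
  rcases H4.comm_cases hc with h | ⟨-, h⟩
  · exact h.symm
  · rw [h, ← neg_one_smul F, show (-1 : F) = 1 by linear_combination -h2, one_smul]

end

/-- three elements which force three different orders of centralizers -/
def T3 (Y : Type*) [Group Y] : Prop :=
  ∃ (a b u : Y) (q d : ℕ), 3 < q ∧ 0 < d ∧ d ≤ 2 ∧ d * orderOf a = q - 1 ∧ d * orderOf b = q + 1 ∧
    C₁(b) ≤ zpowers b ∧ u ≠ 1 ∧ Nat.card C₁(u) ∣ q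

theorem t3_of {Y : Type*} [Group Y] [Finite Y] {F : Type} [Field F] [Fintype F] (h3 : 3 < Fintype.card F)
    (φ : Y →* PGL(2, F)) (hφ : Function.Injective φ) (hL : pL F ≤ φ.range) {d : ℕ} (d0 : 0 < d)
    (d2 : d ≤ 2) (hd : ∀ g : GL (Fin 2) F, H4.disc g.1 ≠ 0 →
      d * Nat.card (pT g ⊓ φ.range : Subgroup _) = Nat.card (pT g)) : T3 Y := by
  have k : ∀ g : GL (Fin 2) F, H4.disc g.1 ≠ 0 → ∃ a : Y, pT g ⊓ φ.range = zpowers (φ a) ∧
      d * orderOf a = Nat.card (pT g) := fun g hg => by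
    have := H4.isCyclic_pT hg
    obtain ⟨_, ⟨-, a, rfl⟩, e⟩ := GW.Q8.exists_le_zpowers
      (isCyclic_of_le (inf_le_left : pT g ⊓ φ.range ≤ pT g))
    exact ⟨a, e, by rw [← hd g hg, e, Nat.card_zpowers, orderOf_injective φ hφ]⟩
  obtain ⟨g, x, y, hg⟩ := H4.exists_sp_gl (F := F) h3.le
  obtain ⟨a, -, ha⟩ := k g hg.disc_ne_zero
  obtain ⟨g', hg'⟩ := H4.exists_ell_gl (F := F)
  obtain ⟨b, e, hb⟩ := k g' hg'.disc_ne_zero
  rw [H4.card_pT_sp hg] at ha
  rw [H4.card_pT_ell hg'] at hb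
  obtain ⟨u, hu⟩ := hL (H4.smk_mem_pL (H4.upT 1))
  have un : H4.Un (Matrix.SpecialLinearGroup.toGL (H4.upT (1 : F))).1 1 :=
    ⟨fun h => by simpa [H4.coe_upT] using h.1, by simp [H4.coe_upT], by simp⟩
  have u1 : φ u ≠ 1 := hu ▸ fun h => one_ne_zero (H4.smk_upT_eq_one_iff.1 h)
  refine ⟨a, b, u, _, d, h3, d0, d2, ha, hb, fun c hc => ?_, fun h => u1 (by rw [h, map_one]), ?_⟩
  · have b2 : φ b * φ b ≠ 1 := fun h => by
      have := Nat.le_of_dvd two_pos (orderOf_dvd_of_pow_eq_one (x := b)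
        (hφ (by rw [pow_two, map_mul, h, map_one])))
      have := Nat.mul_le_mul d2 this
      omega
    obtain ⟨i, hi⟩ := e.le ⟨mem_pT' hg'.not_sc (e.ge (mem_zpowers _)).1
      (fun h => b2 (by rw [h, mul_one])) (Or.inr b2) ((mem_C₁.1 hc).symm.map φ), c, rfl⟩
    exact ⟨i, hφ (by rw [map_zpow]; exact hi)⟩
  · rw [← H4.card_pT_un un, Nat.card_congr (equivMapOfInjective _ φ hφ).toEquiv]
    refine card_dvd_of_le ?_
    rintro _ ⟨c, hc, rfl⟩
    refine mem_pT' un.1 (hu ▸ H4.pmk_mem_pT_self _) u1 (or_iff_not_imp_right.2 fun h => ?_)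
      ((mem_C₁.1 hc).symm.map φ)
    rw [not_not, hu, ← map_mul, ← H4.upT_add, H4.smk_upT_eq_one_iff] at h
    linear_combination h

theorem _root_.H3.Dg.Res.t3 {Y : Type*} [Group Y] [Finite Y] (h : Dg.Res Y) : T3 Y := by
  obtain ⟨F, _, _, h3, ⟨⟨e⟩⟩ | ⟨-, ⟨e⟩⟩⟩ := h
  · have r : (psl2pgl.comp e.toMonoidHom).range = pL F := by
      rw [MonoidHom.range_comp, MonoidHom.range_eq_top.2 e.surjective, ← MonoidHom.range_eq_map]; rfl
    exact t3_of h3 _ (H4.psl2pgl_injective.comp e.injective) r.ge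
      (Nat.gcd_pos_of_pos_left _ two_pos) (Nat.gcd_le_left _ two_pos)
      fun g hg => r ▸ H4.card_pT_pL hg
  · have r : e.toMonoidHom.range = ⊤ := MonoidHom.range_eq_top.2 e.surjective
    exact t3_of h3 _ e.injective (r ▸ le_top) one_pos one_le_two
      fun g _ => by rw [r, inf_top_eq, one_mul]

variable {G : Type u} [Group G] [Finite G] {S : Set (Subgroup G)}

theorem T3.exists (h : T3 G) (c : G → Subgroup G) (h1 : ∀ x, x ∈ c x) (h2 : ∀ x, c x ≤ C₁(x)) :
    ∃ a b u : G, a ≠ 1 ∧ b ≠ 1 ∧ u ≠ 1 ∧ Nat.card (c a) ≠ Nat.card (c b) ∧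
      Nat.card (c a) ≠ Nat.card (c u) ∧ Nat.card (c b) ≠ Nat.card (c u) := by
  obtain ⟨a, b, u, q, d, h3, d0, d2, ha, hb, k1, u1, k2⟩ := h
  have e : Nat.card (c b) = orderOf b := by
    rw [← Nat.card_zpowers, le_antisymm ((h2 b).trans k1) (zpowers_le.2 (h1 b))]
  have k3 := (c a).orderOf_dvd_natCard (h1 a)
  have k4 := (card_dvd_of_le (h2 u)).trans k2
  obtain ⟨q, rfl⟩ : ∃ r, q = r + 1 := ⟨q - 1, by omega⟩
  rw [Nat.add_sub_cancel] at ha
  refine ⟨a, b, u, ?_, ?_, u1, fun k => ?_, fun k => ?_, fun k => ?_⟩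
  · rintro rfl; rw [orderOf_one] at ha; omega
  · rintro rfl; rw [orderOf_one] at hb; omega
  · have := Nat.mul_dvd_mul_left d (k3.trans (k.trans e).dvd)
    rw [ha, hb, add_assoc, Nat.dvd_add_right dvd_rfl] at this
    have := Nat.le_of_dvd two_pos this
    omega
  · have := (Nat.dvd_add_right (Dvd.intro_left d ha)).1 (k3.trans (k ▸ k4))
    rw [Nat.dvd_one.1 this] at ha; omega
  · have := (Nat.dvd_add_right (e ▸ k ▸ k4 : orderOf b ∣ q + 1)).1 (Dvd.intro_left d hb)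
    rw [Nat.dvd_one.1 this] at hb; omega

theorem solv_of_normal {N : Subgroup G} [N.Normal] (h1 : Group.IsSolvable N)
    (h2 : Group.IsSolvable (G ⧸ N)) : Group.IsSolvable G :=
  Group.isSolvable_of_ker_le_range N.subtype (QuotientGroup.mk' N) (by simp)

theorem Hu.solv (h : Hu G) : Group.IsSolvable G := by
  obtain ⟨p, hp, h⟩ := h
  have := Fact.mk hp
  by_cases hG : IsPGroup p G
  · have := hG.isNilpotent
    infer_instance
  obtain ⟨h1, h2⟩ := Cfsg.Agent.S4249.result p hp hG h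
  have : (closure {g : G | g ^ p ≠ 1}).Normal := normal_of_top_le_NN (le_NN_iff.2 fun g _ x hx => by
    induction hx using closure_induction with
    | mem x hx => exact subset_closure (by simpa [conj_pow] using hx)
    | one => simp
    | mul x y _ _ a b => simpa [mul_assoc] using mul_mem a b
    | inv x _ a => simpa [mul_assoc] using inv_mem a)
  have := isCyclic_of_prime_card (α := G ⧸ closure {g : G | g ^ p ≠ 1}) h2
  exact solv_of_normal (N := closure {g : G | g ^ p ≠ 1}) inferInstance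
    (Group.isSolvable_of_comm IsCyclic.isMulCommutative.is_comm.comm)

/-- a group with a partition by abelian subgroups -/
theorem Pf.ab [Nontrivial G] (h : Pf S) (hc : ∀ A ∈ S, A ≤ CC(A)) :
    Group.IsSolvable G ∨ Dg.Res G := by
  rcases h.main with ⟨⟨e⟩⟩ | k | k | ⟨A, hA, T, hT, k⟩ | k
  · have := H4.isSolvable_s4
    exact Or.inl (Group.isSolvable_of_isSolvable_injective (f := e.toMonoidHom) e.injective)
  · exact Or.inl k.solv
  · obtain ⟨K, H, _, h1, h2, h3, h4, -⟩ := k.compl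
    have := H2.nilpotent_of_semiregular h2 (le_NN_of_normal _ _) h4
    obtain ⟨z, hz, z1⟩ := (bot_or_exists_ne_one _).resolve_left
      (Cfsg.Agent.S0069.result K H h3 h1 h2 h4)
    have z2 : (z : G) ≠ 1 := fun e => z1 (Subtype.ext e)
    have cz : ∀ y : H, Commute (z : G) y := fun y => congrArg Subtype.val (mem_center_iff.1 hz y).symm
    obtain ⟨B, hB, zB⟩ := h.ex' z2
    have : Group.IsSolvable H := by
      by_cases e : H ≤ B
      · exact Group.isSolvable_of_comm fun a b => Subtype.ext (hc B hB (e b.2) a (e a.2))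
      obtain ⟨y, hy, yB⟩ := SetLike.not_le_iff_exists.1 e
      refine (hu_of (H := B.subgroupOf H) (h.ordp hB zB z2 yB (cz ⟨y, hy⟩))
        (fun k => yB (mem_subgroupOf.1 (k.ge (mem_top ⟨y, hy⟩)))) fun g hg => Subtype.ext ?_).solv
      rw [← h.ord hB zB z2 hg (cz g)]
      exact pow_orderOf_eq_one (g : G)
    exact Or.inl (solv_of_normal inferInstance (Group.isSolvable_of_surjective
      (f := h3.symm.QuotientMulEquiv.symm.toMonoidHom) h3.symm.QuotientMulEquiv.symm.surjective))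
  · obtain ⟨F, i, j, n, h1, h2, -, e⟩ := k.iso_psl
      (isMulCommutative_iff_le_CC.2 (hT.trans ((hc A hA).trans (CC_anti hT))))
    exact Or.inr ⟨F, i, j, h2 ▸ lt_of_lt_of_le (by norm_num) (Nat.pow_le_pow_right two_pos h1),
      Or.inl e⟩
  · exact Or.inr k

/-- groups in which the centralizers of noncentral elements are incomparable -/
theorem fgroup (h : ∀ x ∉ center G, ∀ y ∉ center G, C₁(x) ≤ C₁(y) → C₁(x) = C₁(y)) :
    Group.IsSolvable G ∨ Dg.Res (G ⧸ center G) := by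
  have sZ : Group.IsSolvable (center G) := Group.isSolvable_of_comm fun a b => Subtype.ext (mem_center_iff.1 b.2 a)
  rcases subsingleton_or_nontrivial (G ⧸ center G) with _ | _
  · exact Or.inl (solv_of_normal sZ inferInstance)
  let π := QuotientGroup.mk' (center G)
  have π1 : ∀ x, π x = 1 ↔ x ∈ center G := fun x => QuotientGroup.eq_one_iff x
  have m : ∀ x y, π y ∈ CC(C₁(x)).map π ↔ y ∈ CC(C₁(x)) := fun x y => by
    rw [← mem_comap, comap_map_eq_self]
    rw [QuotientGroup.ker_mk']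
    exact center_le_centralizer _
  have s : ∀ x : G, x ∈ CC(C₁(x)) := fun x y hy => (mem_C₁.1 hy).symm
  have k : ∀ x ∉ center G, ∀ y ∉ center G, y ∈ CC(C₁(x)) → C₁(x) = C₁(y) := fun x hx y hy e =>
    h x hx y hy fun g hg => mem_C₁.2 (e g hg).symm
  refine (Pf.ab (S := {A | ∃ x ∉ center G, CC(C₁(x)).map π = A}) ⟨⟨fun x x1 _ => ?_, ?_, ?_⟩, ?_⟩
    ?_).imp_left (solv_of_normal sZ)
  · obtain ⟨x, rfl⟩ := QuotientGroup.mk'_surjective _ x
    exact ⟨_, ⟨x, (π1 x).not.1 x1, rfl⟩, (m x x).2 (s x)⟩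
  · rintro _ ⟨x, hx, rfl⟩ _ ⟨y, hy, rfl⟩ z h1 h2 z1
    obtain ⟨z, rfl⟩ := QuotientGroup.mk'_surjective _ z
    rw [k x hx z ((π1 z).not.1 z1) ((m x z).1 h1), k y hy z ((π1 z).not.1 z1) ((m y z).1 h2)]
  · rintro _ ⟨x, hx, rfl⟩ g
    obtain ⟨g, rfl⟩ := QuotientGroup.mk'_surjective _ g
    exact ⟨g * x * g⁻¹, fun e => hx (by simpa [mul_assoc] using Normal.conj_mem inferInstance _ e g⁻¹),
      by rw [← map_cj, cj_centralizer, cj_centralizer_singleton]⟩
  · rintro _ ⟨x, hx, rfl⟩ e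
    exact hx (mem_center_iff.2 fun g => ((m x g).1 (e.ge (mem_top _)) x (mem_C₁.2 rfl)).symm)
  · rintro _ ⟨x, -, rfl⟩
    exact (map_mono (CC_anti (show CC(C₁(x)) ≤ C₁(x) from
      fun y hy => mem_C₁.2 (hy x (mem_C₁.2 rfl))))).trans (map_CC_le π _)

theorem exists_three (h : Dg.Res (G ⧸ center G)) : ∃ a ∉ center G, ∃ b ∉ center G, ∃ u ∉ center G,
    C₁(a).index ≠ C₁(b).index ∧ C₁(a).index ≠ C₁(u).index ∧ C₁(b).index ≠ C₁(u).index := by
  let π := QuotientGroup.mk' (center G)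
  obtain ⟨a, b, u, a1, b1, u1, h1, h2, h3⟩ := h.t3.exists (fun x => C₁(x.out).map π)
    (fun x => ⟨x.out, mem_C₁.2 rfl, x.out_eq⟩) fun x => by
      rintro _ ⟨y, hy, rfl⟩
      have := (mem_C₁.1 hy).map π
      exact mem_C₁.2 (by rwa [show π x.out = x from x.out_eq] at this)
  have n : ∀ x : G ⧸ center G, x ≠ 1 → x.out ∉ center G := fun x hx e =>
    hx (x.out_eq ▸ (QuotientGroup.eq_one_iff _).2 e)
  have k : ∀ x y : G, C₁(x).index = C₁(y).index →
      Nat.card (C₁(x).map π) = Nat.card (C₁(y).map π) := fun x y e => by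
    have k : ∀ x : G, (C₁(x).map π).index = C₁(x).index := fun x =>
      index_map_eq _ (QuotientGroup.mk'_surjective _) ((QuotientGroup.ker_mk' _).le.trans (center_le_C₁ x))
    exact Nat.eq_of_mul_eq_mul_right (Nat.pos_of_ne_zero index_ne_zero_of_finite)
      ((card_mul_index _).trans (by rw [k, e, ← k, card_mul_index]))
  exact ⟨_, n a a1, _, n b b1, _, n u u1, fun e => h1 (k _ _ e), fun e => h2 (k _ _ e),
    fun e => h3 (k _ _ e)⟩

theorem idx_mul {w : G} (v : C₁(w)) (c : (orderOf w).Coprime (orderOf (v : G))) :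
    C₁(v).index * C₁(w).index = C₁(w * v).index := by
  have e : C₁(v) = C₁((v : G)).subgroupOf C₁(w) := ext fun y => by
    simp [mem_C₁, mem_subgroupOf, commute_iff_eq, Subtype.ext_iff]
  rw [e, H8.centralizer_mul_of_coprime (mem_C₁.1 v.2) c, ← relIndex_mul_index inf_le_left,
    inf_relIndex_left, relIndex]

/-- if the index of `N` is prime to the order of `x`, then `x ∈ N` -/
theorem mem_of_cop {N : Subgroup G} [N.Normal] {x : G} (h : (orderOf x).Coprime N.index) : x ∈ N := by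
  by_contra hx
  obtain ⟨n, s, j, hs, o, nc⟩ := exists_prim hx
  rcases j with _ | j
  · exact nc (by rw [orderOf_eq_one_iff.1 o]; exact one_mem _)
  exact hs.one_lt.ne' (Nat.eq_one_of_dvd_coprimes h ((dvd_pow_self s j.succ_ne_zero).trans
    (o ▸ orderOf_pow_dvd n)) (relIndex_top_right N ▸ dvd_relIndex hs (mem_top _) nc o))

variable (G) in
/-- three class sizes `1`, `n`, `n * k` -/
structure Th (n k : ℕ) : Prop where
  k1 : 1 < k
  ind : ∀ x ∉ center G, C₁(x).index = n ∨ C₁(x).index = n * k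
  three : ∀ p q : ℕ, ∃ r : ℕ, r.Prime ∧ r ≠ p ∧ r ≠ q ∧ r ∣ (center G).index

namespace Th
variable {n k : ℕ} (h : Th G n k) {w v : G} {t j : ℕ}
include h

theorem idx (hv : v ∉ center G) (e : C₁(w).index = n) (l : C₁(w) ≤ C₁(v)) : C₁(v).index = n :=
  (h.ind v hv).resolve_right fun e' => by
    have h1 := Nat.le_of_dvd (H8.index_centralizer_pos w) (index_dvd_of_le l)
    have h2 := H8.index_centralizer_pos w
    have := h.k1
    rw [e, e'] at *
    nlinarith

theorem sub (hw : w ∉ center G) (e : C₁(w).index = n) {E : Subgroup G} (hE : C₁(w) = E) (v : E)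
    (c : (orderOf w).Coprime (orderOf (v : G))) : C₁(v).index = 1 ∨ C₁(v).index = k := by
  subst hE
  have h1 := idx_mul v c
  have h2 := H8.index_centralizer_pos w
  rw [e] at h1 h2
  refine (h.ind _ (mul_not_mem (mem_C₁.1 v.2) c hw)).imp (fun e => ?_) fun e => ?_
  · exact Nat.eq_of_mul_eq_mul_right h2 (by rw [h1, e, one_mul])
  · exact Nat.eq_of_mul_eq_mul_right h2 (by rw [h1, e, mul_comm])

theorem top (hw : w ∉ center G) (e : C₁(w).index = n * k) (hv : Commute w v)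
    (c : (orderOf w).Coprime (orderOf v)) : C₁(w) ≤ C₁(v) := by
  refine C₁_le_of_index hv c (((h.ind _ (mul_not_mem hv c hw)).resolve_left fun e' => ?_).trans e.symm)
  have h1 := idx_mul ⟨v, mem_C₁.2 hv⟩ c
  have h2 := H8.index_centralizer_pos (w * v)
  have h3 := H8.index_centralizer_pos (⟨v, mem_C₁.2 hv⟩ : C₁(w))
  have := h.k1
  rw [e, e'] at *
  nlinarith [Nat.mul_le_mul h3 (le_refl (n * k))]

theorem U (hw : w ∉ center G) (ht : t.Prime) (o : orderOf w = t ^ j) (e : C₁(w).index = n)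
    (u : C₁(w)) (hu : u ∉ center C₁(w)) :
    (∃ i, k = t ^ i) ∨ ∃ s i : ℕ, s.Prime ∧ (center C₁(w)).index = s ^ i ∧ k ∣ s ^ i := by
  by_cases h2 : ∀ q : ℕ, ∃ r : ℕ, r.Prime ∧ r ≠ q ∧ r ≠ t ∧ r ∣ (center C₁(w)).index
  · have k1 : ∀ x : C₁(w), (orderOf x).Coprime t → C₁(x).index = 1 ∨ C₁(x).index = k := fun x c =>
      h.sub hw e rfl x (by rw [o, orderOf_coe]; exact c.symm.pow_left j)
    obtain ⟨r, hr, -, rt, hd⟩ := h2 0
    obtain ⟨x, hx, l, ox⟩ := exists_nc hr hd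
    have c : (orderOf x).Coprime t := by simpa [ox] using cop_primes hr ht rt l 1
    obtain ⟨i, hi⟩ := (ch_of_two ht k1 h2).index_pow c
    exact Or.inl ⟨i, hi ▸ ((k1 x c).resolve_left (mt H8.index_centralizer_eq_one_iff.1 hx)).symm⟩
  push Not at h2
  obtain ⟨q, hq⟩ := h2
  obtain ⟨r, hr, rq, rt, hd⟩ := h.three q t
  obtain ⟨y, hy, l, oy⟩ := exists_nc hr hd
  obtain ⟨v, hv, vZ, l, ov⟩ : ∃ v ∈ C₁(w), v ∉ center G ∧ ∃ j, orderOf v = r ^ j := by
    rcases h.ind y hy with e' | e'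
    · exact exists_nc_of_index (m := 1) hr hy oy (Nat.coprime_one_left r) (by rw [e, e'])
    · exact exists_nc_of_index (m := k) hr hy oy (Nat.coprime_one_left r) (by rw [e, e', mul_one])
  have z : ∀ {x : C₁(w)} {l : ℕ}, orderOf x = r ^ l → x ∈ center C₁(w) := fun ox =>
    mem_of_cop (ox ▸ (hr.coprime_iff_not_dvd.2 (hq r hr rq rt)).pow_left _)
  have l1 : C₁(w) ≤ C₁(v) := fun x hx => mem_C₁.2 (congrArg Subtype.val
    (mem_center_iff.1 (z (x := ⟨v, hv⟩) (by rw [← orderOf_coe]; exact ov)) ⟨x, hx⟩)).symm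
  have e' := h.idx vZ e l1
  have k1 : ∀ x : C₁(w), C₁(x).index = 1 ∨ C₁(x).index = k := fun x => by
    obtain ⟨a, m, c, -, e1, e2⟩ := exists_parts r hr x
    have := h.sub vZ e' (eq_of_index l1 (e.trans e'.symm)).symm (x ^ r ^ a)
      (by rw [ov, orderOf_coe, e2]; exact c.symm.pow_left _)
    rwa [← le_antisymm (C₁_pow x _) fun g hg => mem_C₁.2 (mem_C₁.1 (H9.mem_of_pow_mem_of_coprime
      (mem_C₁.2 (mem_center_iff.1 (z e1) g)) (mem_C₁.2 (mem_C₁.1 hg).symm) (c.pow_right a))).symm] at this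
  obtain ⟨s, i, hs, e1⟩ := ito k1
  exact Or.inr ⟨s, i, hs, e1, e1 ▸ (k1 u).resolve_left (mt H8.index_centralizer_eq_one_iff.1 hu) ▸
    index_dvd_of_le (center_le_C₁ u)⟩

variable {s i : ℕ} (hs : s.Prime) (hk : k = s ^ i)
include hs hk

theorem dvd : s ∣ k := by
  have := h.k1
  exact hk ▸ dvd_pow_self s (by rintro rfl; simp [hk] at this)

theorem V₁ (hw : w ∉ center G) (ht : t.Prime) (ts : t ≠ s) (o : orderOf w = t ^ j)
    (e : C₁(w).index = n) (hv : Commute w v) (c : (orderOf v).Coprime s) : C₁(w) ≤ C₁(v) := by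
  suffices (⟨v, mem_C₁.2 hv⟩ : C₁(w)) ∈ center _ from fun x hx =>
    mem_C₁.2 (congrArg Subtype.val (mem_center_iff.1 this ⟨x, hx⟩)).symm
  by_contra hu
  rcases h.U hw ht o e _ hu with ⟨l, hl⟩ | ⟨r, l, hr, e1, hl⟩
  · exact ts ((Nat.prime_dvd_prime_iff_eq hs ht).1 (hs.dvd_of_dvd_pow (hl ▸ h.dvd hs hk))).symm
  · obtain rfl := (Nat.prime_dvd_prime_iff_eq hs hr).1 (hs.dvd_of_dvd_pow ((h.dvd hs hk).trans hl))
    exact hu (mem_of_cop (by rw [e1, ← orderOf_coe]; exact c.pow_right l))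

theorem V (hw : w ∉ center G) (ht : t.Prime) (ts : t ≠ s) (o : orderOf w = t ^ j)
    (hv : Commute w v) (c : (orderOf v).Coprime s) : C₁(w) ≤ C₁(v) := by
  rcases h.ind w hw with e | e
  · exact h.V₁ hs hk hw ht ts o e hv c
  obtain ⟨r, hr, rs, rt, hd⟩ := h.three s t
  obtain ⟨y, hy, l, oy⟩ := exists_nc hr hd
  obtain ⟨u, hu, uZ, l, ou⟩ : ∃ v ∈ C₁(w), v ∉ center G ∧ ∃ j, orderOf v = r ^ j := by
    rcases h.ind y hy with e' | e'
    · exact exists_nc_of_index (m := 1) (n := k) hr hy oy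
        (by simpa [hk] using cop_primes hs hr rs.symm i 1) (by rw [e, e', mul_one])
    · exact exists_nc_of_index (m := 1) hr hy oy (Nat.coprime_one_left r) (by rw [e, e'])
  have l1 := h.top hw e (mem_C₁.1 hu) (by rw [o, ou]; exact cop_primes ht hr rt.symm _ _)
  intro g hg
  refine mem_C₁.2 (mem_C₁.1 (mem_of_parts ht (fun m a om => ?_) fun m cm => ?_)).symm
  · have c1 := mem_C₁.1 (l1 (mem_C₁.2 (hv.pow_right m)))
    refine mem_C₁.2 (mem_C₁.1 (?_ : g ∈ C₁(v ^ m))).symm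
    rcases h.ind u uZ with e' | e'
    · exact h.V₁ hs hk uZ hr rs ou e' c1 (cop_pow c m) (l1 hg)
    · exact h.top uZ e' c1 (by rw [ou, om]; exact cop_primes hr ht rt _ _) (l1 hg)
  · exact mem_C₁.2 (mem_C₁.1 (h.top hw e (hv.pow_right m) (o ▸ cm.symm.pow_left j) hg)).symm

theorem ch : CH G s := by
  refine ⟨hs, fun x hx cx y cy c g hg => ?_, fun x hx _ y hy _ => ?_, fun q => h.three q s⟩
  · obtain ⟨m, t, j, ht, o, nc⟩ := exists_prim hx
    refine mem_C₁.1 (h.V hs hk nc ht ?_ o (c.pow_left m) cy (mem_C₁.2 (hg.pow_left m)))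
    rintro rfl
    rcases j with _ | j
    · exact nc (by rw [orderOf_eq_one_iff.1 o]; exact one_mem _)
    exact ht.one_lt.ne' ((cop_pow cx m).symm.eq_one_of_dvd (o ▸ dvd_pow_self t j.succ_ne_zero))
  · rcases h.ind x hx with e | e <;> rcases h.ind y hy with e' | e' <;> rw [e, e']
    exacts [⟨0, 0, rfl⟩, ⟨i, 0, by simp [hk]⟩, ⟨0, i, by simp [hk]⟩, ⟨0, 0, rfl⟩]

end Th

theorem solv_of_center (h : Group.IsSolvable (G ⧸ center G)) : Group.IsSolvable G :=
  solv_of_normal (Group.isSolvable_of_comm fun a b => Subtype.ext (mem_center_iff.1 b.2 a)) h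

theorem three_or : Group.IsSolvable G ∨
    ∀ p q : ℕ, ∃ r : ℕ, r.Prime ∧ r ≠ p ∧ r ≠ q ∧ r ∣ (center G).index := by
  refine or_iff_not_imp_right.2 fun h => solv_of_center ?_
  push Not at h
  obtain ⟨p, q, h⟩ := h
  have k : ∀ p : ℕ, ∃ p' : ℕ, p'.Prime ∧ ∀ r : ℕ, r.Prime → r = p → r = p' := fun p => by
    by_cases hp : p.Prime
    exacts [⟨p, hp, fun _ _ e => e⟩, ⟨2, Nat.prime_two, fun _ hr e => (hp (e ▸ hr)).elim⟩]
  obtain ⟨p', hp, h1⟩ := k p
  obtain ⟨q', hq, h2⟩ := k q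
  exact H17.isSolvable_of_two_primes hp hq fun r hr hd => by_contra fun e =>
    h r hr (fun e' => e (Or.inl (h1 r hr e'))) (fun e' => e (Or.inr (h2 r hr e'))) hd

theorem solv_of_three {n m : ℕ} (hnm : n < m)
    (h : ∀ x ∉ center G, C₁(x).index = n ∨ C₁(x).index = m) : Group.IsSolvable G := by
  by_cases hF : ∀ x ∉ center G, ∀ y ∉ center G, C₁(x) ≤ C₁(y) → C₁(x) = C₁(y)
  · refine (fgroup hF).elim id fun k => ?_
    obtain ⟨a, ha, b, hb, u, hu, h1, h2, h3⟩ := exists_three k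
    rcases h a ha with e1 | e1 <;> rcases h b hb with e2 | e2 <;> rcases h u hu with e3 | e3 <;> omega
  refine three_or.elim id fun h3 => ?_
  push Not at hF
  obtain ⟨x, hx, y, hy, l, ne⟩ := hF
  obtain ⟨k, hk⟩ := index_dvd_of_le l
  have h0 := H8.index_centralizer_pos y
  have k1 : 1 < k := by
    have : k ≠ 0 := by rintro rfl; exact (H8.index_centralizer_pos x).ne' hk
    have : k ≠ 1 := by rintro rfl; exact ne (eq_of_index l (by rw [hk, mul_one]))
    omega
  have h1 : C₁(y).index < C₁(x).index := hk ▸ lt_mul_of_one_lt_right h0 k1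
  have e1 : C₁(y).index = n := by rcases h x hx with e | e <;> rcases h y hy with e | e <;> omega
  have e2 : C₁(x).index = m := by rcases h x hx with e | e <;> rcases h y hy with e | e <;> omega
  have H : Th G n k := ⟨k1, fun z hz => by rw [← e1, ← hk, e1, e2]; exact h z hz, h3⟩
  obtain ⟨a, t, j, ht, o, nc⟩ := exists_prim hy
  have e3 := H.idx nc e1 (C₁_pow y a)
  obtain ⟨s, i, hs, e⟩ : ∃ s i : ℕ, s.Prime ∧ k = s ^ i := by
    rcases H.U nc ht o e3 ⟨x, C₁_pow y a (l (mem_C₁.2 rfl))⟩ (fun e => ne (le_antisymm l fun g hg =>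
      mem_C₁.2 (congrArg Subtype.val (mem_center_iff.1 e ⟨g, C₁_pow y a hg⟩)).symm)) with
      ⟨i, e⟩ | ⟨s, i, hs, -, e⟩
    · exact ⟨t, i, ht, e⟩
    · obtain ⟨i, -, e⟩ := (Nat.dvd_prime_pow hs).1 e
      exact ⟨s, i, hs, e⟩
  exact solv_of_index_pow hs fun x c => (H.ch hs e).index_pow c

end H3.Pt
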