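import Cfsg.Agent.H25.BW1
import Cfsg.Agent.H6.SL23
import Cfsg.Agent.H8.GWQ2
import Cfsg.Agent.H7.CycInt

/-! The two groups `SL(2, 3).2`. -/

set_option autoImplicit false

namespace Cfsg.Agent.H3

open Subgroup Cfsg H25 H25.Q48
open scoped MatrixGroups

theorem exists_hom_ext2 {X H : Type*} [Group X] [Group H] {U : Subgroup X} (hi : U.index = 2)
    {t : X} (ht : t ∉ U) (f : X → H) (hf : ∀ a ∈ U, ∀ b ∈ U, f (a * b) = f a * f b) {y : H}
    (h1 : ∀ a ∈ U, f (t * a * t⁻¹) = y * f a * y⁻¹) (h2 : f (t * t) = y * y) :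
    ∃ F : X →* H, (∀ a ∈ U, F a = f a) ∧ F t = y := by
  classical
  have := normal_of_index_eq_two hi
  have m : ∀ g, g ∉ U → g * t⁻¹ ∈ U := fun g hg =>
    (mul_mem_iff_of_index_two hi).2 (iff_of_false hg fun h => ht (inv_mem_iff.1 h))
  have f1 : f 1 = 1 := by simpa using hf 1 U.one_mem 1 U.one_mem
  refine ⟨MonoidHom.mk' (fun g => if g ∈ U then f g else f (g * t⁻¹) * y) fun a b => ?_,
    fun a ha => if_pos ha, (if_neg ht).trans (by simp [f1])⟩
  by_cases ha : a ∈ U <;> by_cases hb : b ∈ U <;>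
    simp only [mul_mem_iff_of_index_two hi, ha, hb, if_true, if_false, iff_true, iff_false,
      not_true_eq_false, not_false_eq_true]
  · exact hf a ha b hb
  · rw [mul_assoc, hf _ ha _ (m b hb), mul_assoc]
  · rw [show a * b * t⁻¹ = a * t⁻¹ * (t * b * t⁻¹) by group,
      hf _ (m a ha) _ (this.conj_mem b hb t), h1 b hb]; group
  · have tt : t * t ∈ U := (mul_mem_iff_of_index_two hi).2 Iff.rfl
    rw [show a * b = a * t⁻¹ * (t * (b * t⁻¹) * t⁻¹) * (t * t) by group,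
      hf _ (U.mul_mem (m a ha) (this.conj_mem _ (m b hb) t)) _ tt,
      hf _ (m a ha) _ (this.conj_mem _ (m b hb) t), h1 _ (m b hb), h2]; group

/-- the points of the projective line -/
def pt (v w : ZMod 3) : Fin 4 := if v = 0 then 3 else if w = 0 then 0 else if v = w then 1 else 2

def fn48 (q : Q48) (i : Fin 4) : Fin 4 :=
  ![pt q.a q.c, pt (q.a + q.b) (q.c + q.d), pt (q.a - q.b) (q.c - q.d), pt q.b q.d] i

theorem fn48_mul : ∀ p q : Q48, ∀ i, fn48 (p * q) i = fn48 p (fn48 q i) := by decide +kernel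

theorem fn48_inv : ∀ q : Q48, ∀ i, fn48 q⁻¹ (fn48 q i) = i ∧ fn48 q (fn48 q⁻¹ i) = i := by
  decide +kernel

def pi48 : Q48 →* Equiv.Perm (Fin 4) := MonoidHom.mk'
  (fun q => ⟨fn48 q, fn48 q⁻¹, fun i => (fn48_inv q i).1, fun i => (fn48_inv q i).2⟩)
  fun p q => Equiv.ext (fn48_mul p q)

theorem q_surj : ∀ σ : Equiv.Perm (Fin 4), ∃ q : Q48, q.dt = 1 ∧
    (pi48 q = σ ∨ pi48 q * pi48 s = σ) := by decide +kernel
theorem q_z : pi48 z = 1 ∧ z.dt = 1 ∧ z ≠ 1 ∧ s * s = 1 ∧ x.dt = 1 ∧ (u * u).dt = 1 ∧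
    x * x * x = 1 ∧ u * u * (u * u) = z ∧ x * (u * u) * (x * (u * u)) * (x * (u * u)) = z := by
  decide +kernel
theorem q_aut : ∀ a b : Q48, a * a * a = 1 → b * b = z → a * b * (a * b) * (a * b) = z →
    ∃ g, g * x * g⁻¹ = a ∧ g * (u * u) * g⁻¹ = b := by decide +kernel
theorem q_gen : ∀ q : Q48, q.dt = 1 → ∃ i < 4, ∃ j < 2, ∃ k < 3,
    q = (u * u) ^ i * (x * (u * u) * x⁻¹) ^ j * x ^ k := by decide +kernel
theorem q_cent : ∀ q : Q48, q.dt = 1 → q * x = x * q → q * (u * u) = u * u * q →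
    q = 1 ∨ q = z := by decide +kernel
theorem q_inv : ∀ q : Q48, q.dt = 1 → (q * q = 1 → q = 1 ∨ q = z) ∧ q * (s * q * s⁻¹) * z ≠ 1 ∧
    q * s ≠ 1 := by decide +kernel
theorem q_dt : ∀ q : Q48, q.dt = 1 ∨ (q * s).dt = 1 := by decide +kernel
theorem q_card : Nat.card {q : Q48 // q.dt = 1} = 24 := by
  rw [Nat.card_eq_fintype_card, Fintype.card_subtype]; decide +kernel

theorem exists_iota {U : Type*} [Group U] (e : U ≃* SL(2, ZMod 3)) : ∃ ι : U →* Q48,
    Function.Injective ι ∧ (∀ a, (ι a).dt = 1) ∧ ∀ q : Q48, q.dt = 1 → ∃ a, ι a = q := by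
  let E := MulEquiv.ofBijective toGL toGL_bij
  have hd : ∀ q : Q48, (toGL q).1.det = q.dt := fun q => Matrix.det_fin_two_of _ _ _ _
  refine ⟨E.symm.toMonoidHom.comp (Matrix.SpecialLinearGroup.toGL.comp e.toMonoidHom),
    E.symm.injective.comp (Matrix.SpecialLinearGroup.toGL_injective.comp e.injective),
    fun a => ?_, fun q hq => ⟨e.symm ⟨(toGL q).1, (hd q).trans hq⟩, ?_⟩⟩
  · rw [← hd]
    exact (congrArg (fun g : GL (Fin 2) (ZMod 3) => g.1.det) (E.apply_symm_apply _)).trans (e a).2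
  · refine E.symm_apply_eq.2 (Units.ext ?_)
    exact congrArg Subtype.val (e.apply_symm_apply _)

theorem main48 {X : Type*} [Group X] [Finite X] {U : Subgroup X} (hi : U.index = 2)
    (e : U ≃* SL(2, ZMod 3)) (hU : Nat.card U = 24) (hc : centralizer (U : Set X) ≤ U) :
    Nonempty (X ≃* GL (Fin 2) (ZMod 3)) ∨ (Nat.card (center X) = 2 ∧
      Nonempty (X ⧸ center X ≃* Equiv.Perm (Fin 4)) ∧
      ∀ a b : X, orderOf a = 2 → orderOf b = 2 → a = b) := by
  classical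
  have hn := normal_of_index_eq_two hi
  have hX : Nat.card X = 48 := by rw [← U.index_mul_card, hi, hU]
  obtain ⟨ι, h1, h2, h3⟩ := exists_iota e
  obtain ⟨k1, k2, k3, k4, k5, k6, k7, k8, k9⟩ := q_z
  let f : X → Q48 := fun g => if h : g ∈ U then ι ⟨g, h⟩ else 1
  have fe : ∀ a : U, f a = ι a := fun a => dif_pos a.2
  have hf : ∀ a ∈ U, ∀ b ∈ U, f (a * b) = f a * f b := fun a ha b hb =>
    (fe (⟨a, ha⟩ * ⟨b, hb⟩)).trans ((map_mul _ _ _).trans (by rw [← fe, ← fe]))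
  have fi : ∀ a ∈ U, ∀ b ∈ U, f a = f b → a = b := fun a ha b hb h =>
    congrArg Subtype.val (h1 ((fe ⟨a, ha⟩).symm.trans (h.trans (fe ⟨b, hb⟩))))
  have fd : ∀ a ∈ U, (f a).dt = 1 := fun a ha => (fe ⟨a, ha⟩).symm ▸ h2 _
  have f1 : f 1 = 1 := (fe 1).trans (map_one ι)
  obtain ⟨x0, hx0⟩ := h3 x k5
  obtain ⟨b0, hb0⟩ := h3 (u * u) k6
  obtain ⟨z0, hz0⟩ := h3 z k2
  have zc : ∀ g : X, g * z0 * g⁻¹ = z0 := fun g => by
    let α := MulAut.conjNormal (H := U) g
    have h4 : z0 * z0 = 1 := h1 (by rw [map_mul, hz0, map_one]; decide +kernel)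
    rcases (q_inv (ι (α z0)) (h2 _)).1 (by rw [← map_mul, ← map_mul, h4, map_one, map_one]) with h | h
    · exact absurd (by rw [← hz0, α.injective ((h1 (h.trans (map_one ι).symm)).trans
        (map_one α).symm), map_one]) k3
    · exact congrArg Subtype.val (h1 (h.trans hz0.symm))
  have ex : ∀ g : X, ∃ γ : Q48, ∀ a ∈ U, f (g * a * g⁻¹) = γ * f a * γ⁻¹ := fun g => by
    let α := MulAut.conjNormal (H := U) g
    have hz : α z0 = z0 := Subtype.ext (zc g)
    have r1 : x0 * x0 * x0 = 1 := h1 (by simp only [map_mul, hx0, k7, map_one])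
    have r2 : b0 * b0 = z0 := h1 (by simp only [map_mul, hb0, k8, hz0])
    have r3 : x0 * b0 * (x0 * b0) * (x0 * b0) = z0 := h1 (by simp only [map_mul, hb0, hx0, k9, hz0])
    obtain ⟨γ, e1, e2⟩ := q_aut (ι (α x0)) (ι (α b0))
      (by simp only [← map_mul]; rw [r1, map_one, map_one])
      (by simp only [← map_mul]; rw [r2, hz, hz0]) (by simp only [← map_mul]; rw [r3, hz, hz0])
    refine ⟨γ, fun a ha => ?_⟩
    obtain ⟨i, -, j, -, k, -, h⟩ := q_gen _ (h2 ⟨a, ha⟩)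
    rw [← hx0, ← hb0, ← map_inv, ← map_mul, ← map_mul, ← map_pow, ← map_pow, ← map_pow, ← map_mul,
      ← map_mul] at h
    rw [show f (g * a * g⁻¹) = ι (α ⟨a, ha⟩) from fe (α ⟨a, ha⟩), show f a = ι ⟨a, ha⟩ from fe ⟨a, ha⟩,
      h1 h]
    simp only [map_mul, map_pow, map_inv, ← e1, ← e2, hx0, hb0]
    simp only [← MulAut.conj_apply γ, map_mul, map_pow, map_inv]
  obtain ⟨t, ht, hs⟩ : ∃ t ∉ U, ∀ a ∈ U, f (t * a * t⁻¹) = s * f a * s⁻¹ := by
    obtain ⟨t, ht⟩ : ∃ t, t ∉ U := by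
      by_contra h; push Not at h
      rw [(eq_top_iff' U).2 h, index_top] at hi; omega
    obtain ⟨γ, hγ⟩ := ex t
    have key : ∀ c : U, ∀ a ∈ U, f (t * c⁻¹ * a * (t * c⁻¹)⁻¹) =
        γ * (ι c)⁻¹ * f a * (γ * (ι c)⁻¹)⁻¹ := fun c a ha => by
      have := hγ _ (c⁻¹ * ⟨a, ha⟩ * c).2
      rw [fe, map_mul, map_mul, map_inv, ← fe ⟨a, ha⟩] at this
      simpa [mul_assoc] using this
    have hm : ∀ c : U, t * c⁻¹ ∉ U := fun c h => ht ((U.mul_mem_cancel_right (U.inv_mem c.2)).1 h)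
    rcases q_dt γ⁻¹ with h | h
    · obtain ⟨c, e⟩ := h3 _ h
      refine absurd (hc fun a ha => ?_) (hm c⁻¹)
      have := fi _ (hn.conj_mem a ha _) a ha ((key c⁻¹ a ha).trans (by rw [map_inv, e]; simp))
      exact (mul_inv_eq_iff_eq_mul.1 this).symm
    · obtain ⟨c, e⟩ := h3 _ h
      exact ⟨_, hm c⁻¹, fun a ha => by rw [key c⁻¹ a ha, map_inv, e]; simp⟩
  have tt : t * t ∈ U := (mul_mem_iff_of_index_two hi).2 Iff.rfl
  have m : ∀ g, g ∉ U → g * t⁻¹ ∈ U := fun g hg =>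
    (mul_mem_iff_of_index_two hi).2 (iff_of_false hg fun h => ht (inv_mem_iff.1 h))
  have cen : ∀ c ∈ U, (∀ a ∈ U, c * a = a * c) → f c = 1 ∨ f c = z := fun c hc h =>
    q_cent _ (fd c hc) (by rw [← hx0, ← fe, ← hf _ hc _ x0.2, h _ x0.2, hf _ x0.2 _ hc])
      (by rw [← hb0, ← fe, ← hf _ hc _ b0.2, h _ b0.2, hf _ b0.2 _ hc])
  rcases cen _ tt (fun a ha => mul_inv_eq_iff_eq_mul.1 (fi _ (hn.conj_mem a ha _) a ha (by
    rw [show t * t * a * (t * t)⁻¹ = t * (t * a * t⁻¹) * t⁻¹ by group, hs _ (hn.conj_mem a ha _),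
      hs a ha, show s * (s * f a * s⁻¹) * s⁻¹ = s * s * f a * (s * s)⁻¹ by group, k4]; simp)))
    with h | h
  · obtain ⟨F, e1, e2⟩ := exists_hom_ext2 hi ht f hf hs (h.trans k4.symm)
    have hF : Function.Injective F := (injective_iff_map_eq_one F).2 fun g hg => by
      by_cases hgU : g ∈ U
      · exact fi g hgU 1 U.one_mem (by rw [← e1 g hgU, hg, f1])
      · refine absurd ?_ (q_inv _ (fd _ (m g hgU))).2.2
        rw [← e1 _ (m g hgU), ← e2, ← map_mul, inv_mul_cancel_right, hg]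
    exact .inl ⟨(MulEquiv.ofBijective F ((Nat.bijective_iff_injective_and_card F).2 ⟨hF, by
      rw [hX, Nat.card_eq_fintype_card, card_eq]⟩)).trans (MulEquiv.ofBijective toGL toGL_bij)⟩
  right
  obtain ⟨F, e1, e2⟩ := exists_hom_ext2 hi ht (fun g => pi48 (f g))
    (fun a ha b hb => by rw [hf a ha b hb, map_mul]) (y := pi48 s)
    (fun a ha => by rw [hs a ha, map_mul, map_mul, map_inv]) (by rw [h, k1, ← map_mul, k4, map_one])
  have hF : Function.Surjective F := fun σ => by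
    obtain ⟨q, hq, h4⟩ := q_surj σ
    obtain ⟨c, rfl⟩ := h3 q hq
    rcases h4 with rfl | rfl
    · exact ⟨c, by rw [e1 _ c.2, fe]⟩
    · exact ⟨c * t, by rw [map_mul, e1 _ c.2, fe, e2]⟩
  have hk : Nat.card F.ker = 2 := by
    have := F.ker.card_mul_index
    rw [index_ker, MonoidHom.range_eq_top.2 hF, card_top, Nat.card_perm, Nat.card_fin, hX] at this
    change _ * 24 = _ at this
    omega
  have hZ : center X = F.ker := by
    refine eq_of_le_of_card_ge (fun c hc' => ?_) (hk ▸ (one_lt_card_iff_ne_bot _).2 fun h0 => ?_)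
    · have hcU := hc (center_le_centralizer _ hc')
      rw [MonoidHom.mem_ker, e1 c hcU]
      rcases cen c hcU fun a _ => (mem_center_iff.1 hc' a).symm with h | h <;> simp [h, k1]
    · have : (z0 : X) ∈ center X := mem_center_iff.2 fun g => mul_inv_eq_iff_eq_mul.1 (zc g)
      rw [h0, mem_bot] at this
      exact k3 (by rw [← hz0, show z0 = 1 from Subtype.ext this, map_one])
  refine ⟨hZ ▸ hk, ⟨(QuotientGroup.quotientMulEquivOfEq hZ).trans
    (QuotientGroup.quotientKerEquivOfSurjective F hF)⟩, ?_⟩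
  suffices ∀ a : X, orderOf a = 2 → a = z0 from fun a b ha hb => (this a ha).trans (this b hb).symm
  intro a ha
  have a2 : a * a = 1 := by rw [← sq, ← ha, pow_orderOf_eq_one]
  by_cases hU : a ∈ U
  · rcases (q_inv _ (fd a hU)).1 (by rw [← hf a hU a hU, a2, f1]) with h | h
    · rw [fi a hU 1 U.one_mem (h.trans f1.symm), orderOf_one] at ha; omega
    · exact fi a hU _ z0.2 (by rw [h, fe, hz0])
  · refine absurd ?_ (q_inv _ (fd _ (m a hU))).2.1
    rw [← hs _ (m a hU), ← h, ← hf _ (m a hU) _ (hn.conj_mem _ (m a hU) t),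
      ← hf _ (U.mul_mem (m a hU) (hn.conj_mem _ (m a hU) t)) _ tt, ← f1, ← a2]
    congr 1; group

theorem noOdd_quat {G : Type*} [Group G] [Finite G] {E : Subgroup G} {n : ℕ}
    (e : E ≃* QuaternionGroup (2 ^ (n + 2))) : H6.NoOdd E := fun g hg ho => by
  obtain ⟨a, b, ha, -, h1, h2, h3, -, h5⟩ := H6.exists_gens_of_quaternion_subgroup e
  refine H6.centralizes_of_cyclic_index (a := a) (k := n + 3)
    (by rw [pow_succ', ← h1, pow_orderOf_eq_one]) (fun u hu v hv k1 k2 => ?_) ho hg ?_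
  · obtain ⟨i, rfl | rfl⟩ := h5 u hu
    · exact absurd ⟨i, rfl⟩ k1
    obtain ⟨j, rfl | rfl⟩ := h5 v hv
    · exact absurd ⟨j, rfl⟩ k2
    refine ⟨i - j, ?_⟩
    have := H6.mul_zpow_of_inverts h3 (i - j)
    show a ^ (i - j) = _
    calc a ^ (i - j) = b⁻¹ * (b * a ^ (i - j)) := by group
      _ = _ := by rw [this]; group
  · obtain ⟨i, h | h⟩ := h5 _ (H1.conj_mem_of_mem_normalizer hg ha)
    · exact ⟨i, h.symm⟩
    have h4 : (a ^ i * b) ^ 4 = 1 := by
      have h1' : (a ^ i * b) * (a ^ i * b) = b * b := by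
        calc _ = a ^ i * (b * a ^ i) * b := by group
          _ = _ := by rw [H6.mul_zpow_of_inverts h3]; group
      rw [H6.pow_four_eq, h1', h2, ← pow_add, ← two_mul, ← h1, pow_orderOf_eq_one]
    have := Nat.le_of_dvd (by norm_num) (orderOf_dvd_of_pow_eq_one h4)
    rw [← h, H6.orderOf_conj', h1, pow_add] at this
    have := Nat.one_le_two_pow (n := n)
    omega

theorem solv_ui {X : Type*} [Group X] [Finite X] [Group.IsSolvable X] (hO : pPrimeCore 2 X = ⊥)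
    (hui : ∀ S T : Sylow 2 X, S ≠ T → GW.Q8.UI (pCore 2 X)) :
    (∃ P : Sylow 2 X, (P : Subgroup X).Normal) ∨ Nonempty (X ≃* GL (Fin 2) (ZMod 3)) ∨
      (Nat.card X = 48 ∧ Nat.card (Subgroup.center X) = 2 ∧
      Nonempty (X ⧸ Subgroup.center X ≃* Equiv.Perm (Fin 4)) ∧
      ∀ P : Sylow 2 X, Nonempty ((P : Subgroup X) ≃* QuaternionGroup 4)) := by
  refine or_iff_not_imp_left.2 fun hn => ?_
  obtain ⟨S⟩ : Nonempty (Sylow 2 X) := inferInstance
  have hu : GW.Q8.UI (pCore 2 X) := by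
    by_contra h
    have : Subsingleton (Sylow 2 X) := ⟨fun a b => by_contra fun e => h (hui a b e)⟩
    exact hn ⟨S, S.normal_of_subsingleton⟩
  have h2 : ¬ IsPGroup 2 X := fun h => hn ⟨S, by
    rw [S.is_maximal' (h.to_subgroup ⊤) le_top |>.symm]; infer_instance⟩
  have hc := H1.centralizer_pCore_le hO
  have hno := H6.not_noOdd_pCore hc h2
  rcases hu.cases (H1.isPGroup_pCore 2) with h | ⟨_ | n, ⟨e⟩⟩
  · exact absurd ((H7.isPGroup_of_solvable_of_cyclic hO h ⊤ inferInstance).of_equiv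
      Subgroup.topEquiv) h2
  swap
  · exact absurd (noOdd_quat e) hno
  obtain ⟨U, hU, hQ, hi, h24, ⟨f⟩⟩ := H6.exists_normal_sl23 e hc hno
  have h8 := H6.q8_card e
  have hS : ∀ P : Sylow 2 X, Nat.card P = 2 ^ (Nat.card X).factorization 2 :=
    fun P => P.card_eq_multiplicity
  have hX := U.index_mul_card
  rw [h24] at hX
  have hi2 : U.index = 2 := by
    by_contra h
    have h0 := U.index_ne_zero_of_finite
    rw [show U.index = 1 by omega] at hX
    refine hn ⟨S, ?_⟩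
    rw [← Subgroup.eq_of_le_of_card_ge (H1.pCore_le_sylow S) (by
      rw [hS, ← hX, h8]; decide +kernel)]
    infer_instance
  rw [hi2] at hX
  refine (main48 hi2 f h24 ((Subgroup.centralizer_le hQ).trans (hc.trans hQ))).imp_right
    fun ⟨k1, k2, k3⟩ => ⟨hX.symm, k1, k2, fun P => ?_⟩
  have hP : Nat.card P = 16 := by rw [hS, ← hX]; decide +kernel
  rcases GW.Q8.UI.cases (S := (P : Subgroup X)) (fun a _ b _ => k3 a b) P.isPGroup' with h | ⟨n, ⟨g⟩⟩
  · have := isCyclic_of_le (H1.pCore_le_sylow P)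
    have := isCyclic_of_surjective _ e.surjective
    exact absurd (mul_comm' (QuaternionGroup.a 1 : QuaternionGroup (2 ^ (0 + 1))) (.xa 0))
      (by decide)
  · rw [Nat.card_congr g.toEquiv, Nat.card_eq_fintype_card, QuaternionGroup.card] at hP
    obtain rfl : n = 1 := by
      have := Nat.pow_right_injective (le_refl 2) (show 2 ^ (n + 1) = 2 ^ 2 by omega)
      omega
    exact ⟨g⟩

end Cfsg.Agent.H3
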