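import Mathlib

/-! A local criterion for an automorphism fixing an involution to be inner. -/

set_option autoImplicit false
open Subgroup Equiv

namespace Cfsg.Agent.H3.Loc

theorem loc1 {G : Type*} [Group G] [Finite G] {t g n m : G} (ht : orderOf t = 2) (π : G → Perm (Fin 11))
    (hm : ∀ a b, Commute a t → Commute b t → π (a * b) = π a * π b)
    (hk : ∀ c, Commute c t → (π c = 1 ↔ c = 1 ∨ c = t))
    (hr : ∀ p, Perm.sign p = 1 ↔ ∃ c, Commute c t ∧ π c = p)
    (ρ : Perm (Fin 11)) (hρ : Perm.sign ρ = -1) (H : Set G)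
    (hH : ∀ h ∈ H, h ^ 3 = 1 ∧ Commute h t ∧ Commute (g * h * g⁻¹) t ∧ Commute ρ (π h))
    (hs : g⁻¹ * t * g ∈ closure H ⊔ zpowers t) (hu : Commute (g * t * g⁻¹) t)
    (mt : Commute m t) (mt' : Commute (g * m * g⁻¹) t)
    (L1 : ∀ τ : Perm (Fin 11), (∀ h ∈ H, Commute τ (π (g * h * g⁻¹))) → Perm.sign τ = 1)
    (L2 : ∀ τ : Perm (Fin 11), (∀ h ∈ H, Commute τ (π (g * h * g⁻¹))) → Commute τ (π (g * m * g⁻¹)) →
      τ = 1 ∨ τ = π (g * t * g⁻¹))
    (nt : Commute n t) (nt' : Commute ((n * g) ^ 2) t) (e1 : (n * (t * g)) ^ 2 ≠ (n * g) ^ 2)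
    (e2 : (n * (g * t)) ^ 2 ≠ (n * g) ^ 2) (hgen : centralizer {t} ⊔ zpowers g = ⊤)
    (β : MulAut G) (hβ : β t = t) (hβ' : (∀ c, Commute c t → β c = c) ∨
      ∀ c, Commute c t → π (β c) = ρ * π c * ρ⁻¹) : β = 1 ∨ β = MulAut.conj t := by
  have tt : t * t = 1 := by rw [← pow_two, ← ht, pow_orderOf_eq_one]
  have t1 : t ≠ 1 := fun e => by rw [e, orderOf_one] at ht; omega
  have ti : t⁻¹ = t := inv_eq_of_mul_eq_one_right tt
  have bc : ∀ c, Commute c t → Commute (β c) t := fun c h => by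
    have := h.map β
    rwa [hβ] at this
  have eq : ∀ a b, Commute a t → Commute b t → π a = π b → a = b ∨ a = t * b := fun a b ha hb e => by
    have h1 := hm (a * b⁻¹) b (ha.mul_left hb.inv_left) hb
    rw [inv_mul_cancel_right, e, right_eq_mul, hk _ (ha.mul_left hb.inv_left), mul_inv_eq_one,
      mul_inv_eq_iff_eq_mul] at h1
    exact h1
  have fH : ∀ h ∈ H, β h = h := fun h hh => by
    obtain ⟨h3, h1, -, h4⟩ := hH h hh
    rcases hβ' with e | e
    · exact e h h1
    refine (eq _ _ (bc h h1) h1 (by rw [e h h1, h4.eq, mul_inv_cancel_right])).resolve_right fun e' => t1 ?_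
    have := congrArg β h3
    rwa [map_pow, map_one, e', h1.symm.mul_pow, h3, mul_one, pow_succ, pow_two, tt, one_mul] at this
  have fs : β (g⁻¹ * t * g) = g⁻¹ * t * g := by
    have : closure H ⊔ zpowers t ≤ β.toMonoidHom.eqLocus (MonoidHom.id G) :=
      sup_le ((closure_le _).2 fH) (zpowers_le_of_mem hβ)
    exact this hs
  have dt : Commute (β g * g⁻¹) t := by
    rw [map_mul, map_mul, map_inv, hβ] at fs
    calc β g * g⁻¹ * t = β g * (g⁻¹ * t * g) * g⁻¹ := by group
      _ = _ := by rw [← fs]; group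
  have bd : ∀ h, β h = h → β (g * h * g⁻¹) * (β g * g⁻¹) = β g * g⁻¹ * (g * h * g⁻¹) := fun h e => by
    rw [map_mul, map_mul, map_inv, e]; group
  have bg : β g = β g * g⁻¹ * g := by group
  generalize β g * g⁻¹ = d at dt bd bg
  rcases hβ' with e | e
  · have cm : ∀ h, Commute h t → Commute (g * h * g⁻¹) t → Commute (π d) (π (g * h * g⁻¹)) :=
      fun h h1 h2 => by
        have := bd h (e h h1)
        rw [e _ h2] at this
        rw [commute_iff_eq, ← hm _ _ dt h2, ← hm _ _ h2 dt, this]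
    have ag : ∀ γ : MulAut G, (∀ c, Commute c t → γ c = c) → γ g = β g → β = γ := fun γ h1 h2 => by
      have : centralizer {t} ⊔ zpowers g ≤ β.toMonoidHom.eqLocus γ.toMonoidHom :=
        sup_le (fun c hc => (e c (mem_centralizer_singleton_iff.1 hc)).trans
          (h1 c (mem_centralizer_singleton_iff.1 hc)).symm) (zpowers_le_of_mem h2.symm)
      exact MulEquiv.ext fun x => this (hgen.ge trivial)
    have b2 := e _ nt'
    rw [map_pow, map_mul, e n nt, bg] at b2
    rcases L2 (π d) (fun h hh => cm h (hH h hh).2.1 (hH h hh).2.2.1) (cm m mt mt') with h | h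
    · rcases (hk d dt).1 h with rfl | rfl
      · exact Or.inl (ag 1 (fun _ _ => rfl) (by rw [bg, one_mul]; rfl))
      · exact absurd b2 e1
    · rcases eq _ _ dt hu h with rfl | rfl
      · exact absurd (by simpa using b2) e2
      · exact Or.inr (ag _ (fun c hc => by rw [MulAut.conj_apply, ← hc.eq, mul_inv_cancel_right])
          (by rw [bg, MulAut.conj_apply, ti]; group))
  · have := L1 ((π d)⁻¹ * ρ) fun h hh => by
      have h2 := (hH h hh).2.2.1
      have h3 := congrArg π (bd h (fH h hh))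
      rw [hm _ _ (bc _ h2) dt, hm _ _ dt h2, e _ h2] at h3
      generalize π (g * h * g⁻¹) = x at h3
      calc (π d)⁻¹ * ρ * x = (π d)⁻¹ * (ρ * x * ρ⁻¹ * π d) * (π d)⁻¹ * ρ := by group
        _ = _ := by rw [h3]; group
    rw [map_mul, map_inv, (hr _).2 ⟨d, dt, rfl⟩, hρ] at this
    exact absurd this (by decide)

end Cfsg.Agent.H3.Loc
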