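import Mathlib

/-! Fixed points on products of conjugacy classes in doubly transitive groups. -/

set_option autoImplicit false

namespace Cfsg.Agent.H3.AH

open Finset Equiv

/-- number of fixed points -/
noncomputable def fx {Ω : Type*} (a : Ω → Ω) : ℕ := Nat.card (Function.fixedPoints a)

theorem fx_eq {Ω : Type*} [Fintype Ω] [DecidableEq Ω] (a : Ω → Ω) :
    fx a = #{x | a x = x} := by
  rw [fx, Nat.card_eq_fintype_card, Fintype.card_subtype]; rfl

theorem fx_conj {Ω : Type*} (a : Ω → Ω) (e : Perm Ω) : fx (fun x => e (a (e.symm x))) = fx a :=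
  (Nat.card_congr (e.subtypeEquiv fun x => by simp [Function.IsFixedPt])).symm

theorem avg {G Ω : Type*} [Group G] [Finite G] [MulAction G Ω] [Finite Ω] [Nontrivial Ω]
    (h2 : ∀ x y x' y' : Ω, x ≠ y → x' ≠ y' → ∃ g : G, g • x = x' ∧ g • y = y')
    (a : Perm Ω) (b : Ω → Ω) {c : ℕ} (hc : ∀ h : G, fx (fun x => a (h • b (h⁻¹ • x))) = c) :
    ((Nat.card Ω : ℤ) - 1) * (c - 1) = ((fx a : ℤ) - 1) * (fx b - 1) := by
  classical
  have := Fintype.ofFinite G
  have := Fintype.ofFinite Ω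
  let N : Ω → Ω → ℕ := fun x y => #{h : G | h • b (h⁻¹ • x) = y}
  have hN : ∀ (g : G) x y, N (g • x) (g • y) = N x y := fun g x y => by
    symm
    refine card_bij (fun h _ => g * h) (fun h hh => ?_) (fun _ _ _ _ e => mul_left_cancel e)
      fun h hh => ⟨g⁻¹ * h, ?_, by simp⟩
    · simp only [mem_filter, mem_univ, true_and] at hh ⊢
      simp [mul_smul, hh]
    · simp only [mem_filter, mem_univ, true_and] at hh ⊢
      simp [mul_smul, hh]
  obtain ⟨x0, y0, h0⟩ := exists_pair_ne Ω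
  have e0 : ∀ x, N x x = N x0 x0 := fun x => by
    obtain ⟨y, hy⟩ := exists_ne x
    obtain ⟨g, rfl, -⟩ := h2 x0 y0 x y h0 hy.symm
    exact hN _ _ _
  have e1 : ∀ x y, x ≠ y → N x y = N x0 y0 := fun x y h => by
    obtain ⟨g, rfl, rfl⟩ := h2 x0 y0 x y h0 h
    exact hN _ _ _
  have sw : ∀ φ : Ω → Ω, ∑ x, N x (φ x) = ∑ h : G, #{x | h • b (h⁻¹ • x) = φ x} := fun φ => by
    simp only [N, card_filter]; exact sum_comm
  have s1 : Fintype.card Ω * N x0 x0 = Fintype.card G * fx b := by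
    have := sw id
    simp only [id, e0, sum_const, card_univ, smul_eq_mul] at this
    rw [this, sum_congr rfl (g := fun _ => fx b), sum_const, card_univ, smul_eq_mul]
    intro h _
    rw [← fx_eq (fun x => h • b (h⁻¹ • x))]
    exact fx_conj b (MulAction.toPerm h)
  have s2 : N x0 x0 + (Fintype.card Ω - 1) * N x0 y0 = Fintype.card G := by
    rw [← card_univ (α := G), card_eq_sum_card_fiberwise (f := fun h : G => h • b (h⁻¹ • x0))
      (t := univ) (by simp), ← add_sum_erase _ _ (mem_univ x0),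
      sum_congr rfl (g := fun _ => N x0 y0) fun y hy => e1 _ _ (ne_of_mem_erase hy).symm,
      sum_const, card_erase_of_mem (mem_univ _), card_univ, smul_eq_mul]
  have s3 : fx a * N x0 x0 + (Fintype.card Ω - fx a) * N x0 y0 = Fintype.card G * c := by
    have := sw a.symm
    rw [sum_congr rfl (g := fun _ => c) (s₂ := univ) (f := fun h : G => _), sum_const, card_univ,
      smul_eq_mul, ← sum_filter_add_sum_filter_not _ (fun x => a x = x),
      sum_congr rfl (g := fun _ => N x0 x0), sum_const,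
      sum_congr rfl (g := fun _ => N x0 y0) (s₂ := filter _ _), sum_const] at this
    · rw [← this, fx_eq, smul_eq_mul, smul_eq_mul, filter_not, card_sdiff_of_subset (by simp)]
      rfl
    · intro x hx
      exact e1 _ _ fun e => (mem_filter.1 hx).2 ((eq_symm_apply a).1 e)
    · intro x hx
      rw [(symm_apply_eq a).2 (mem_filter.1 hx).2.symm, e0]
    · intro h _
      rw [← hc h, fx_eq]
      simp only [eq_symm_apply]
  have hf : fx a ≤ Fintype.card Ω := by rw [fx_eq]; exact card_le_univ _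
  have hn : 1 ≤ Fintype.card Ω := Fintype.card_pos
  have hg : (Fintype.card G : ℤ) ≠ 0 := by exact_mod_cast Fintype.card_ne_zero
  have hn' : (Fintype.card Ω : ℤ) ≠ 0 := by exact_mod_cast Fintype.card_ne_zero
  rw [Nat.card_eq_fintype_card]
  zify [hf, hn] at s1 s2 s3
  refine mul_left_cancel₀ hg (mul_left_cancel₀ hn' ?_)
  linear_combination (-(Fintype.card Ω : ℤ) * (Fintype.card Ω - 1)) * s3 +
    ((Fintype.card Ω - 1) * fx a - (Fintype.card Ω - fx a)) * s1 +
    (Fintype.card Ω * (Fintype.card Ω - fx a)) * s2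

theorem inj2 {Ω : Type*} {x y : Ω} (h : x ≠ y) : Function.Injective ![x, y] := by
  intro i j e
  fin_cases i <;> fin_cases j <;> first | rfl | exact absurd e ‹_› | exact absurd e.symm ‹_›

theorem inj3 {Ω : Type*} {x y z : Ω} (h1 : x ≠ y) (h2 : x ≠ z) (h3 : y ≠ z) :
    Function.Injective ![x, y, z] := by
  intro i j e
  fin_cases i <;> fin_cases j <;> first | rfl | exact absurd e ‹_› | exact absurd e.symm ‹_›

theorem inj4 {Ω : Type*} {x y z w : Ω} (h1 : x ≠ y) (h2 : x ≠ z) (h3 : x ≠ w) (h4 : y ≠ z)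
    (h5 : y ≠ w) (h6 : z ≠ w) : Function.Injective ![x, y, z, w] := by
  intro i j e
  fin_cases i <;> fin_cases j <;> first | rfl | exact absurd e ‹_› | exact absurd e.symm ‹_›

variable {Ω : Type*} [Fintype Ω] [DecidableEq Ω]

theorem ext_alt {ι : Type*} [Fintype ι] {u v : ι → Ω} (hu : u.Injective) (hv : v.Injective)
    (h : Fintype.card ι + 2 ≤ Fintype.card Ω) :
    ∃ g ∈ alternatingGroup Ω, ∀ i, g (u i) = v i := by
  obtain ⟨σ, hσ⟩ := Perm.exists_extending_pair _ _ hu hv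
  rcases Int.units_eq_one_or (Perm.sign σ) with e | e
  · exact ⟨σ, e, hσ⟩
  obtain ⟨x, hx, y, hy, hxy⟩ := one_lt_card.1 (show 1 < #(univ.image u)ᶜ by
    rw [card_compl, card_image_of_injective _ hu, card_univ]; omega)
  refine ⟨σ * swap x y, by simp [Perm.sign_swap hxy, e], fun i => ?_⟩
  rw [Perm.mul_apply, swap_apply_of_ne_of_ne, hσ]
  · rintro rfl; simp at hx
  · rintro rfl; simp at hy

/-- two edges of `b` go to two edges of `a` -/
def Two (a b : Perm Ω) : Prop :=
  ∃ h ∈ alternatingGroup Ω, ∃ y z, y ≠ z ∧ h (b y) = a (h y) ∧ h (b z) = a (h z)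

theorem Two.symm {a b : Perm Ω} (h : Two a b) : Two b a := by
  obtain ⟨h, hh, y, z, h1, h2, h3⟩ := h
  exact ⟨h⁻¹, inv_mem hh, h y, h z, h.injective.ne h1, by simp [← h2], by simp [← h3]⟩

theorem two_fix (hn : 5 ≤ Fintype.card Ω) {a b : Perm Ω} {p q x y : Ω} (hp : a p = p) (hq : b q = q)
    (hx : a x ≠ x) (hy : b y ≠ y) : Two a b := by
  have key : ∀ (a : Perm Ω) (p x : Ω), a p = p → a x ≠ x → Function.Injective ![p, x, a x] := by
    intro a p x hp hx
    have h1 : p ≠ x := fun e => hx (e ▸ hp)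
    have h2 : p ≠ a x := fun e => h1 (a.injective (hp.trans e))
    exact inj3 h1 h2 hx.symm
  obtain ⟨g, hg, h⟩ := ext_alt (key b q y hq hy) (key a p x hp hx) (by simpa using hn)
  have h0 : g q = p := h 0
  have h1 : g y = x := h 1
  have h2 : g (b y) = a x := h 2
  exact ⟨g, hg, q, y, fun e => hy (e ▸ hq), by rw [hq, h0, hp], by rw [h2, h1]⟩

theorem two_long (hn : 5 ≤ Fintype.card Ω) {a b : Perm Ω} {x y : Ω}
    (hx : a (a x) ≠ x) (hy : b (b y) ≠ y) : Two a b := by
  have key : ∀ (a : Perm Ω) (x : Ω), a (a x) ≠ x → Function.Injective ![x, a x, a (a x)] := by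
    intro a x hx
    have h1 : a x ≠ x := fun e => hx (by rw [e, e])
    exact inj3 h1.symm hx.symm (a.injective.ne h1.symm)
  obtain ⟨g, hg, h⟩ := ext_alt (key b y hy) (key a x hx) (by simpa using hn)
  have h0 : g y = x := h 0
  have h1 : g (b y) = a x := h 1
  have h2 : g (b (b y)) = a (a x) := h 2
  exact ⟨g, hg, y, b y, fun e => hy (by rw [← e, ← e]), by rw [h1, h0], by rw [h2, h1]⟩

theorem exists_edges {a : Perm Ω} (h : fx a + 4 ≤ Fintype.card Ω) :
    ∃ x y, Function.Injective ![x, a x, y, a y] := by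
  have h1 : 4 ≤ #{x | ¬ a x = x} := by
    rw [filter_not, card_sdiff_of_subset (by simp), ← fx_eq, card_univ]; omega
  obtain ⟨x, hx⟩ := card_pos.1 (show 0 < #{x | ¬ a x = x} by omega)
  obtain ⟨y, hy, hy'⟩ := exists_mem_notMem_of_card_lt_card (s := {x, a x, a⁻¹ x})
    (lt_of_le_of_lt card_le_three h1)
  simp only [mem_filter, mem_univ, true_and, mem_insert, mem_singleton, not_or] at hx hy hy'
  obtain ⟨k1, k2, k3⟩ := hy'
  have k4 : a y ≠ x := fun e => k3 (by simp [← e])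
  exact ⟨x, y, inj4 (Ne.symm hx) (Ne.symm k1) k4.symm (Ne.symm k2) (a.injective.ne (Ne.symm k1))
    (Ne.symm hy)⟩

theorem two_inv {a b : Perm Ω} (ha : fx a + 4 ≤ Fintype.card Ω) (hb : fx b + 4 ≤ Fintype.card Ω)
    (h : ∀ x, a (a x) = x) : Two a b := by
  obtain ⟨x, x', hx⟩ := exists_edges ha
  obtain ⟨y, y', hy⟩ := exists_edges hb
  obtain ⟨σ, hσ⟩ := Perm.exists_extending_pair _ _ hy hx
  have h0 : σ y = x := hσ 0
  have h1 : σ (b y) = a x := hσ 1
  have h2 : σ y' = x' := hσ 2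
  have h3 : σ (b y') = a x' := hσ 3
  have hne : y ≠ y' := hy.ne (show (0 : Fin 4) ≠ 2 by decide)
  rcases Int.units_eq_one_or (Perm.sign σ) with e | e
  · exact ⟨σ, e, y, y', hne, by rw [h1, h0], by rw [h3, h2]⟩
  have k1 : x ≠ a x := hx.ne (show (0 : Fin 4) ≠ 1 by decide)
  refine ⟨swap x (a x) * σ, by simp [Perm.sign_swap k1, e], y, y', hne, by simp [h0, h1, h], ?_⟩
  simp only [Perm.mul_apply, h2, h3]
  rw [swap_apply_of_ne_of_ne, swap_apply_of_ne_of_ne]
  exacts [hx.ne (show (2 : Fin 4) ≠ 0 by decide), hx.ne (show (2 : Fin 4) ≠ 1 by decide),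
    hx.ne (show (3 : Fin 4) ≠ 0 by decide), hx.ne (show (3 : Fin 4) ≠ 1 by decide)]

theorem fx_le {a : Perm Ω} (h : a ≠ 1) : fx a + 2 ≤ Fintype.card Ω := by
  have h1 := Perm.two_le_card_support_of_ne_one h
  have h2 := card_filter_add_card_filter_not (s := univ) fun x => a x = x
  rw [fx_eq]
  change 2 ≤ #{x | ¬ a x = x} at h1
  rw [card_univ] at h2; omega

theorem fx_inv (a : Perm Ω) : fx ⇑a⁻¹ = fx a := by
  simp only [fx_eq, Perm.inv_eq_iff_eq]
  simp only [eq_comm]

theorem exists_align {a b : Perm Ω} (ha : a ≠ 1) (h : fx a ≤ fx b) :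
    ∃ g ∈ alternatingGroup Ω, ∀ x, a x = x → b (g x) = g x := by
  obtain ⟨u⟩ : Nonempty (Function.fixedPoints a ↪ Function.fixedPoints b) :=
    Function.Embedding.nonempty_of_card_le (by simpa [fx] using h)
  obtain ⟨g, hg, h⟩ := ext_alt (v := fun x => (u x).1) Subtype.val_injective
    (Subtype.val_injective.comp u.injective) (by simpa [fx] using fx_le ha)
  exact ⟨g, hg, fun x hx => by rw [h ⟨x, hx⟩]; exact (u _).2⟩

theorem not_const (hn : 5 ≤ Fintype.card Ω) {a b : Perm Ω} (ha : a ≠ 1) (hb : b ≠ 1) {c : ℕ}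
    (hc : ∀ h ∈ alternatingGroup Ω, fx ⇑(a * (h * b * h⁻¹)) = c) : False := by
  have : Nontrivial Ω := Fintype.one_lt_card_iff_nontrivial.1 (by omega)
  have E := avg (G := alternatingGroup Ω) (fun x y x' y' h h' => by
    obtain ⟨g, hg, e⟩ := ext_alt (inj2 h) (inj2 h') (by simp; omega)
    exact ⟨⟨g, hg⟩, e 0, e 1⟩) a b fun h => hc h h.2
  rw [Nat.card_eq_fintype_card] at E
  have la := fx_le ha
  have lb := fx_le hb
  have m1 : fx a ≤ c ∨ fx b ≤ c := by
    rcases le_total (fx a) (fx b) with h | h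
    · obtain ⟨g, hg, e⟩ := exists_align ha h
      left
      rw [← hc g⁻¹ (inv_mem hg), fx_eq, fx_eq]
      refine card_le_card fun x hx => ?_
      have h1 := (mem_filter.1 hx).2
      simp [e x h1, h1]
    · obtain ⟨g, hg, e⟩ := exists_align (b := a) hb h
      right
      rw [← hc g hg, ← fx_conj b g, fx_eq, fx_eq]
      refine card_le_card fun x hx => ?_
      obtain ⟨x, rfl⟩ := g.surjective x
      have h1 : b x = x := by simpa using (mem_filter.1 hx).2
      exact mem_filter.2 ⟨mem_univ _, by simp [e x h1, h1]⟩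
  have m2 : ¬ Two a⁻¹ b ∨ 2 ≤ c := or_iff_not_imp_left.2 fun h => by
    obtain ⟨g, hg, y, z, h1, h2, h3⟩ := not_not.1 h
    rw [← hc g hg, fx_eq]
    exact one_lt_card.2 ⟨g y, mem_filter.2 ⟨mem_univ _, by simp [h2]⟩, g z,
      mem_filter.2 ⟨mem_univ _, by simp [h3]⟩, g.injective.ne h1⟩
  have ex : ∀ a : Perm Ω, fx a ≠ 0 → ∃ p, a p = p := fun a h => by
    rw [fx_eq] at h
    obtain ⟨p, hp⟩ := card_ne_zero.1 h
    exact ⟨p, (mem_filter.1 hp).2⟩
  have mv : ∀ a : Perm Ω, a ≠ 1 → ∃ p, a p ≠ p := fun a h => by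
    by_contra e
    exact h (Perm.ext fun x => by simpa using not_exists.1 e x)
  have t1 : fx a ≠ 0 → fx b ≠ 0 → Two a⁻¹ b := fun h1 h2 => by
    obtain ⟨p, hp⟩ := ex a⁻¹ (by rwa [fx_inv])
    obtain ⟨q, hq⟩ := ex b h2
    obtain ⟨x, hx⟩ := mv a⁻¹ (inv_ne_one.2 ha)
    obtain ⟨y, hy⟩ := mv b hb
    exact two_fix hn hp hq hx hy
  have t2 : fx a ≤ 1 → fx b ≤ 1 → Two a⁻¹ b := fun h1 h2 => by
    have k1 : fx ⇑a⁻¹ + 4 ≤ Fintype.card Ω := by rw [fx_inv]; omega
    have k2 : fx b + 4 ≤ Fintype.card Ω := by omega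
    by_cases e1 : ∀ x, a⁻¹ (a⁻¹ x) = x
    · exact two_inv k1 k2 e1
    by_cases e2 : ∀ x, b (b x) = x
    · exact (two_inv k2 k1 e2).symm
    obtain ⟨x, hx⟩ := not_forall.1 e1
    obtain ⟨y, hy⟩ := not_forall.1 e2
    exact two_long hn hx hy
  generalize Fintype.card Ω = n at *
  generalize fx a = s at *
  generalize fx b = t at *
  have c2 : 2 ≤ c ∨ (s = 0 ∧ 2 ≤ t) ∨ (t = 0 ∧ 2 ≤ s) := by
    rcases m2 with m2 | m2
    · by_cases h1 : s = 0 <;> by_cases h2 : t = 0
      · exact absurd (t2 (by omega) (by omega)) m2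
      · exact .inr (.inl ⟨h1, by by_contra; exact m2 (t2 (by omega) (by omega))⟩)
      · exact .inr (.inr ⟨h2, by by_contra; exact m2 (t2 (by omega) (by omega))⟩)
      · exact absurd (t1 h1 h2) m2
    · exact .inl m2
  zify at *
  have s0 : (0 : ℤ) ≤ s := by positivity
  have t0 : (0 : ℤ) ≤ t := by positivity
  have c0 : (0 : ℤ) ≤ c := by positivity
  rcases c2 with h | ⟨h, h'⟩ | ⟨h, h'⟩
  · rcases m1 with m | m <;> nlinarith
  · rw [h] at E
    rcases (show (c : ℤ) = 0 ∨ 1 ≤ (c : ℤ) by omega) with e | e <;> nlinarith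
  · rw [h] at E
    rcases (show (c : ℤ) = 0 ∨ 1 ≤ (c : ℤ) by omega) with e | e <;> nlinarith

end Cfsg.Agent.H3.AH
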