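import Cfsg.Agent.H6.Act
import Cfsg.Agent.H8.SubCnt
import Cfsg.Agent.H1.Basic

/-! The number of subgroups of order `p ^ a` modulo `p ^ 2` is that of a Sylow subgroup. -/

set_option autoImplicit false

namespace Cfsg.Agent.H3

open Subgroup MulAction
open scoped Pointwise

theorem ncard_eq_mul {α β : Type*} {B : Set α} (hB : B.Finite) {C : Set β} (hC : C.Finite)
    (f : α → β) (hf : ∀ b ∈ B, f b ∈ C) {n : ℕ} (h : ∀ y ∈ C, {c ∈ B | f c = y}.ncard = n) :
    B.ncard = C.ncard * n := by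
  classical
  rw [Set.ncard_eq_toFinset_card _ hB, Set.ncard_eq_toFinset_card _ hC,
    Finset.card_eq_sum_card_fiberwise (f := f) (t := hC.toFinset)
      (fun b hb => by simpa using hf b (by simpa using hb)),
    Finset.sum_congr rfl (g := fun _ => n), Finset.sum_const, smul_eq_mul]
  intro y hy
  rw [← h y (by simpa using hy), ← Set.ncard_coe_finset]
  congr 1
  ext; simp

theorem dvd_ncard_equiv {G Ω Ω' : Type*} [Group G] [MulAction G Ω] [MulAction G Ω']
    (H : Subgroup G) (f : Ω → Ω') (d : ℕ) (B : Set Ω) (hB : B.Finite)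
    (hinv : ∀ h ∈ H, ∀ b ∈ B, h • b ∈ B) (hf : ∀ h ∈ H, ∀ b ∈ B, f (h • b) = h • f b)
    (hd : ∀ b ∈ B, d ∣ (stabilizer G (f b)).relIndex H * {c ∈ B | f c = f b}.ncard) :
    d ∣ B.ncard := by
  induction hn : B.ncard using Nat.strong_induction_on generalizing B with
  | _ n ih =>
  rcases B.eq_empty_or_nonempty with rfl | ⟨b, hb⟩
  · rw [← hn]; simp
  set B' := {c ∈ B | f c ∈ H6.sorb H (f b)} with hB'
  have hsub : B' ⊆ B := fun _ h => h.1
  have hadd := Set.ncard_sdiff_add_ncard_of_subset hsub hB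
  have hpos : 0 < B'.ncard := (Set.ncard_pos (hB.subset hsub)).2 ⟨b, hb, H6.mem_sorb_self H _⟩
  have h1 : d ∣ (B \ B').ncard := by
    refine ih _ (by omega) _ (hB.subset Set.sdiff_subset) (fun h hh c hc => ⟨hinv h hh c hc.1, ?_⟩)
      (fun h hh c hc => hf h hh c hc.1) (fun c hc => ?_) rfl
    · rintro ⟨-, k, hk, hkc⟩
      exact hc.2 ⟨hc.1, h⁻¹ * k, H.mul_mem (H.inv_mem hh) hk, by
        rw [mul_smul, hkc, hf h hh c hc.1, inv_smul_smul]⟩
    · convert hd c hc.1 using 3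
      ext x
      exact ⟨fun h => ⟨h.1.1, h.2⟩, fun h => ⟨⟨h.1, fun h' => hc.2 ⟨hc.1, h.2 ▸ h'.2⟩⟩, h.2⟩⟩
  rw [← hn, ← hadd]
  refine dvd_add h1 ?_
  rw [ncard_eq_mul (hB.subset hsub) (C := H6.sorb H (f b)) ((hB.image f).subset ?_) f
    (fun _ h => h.2) (n := {c ∈ B | f c = f b}.ncard), H6.ncard_sorb]
  · exact hd b hb
  · rintro _ ⟨h, hh, rfl⟩
    symm
    refine Set.ncard_congr (fun c _ => h • c) (fun c hc => ⟨⟨hinv h hh c hc.1, h, hh, ?_⟩, ?_⟩)
      (fun _ _ _ _ e => smul_left_cancel h e) fun c hc => ⟨h⁻¹ • c, ⟨hinv _ (H.inv_mem hh) c hc.1.1,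
        ?_⟩, smul_inv_smul _ _⟩
    · rw [hf h hh c hc.1, hc.2]
    · rw [hf h hh c hc.1, hc.2]
    · rw [hf _ (H.inv_mem hh) c hc.1.1, hc.2, inv_smul_smul]
  · rintro _ ⟨h, hh, rfl⟩
    exact ⟨h • b, hinv h hh b hb, hf h hh b hb⟩

variable {G : Type*} [Group G] [Finite G] {p a : ℕ}

omit [Finite G] in
theorem ncard_sub_le (L : Subgroup G) (n : ℕ) : {H : Subgroup G | Nat.card H = n ∧ H ≤ L}.ncard =
    Nat.card {H : Subgroup L // Nat.card H = n} := by
  rw [← Nat.card_coe_set_eq]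
  refine Nat.card_congr ⟨fun H => ⟨H.1.subgroupOf L, (H1.card_subgroupOf_of_le H.2.2).trans H.2.1⟩,
    fun H => ⟨H.1.map L.subtype, (card_map_of_injective L.subtype_injective).trans H.2,
      map_subtype_le _⟩, fun H => Subtype.ext (map_subgroupOf_eq_of_le H.2.2),
    fun H => Subtype.ext (comap_map_eq_self_of_injective L.subtype_injective _)⟩

theorem ncard_norm_modEq [hp : Fact p.Prime] {L R : Subgroup G} (hR : IsPGroup p R)
    (hn : R ≤ normalizer (L : Set G)) (hd : p ^ a ∣ Nat.card L) :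
    {H : Subgroup G | (Nat.card H = p ^ a ∧ H ≤ L) ∧ R ≤ normalizer (H : Set G)}.ncard ≡ 1
      [MOD p] := by
  let _ : MulAction G (Subgroup G) := MulAction.compHom _ (MulAut.conj (G := G))
  have h1 := H6.ncard_modEq_sfix hR {H : Subgroup G | Nat.card H = p ^ a ∧ H ≤ L} (Set.toFinite _)
    fun h hh b hb => ⟨(H1.card_conj_smul h b).trans hb.1,
      (H1.mem_normalizer_iff_smul.1 (hn hh)) ▸ map_mono hb.2⟩
  rw [ncard_sub_le] at h1
  convert h1.symm.trans (H8.card_sub_modEq hp.out hd) using 2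
  ext H
  exact and_congr_right fun _ => forall₂_congr fun _ _ => H1.mem_normalizer_iff_smul

theorem pg_le_card [hp : Fact p.Prime] {T K : Subgroup G} (hK : IsPGroup p K) (h : T < K) :
    Nat.card T * p ≤ Nat.card K := by
  obtain ⟨k, hk⟩ := IsPGroup.iff_card.1 hK
  have h1 := H1.card_mul_relIndex h.le
  obtain ⟨j, -, hj⟩ := (Nat.dvd_prime_pow hp.out).1 (hk ▸ Dvd.intro_left _ h1)
  have : j ≠ 0 := fun e => h.not_ge (relIndex_eq_one.1 (by rw [hj, e, pow_zero]))
  rw [← h1, hj]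
  exact Nat.mul_le_mul_left _ (Nat.le_self_pow this p)

theorem sq_dvd_out [hp : Fact p.Prime] (S : Sylow p G) (hd : p ^ (a + 1) ∣ Nat.card G) :
    p ^ 2 ∣ {H : Subgroup G | Nat.card H = p ^ a ∧ ¬ H ≤ S}.ncard := by
  let _ : MulAction G (Subgroup G) := MulAction.compHom _ (MulAut.conj (G := G))
  have st : ∀ H : Subgroup G, stabilizer G H = normalizer (H : Set G) := fun H =>
    Subgroup.ext fun _ => H1.mem_normalizer_iff_smul.symm
  have sS : ∀ h ∈ (S : Subgroup G), MulAut.conj h • (S : Subgroup G) = S := fun h hh =>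
    H1.mem_normalizer_iff_smul.1 (le_normalizer hh)
  have nle : ∀ H : Subgroup G, IsPGroup p H → (S : Subgroup G) ≤ normalizer (H : Set G) → H ≤ S :=
    fun H hH h => le_sup_right.trans (S.is_maximal'
      (IsPGroup.to_sup_of_normal_right' S.isPGroup' hH h) le_sup_left).le
  have hS : ∀ K : Subgroup G, IsPGroup p K → Nat.card K ≤ Nat.card S := fun K hK => by
    obtain ⟨Q, hQ⟩ := hK.exists_le_sylow
    exact (card_le_of_le hQ).trans (Nat.card_congr (Sylow.equiv Q S).toEquiv).le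
  set Y := {H : Subgroup G | Nat.card H = p ^ a ∧ ¬ H ≤ S}
  have yinv : ∀ h ∈ (S : Subgroup G), ∀ H ∈ Y, h • H ∈ Y := fun h hh H hH =>
    ⟨(H1.card_conj_smul h H).trans hH.1, fun e => hH.2 (by
      rw [← sS h hh] at e
      exact pointwise_smul_le_pointwise_smul_iff.1 e)⟩
  have ninv : ∀ h ∈ (S : Subgroup G), ∀ H : Subgroup G,
      normalizer ((h • H : Subgroup G) : Set G) ⊓ S = h • (normalizer (H : Set G) ⊓ S) := by
    intro h hh H
    change normalizer ((MulAut.conj h • H : Subgroup G) : Set G) ⊓ S =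
      MulAut.conj h • (normalizer (H : Set G) ⊓ S : Subgroup G)
    rw [smul_inf, sS h hh]
    exact congrArg (· ⊓ _) (map_equiv_normalizer_eq H (MulAut.conj h)).symm
  have rinv : ∀ h ∈ (S : Subgroup G), ∀ H : Subgroup G,
      (normalizer ((h • H : Subgroup G) : Set G)).relIndex S = (normalizer (H : Set G)).relIndex S := by
    intro h hh H
    have h1 := H1.card_inf_mul_relIndex (normalizer ((h • H : Subgroup G) : Set G)) S
    rw [ninv h hh, ← H1.card_inf_mul_relIndex (normalizer (H : Set G)) S] at h1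
    exact Nat.eq_of_mul_eq_mul_left Nat.card_pos ((congrArg (· * _) (H1.card_conj_smul h _)).symm.trans h1)
  rw [← Set.inter_union_sdiff Y {H | p ^ 2 ∣ (normalizer (H : Set G)).relIndex S},
    Set.ncard_union_eq Set.disjoint_sdiff_inter.symm]
  refine dvd_add (H6.dvd_ncard_of_relIndex S _ _ (Set.toFinite _) (fun h hh H hH =>
    ⟨yinv h hh H hH.1, Dvd.dvd.trans hH.2 (rinv h hh H).symm.dvd⟩) fun H hH => by rw [st]; exact hH.2) ?_
  refine dvd_ncard_equiv S (fun H : Subgroup G => H ⊔ normalizer (H : Set G) ⊓ S) _ _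
    (Set.toFinite _) (fun h hh H hH => ⟨yinv h hh H hH.1, fun e => hH.2 (Dvd.dvd.trans e (rinv h hh H).dvd)⟩)
    (fun h hh H _ => by rw [ninv h hh]; exact (smul_sup _ _ _).symm) fun H hH => ?_
  obtain ⟨⟨hH, hHS⟩, h2⟩ := hH
  have pr : ∀ K : Subgroup G, IsPGroup p K → ¬ K ≤ S → p ∣ (normalizer (K : Set G)).relIndex S :=
    fun K hK h => (S.isPGroup'.index _).elim fun j hj => by
      rw [relIndex, hj]
      exact dvd_pow_self _ fun e => h (nle K hK (relIndex_eq_one.1 (by rw [relIndex, hj, e, pow_zero])))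
  have hHp : IsPGroup p H := IsPGroup.of_card hH
  set T : Subgroup G := normalizer (H : Set G) ⊓ S with hT
  have hTi : Nat.card T * p = Nat.card S := by
    rw [← H1.card_inf_mul_relIndex (normalizer (H : Set G)) S]
    congr 1
    obtain ⟨j, hj⟩ := S.isPGroup'.index ((normalizer (H : Set G)).subgroupOf S)
    have h3 := pr H hHp hHS
    have h4 : ¬ p ^ 2 ∣ p ^ j := hj ▸ h2
    rw [relIndex, hj] at h3 ⊢
    rw [Nat.pow_dvd_pow_iff_le_right hp.out.one_lt] at h4
    have : j ≠ 0 := fun e => hp.out.one_lt.ne' (by simpa [e] using h3)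
    rw [show j = 1 by omega, pow_one]
  have hTp : IsPGroup p T := S.isPGroup'.to_le inf_le_right
  have hR : IsPGroup p (H ⊔ T : Subgroup G) := IsPGroup.to_sup_of_normal_left' hHp hTp inf_le_left
  have mx : ∀ K L : Subgroup G, IsPGroup p L → T < K → K ≤ L → K = L := fun K L hL h1 h3 =>
    eq_of_le_of_card_ge h3 ((hS L hL).trans (hTi ▸ pg_le_card (hL.to_le h3) h1))
  have hRS : ¬ H ⊔ T ≤ S := fun e => hHS (le_sup_left.trans e)
  have hTR : T < H ⊔ T := lt_of_le_of_ne le_sup_right fun e => hRS (e ▸ inf_le_right)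
  have hI : (H ⊔ T) ⊓ S = T := by
    by_contra e
    have h1 : T < (H ⊔ T) ⊓ S := lt_of_le_of_ne (le_inf le_sup_right inf_le_right) (Ne.symm e)
    exact hRS ((mx _ _ hR h1 inf_le_left).ge.trans inf_le_right)
  have hTa : p ^ a ∣ Nat.card T := by
    have := S.pow_dvd_card_of_pow_dvd_card hd
    rw [← hTi, pow_succ] at this
    exact Nat.dvd_of_mul_dvd_mul_right hp.out.pos this
  have hTn : H ⊔ T ≤ normalizer (T : Set G) := by
    have : Group.IsNilpotent (H ⊔ T : Subgroup G) := hR.isNilpotent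
    have h1 := Group.normalizerCondition_of_isNilpotent (T.subgroupOf (H ⊔ T))
      (lt_top_iff_ne_top.2 fun e => hTR.not_ge (subgroupOf_eq_top.1 e))
    rw [← subgroupOf_normalizer_eq hTR.le] at h1
    have h3 : T < normalizer (T : Set G) ⊓ (H ⊔ T) := lt_of_le_of_ne (le_inf le_normalizer hTR.le)
      fun e => h1.not_ge fun x hx => (e.ge ⟨hx, x.2⟩ :)
    exact (mx _ _ hR h3 inf_le_right).ge.trans inf_le_left
  rw [sq, st]
  refine mul_dvd_mul (pr _ hR hRS) ?_
  have c1 := ncard_norm_modEq hR le_normalizer (hTa.trans (card_dvd_of_le hTR.le))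
  have c2 := ncard_norm_modEq hR hTn hTa
  have c3 := Set.ncard_sdiff_add_ncard_of_subset (show {K : Subgroup G | (Nat.card K = p ^ a ∧ K ≤ T) ∧
    H ⊔ T ≤ normalizer (K : Set G)} ⊆ {K : Subgroup G | (Nat.card K = p ^ a ∧ K ≤ H ⊔ T) ∧
    H ⊔ T ≤ normalizer (K : Set G)} from fun K hK => ⟨⟨hK.1.1, hK.1.2.trans hTR.le⟩, hK.2⟩)
  rw [← c3] at c1
  have c4 := (Nat.modEq_zero_iff_dvd).1 (Nat.ModEq.add_right_cancel c2 (c1.trans (by simp; rfl)))
  refine c4.trans (congrArg Set.ncard ?_).symm.dvd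
  ext K
  constructor
  · rintro ⟨⟨⟨k1, k2⟩, -⟩, k3⟩
    exact ⟨⟨⟨k1, k3 ▸ le_sup_left⟩, k3 ▸ sup_le le_normalizer inf_le_left⟩,
      fun e => k2 (e.1.2.trans inf_le_right)⟩
  · rintro ⟨⟨⟨k1, k2⟩, k3⟩, k4⟩
    have k5 : ¬ K ≤ T := fun e => k4 ⟨⟨k1, e⟩, k3⟩
    have k6 : ¬ K ≤ S := fun e => k5 (hI ▸ le_inf k2 e)
    have k7 : normalizer (K : Set G) ⊓ S = T := by
      by_contra e
      have h1 : T < normalizer (K : Set G) ⊓ S :=
        lt_of_le_of_ne (le_inf (hTR.le.trans k3) inf_le_right) (Ne.symm e)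
      exact k6 (nle K (IsPGroup.of_card k1) ((mx _ _ S.isPGroup' h1 inf_le_right).ge.trans inf_le_left))
    refine ⟨⟨⟨k1, k6⟩, fun e => ?_⟩, ?_⟩
    · have h1 := H1.card_inf_mul_relIndex (normalizer (K : Set G)) S
      rw [k7, ← hTi] at h1
      have h3 : p ^ 2 ∣ p ^ 1 := by
        rw [pow_one, sq]
        exact Dvd.dvd.trans e (Nat.eq_of_mul_eq_mul_left Nat.card_pos h1).dvd
      rw [Nat.pow_dvd_pow_iff_le_right hp.out.one_lt] at h3; omega
    · change K ⊔ normalizer (K : Set G) ⊓ S = _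
      rw [k7]
      exact mx _ _ hR (lt_of_le_of_ne le_sup_right fun e => k5 (e ▸ le_sup_left))
        (sup_le k2 le_sup_right)

theorem card_sub_modEq_sylow [hp : Fact p.Prime] (S : Sylow p G) (hd : p ^ (a + 1) ∣ Nat.card G) :
    Nat.card {H : Subgroup G // Nat.card H = p ^ a} ≡
      Nat.card {H : Subgroup S // Nat.card H = p ^ a} [MOD p ^ 2] := by
  have h1 := Set.ncard_inter_add_ncard_sdiff_eq_ncard {H : Subgroup G | Nat.card H = p ^ a}
    {H | H ≤ S} (Set.toFinite _)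
  rw [← ncard_sub_le]
  change {H : Subgroup G | Nat.card H = p ^ a}.ncard ≡ _ [MOD _]
  rw [← h1]
  exact (Nat.modEq_iff_dvd' (Nat.le_add_right _ _)).2 (by
    rw [Nat.add_sub_cancel_left]; exact sq_dvd_out S hd) |>.symm

end Cfsg.Agent.H3
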