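import Cfsg.Agent.H26.JRx
import Cfsg.Agent.H17.PH
import Cfsg.Agent.H17.FT
import Cfsg.Agent.H8.Orb4
import Cfsg.Agent.H4.Tor3
import Cfsg.Agent.H1.PLength2

/-! Groups with a cyclic Sylow `p`-subgroup whose `p'`-subgroups are abelian. -/

set_option autoImplicit false

namespace Cfsg.Agent.H3

open Subgroup Cfsg H4 MulAction
open scoped MatrixGroups LinearAlgebra.Projectivization

universe u

theorem psl_borel {F : Type*} [Field F] [Fintype F] (h4 : 4 ≤ Fintype.card F) :
    ∃ H : Subgroup PSL(2, F), ¬ IsMulCommutative H ∧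
      Nat.card H ∣ Fintype.card F * (Fintype.card F - 1) := by
  obtain ⟨x⟩ : Nonempty (ℙ F (Fin 2 → F)) := inferInstance
  have hc : Nat.gcd 2 (Fintype.card F - 1) * Nat.card (stabilizer PSL(2, F) x) =
      Fintype.card F * (Fintype.card F - 1) := by
    rw [← card_stab_pL x, ← map_stabilizer, card_map_of_injective psl2pgl_injective]
  refine ⟨_, fun hcm => ?_, Dvd.intro_left _ hc⟩
  obtain ⟨l, _⟩ := CharP.exists F
  obtain ⟨n, hl, hn⟩ := FiniteField.card F l
  have : Fact l.Prime := ⟨hl⟩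
  have hlq : l ∣ Fintype.card F := hn ▸ dvd_pow_self l n.ne_zero
  have hm : ¬ l ∣ Fintype.card F - 1 := fun h =>
    hl.one_lt.ne' (Nat.dvd_one.1 ((Nat.dvd_sub_iff_right (by omega) hlq).1 h))
  have hp : ¬ l ∣ Fintype.card F + 1 := fun h =>
    hl.one_lt.ne' (Nat.dvd_one.1 ((Nat.dvd_add_right hlq).1 h))
  have hd : l ∣ Nat.card (stabilizer PSL(2, F) x) :=
    ((Nat.Prime.dvd_mul hl).1 (hc ▸ hlq.mul_right _)).resolve_left fun h =>
      hm (h.trans (Nat.gcd_dvd_right _ _))
  obtain ⟨y, hy⟩ := exists_prime_orderOf_dvd_card' l hd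
  have hy' : orderOf (y : PSL(2, F)) = l := by rw [Subgroup.orderOf_coe, hy]
  rcases psl_cases (y : PSL(2, F)) with h | ⟨u, a, hu, h⟩ | ⟨u, hu, h⟩
  · rw [h, orderOf_one] at hy'; exact hl.one_lt.ne hy'
  · have h1 : stabilizer PSL(2, F) x ≤ centralizer {(y : PSL(2, F))} := fun z hz =>
      mem_centralizer_singleton_iff.2 (congrArg Subtype.val (hcm.is_comm.comm ⟨z, hz⟩ y))
    have h2 := card_le_of_le h1
    rw [h, card_cent_un hu] at h2
    have h3 : Nat.gcd 2 (Fintype.card F - 1) ≤ 2 := Nat.gcd_le_left _ (by norm_num)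
    have h5 := Nat.mul_le_mul h3 h2
    rw [hc] at h5
    obtain ⟨m, hm⟩ : ∃ m, Fintype.card F = m + 1 := ⟨Fintype.card F - 1, by omega⟩
    rw [hm] at h5 h4
    simp only [Nat.add_sub_cancel] at h5
    nlinarith
  · have h1 := orderOf_psl_dvd hu (x := y) (h ▸ pmk_mem_pT_self _)
    have h2 : l ∣ Nat.card (pT (sgl u)) := by
      rw [hy'] at h1
      exact h1.trans (Nat.div_dvd_of_dvd (Dvd.intro _ (card_pT_pL hu)))
    rcases card_pT hu with e | e <;> rw [e] at h2 <;> contradiction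

theorem psl_dih {F : Type*} [Field F] [Fintype F] (h4 : 4 ≤ Fintype.card F) :
    ∃ H : Subgroup PSL(2, F), ¬ IsMulCommutative H ∧ Nat.card H ∣ 2 * (Fintype.card F + 1) := by
  obtain ⟨g, hg, hc⟩ := exists_pT_ell (F := F)
  obtain ⟨x, hx, -, hx2⟩ := exists_psl_big hg (by
    rw [hc]
    rcases Nat.mod_two_eq_zero_or_one (Fintype.card F) with h | h
    · rw [gcd_eq_one h (by omega)]; omega
    · rw [gcd_eq_two h]; omega)
  obtain ⟨s, hs, hs1, hs2⟩ := exists_refl hg
  obtain ⟨s, rfl⟩ := mem_pL.1 hs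
  refine ⟨(pN g).comap psl2pgl, fun hcm => hx2 (psl2pgl_injective ?_), ?_⟩
  · have h1 := congrArg (fun z => psl2pgl z.1)
      (hcm.is_comm.comm ⟨(s : PSL(2, F)), hs1⟩ ⟨x, (dih_pN hg).le hx⟩)
    have h2 := (dih_pN hg).inv _ hs1 hs2 _ hx
    simp only [coe_mul, map_mul, psl2pgl_mk] at h1
    rw [h1, mul_inv_cancel_right] at h2
    rw [map_mul, map_one, ← eq_inv_iff_mul_eq_one]; exact h2
  · rw [← hc, ← card_pN hg, card_comap_of_injective psl2pgl_injective]
    exact card_dvd_of_le inf_le_left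

/-- the `p'`-subgroups are abelian -/
def Ab' (p : ℕ) (X : Type*) [Group X] : Prop :=
  ∀ H : Subgroup X, ¬ p ∣ Nat.card H → IsMulCommutative H

theorem Ab'.inj {p : ℕ} {X Y : Type*} [Group X] [Group Y] (h : Ab' p X) (f : Y →* X)
    (hf : Function.Injective f) : Ab' p Y := fun H hH => by
  have := h (H.map f) (by rwa [card_map_of_injective hf])
  exact ⟨⟨fun a b => Subtype.ext (hf (by
    simpa using congrArg Subtype.val (this.is_comm.comm ⟨_, mem_map_of_mem f a.2⟩
      ⟨_, mem_map_of_mem f b.2⟩)))⟩⟩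

theorem Ab'.psl {p : ℕ} (hp : p.Prime) (p2 : p ≠ 2) {F : Type*} [Field F] [Fintype F]
    (h4 : 4 ≤ Fintype.card F) : ¬ Ab' p PSL(2, F) := fun h => by
  obtain ⟨H, h1, h2⟩ := psl_borel h4
  obtain ⟨K, k1, k2⟩ := psl_dih h4
  have a1 := (not_not.1 fun e => h1 (h H e)).trans h2
  have a2 := (not_not.1 fun e => k1 (h K e)).trans k2
  have h2 : ¬ p ∣ 2 := fun e => p2 ((Nat.prime_dvd_prime_iff_eq hp Nat.prime_two).1 e)
  have a3 := ((Nat.Prime.dvd_mul hp).1 a2).resolve_left h2
  rcases (Nat.Prime.dvd_mul hp).1 a1 with e | e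
  · exact hp.one_lt.ne' (Nat.dvd_one.1 ((Nat.dvd_add_right e).1 a3))
  · have := Nat.dvd_sub a3 e
    rw [show Fintype.card F + 1 - (Fintype.card F - 1) = 2 by omega] at this
    exact h2 this

theorem Ab'.l2d {p : ℕ} (hp : p.Prime) (p2 : p ≠ 2) {X : Type*} [Group X] (h : L2D X) :
    ¬ Ab' p X := fun ha => by
  obtain ⟨F, _, _, -, h1, ⟨e⟩⟩ := h
  exact Ab'.psl hp p2 h1 (ha.inj e.symm.toMonoidHom e.symm.injective)

theorem Ab'.solv {p : ℕ} (hp : p.Prime) (p2 : p ≠ 2) {X : Type u} [Group X] [Finite X]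
    (h : Ab' p X) : Group.IsSolvable X := by
  refine H8.isSolvable_of_simple_cases (fun Y _ _ => Ab' p Y)
    (fun Y _ _ N _ h => h.inj N.subtype N.subtype_injective) (fun Y _ _ N _ h U hU => ?_)
    (fun Y _ _ _ h => ?_) _ X rfl h
  · obtain ⟨V, hV, rfl⟩ := H17.Ho.exists_lift_pi (π := {p}ᶜ) _ (QuotientGroup.mk'_surjective N)
      (U := U) fun q _ hq e => hU (e ▸ hq)
    have := h V fun e => hV p hp e rfl
    infer_instance
  · by_contra hs
    have hn : ¬ IsMulCommutative Y := fun hc => hs (Group.isSolvable_of_comm hc.is_comm.comm)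
    obtain ⟨S, hS⟩ := H10.exists_isSylowIn 2 (⊤ : Subgroup Y)
    have hc := h S fun e => by
      obtain ⟨k, hk⟩ := IsPGroup.iff_card.1 hS.isPGroup
      exact p2 ((Nat.prime_dvd_prime_iff_eq hp Nat.prime_two).1 (hp.dvd_of_dvd_pow (hk ▸ e)))
    rcases H26.J.walter inferInstance hn hS S.le_centralizer with ⟨-, F, _, _, n, h1, h2, ⟨e⟩⟩ | h1 |
      ⟨_, _, _, _, _, h1⟩
    · refine Ab'.psl hp p2 (F := F) ?_ (h.inj e.symm.toMonoidHom e.symm.injective)
      rw [h2]
      exact le_trans (by norm_num) (Nat.pow_le_pow_right (by norm_num) h1)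
    · exact Ab'.l2d hp p2 h1 h
    · have : 2 ∣ Nat.card Y := by
        by_contra h2
        exact hs (H17.odd_solvable (Nat.odd_iff.2 (by omega)))
      obtain ⟨t, ht⟩ := exists_prime_orderOf_dvd_card' 2 this
      exact Ab'.l2d hp p2 (h1.lf t ht).l2d (h.inj _ (Subgroup.subtype_injective _))

theorem npc_or_normal {G : Type u} [Group G] [Finite G] {p : ℕ} [hp : Fact p.Prime]
    (P : Sylow p G) (hcyc : IsCyclic P) (hab : Ab' p G) :
    HasNormalPComplement p G ∨ (P : Subgroup G).Normal := by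
  by_cases p2 : p = 2
  · subst p2; exact .inl (H19.npc_of_isCyclic P hcyc)
  have hs := hab.solv hp.out p2
  by_cases hn : normalizer ((P : Subgroup G) : Set G) ≤ centralizer ((P : Subgroup G) : Set G)
  · exact .inl (H3.hasNormalPComplement_of_normalizer_le_centralizer P hn)
  right
  have hcyc' : IsCyclic (P : Subgroup G) := hcyc
  have hPc : (P : Subgroup G) ≤ centralizer ((P : Subgroup G) : Set G) :=
    have : IsMulCommutative (P : Subgroup G) := inferInstance
    Subgroup.le_centralizer _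
  obtain ⟨g, hg, hg'⟩ := SetLike.not_le_iff_exists.1 hn
  obtain ⟨a, b, ⟨k, hk⟩, hb, e⟩ := H3.exists_pPart_mul_pPrimePart (p := p) g
    (orderOf_pos g).ne'
  have ha : g ^ a ∈ (P : Subgroup G) := by
    have h1 : IsPGroup p (zpowers (g ^ a)) := IsPGroup.of_card (by rw [Nat.card_zpowers, hk])
    have := h1.inf_normalizer_sylow P
    exact (this.le ⟨mem_zpowers _, pow_mem hg a⟩).2
  have hb' : g ^ b ∉ centralizer ((P : Subgroup G) : Set G) := fun h =>
    hg' (e ▸ mul_mem (hPc ha) h)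
  set K := pPrimeCore p G
  have hK : (Nat.card K).Coprime p := H1.coprime_card_pPrimeCore p
  have hC : zpowers (g ^ b) ≤ centralizer (K : Set G) := by
    have := hab (zpowers (g ^ b) ⊔ K) fun h => by
      have h1 := h.trans (H1.card_sup_dvd_normal _ K)
      rw [Nat.card_zpowers] at h1
      rcases (Nat.Prime.dvd_mul hp.out).1 h1 with h2 | h2
      · exact (Nat.Prime.coprime_iff_not_dvd hp.out).1 hb.symm h2
      · exact (Nat.Prime.coprime_iff_not_dvd hp.out).1 hK.symm h2
    exact le_sup_left.trans ((Subgroup.le_centralizer (zpowers (g ^ b) ⊔ K)).trans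
      (centralizer_le (le_sup_right (a := zpowers (g ^ b)) (b := K))))
  rcases P.isPGroup'.commutator_eq_bot_or_commutator_eq_self (K := zpowers (g ^ b))
    (zpowers_le.2 (pow_mem hg b)) (by
      rw [Nat.card_zpowers]; exact (H3.sylow_card_coprime_of_coprime P hb).symm) with h | h
  · exact absurd (commutator_eq_bot_iff_le_centralizer.1 h (mem_zpowers _)) hb'
  have hPK : (P : Subgroup G) ≤ centralizer (K : Set G) :=
    h.ge.trans ((commutator_mono hC le_top).trans (commutator_le_left _ _))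
  have hl : PLengthLE p 1 G := H1.pLengthLE_one_iff.2 (Nat.Coprime.of_dvd_left (index_dvd_of_le
    (hPc.trans (H1.IsPSolvable.centralizer_sylow_le (H1.isPSolvable_of_isSolvable p hs) P)))
    (H3.sylow_index_coprime P))
  have := H1.PLengthLE.core_sup_normalizer hl P
  rw [sup_eq_right.2 ((le_centralizer_iff.1 hPK).trans (centralizer_le_normalizer _))] at this
  exact normalizer_eq_top_iff.1 this

end Cfsg.Agent.H3
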