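import Cfsg.Agent.Lead.GW
import Cfsg.Agent.H8.GWQ2

/-! Groups with dihedral Sylow `2`-subgroups and an involution whose centralizer is of dihedral
type. -/

set_option autoImplicit false
set_option linter.unusedSectionVars false

namespace H3.Dg

open Subgroup Cfsg
open scoped MatrixGroups
open H4 (pmk pL psl2pgl)

universe u

local notation "C₁(" x ")" => Subgroup.centralizer (Singleton.singleton x : Set _)

/-- `Y` is `PSL₂(q)`, or `PGL₂(q)` with `q` odd, `q > 3` -/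
def Res (Y : Type*) [Group Y] : Prop :=
  ∃ (F : Type) (_ : Field F) (_ : Fintype F), 3 < Fintype.card F ∧
    (Nonempty (Y ≃* PSL(2, F)) ∨ (Odd (Fintype.card F) ∧ Nonempty (Y ≃* PGL(2, F))))

theorem Res.of_equiv {X Y : Type*} [Group X] [Group Y] (h : Res Y) (e : X ≃* Y) : Res X := by
  obtain ⟨F, i, j, h1, ⟨⟨e'⟩⟩ | ⟨h2, ⟨e'⟩⟩⟩ := h
  exacts [⟨F, i, j, h1, Or.inl ⟨e.trans e'⟩⟩, ⟨F, i, j, h1, Or.inr ⟨h2, ⟨e.trans e'⟩⟩⟩]

variable {G : Type*} [Group G]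

theorem inv_of {B : Subgroup G} {X : Subgroup G} {t b : G} (ht : t ∈ X) (htB : t ∉ B)
    (h : ∀ x ∈ X, x ∉ B → x * x = 1) (hb : b ∈ B) (hX : b ∈ X) : t * b * t⁻¹ = b⁻¹ := by
  have h1 := h _ (X.mul_mem ht hX) fun k => htB (by simpa using B.mul_mem k (B.inv_mem hb))
  have h2 := inv_eq_of_mul_eq_one_left (h t ht htB)
  rw [h2, eq_inv_iff_mul_eq_one, ← h1]; group

theorem comm_of {B : Subgroup G} {X : Subgroup G} {t a b : G} (ht : t ∈ X) (htB : t ∉ B)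
    (h : ∀ x ∈ X, x ∉ B → x * x = 1) (ha : a ∈ B) (haX : a ∈ X) (hb : b ∈ B) (hX : b ∈ X) :
    Commute a b := by
  have h1 := inv_of ht htB h ha haX
  have h2 := inv_of ht htB h hb hX
  have h3 := inv_of ht htB h (B.mul_mem ha hb) (X.mul_mem haX hX)
  have h4 : t * (a * b) * t⁻¹ = t * a * t⁻¹ * (t * b * t⁻¹) := by group
  rw [h4, h1, h2, mul_inv_rev] at h3
  exact Commute.inv_inv_iff.1 h3

/-- the centralizer of `j` is of dihedral type -/
def DC (j : G) : Prop :=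
  ∃ (B : Subgroup G) (t : G), t ∈ C₁(j) ∧ t ∉ B ∧ ∀ x ∈ C₁(j), x ∉ B → x * x = 1

theorem DC.le {j : G} (h : DC j) {K : Subgroup G} (hK : ∀ x, x * x = 1 → x ∈ K) : C₁(j) ≤ K := by
  obtain ⟨B, t, h1, h2, h3⟩ := h
  intro x hx
  by_cases hB : x ∈ B
  · have := K.mul_mem (hK _ (h3 _ (mul_mem hx h1) fun k =>
      h2 (by simpa using B.mul_mem (B.inv_mem hB) k))) (K.inv_mem (hK _ (h3 t h1 h2)))
    simpa using this
  · exact hK x (h3 x hx hB)

theorem DC.comm {j : G} (h : DC j) {a b : G} (ha : Commute a j) (hb : Commute b j)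
    (a2 : a * a ≠ 1) (b2 : b * b ≠ 1) : Commute a b := by
  obtain ⟨B, t, h1, h2, h3⟩ := h
  have ha' := mem_centralizer_singleton_iff.2 ha
  have hb' := mem_centralizer_singleton_iff.2 hb
  exact comm_of h1 h2 h3 (by_contra fun k => a2 (h3 a ha' k)) ha'
    (by_contra fun k => b2 (h3 b hb' k)) hb'

theorem pgl_conj_out {F : Type*} [Field F] [Fintype F] (h2 : (2 : F) ≠ 0) {a b : PGL(2, F)}
    (ha : orderOf a = 2) (hb : orderOf b = 2) (a1 : a ∉ pL F) (b1 : b ∉ pL F) : IsConj a b := by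
  obtain ⟨g, rfl, tg⟩ := H4.exists_trace_zero ha
  obtain ⟨h, rfl, th⟩ := H4.exists_trace_zero hb
  have h1 := H4.mul_mem_pL h2 a1 b1
  rw [← map_mul, H4.pmk_mem_pL] at h1
  obtain ⟨c, hc⟩ := h1
  rw [Units.val_mul, Matrix.det_mul] at hc
  have g0 : g.1.det ≠ 0 := g.det_ne_zero
  have h0 : h.1.det ≠ 0 := h.det_ne_zero
  have c0 : c ≠ 0 := fun k => mul_ne_zero g0 h0 (by rw [hc, k, mul_zero])
  have e : ((g.1.det / c) • h.1).det = g.1.det := by
    rw [Matrix.det_smul, Fintype.card_fin]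
    field_simp
    linear_combination hc
  let h' := Matrix.GeneralLinearGroup.mkOfDetNeZero ((g.1.det / c) • h.1) (e.trans_ne g0)
  have e1 : pmk h = pmk h' := H4.pmk_eq_iff.2 ⟨_, rfl⟩
  have ns : ∀ x : GL (Fin 2) F, orderOf (pmk x) = 2 → ¬ H4.Sc x.1 := fun x hx k => by
    rw [H4.pmk_eq_one_iff.2 k, orderOf_one] at hx; exact absurd hx (by decide)
  rw [e1]
  refine pmk.map_isConj (H4.gl_isConj_of (ns g ha) (ns h' (e1 ▸ hb)) ?_ e.symm)
  change _ = ((g.1.det / c) • h.1).trace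
  rw [Matrix.trace_smul, th, tg, smul_zero]

theorem eq_top_of_conj {K : Subgroup G} {j : G} (h1 : C₁(j) ≤ K)
    (h2 : ∀ g, ∃ k ∈ K, k * j * k⁻¹ = g * j * g⁻¹) : K = ⊤ := by
  refine (eq_top_iff' K).2 fun g => ?_
  obtain ⟨k, hk, e⟩ := h2 g
  have : k⁻¹ * g ∈ K := h1 (mem_centralizer_singleton_iff.2 (by
    calc k⁻¹ * g * j = k⁻¹ * (g * j * g⁻¹) * g := by group
      _ = j * (k⁻¹ * g) := by rw [← e]; group))
  simpa using K.mul_mem hk this

variable [Finite G]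

theorem res_of_bar {E : Subgroup G} (h : GW.Bar E) {F : Type} [Field F] [Fintype F]
    (ho : Odd (Fintype.card F)) (h3 : 3 < Fintype.card F) (e : E ≃* PSL(2, F)) {j : G}
    (oj : orderOf j = 2) (hj : DC j) : Res G := by
  have := h.normal
  have h2 := H4.two_ne_zero_of_odd ho
  obtain ⟨M, -⟩ := H4.exists_emb h.cent h2 e
  have k1 : ∀ x : G, x * x = 1 → x ∈ M.θ.ker := fun x hx => by
    by_cases x1 : x = 1
    · exact x1 ▸ one_mem _
    · exact GW.emb_θ M h2 h.dih (orderOf_eq_prime (by rw [pow_two, hx]) x1)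
  have hi := H4.index_pL (F := F) (Nat.odd_iff.1 ho)
  have k2 : ∀ x, M.θ x = 1 → x ∉ E → ∀ a, ∃ y, M.θ y = 1 ∧ M.f y = a := fun x hx hE a => by
    have x1 : M.f x ∉ pL F := fun k => hE ((M.mem x).2 ⟨hx, k⟩)
    by_cases ha : a ∈ pL F
    · obtain ⟨y, hy, rfl⟩ := M.surj a ha
      exact ⟨y, M.θ_of_mem hy, rfl⟩
    · obtain ⟨y, hy, e⟩ := M.surj _ (H4.mul_mem_pL h2 ((pL F).inv_mem_iff.not.2 x1) ha)
      exact ⟨x * y, M.θ_mul hx (M.θ_of_mem hy), by rw [M.mul' hx, e, mul_inv_cancel_left]⟩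
  have oc : ∀ g : G, orderOf (g * j * g⁻¹) = 2 := fun g => oj ▸ (MulAut.conj g).orderOf_eq j
  have jθ : M.θ j = 1 := GW.emb_θ M h2 h.dih oj
  have k3 : M.θ.ker = ⊤ := by
    refine eq_top_of_conj (hj.le k1) fun g => ?_
    by_cases hE : j ∈ E
    · obtain ⟨k, hk, e'⟩ := GW.l2_one ho e j hE _ (h.normal.conj_mem j hE g) oj (oc g)
      exact ⟨k, M.θ_of_mem hk, e'⟩
    · have g1 := M.θ_conj g jθ
      obtain ⟨a, ha⟩ := isConj_iff.1 (pgl_conj_out h2 ((M.orderOf_f jθ).trans oj)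
        ((M.orderOf_f g1).trans (oc g)) (fun k => hE ((M.mem j).2 ⟨jθ, k⟩))
        fun k => hE (by simpa [mul_assoc] using h.normal.conj_mem _ ((M.mem _).2 ⟨g1, k⟩) g⁻¹))
      obtain ⟨y, hy, rfl⟩ := k2 j jθ hE a
      exact ⟨y, hy, M.eq_of (M.θ_conj y jθ) g1 (by rw [M.conj' hy jθ, ha])⟩
  have k4 : ∀ x, M.θ x = 1 := fun x => (eq_top_iff' _).1 k3 x
  by_cases hE : E = ⊤
  · subst hE
    exact ⟨F, _, _, h3, Or.inl ⟨topEquiv.symm.trans e⟩⟩
  obtain ⟨x, hx⟩ : ∃ x, x ∉ E := by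
    by_contra! k
    exact hE ((eq_top_iff' E).2 k)
  refine ⟨F, _, _, h3, Or.inr ⟨ho, ⟨MulEquiv.ofBijective
    (MonoidHom.mk' M.f fun a b => M.mul' (k4 a) b) ⟨fun a b e => M.eq_of (k4 a) (k4 b) e, fun a => ?_⟩⟩⟩⟩
  obtain ⟨y, -, e⟩ := k2 x (k4 x) hx a
  exact ⟨y, e⟩

theorem res_of_dih (h : GW.Dih (⊤ : Subgroup G)) (hO : pPrimeCore 2 G = ⊥)
    (hs : ¬ Group.IsSolvable G) {j : G} (oj : orderOf j = 2) (hj : DC j) : Res G := by
  rcases h.struct ((H5.oppOf_top 2).trans hO) with c | ⟨⟨e⟩⟩ | ⟨⟨e⟩⟩ | ⟨E, hE, -, k⟩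
  · have := c.isNilpotent
    exact (hs inferInstance).elim
  · have := H4.isSolvable_a4
    exact (hs (Group.isSolvable_of_isSolvable_injective (f := e.toMonoidHom) e.injective)).elim
  · have := H4.isSolvable_s4
    exact (hs (Group.isSolvable_of_isSolvable_injective (f := e.toMonoidHom) e.injective)).elim
  rcases k with ⟨F, _, _, h1, h2, ⟨e⟩⟩ | ⟨⟨e⟩⟩
  · exact res_of_bar hE h1 h2 e oj hj
  obtain ⟨φ, u, s, c, hφ, -, h1, h2, h3, h4⟩ := hE.a7_std e oj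
  have := (hj.comm (a := c) (b := u * s)
    (hφ (by rw [map_mul, map_mul, h1, h4]; decide))
    (hφ (by simp only [map_mul, h1, h2, h3]; decide))
    (fun k => by apply_fun φ at k; rw [map_mul, map_one, h4] at k; revert k; decide)
    (fun k => by
      apply_fun φ at k; simp only [map_mul, map_one, h2, h3] at k; revert k; decide)).map φ
  rw [map_mul, h2, h3, h4] at this
  exact absurd this.eq (by decide)

end H3.Dg
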