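import Cfsg.Agent.H3.Dg0
import Cfsg.Agent.H5.GF
import Cfsg.Agent.H8.CT
import Cfsg.Agent.S3224
import Cfsg.Agent.H6.ZS
import Cfsg.Agent.H9.NormalCyc
import Cfsg.Agent.H17.FT

/-! Groups containing a subgroup of dihedral type which is the centralizer of each of its central
involutions. -/

set_option autoImplicit false
set_option linter.unusedSectionVars false

namespace H3.Dg

open Subgroup Cfsg
open scoped commutatorElement
open H10 (IsSylowIn)
open H5.Gd
open CF (img kerf)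
open GW.K6

universe u

/-- `G` maps onto `PSL₂(q)` or `PGL₂(q)` with kernel of order not divisible by four -/
def Out (G : Type u) [Group G] : Prop :=
  ∃ (Y : Type u) (_ : Group Y) (f : G →* Y), Function.Surjective f ∧ ¬ 4 ∣ Nat.card f.ker ∧ Res Y

variable {G : Type u} [Group G] [Finite G]

theorem Res.out (h : Res G) : Out G :=
  ⟨G, _, MonoidHom.id G, Function.surjective_id, by rw [MonoidHom.ker_id, card_bot]; decide, h⟩

theorem card_comap {X : Type*} [Group X] {f : G →* X} (hf : Function.Surjective f) (K : Subgroup X) :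
    Nat.card (K.comap f) = Nat.card K * Nat.card f.ker := by
  have := Finite.of_surjective f hf
  have h1 := (K.comap f).card_mul_index
  have h2 := f.ker.card_mul_index
  rw [index_comap_of_surjective K hf] at h1
  rw [index_ker, MonoidHom.range_eq_top.2 hf, card_top, ← K.card_mul_index] at h2
  refine Nat.eq_of_mul_eq_mul_right (Nat.pos_of_ne_zero K.index_ne_zero_of_finite) ?_
  rw [h1, ← h2]; ring

theorem Out.of_odd {X : Type u} [Group X] {f : G →* X} (hf : Function.Surjective f)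
    (ho : (Nat.card f.ker).Coprime 2) (h : Out X) : Out G := by
  obtain ⟨Y, _, g, h1, h2, h3⟩ := h
  refine ⟨Y, _, g.comp f, h1.comp hf, fun k => h2 ?_, h3⟩
  rw [← MonoidHom.comap_ker, card_comap hf] at k
  exact (Nat.Coprime.pow_left 2 ho.symm).dvd_of_dvd_mul_right k

theorem exists_step {Q : Subgroup G} {g : G} {k : ℕ} (hk : g ^ 2 ^ k = 1) (hg : g ∉ Q) :
    ∃ n : ℕ, g ^ n ∉ Q ∧ g ^ n * g ^ n ∈ Q := by
  induction k generalizing g with
  | zero => rw [pow_zero, pow_one] at hk; exact (hg (hk ▸ Q.one_mem)).elim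
  | succ k ih =>
    by_cases h : g ^ 2 ∈ Q
    · exact ⟨1, by rwa [pow_one], by rwa [pow_one, ← pow_two]⟩
    · obtain ⟨n, h1⟩ := ih (by rwa [← pow_mul, ← pow_succ']) h
      exact ⟨2 * n, by rwa [pow_mul]⟩

theorem mem_of_sq {N S : Subgroup G} [N.Normal] (hS : IsSylowIn 2 S ⊤) (h : S ≤ N) {x : G}
    (hx : x * x ∈ N) : x ∈ N := by
  have h1 : ¬ 2 ∣ Nat.card (G ⧸ N) := fun k => hS.not_dvd_relIndex (by
    rw [relIndex_top_right]; exact k.trans (index_dvd_of_le h))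
  rw [← QuotientGroup.eq_one_iff] at hx ⊢
  refine GW.l2_eq_one (Odd.of_dvd_nat (Nat.not_even_iff_odd.1 fun k => h1 k.two_dvd)
    (orderOf_dvd_natCard _)) hx

omit [Finite G] in
theorem solv_zpowers (x : G) : Group.IsSolvable (zpowers x) :=
  Group.isSolvable_of_comm (inferInstance : IsMulCommutative (zpowers x)).is_comm.comm

/-- `H` is of dihedral type and is the centralizer of each involution of `A` -/
structure DG (H A : Subgroup G) (t : G) : Prop where
  le : A ≤ H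
  tH : t ∈ H
  tA : t ∉ A
  out : ∀ x ∈ H, x ∉ A → x * x = 1
  idx : ∀ x ∈ H, x ∉ A → x * t ∈ A
  ex : ∃ j ∈ A, orderOf j = 2
  cen : ∀ j ∈ A, orderOf j = 2 → 𝒞₁(j) = H

namespace DG

variable {H A T : Subgroup G} {t : G} (h : DG H A t)
include h

theorem tt : t * t = 1 := h.out t h.tH h.tA

theorem inv {x a : G} (hx : x ∈ H) (xA : x ∉ A) (ha : a ∈ A) : x * a * x⁻¹ = a⁻¹ :=
  inv_of hx xA h.out ha (h.le ha)

theorem comm {a b : G} (ha : a ∈ A) (hb : b ∈ A) : Commute a b :=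
  comm_of h.tH h.tA h.out ha (h.le ha) hb (h.le hb)

theorem mul_mem {x y : G} (hx : x ∈ H) (hy : y ∈ H) (xA : x ∉ A) (yA : y ∉ A) : x * y ∈ A := by
  have := A.mul_mem (h.idx x hx xA) (A.inv_mem (h.idx y⁻¹ (H.inv_mem hy) (A.inv_mem_iff.not.2 yA)))
  simpa [mul_assoc] using this

theorem mem_H {j x : G} (hj : j ∈ A) (j2 : j * j = 1) (j1 : j ≠ 1) (hx : Commute x j) : x ∈ H :=
  h.cen j hj (orderOf_eq_prime (by rw [pow_two, j2]) j1) ▸ mem_centralizer_singleton_iff.2 hx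

theorem comm_H {j x : G} (hj : j ∈ A) (j2 : j * j = 1) (hx : x ∈ H) : Commute x j := by
  by_cases j1 : j = 1
  · exact j1 ▸ Commute.one_right x
  exact mem_centralizer_singleton_iff.1
    ((h.cen j hj (orderOf_eq_prime (by rw [pow_two, j2]) j1)).ge hx)

theorem sq_of_comm {x a : G} (hx : x ∈ H) (xA : x ∉ A) (ha : a ∈ A) (hc : Commute x a) :
    a * a = 1 := by
  have := h.inv hx xA ha
  rw [hc.eq, mul_inv_cancel_right] at this
  exact mul_eq_one_iff_eq_inv.2 this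

theorem dc {j : G} (hj : j ∈ A) (oj : orderOf j = 2) : DC j :=
  ⟨A, t, (h.cen j hj oj).ge h.tH, h.tA, fun x hx => h.out x ((h.cen j hj oj).le hx)⟩

theorem solv : Group.IsSolvable H := by
  refine H4.isSolvable_of_commutator_mem (U := A) (fun x hx y hy => ?_)
    (Group.isSolvable_of_comm fun a b => Subtype.ext (h.comm a.2 b.2))
  have n : ∀ g ∈ H, ∀ a ∈ A, g * a * g⁻¹ ∈ A := fun g hg a ha => by
    by_cases k : g ∈ A
    exacts [A.mul_mem (A.mul_mem k ha) (A.inv_mem k), h.inv hg k ha ▸ A.inv_mem ha]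
  by_cases k1 : y ∈ A
  · exact A.mul_mem (n x hx y k1) (A.inv_mem k1)
  by_cases k2 : x ∈ A
  · have := A.mul_mem k2 (n y hy _ (A.inv_mem k2))
    simpa only [mul_assoc, commutatorElement_def] using this
  · have := A.mul_mem (h.mul_mem hx hy k2 k1) (h.mul_mem (H.inv_mem hx) (H.inv_mem hy)
      (A.inv_mem_iff.not.2 k2) (A.inv_mem_iff.not.2 k1))
    simpa only [mul_assoc, commutatorElement_def] using this

theorem le_of_inv {K : Subgroup G} (hK : ∀ x, x * x = 1 → x ∈ K) : H ≤ K := by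
  obtain ⟨j, hj, oj⟩ := h.ex
  exact h.cen j hj oj ▸ (h.dc hj oj).le hK

theorem mem_T (hT : IsSylowIn 2 T H) {j : G} (hj : j ∈ A) (j2 : j * j = 1) : j ∈ T := by
  refine zpowers_le.1 (hT.le_of_le_NN (zf_pg j2) (zpowers_le.2 (h.le hj)) (zpowers_le.2 ?_))
  refine H10.mem_NN_of_conj_mem fun x hx => ?_
  rwa [← (h.comm_H hj j2 (hT.le hx)).eq, mul_inv_cancel_right]

theorem step (hT : IsSylowIn 2 T H) {S : Subgroup G} (hS : IsPGroup 2 S) (hlt : T < S) :
    ∃ s ∈ S, s ∉ H ∧ s ∈ 𝒩(T) ∧ s * s ∈ T := by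
  obtain ⟨x, hx, h1⟩ := SetLike.exists_of_lt (lt_inf_N hS hlt)
  obtain ⟨k, hk⟩ := hS ⟨x, hx.1⟩
  obtain ⟨n, h2, h3⟩ := exists_step (g := x) (k := k) (congrArg Subtype.val hk) h1
  refine ⟨x ^ n, pow_mem hx.1 n, fun k => h2 ?_, pow_mem hx.2 n, h3⟩
  exact (hT.eq_of_le (hS.to_inf_left (K := H)) (le_inf hlt.le hT.le) inf_le_right).le
    ⟨pow_mem hx.1 n, k⟩

theorem syl_of (hT : IsSylowIn 2 T H)
    (k : ∀ s, s ∉ H → s ∈ 𝒩(T) → s * s ∈ T → IsPGroup 2 (zpowers s) → False) :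
    IsSylowIn 2 T ⊤ := by
  refine ⟨le_top, hT.isPGroup, fun S hS h1 _ => by_contra fun h2 => ?_⟩
  obtain ⟨s, h3, h4, h5, h6⟩ := h.step hT hS (h1.lt_of_ne' h2)
  exact k s h4 h5 h6 (hS.to_le (zpowers_le.2 h3))

theorem syl_a (hT : IsSylowIn 2 T H) {a : G} (ha : a ∈ A) (aT : a ∈ T) (a2 : a * a ≠ 1) :
    IsSylowIn 2 T ⊤ := by
  refine h.syl_of hT fun s h1 h2 _ h4 => ?_
  obtain ⟨z, z1, z2, z3⟩ := H5.exists_central_of_isPGroup
    (h4.to_sup_of_normal_right' hT.isPGroup (zpowers_le.2 h2)) hT.isPGroup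
    (sup_le (zpowers_le.2 h2) le_normalizer) fun e => a2 (by rw [mem_bot.1 (e.le aT), mul_one])
  have zA : z ∈ A := by_contra fun k =>
    a2 (h.sq_of_comm (hT.le z1) k ha (z2 a (mem_sup_right aT)).symm)
  exact h1 (h.cen z zA z3 ▸ mem_centralizer_singleton_iff.2 (z2 s (mem_sup_left (mem_zpowers s))))

theorem sq_T (hT : IsSylowIn 2 T H) (k : ∀ a ∈ A, a ∈ T → a * a = 1) {x : G} (hx : x ∈ T) :
    x * x = 1 := by
  by_cases e : x ∈ A
  exacts [k x e hx, h.out x (hT.le hx) e]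

omit h [Finite G] in
theorem comm_sq {T : Subgroup G} (k : ∀ x ∈ T, x * x = 1) {x y : G} (hx : x ∈ T) (hy : y ∈ T) :
    Commute x y := by
  have := k _ (T.mul_mem hx hy)
  rw [mul_eq_one_iff_eq_inv, mul_inv_rev, inv_eq_of_mul_eq_one_left (k x hx),
    inv_eq_of_mul_eq_one_left (k y hy)] at this
  exact this

theorem syl_two (hT : IsSylowIn 2 T H) {i j : G} (hi : i ∈ A) (hj : j ∈ A) (h4 : H4.Four i j) :
    IsSylowIn 2 T ⊤ := by
  by_cases k : ∀ a ∈ A, a ∈ T → a * a = 1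
  swap
  · push Not at k
    obtain ⟨a, h1, h2, h3⟩ := k
    exact h.syl_a hT h1 h2 h3
  have k1 : ∀ x ∈ T, x * x = 1 := fun x => h.sq_T hT k
  refine h.syl_of hT fun s h1 h2 h3 _ => ?_
  have n : ∀ v ∈ T, s * v * s⁻¹ ∈ T := fun v hv => (mem_normalizer_iff.1 h2 v).1 hv
  have k2 : ∀ v ∈ A, orderOf v = 2 → v * (s * v * s⁻¹) ∈ H ∧ v * (s * v * s⁻¹) ∉ A := by
    intro v hv ov
    have v2 := H4.sq_of_ord2 ov
    have vT := h.mem_T hT hv v2
    have m := T.mul_mem vT (n v vT)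
    refine ⟨hT.le m, fun e => h1 ?_⟩
    by_cases e1 : v * (s * v * s⁻¹) = 1
    · refine h.cen v hv ov ▸ mem_centralizer_singleton_iff.2 ?_
      rw [mul_eq_one_iff_inv_eq, inv_eq_of_mul_eq_one_left v2] at e1
      rw [← mul_inv_eq_iff_eq_mul, ← e1]
    refine h.mem_H e (k1 _ m) e1 ?_
    have c1 := (comm_sq k1 h3 vT).eq
    have c2 := (comm_sq k1 vT (n v vT)).eq
    calc s * (v * (s * v * s⁻¹)) = s * v * s⁻¹ * (s * s * v) * s⁻¹ := by group
      _ = s * v * s⁻¹ * v * s := by rw [c1]; group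
      _ = _ := by rw [← c2]
  obtain ⟨a1, a2⟩ := k2 i hi h4.oa
  obtain ⟨b1, b2⟩ := k2 j hj h4.ob
  refine (k2 _ (A.mul_mem hi hj) h4.oab).2 ?_
  have := h.mul_mem a1 b1 a2 b2
  have iT := h.mem_T hT hi (H4.sq_of_ord2 h4.oa)
  have jT := h.mem_T hT hj (H4.sq_of_ord2 h4.ob)
  have c := (comm_sq k1 (n i iT) jT).eq
  convert this using 1
  calc i * j * (s * (i * j) * s⁻¹) = i * (j * (s * i * s⁻¹)) * (s * j * s⁻¹) := by group
    _ = _ := by rw [← c]; group

omit h in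
theorem solv_of {N S : Subgroup G} [N.Normal] (hS : IsSylowIn 2 S ⊤) (h : S ≤ N)
    (hN : Group.IsSolvable N) : Group.IsSolvable G := by
  have h1 : ¬ 2 ∣ Nat.card (G ⧸ N) := fun k => hS.not_dvd_relIndex (by
    rw [relIndex_top_right]; exact k.trans (index_dvd_of_le h))
  have := H17.odd_solvable (Nat.not_even_iff_odd.1 fun k => h1 k.two_dvd)
  exact Group.isSolvable_of_ker_le_range N.subtype (QuotientGroup.mk' N) (by simp)

omit h in
theorem mem_cent (hO : 𝒪((⊤ : Subgroup G)) = ⊥) {L : Subgroup G} {x : G} :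
    x ∈ H5.centMod L 𝒪((⊤ : Subgroup G)) ↔ x ∈ 𝒞(L) := by
  rw [mem_centMod_iff (mem_top x), hO, mem_centralizer_iff]
  exact forall₂_congr fun l _ => by
    rw [mem_bot, commutatorElement_eq_one_iff_mul_comm, eq_comm]

section
variable (hO : 𝒪((⊤ : Subgroup G)) = ⊥) {W L : Subgroup G} (m : Mem W ⊤ L)
include hO m

theorem eq_one {a : G} (ha : a ∈ A) (a2 : a * a = 1) (hc : a ∈ 𝒞(L)) : a = 1 := by
  by_contra a1
  have := h.solv
  exact m.not_solv (Group.isSolvable_of_isSolvable_injective (f := inclusion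
    (show L ≤ H from fun l hl => h.mem_H ha a2 a1 (hc l hl))) (inclusion_injective _))

omit h in
theorem mem_mB {b : G} : b ∈ mB W L ↔ b ∈ W ∧ b ∈ 𝒞(L) := by
  rw [m.mB_eq, mem_inf, mem_cent hO]

theorem card_mB (hW : W ≤ H) : Nat.card (mB W L) ≤ 2 := by
  have k : ∀ b ∈ mB W L, b ∈ A → b = 1 := fun b hb bA =>
    h.eq_one hO m bA (m.sc.sq (mB_le _ _ hb)) ((mem_mB hO m).1 hb).2
  rcases (mB W L).bot_or_exists_ne_one with e | ⟨x, hx, x1⟩
  · rw [e, card_bot]; omega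
  have x2 := m.sc.sq (mB_le _ _ hx)
  refine (card_le_of_le (show mB W L ≤ zpowers x from fun y hy => ?_)).trans
    (by rw [Nat.card_zpowers, orderOf_eq_prime (p := 2) (by rw [pow_two, x2]) x1])
  by_cases y1 : y = 1
  · exact y1 ▸ one_mem _
  have := k _ (Subgroup.mul_mem _ hx hy) (h.mul_mem (hW (mB_le _ _ hx)) (hW (mB_le _ _ hy))
    (fun e => x1 (k x hx e)) fun e => y1 (k y hy e))
  rw [eq_inv_of_mul_eq_one_right this]
  exact inv_mem (mem_zpowers x)

theorem normal (hW : W ≤ H) : L.Normal :=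
  normalizer_eq_top_iff.1 (top_unique
    (m.le_N_of_unique fun _ m' => m.unique_of_card (h.card_mB hO m hW) m'))

end

theorem caseII (hO : 𝒪((⊤ : Subgroup G)) = ⊥) (hT : IsSylowIn 2 T H) {i j a : G}
    (hi : i ∈ A) (hj : j ∈ A) (h4 : H4.Four i j) (ha : a ∈ A) (aT : a ∈ T) (a2 : a * a ≠ 1) :
    Group.IsSolvable G := by
  have hS := h.syl_a hT ha aT a2
  set W := A ⊓ 𝒞₁(t) with hW
  have mW : ∀ x, x ∈ W ↔ x ∈ A ∧ x * x = 1 := fun x => and_congr_right fun hx =>
    ⟨fun k => h.sq_of_comm h.tH h.tA hx (mem_centralizer_singleton_iff.1 k).symm,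
      fun k => mem_centralizer_singleton_iff.2 (h.comm_H hx k h.tH).symm⟩
  have WT : W ≤ T := fun x hx => h.mem_T hT hx.1 ((mW x).1 hx).2
  have HC : H ≤ 𝒞(W) := fun x hx w hw => (h.comm_H hw.1 ((mW w).1 hw).2 hx).symm
  have sc : SC W ⊤ := by
    refine sc_of_sylow hS WT ⟨⟨⟨fun x y => Subtype.ext (h.comm x.2.1 y.2.1)⟩⟩,
      fun x hx => by rw [pow_two, ((mW x).1 hx).2]⟩ fun x hx g _ hg => ?_
    obtain ⟨xA, x2⟩ := (mW x).1 hx
    have g2 : g * x * g⁻¹ * (g * x * g⁻¹) = 1 := by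
      calc _ = g * (x * x) * g⁻¹ := by group
        _ = 1 := by rw [x2]; group
    refine (mW _).2 ⟨by_contra fun k => ?_, g2⟩
    have x1 : x ≠ 1 := fun e => k (by rw [e]; simp)
    have k1 : ∀ v ∈ A, v * v = 1 → g⁻¹ * v * g ∈ H := fun v hv v2 => h.mem_H xA x2 x1 (by
      have := (h.comm_H hv v2 (hT.le hg)).eq
      calc g⁻¹ * v * g * x = g⁻¹ * (v * (g * x * g⁻¹)) * g := by group
        _ = _ := by rw [← this]; group)
    obtain ⟨v, hv, ov, vA⟩ : ∃ v ∈ A, orderOf v = 2 ∧ g⁻¹ * v * g ∈ A := by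
      by_contra! k2
      refine k2 _ (A.mul_mem hi hj) h4.oab ?_
      have := h.mul_mem (k1 i hi (H4.sq_of_ord2 h4.oa)) (k1 j hj (H4.sq_of_ord2 h4.ob))
        (k2 i hi h4.oa) (k2 j hj h4.ob)
      simpa only [mul_assoc, mul_inv_cancel_left] using this
    have o2 : orderOf (g⁻¹ * v * g) = 2 := by simpa [ov] using ord_conj g⁻¹ v
    have a3 : g⁻¹ * a * g ∈ H := h.cen _ vA o2 ▸ mem_centralizer_singleton_iff.2 (by
      have := (h.comm ha hv).eq
      calc _ = g⁻¹ * (a * v) * g := by group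
        _ = _ := by rw [this]; group)
    refine a2 (h.sq_of_comm (hT.le hg) k ha ?_)
    have := (h.comm_H xA x2 a3).eq
    calc g * x * g⁻¹ * a = g * (x * (g⁻¹ * a * g)) * g⁻¹ := by group
      _ = _ := by rw [← this]; group
  have iW := (mW i).2 ⟨hi, H4.sq_of_ord2 h4.oa⟩
  by_contra hs
  obtain ⟨L, m⟩ : ∃ L, Mem W ⊤ L := by
    by_contra! k
    have : W.Normal := normalizer_eq_top_iff.1 (top_unique
      (sc.gen (good _) (hO ▸ bot_le) (fun L m => (k L m).elim) inf_le_right))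
    have e : 𝒞(W) = H := le_antisymm
      (fun x hx => h.cen i hi h4.oa ▸ mem_centralizer_singleton_iff.2 (hx i iW).symm) HC
    have : H.Normal := e ▸ inferInstance
    exact hs (solv_of hS hT.le h.solv)
  have := h.normal hO m (WT.trans hT.le)
  have kT : ∀ x ∈ T, x ∈ 𝒞(L) → x = 1 := by
    by_contra! k
    obtain ⟨x, x1, x2, x3⟩ := k
    obtain ⟨z, z1, z2, z3⟩ := H5.exists_central_of_isPGroup hT.isPGroup
      (hT.isPGroup.to_inf_left (K := 𝒞(L)))
      (H16.le_norm_iff.2 fun g hg y hy => ⟨T.mul_mem (T.mul_mem hg hy.1) (T.inv_mem hg),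
        Normal.conj_mem inferInstance y hy.2 g⟩) fun e => x3 (mem_bot.1 (e.le ⟨x1, x2⟩))
    have zA : z ∈ A := by_contra fun k => a2 (h.sq_of_comm (hT.le z1.1) k ha (z2 a aT).symm)
    rw [h.eq_one hO m zA (H4.sq_of_ord2 z3) z1.2, orderOf_one] at z3
    exact absurd z3 (by decide)
  rcases m.ty with ty | ty
  swap
  · have := m.d5 ty hT.isPGroup WT (le_inf le_top (hT.le.trans HC))
    refine a2 ((mW a).1 ((sup_le inf_le_left fun x hx => ?_ : _ ≤ W) (this aT))).2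
    rw [kT x hx.1 ((mem_cent hO).1 hx.2)]; exact one_mem W
  obtain ⟨Y, _, _, f, b⟩ := exists_bar m.comp
  have D : ∀ x, x ∈ ⊤ ⊓ 𝒩(L) := fun x => ⟨mem_top x, le_normalizer_of_normal (mem_top x)⟩
  have := b.as.normal
  have hQ := (sylow_img b.surj (hS.of_le (fun x _ => D x) le_top)).inf_normal (N := img f L) le_top
    le_normalizer_of_normal
  obtain ⟨K, bf⟩ := m.bar_bf b ty hQ (le_inf (CF.img_mono f WT) (m.img_le b))
  have k : ∀ x ∈ T, pr f x ∈ img f W → x ∈ W := fun x hx k => by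
    obtain ⟨w, hw, -, e⟩ := mem_img' f k
    have := kT _ (T.mul_mem (T.inv_mem (WT hw)) hx) ((mem_cent hO).1
      ((b.pr_eq_one (D _)).1 (by rw [pr_mul f (D _) (D _), pr_inv f (D _), e, inv_mul_cancel])))
    rwa [← inv_mul_eq_one.1 this]
  refine a2 ((mW a).1 (k a aT (bf.b2 fun q hq => ?_))).2
  obtain ⟨x, hx, -, rfl⟩ := mem_img' f hq.1
  refine pr_commute f (D _) (D _) (h.comm (by_contra fun xA => xA (k x hx ?_).1) ha)
  exact (bf.inv _).2 ⟨hq, by rw [← pr_mul f (D _) (D _), h.out x (hT.le hx) xA, pr_one]⟩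

theorem caseI (hO : 𝒪((⊤ : Subgroup G)) = ⊥) (hs : ¬ Group.IsSolvable G) (hT : IsSylowIn 2 T H)
    (hS : IsSylowIn 2 T ⊤) (k1 : ∀ x ∈ T, x * x = 1) : Out G := by
  have ab : IsMulCommutative T := ⟨⟨fun x y => Subtype.ext (comm_sq k1 x.2 y.2)⟩⟩
  have sc : SC T ⊤ := sc_of_sylow hS le_rfl ⟨ab, fun x hx => by rw [pow_two, k1 x hx]⟩
    fun _ _ _ _ k => k
  obtain ⟨L, m⟩ : ∃ L, Mem T ⊤ L := by
    by_contra! k
    have : T.Normal := normalizer_eq_top_iff.1 (top_unique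
      (sc.gen (good _) (hO ▸ bot_le) (fun L m => (k L m).elim) inf_le_right))
    exact hs (solv_of hS le_rfl (Group.isSolvable_of_comm ab.is_comm.comm))
  have := h.normal hO m hT.le
  have cB := h.card_mB hO m hT.le
  obtain ⟨j, hj, oj⟩ := h.ex
  have j2 := H4.sq_of_ord2 oj
  have jT := h.mem_T hT hj j2
  have jB : j ∉ mB T L := fun k => by
    rw [h.eq_one hO m hj j2 ((mem_mB hO m).1 k).2, orderOf_one] at oj
    exact absurd oj (by decide)
  have TN : T ≤ L ⊔ 𝒞(L) := m.sup.ge.trans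
    (sup_le_sup inf_le_right fun x hx => ((mem_mB hO m).1 hx).2)
  have top : L ⊔ 𝒞(L) = ⊤ := by
    obtain ⟨ρ, cd⟩ := m.cd
    refine top_unique (((hS.of_le TN le_top).frattini_sup le_top le_normalizer_of_normal).ge.trans
      (sup_le le_rfl fun g hg => ?_))
    have nB : ∀ g ∈ 𝒩(T), g ∈ 𝒞(mB T L) := fun g hg => N_le_C_of_two cB
      (H10.mem_NN_of_conj_mem fun x hx => (mem_mB hO m).2
        ⟨(mem_normalizer_iff.1 hg x).1 (mB_le _ _ hx),
          Normal.conj_mem inferInstance x ((mem_mB hO m).1 hx).2 g⟩)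
    have gT := (mem_normalizer_iff.1 hg.2 j).1 jT
    obtain ⟨n, hn⟩ := cd.tr _ gT (fun k => jB (by
      have := (nB g hg.2 _ k)
      rwa [show g * j * g⁻¹ = j from mul_left_cancel (a := g) (by rw [← this]; group)] at k)) j jT jB
    have hρ := pow_mem cd.mem n
    set r := ρ ^ n
    have c1 := nB _ (Subgroup.mul_mem _ hρ.2 hg.2) _ hn
    have c2 := k1 _ (mB_le _ _ hn)
    set b := r * (g * j * g⁻¹) * r⁻¹ * j with hb
    have c3 : r * g * j = b * j * (r * g) := by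
      rw [hb, mul_assoc _ j j, j2]; group
    have : r * g ∈ L ⊔ 𝒞(L) := by
      refine mem_of_sq hS TN (h.le_of_inv (fun x hx => mem_of_sq hS TN (hx ▸ one_mem _))
        (h.mem_H hj j2 (fun e => jB (e ▸ one_mem _)) ?_))
      clear_value b
      calc r * g * (r * g) * j = r * g * (b * j * (r * g)) := by rw [← c3]; group
        _ = r * g * b * j * (r * g) := by group
        _ = b * (r * g * j) * (r * g) := by rw [← c1]; group
        _ = b * b * j * (r * g) * (r * g) := by rw [c3]; group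
        _ = _ := by rw [c2]; group
    simpa using Subgroup.mul_mem _ (inv_mem (mem_sup_left hρ.1)) this
  obtain ⟨Y, _, _, f, b⟩ := exists_bar m.comp
  have D : ∀ x, x ∈ ⊤ ⊓ 𝒩(L) := fun x => ⟨mem_top x, le_normalizer_of_normal (mem_top x)⟩
  let φ : G →* Y := MonoidHom.mk' (pr f) fun x y => pr_mul f (D x) (D y)
  have kφ : φ.ker = 𝒞(L) := ext fun x => (b.pr_eq_one (D x)).trans (mem_cent hO)
  have E : img f L = ⊤ := by
    refine (eq_top_iff' _).2 fun y => ?_
    obtain ⟨x, rfl⟩ := b.surj y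
    rw [← pr_coe]
    refine pr_mem_img_of_sup f (fun x _ => D x) ?_
    rw [b.ker]
    exact (sup_le_sup_left (fun x hx => ⟨mem_top x, (mem_cent hO).2 hx⟩) L) (top.ge (mem_top _))
  refine ⟨Y, _, φ, fun y => ?_, fun k => ?_, ?_⟩
  · obtain ⟨x, rfl⟩ := b.surj y
    exact ⟨x, pr_coe f x⟩
  · have h1 := hS.inf_normal (N := 𝒞(L)) le_top le_normalizer_of_normal
    have h2 : T ⊓ 𝒞(L) = mB T L := ext fun x => (mem_mB hO m).symm
    rw [h2] at h1
    rw [kφ, ← H10.card_mul_relIndex h1.le] at k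
    have h3 := (Nat.Coprime.pow_left 2 ((Nat.Prime.coprime_iff_not_dvd Nat.prime_two).2
      h1.not_dvd_relIndex)).dvd_of_dvd_mul_right k
    have := Nat.le_of_dvd Nat.card_pos h3
    omega
  have e : Y ≃* img f L := topEquiv.symm.trans (MulEquiv.subgroupCongr E.symm)
  have oj' := m.pr_ord b jT jB
  rcases m.ty with ty | ty | ty
  · obtain ⟨Q, hQ, h1⟩ := m.bar_exists b
    obtain ⟨K, bf⟩ := m.bar_bf b ty hQ h1
    obtain rfl : Q = img f T := (sylow_img b.surj (hS.of_le (fun x _ => D x) le_top)).eq_of_le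
      hQ.isPGroup h1 le_top
    have jV := pr_mem_img f jT (D j)
    have j1 : pr f j ≠ 1 := fun k => by rw [k, orderOf_one] at oj'; exact absurd oj' (by decide)
    have hs := e.isSimpleGroup_congr.2 b.as.simple
    have ab' : IsMulCommutative (img f T) := le_centralizer_iff_isMulCommutative.1 bf.cen
    have cc : H8.CCH (img f T) := by
      refine ⟨⟨_, jV, j1, fun a ha => bf.cen jV a ha⟩, fun a ha a1 c hc => bf.b2 (bf.c1 a ha a1
        ⟨E.ge (mem_top c), mem_centralizer_singleton_iff.2 hc⟩), fun k => ?_, _, jV, ?_⟩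
      · rcases k.eq_bot_or_eq_top with k | k
        · exact j1 (mem_bot.1 (k.le jV))
        · exact b.as.nab ⟨⟨fun x y => Subtype.ext (bf.cen (k.ge (mem_top _)) _ (k.ge (mem_top _)))⟩⟩
      by_contra! k
      have : img f T ≤ zpowers (pr f j) := fun v hv => by
        by_cases v1 : v = 1
        · exact v1 ▸ one_mem _
        · exact k v hv oj' (orderOf_eq_prime (by rw [pow_two, ((bf.inv v).1 hv).2]) v1) ▸
            mem_zpowers _
      have := bf.four.trans (card_le_of_le this)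
      rw [Nat.card_zpowers, oj'] at this
      omega
    obtain ⟨F, _, _, n, h2, h3, -, e'⟩ := cc.iso_psl ab'
    exact ⟨F, _, _, h3 ▸ lt_of_lt_of_le (by norm_num) (Nat.pow_le_pow_right two_pos h2), Or.inl e'⟩
  · obtain ⟨-, F, _, _, -, h2, ⟨e'⟩⟩ := b.td.1 ty
    exact ⟨F, _, _, h2, Or.inl ⟨e.trans e'⟩⟩
  · obtain ⟨L', h1, -, h2, h3, -⟩ := b.as.r_comp (b.tr.1 ty) (E.ge (mem_top _)) oj'
    have h4 := m.img_cent b (Or.inr ty) (zpowers_le.2 jT)
    rw [img_zpowers f (D j), zpowers_eq_closure, zpowers_eq_closure, centralizer_closure,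
      centralizer_closure, h.cen j hj oj] at h4
    have := h.solv
    have := Group.isSolvable_of_surjective (CF.imgHom_surjective f (H := H) fun x _ => D x)
    have : Group.IsSolvable L' := Group.isSolvable_of_isSolvable_injective (f := inclusion
      (h1.trans (h4.ge.trans (CF.img_mono f inf_le_right)))) (inclusion_injective _)
    exact (h3 ⟨⟨IsSimpleGroup.comm_iff_isSolvable.2 this⟩⟩).elim

theorem caseIII (hO : pPrimeCore 2 G = ⊥) (hs : ¬ Group.IsSolvable G) (hT : IsSylowIn 2 T H)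
    (tT : t ∈ T) {j : G} (hj : j ∈ A) (oj : orderOf j = 2)
    (hu : ∀ i ∈ A, orderOf i = 2 → i = j) : Out G := by
  have j2 := H4.sq_of_ord2 oj
  have jT := h.mem_T hT hj j2
  have k1 : ∀ a ∈ A, a * a = 1 → a = 1 ∨ a = j := fun a ha a2 => or_iff_not_imp_left.2 fun a1 =>
    hu a ha (orderOf_eq_prime (by rw [pow_two, a2]) a1)
  by_cases hS : IsSylowIn 2 T ⊤
  · refine (res_of_dih (GW.Q8.dih_of_sylow hS ?_) hO hs oj (h.dc hj oj)).out
    have hc : IsCyclic ((T ⊓ A).subgroupOf T) := H9.isCyclic_of_abelian_unique hT.isPGroup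
      ⟨⟨fun a b => Subtype.ext (Subtype.ext (h.comm a.2.2 b.2.2))⟩⟩ fun x hx y hy ox y2 => by
        have e := hu x hx.2 ((orderOf_coe x).trans ox)
        rcases k1 y hy.2 (by rw [← pow_two]; exact congrArg Subtype.val y2) with k | k
        · exact (show y = 1 from Subtype.ext k) ▸ one_mem _
        · exact (show y = x from Subtype.ext (k.trans e.symm)) ▸ mem_zpowers _
    obtain ⟨x, hx, e⟩ := GW.Q8.exists_le_zpowers
      ((subgroupOfEquivOfLe (inf_le_left : T ⊓ A ≤ T)).isCyclic.1 hc)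
    refine Or.inr ⟨x, t, h.tt, h.inv h.tH h.tA hx.2, fun g hg => ?_⟩
    by_cases gA : g ∈ A
    · obtain ⟨i, hi⟩ := e.le ⟨hg, gA⟩
      exact ⟨i, Or.inl hi.symm⟩
    · obtain ⟨i, hi⟩ := e.le ⟨T.mul_mem hg tT, h.idx g (hT.le hg) gA⟩
      exact ⟨i, Or.inr (by rw [show x ^ i = g * t from hi, mul_assoc, h.tt, mul_one])⟩
  have k2 : ∀ a ∈ A, a ∈ T → a * a = 1 := fun a ha aT => by_contra fun k => hS (h.syl_a hT ha aT k)
  have h4 : H4.Four j t := ⟨oj, orderOf_eq_prime (by rw [pow_two, h.tt]) fun e => h.tA (e ▸ one_mem A),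
    fun e => h.tA (e ▸ hj), (h.comm_H hj j2 h.tH).symm⟩
  have eT : T = H4.V4 j t := by
    refine le_antisymm (fun x hx => h4.mem.2 ?_) ((closure_le T).2 ?_)
    · by_cases xA : x ∈ A
      · exact (k1 x xA (k2 x xA hx)).imp_right Or.inl
      have h1 := h.idx x (hT.le hx) xA
      refine Or.inr (Or.inr ((k1 _ h1 (k2 _ h1 (T.mul_mem hx tT))).imp (fun e => ?_) fun e => ?_))
      · rw [eq_inv_of_mul_eq_one_left e, inv_eq_of_mul_eq_one_left h.tt]
      · rw [← e, mul_assoc, h.tt, mul_one]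
    · rintro _ (rfl | rfl)
      exacts [jT, tT]
  obtain ⟨S, hle⟩ := hT.isPGroup.exists_le_sylow
  have SH : (S : Subgroup G) ⊓ H = T :=
    hT.eq_of_le S.isPGroup'.to_inf_left (le_inf hle hT.le) inf_le_right
  have nS : ¬ (S : Subgroup G) ≤ H := fun k =>
    hS (by rw [← SH, inf_eq_left.2 k]; exact H10.isSylowIn_top S)
  have c4 : Nat.card T = 4 := eT ▸ h4.card
  rcases Cfsg.Agent.S3224.result S.isPGroup' ⟨j, hle jT⟩ ((orderOf_coe _).symm.trans oj) (by
    rw [← c4, ← Nat.card_congr (subgroupOfEquivOfLe hle).toEquiv]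
    congr 2
    ext x
    rw [mem_subgroupOf, ← SH, ← h.cen j hj oj, mem_inf, and_iff_right x.2,
      mem_centralizer_singleton_iff, mem_centralizer_singleton_iff, Subtype.ext_iff]
    rfl) with ⟨n, ⟨e⟩⟩ | q | c
  · exact (res_of_dih (GW.dih_of_sylow S e) hO hs oj (h.dc hj oj)).out
  swap
  · exact (nS ((eq_of_le_of_card_ge hle (c.trans c4.symm).le).ge.trans hT.le)).elim
  obtain ⟨k, x, y, q⟩ := H6.qd_sub q
  obtain ⟨z, zS, zz, oz, zcomm, zconj, zord⟩ : ∃ z ∈ (S : Subgroup G), z * z = 1 ∧ orderOf z = 2 ∧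
      (∀ g ∈ (S : Subgroup G), Commute g z) ∧ y * x * y⁻¹ = z * x⁻¹ ∧
      ∀ g ∈ (S : Subgroup G), orderOf g = 2 → g = z ∨ ∃ c : ℤ, g = x ^ (2 * c) * y :=
    ⟨_, q.xS _, q.zz, q.ord_z, fun g => q.z_comm, q.conj.trans (zpow_sub_one _ _),
      fun g => q.of_ord2⟩
  have nc : ∀ g, g * z * g⁻¹ ≠ j := fun g e => by
    have h1 : H10.cj g S ≤ H := fun s hs => by
      obtain ⟨s, hs, rfl⟩ := hs
      refine h.cen j hj oj ▸ mem_centralizer_singleton_iff.2 ?_
      have := (zcomm s hs).eq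
      rw [← e]
      calc g * s * g⁻¹ * (g * z * g⁻¹) = g * (s * z) * g⁻¹ := by group
        _ = _ := by rw [this]; simp [mul_assoc]
    have h2 := (H10.isSylowIn_top S).cj_top g
    exact hS (H10.isSylowIn_of_card_ge h2 hT.isPGroup le_top (hT.card_le h2.isPGroup h1))
  obtain ⟨s, -, hs'⟩ : ∃ s ∈ (S : Subgroup G), s * y * s⁻¹ = j := by
    rcases zord j (hle jT) oj with e | ⟨c, e⟩
    · exact (nc 1 (by simpa using e.symm)).elim
    · exact e ▸ q.isConj_even c
  have zc : ∀ g, g * z * g⁻¹ = z := fun g => by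
    have := H6.zstar2 (S := S) (x := z) ⟨zS, fun g hg => ?_⟩ g
    · rwa [hO, mem_bot, mul_inv_eq_one] at this
    rcases zord _ hg ((ord_conj g z).trans oz) with e | ⟨c, e⟩
    · exact e
    obtain ⟨r, -, hr⟩ := q.isConj_even c
    refine (nc (s * r⁻¹ * g) ?_).elim
    rw [← hs']
    calc _ = s * r⁻¹ * (g * z * g⁻¹) * r * s⁻¹ := by group
      _ = _ := by rw [e, ← hr]; group
  have zc' : ∀ g, Commute g z := fun g => mul_inv_eq_iff_eq_mul.1 (zc g)
  have zH : z ∈ H := h.cen j hj oj ▸ mem_centralizer_singleton_iff.2 (zc' j).symm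
  have zA : z ∉ A := fun e => nc 1 (by simpa using hu z e oz)
  have HH : ∀ g ∈ H, g * g = 1 := fun g hg => by
    by_cases gA : g ∈ A
    exacts [h.sq_of_comm zH zA gA (zc' g).symm, h.out g hg gA]
  have : (zpowers z).Normal := ⟨fun a ha g => by
    rw [(zpowers_le.2 (mem_centralizer_singleton_iff.2 (zc' g).symm) ha g rfl), mul_inv_cancel_right]
    exact ha⟩
  let π := QuotientGroup.mk' (zpowers z)
  have πs : Function.Surjective π := QuotientGroup.mk'_surjective _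
  have πk : π.ker = zpowers z := QuotientGroup.ker_mk' _
  have π1 : ∀ g, π g = 1 ↔ g = 1 ∨ g = z := fun g => by
    rw [← MonoidHom.mem_ker, πk]
    exact ⟨H5.mem_zpowers_two zz, fun e => e.elim (· ▸ one_mem _) (· ▸ mem_zpowers z)⟩
  have j1 : π j ≠ 1 := fun e => ((π1 j).1 e).elim (fun e => h4.ne.elim (by
    rw [e, orderOf_one] at oj; exact absurd oj (by decide))) fun e => zA (e ▸ hj)
  refine ⟨_, _, π, πs, by rw [πk, Nat.card_zpowers, oz]; decide, res_of_dih
    (GW.Q8.dih_of_sylow ((H10.isSylowIn_top S).map_top πs) (Or.inr ⟨π x, π y, ?_, ?_, ?_⟩))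
    (GW.Q8.core_quot hO π πs (by rw [πk]; exact zf_pg zz) (by rw [πk]; infer_instance)) (fun e => hs ?_) (j := π j)
    (orderOf_eq_prime (by rw [pow_two, ← map_mul, j2, map_one]) j1)
    ⟨⊥, π j, mem_centralizer_singleton_iff.2 rfl, j1, fun g hg _ => ?_⟩⟩
  · rw [← map_mul, q.yy, map_one]
  · rw [← map_inv, ← map_mul, ← map_mul, zconj, map_mul, (π1 _).2 (Or.inr rfl),
      one_mul, map_inv]
  · rintro _ ⟨g, hg, rfl⟩
    obtain ⟨i, e | e⟩ := (q.mem g).1 hg
    exacts [⟨i, Or.inl (by rw [e, map_zpow])⟩, ⟨i, Or.inr (by rw [e, map_mul, map_zpow])⟩]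
  · have : Group.IsSolvable (zpowers z) := solv_zpowers _
    exact Group.isSolvable_of_ker_le_range (zpowers z).subtype π (by rw [πk, range_subtype])
  obtain ⟨g, rfl⟩ := πs g
  rw [← map_mul]
  by_cases gH : g ∈ H
  · rw [HH g gH, map_one]
  have j1' : j ≠ 1 := fun e => j1 (by rw [e, map_one])
  have e : g * j = z * j * g := by
    rcases (π1 (g * j * (j * g)⁻¹)).1 (by
      rw [map_mul, map_inv, map_mul, map_mul, mem_centralizer_singleton_iff.1 hg, mul_inv_cancel])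
      with e | e
    · exact (gH (h.mem_H hj j2 j1' (mul_inv_eq_one.1 e))).elim
    · rw [mul_assoc, ← e, inv_mul_cancel_right]
  have g2 : g * g ∈ H := h.mem_H hj j2 j1' (by
    calc g * g * j = g * z * j * g := by rw [mul_assoc, e]; group
      _ = z * (g * j) * g := by rw [(zc' g).eq]; group
      _ = _ := by rw [e, ← mul_assoc, ← mul_assoc, zz]; group)
  have k3 : ∀ a ∈ A, a = 1 ∨ a = j := fun a ha => k1 a ha (HH a (h.le ha))
  by_cases g3 : g * g ∈ A
  · rcases k3 _ g3 with e1 | e1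
    · rw [e1, map_one]
    · exact (gH (h.mem_H hj j2 j1' (e1 ▸ (Commute.refl g).mul_right (Commute.refl g)))).elim
  rcases k3 _ (h.mul_mem g2 zH g3 zA) with e1 | e1
  · rw [eq_inv_of_mul_eq_one_left e1, map_inv, (π1 _).2 (Or.inr rfl), inv_one]
  · exact (gH (h.mem_H hj j2 j1'
      (e1 ▸ ((Commute.refl g).mul_right (Commute.refl g)).mul_right (zc' g)))).elim

theorem core (hO : pPrimeCore 2 G = ⊥) (hs : ¬ Group.IsSolvable G) : Out G := by
  have hO' : 𝒪((⊤ : Subgroup G)) = ⊥ := (H5.oppOf_top 2).trans hO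
  obtain ⟨T, hT, tT⟩ := H10.exists_isSylowIn_ge (zf_pg h.tt) (zpowers_le.2 h.tH)
  rw [zpowers_le] at tT
  obtain ⟨j, hj, oj⟩ := h.ex
  by_cases hu : ∀ i ∈ A, orderOf i = 2 → i = j
  · exact h.caseIII hO hs hT tT hj oj hu
  push Not at hu
  obtain ⟨i, hi, oi, ne⟩ := hu
  have h4 : H4.Four i j := ⟨oi, oj, ne, h.comm hi hj⟩
  by_cases k : ∀ a ∈ A, a ∈ T → a * a = 1
  · exact h.caseI hO' hs hT (h.syl_two hT hi hj h4) fun x => h.sq_T hT k
  push Not at k
  obtain ⟨a, h1, h2, h3⟩ := k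
  exact (hs (h.caseII hO' hT hi hj h4 h1 h2 h3)).elim

theorem map {X : Type u} [Group X] [Finite X] {f : G →* X} (hf : Function.Surjective f)
    (ho : (Nat.card f.ker).Coprime 2) : DG (H.map f) (A.map f) (f t) := by
  have k : ∀ x, f x = 1 → x * x = 1 → x = 1 := fun x h1 h2 =>
    GW.l2_eq_one (odd_of_mem ho h1) h2
  have k1 : ∀ x ∈ H, f x ∈ A.map f → x ∈ A := by
    rintro x hx ⟨a, ha, e⟩
    by_contra xA
    have h1 : a⁻¹ * x ∉ A := fun e => xA (by simpa using A.mul_mem ha e)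
    exact h1 (k _ (by rw [map_mul, map_inv, e, inv_mul_cancel])
      (h.out _ (H.mul_mem (H.inv_mem (h.le ha)) hx) h1) ▸ one_mem A)
  refine ⟨map_mono h.le, mem_map_of_mem f h.tH, fun e => h.tA (k1 t h.tH e), ?_, ?_, ?_, ?_⟩
  · rintro _ ⟨x, hx, rfl⟩ e
    rw [← map_mul, h.out x hx fun k => e (mem_map_of_mem f k), map_one]
  · rintro _ ⟨x, hx, rfl⟩ e
    exact map_mul f x t ▸ mem_map_of_mem f (h.idx x hx fun k => e (mem_map_of_mem f k))
  · obtain ⟨j, hj, oj⟩ := h.ex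
    refine ⟨f j, mem_map_of_mem f hj, orderOf_eq_prime ?_ fun e => ?_⟩
    · rw [pow_two, ← map_mul, H4.sq_of_ord2 oj, map_one]
    · rw [k j e (H4.sq_of_ord2 oj), orderOf_one] at oj
      exact absurd oj (by decide)
  · rintro _ ⟨a, ha, rfl⟩ oa
    have a2 := H4.sq_of_ord2 oa
    have ho' := odd_of_mem ho (show a * a ∈ f.ker by rw [MonoidHom.mem_ker, map_mul, a2])
    obtain ⟨n, hn⟩ := ho'
    have e1 : f (a ^ orderOf (a * a)) = f a := by
      rw [hn, map_pow, pow_succ, pow_mul, pow_two, a2, one_pow, one_mul]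
    have o1 : orderOf (a ^ orderOf (a * a)) = 2 := orderOf_eq_prime
      (by rw [← pow_mul, mul_comm, pow_mul, pow_two, pow_orderOf_eq_one]) fun e => by
        rw [← e1, e, map_one, orderOf_one] at oa; exact absurd oa (by decide)
    have := H1.map_centralizer_of_surjective hf (A := zpowers (a ^ orderOf (a * a)))
      (by rw [Nat.card_zpowers, o1]; exact ho.symm)
      (Or.inl (solv_zpowers _))
    rw [MonoidHom.map_zpowers, zpowers_eq_closure, zpowers_eq_closure, centralizer_closure,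
      centralizer_closure, h.cen _ (A.pow_mem ha _) o1, e1] at this
    exact this.symm

theorem main (hs : ¬ Group.IsSolvable G) : Out G := by
  have ho : (Nat.card (QuotientGroup.mk' (pPrimeCore 2 G)).ker).Coprime 2 := by
    rw [QuotientGroup.ker_mk']; exact H1.coprime_card_pPrimeCore 2
  refine Out.of_odd (QuotientGroup.mk'_surjective _) ho
    ((h.map (QuotientGroup.mk'_surjective _) ho).core (H1.pPrimeCore_quotient_pPrimeCore 2)
      fun e => hs ?_)
  have := H17.odd_solvable (Nat.coprime_two_right.1 ho)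
  exact Group.isSolvable_of_ker_le_range (QuotientGroup.mk' (pPrimeCore 2 G)).ker.subtype
    (QuotientGroup.mk' (pPrimeCore 2 G)) (by simp)

end DG

theorem exists_dg {H A : Subgroup G} (hAH : A < H) (hD : ∀ x ∈ H, x ∉ A → x * x = 1)
    (h4 : 4 ∣ Nat.card H)
    (hC : ∀ j ∈ H, orderOf j = 2 → (∀ h ∈ H, h * j = j * h) → 𝒞₁(j) = H) : ∃ B t, DG H B t := by
  by_cases h2 : ∀ x ∈ H, x * x = 1
  · obtain ⟨n, hn⟩ := IsPGroup.iff_card.1 (show IsPGroup 2 H from fun x =>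
      ⟨1, Subtype.ext (by rw [pow_one, coe_pow, pow_two, h2 x x.2]; rfl)⟩)
    obtain ⟨m, rfl⟩ : ∃ m, n = m + 2 := ⟨n - 2, by
      have := (Nat.pow_dvd_pow_iff_le_right one_lt_two).1 (show 2 ^ 2 ∣ 2 ^ n from hn ▸ h4)
      omega⟩
    obtain ⟨K, hK⟩ := Sylow.exists_subgroup_card_pow_prime (G := H) 2 (n := m + 1)
      (hn ▸ pow_dvd_pow 2 (by omega))
    have hi : K.index = 2 := by
      have := K.card_mul_index
      rw [hK, hn, pow_succ 2 (m + 1)] at this
      exact Nat.eq_of_mul_eq_mul_left (by positivity) this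
    obtain ⟨t, ht, -⟩ := index_eq_two_iff_exists_notMem_and.1 hi
    have k : ∀ x : H, (x : G) ∈ K.map H.subtype ↔ x ∈ K := fun x =>
      mem_map_iff_mem H.subtype_injective
    obtain ⟨j, hj, oj⟩ := H10.exists_orderOf_eq_of_dvd (p := 2) (L := K)
      (hK ▸ dvd_pow_self 2 (by omega))
    exact ⟨K.map H.subtype, t, map_subtype_le K, t.2, (k t).not.2 ht, fun x hx _ => h2 x hx,
      fun x hx e => (k (⟨x, hx⟩ * t)).2 ((mul_mem_iff_of_index_two hi).2
        (iff_of_false ((k _).not.1 e) ht)), ⟨j, (k j).2 hj, (orderOf_coe j).trans oj⟩,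
      fun j hj oj => hC j (map_subtype_le K hj) oj fun x hx =>
        DG.comm_sq h2 hx (map_subtype_le K hj)⟩
  push Not at h2
  obtain ⟨a, aH, a2⟩ := h2
  have aA : a ∈ A := by_contra fun k => a2 (hD a aH k)
  obtain ⟨t, tH, tA⟩ := SetLike.exists_of_lt hAH
  have idx : ∀ x ∈ H, x ∉ A → x * t ∈ A := fun x hx xA => by_contra fun k => a2 (by
    have h1 := inv_of (H.mul_mem hx tH) k hD aA aH
    have h2 : x * t * a * (x * t)⁻¹ = x * (t * a * t⁻¹) * x⁻¹ := by group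
    rw [h2, inv_of tH tA hD aA aH, inv_of hx xA hD (A.inv_mem aA) (H.inv_mem aH), inv_inv] at h1
    exact mul_eq_one_iff_eq_inv.2 h1)
  refine ⟨A, t, hAH.le, tH, tA, hD, idx, H10.exists_orderOf_eq_of_dvd (p := 2) ?_,
    fun j hj oj => hC j (hAH.le hj) oj fun x hx => ?_⟩
  · rw [← H10.card_mul_relIndex hAH.le, relIndex_eq_two_iff_exists_notMem_and.2
      ⟨t, tH, tA, fun x hx => or_iff_not_imp_right.2 (idx x hx)⟩] at h4
    omega
  by_cases xA : x ∈ A
  · exact comm_of tH tA hD xA hx hj (hAH.le hj)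
  · rw [← mul_inv_eq_iff_eq_mul, inv_of hx xA hD hj (hAH.le hj),
      inv_eq_of_mul_eq_one_left (H4.sq_of_ord2 oj)]

/-- the theorem on subgroups of dihedral type -/
theorem out_of {H A : Subgroup G} (hAH : A < H) (hD : ∀ x ∈ H, x ∉ A → x * x = 1)
    (h4 : 4 ∣ Nat.card H)
    (hC : ∀ j ∈ H, orderOf j = 2 → (∀ h ∈ H, h * j = j * h) → 𝒞₁(j) = H)
    (hs : ¬ Group.IsSolvable G) : Out G := by
  obtain ⟨B, t, h⟩ := exists_dg hAH hD h4 hC
  exact h.main hs

end H3.Dg
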