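import Cfsg.Agent.Lead.NQ
import Cfsg.Agent.H20.Cyc2
import Cfsg.Agent.H3.SylowIn

/-! Elementary abelian `2`-groups of automorphisms of groups of odd order: weight vectors. -/

set_option autoImplicit false

namespace Cfsg.Agent.H3.E8A

open Subgroup Cfsg
open scoped commutatorElement

variable {P : Type*} [Group P] [Finite P]

omit [Finite P] in
theorem mem_fix {T : MulAut P} {x : P} : x ∈ fixedSubgroup T ↔ T x = x := Iff.rfl

omit [Finite P] in
theorem eq_one_of_inv (hodd : Odd (Nat.card P)) {x : P} (h : x⁻¹ = x) : x = 1 := by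
  have h1 : x ^ 2 = 1 := by rw [pow_two]; nth_rewrite 1 [← h]; exact inv_mul_cancel x
  exact orderOf_eq_one_iff.1 (Nat.eq_one_of_dvd_coprimes (Nat.coprime_two_left.2 hodd)
    (orderOf_dvd_of_pow_eq_one h1) (orderOf_dvd_natCard x))

omit [Finite P] in
theorem app_app {T : MulAut P} (h : T * T = 1) (x : P) : T (T x) = x := by
  rw [← MulAut.mul_apply, h]; rfl

/-- Generation by the centralizers of the involutions of a four-group. -/
theorem four (hodd : Odd (Nat.card P)) {S T : MulAut P} (hS : S * S = 1) (hT : T * T = 1)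
    (hc : T * S = S * T) (hS1 : S ≠ 1) (hT1 : T ≠ 1) (hST : S ≠ T) {V H : Subgroup P}
    (hVS : ∀ x ∈ V, S x ∈ V) (hVT : ∀ x ∈ V, T x ∈ V) (h1 : V ⊓ fixedSubgroup S ≤ H)
    (h2 : V ⊓ fixedSubgroup T ≤ H) (h3 : V ⊓ fixedSubgroup (S * T) ≤ H) : V ≤ H := by
  have a1 : S * (S * T) = T := by rw [← mul_assoc, hS, one_mul]
  have a2 : T * (S * T) = S := by rw [← hc, ← mul_assoc, hT, one_mul]
  have a3 : S * T * S = T := by rw [mul_assoc, hc, a1]
  have a4 : S * T * T = S := by rw [mul_assoc, hT, mul_one]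
  have a5 : S * T * (S * T) = 1 := by rw [← mul_assoc, a3, hT]
  let E : Subgroup (MulAut P) :=
    { carrier := {e | e = 1 ∨ e = S ∨ e = T ∨ e = S * T}
      one_mem' := Or.inl rfl
      mul_mem' := by
        rintro a b (rfl | rfl | rfl | rfl) (rfl | rfl | rfl | rfl) <;>
          simp [hS, hT, hc, a1, a2, a3, a4, a5]
      inv_mem' := by
        rintro a (rfl | rfl | rfl | rfl)
        · simp
        · rw [inv_eq_of_mul_eq_one_right hS]; simp
        · rw [inv_eq_of_mul_eq_one_right hT]; simp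
        · rw [inv_eq_of_mul_eq_one_right a5]; simp }
  have hsq : ∀ e ∈ E, e * e = 1 := by
    rintro a (rfl | rfl | rfl | rfl) <;> simp [hS, hT, a5]
  have : Finite (MulAut P) := Finite.of_injective _ MulEquiv.toEquiv_injective
  refine Lead.NQ.gen (E := E) ⟨⟨?_⟩⟩ ?_ ?_ ?_ ?_
  · rintro a b
    have h4 := hsq _ (mul_mem a.2 b.2)
    refine Subtype.ext ?_
    change a.1 * b.1 = b.1 * a.1
    rw [← inv_eq_of_mul_eq_one_right h4, mul_inv_rev, inv_eq_of_mul_eq_one_right (hsq _ a.2),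
      inv_eq_of_mul_eq_one_right (hsq _ b.2)]
  · rintro ⟨g, hg⟩
    have key : ∀ e : E, e = 1 ∨ e = g := by
      intro e
      obtain ⟨k, rfl⟩ := hg e
      have hg2 : g ^ (2 : ℤ) = 1 := by
        rw [zpow_two]; exact Subtype.ext (hsq _ g.2)
      rcases Int.even_or_odd' k with ⟨j, rfl | rfl⟩
      · left; simp only [zpow_mul, hg2, one_zpow]
      · right; simp only [zpow_add, zpow_mul, hg2, one_zpow, zpow_one, one_mul]
    rcases key ⟨S, by simp [E]⟩ with h | h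
    · exact hS1 (congrArg Subtype.val h)
    rcases key ⟨T, by simp [E]⟩ with h' | h'
    · exact hT1 (congrArg Subtype.val h')
    exact hST (congrArg Subtype.val (h.trans h'.symm))
  · have : Fact (Nat.Prime 2) := ⟨Nat.prime_two⟩
    have h2 : IsPGroup 2 E := fun e => ⟨1, Subtype.ext (by simpa [pow_two] using hsq _ e.2)⟩
    obtain ⟨k, hk⟩ := IsPGroup.iff_card.1 h2
    rw [hk]
    exact (Nat.coprime_two_left.2 hodd).pow_left k
  · rintro e (rfl | rfl | rfl | rfl) x hx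
    · exact hx
    · exact hVS x hx
    · exact hVT x hx
    · exact hVS _ (hVT x hx)
  · rintro e (rfl | rfl | rfl | rfl) he
    · exact absurd rfl he
    · exact h1
    · exact h2
    · exact h3

/-- Existence of weight vectors. -/
theorem weight (hodd : Odd (Nat.card P)) (I : Subgroup (MulAut P))
    (hsq : ∀ e ∈ I, e * e = 1) (hc : ∀ e ∈ I, ∀ f ∈ I, e * f = f * e) {T : MulAut P} (hT : T ∈ I)
    (V : Subgroup P) (hV : ∀ e ∈ I, ∀ x ∈ V, e x ∈ V) (hne : ¬ V ≤ fixedSubgroup T) :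
    ∃ x : P, x ≠ 1 ∧ T x = x⁻¹ ∧ ∀ S ∈ I, S x = x ∨ S x = x⁻¹ := by
  induction h : Nat.card V using Nat.strong_induction_on generalizing V with
  | _ n ih =>
  subst h
  have happ : ∀ e ∈ I, ∀ f ∈ I, ∀ x, e (f x) = f (e x) := fun e he f hf x => by
    rw [← MulAut.mul_apply, hc e he f hf, MulAut.mul_apply]
  by_cases h1 : ∃ e ∈ I, ¬ V ≤ fixedSubgroup e ∧ ¬ V ⊓ fixedSubgroup e ≤ fixedSubgroup T
  · obtain ⟨e, he, h2, h3⟩ := h1
    refine ih _ (H1.card_lt_of_lt (lt_of_le_of_ne inf_le_left fun h => h2 ?_))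
      (V ⊓ fixedSubgroup e) (fun f hf x hx => ⟨hV f hf x hx.1, ?_⟩) h3 rfl
    · rw [← h]; exact inf_le_right
    · change e (f x) = f x
      rw [happ e he f hf, mem_fix.1 hx.2]
  push Not at h1
  have one : ∀ {e : MulAut P}, ¬ V ≤ fixedSubgroup e → e ≠ 1 := by
    rintro e he rfl
    exact he fun x _ => rfl
  obtain ⟨y, hy, hy'⟩ := SetLike.not_le_iff_exists.1 hne
  refine ⟨y * (T y)⁻¹, fun h => hy' (mul_inv_eq_one.1 h).symm, ?_, fun S hS => ?_⟩
  · rw [map_mul, map_inv, app_app (hsq T hT), mul_inv_rev, inv_inv]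
  · have hx : y * (T y)⁻¹ ∈ V := mul_mem hy (inv_mem (hV T hT y hy))
    by_cases h2 : V ≤ fixedSubgroup S
    · exact Or.inl (h2 hx)
    by_cases h3 : V ≤ fixedSubgroup (S * T)
    · right
      have h4 : S (T (y * (T y)⁻¹)) = y * (T y)⁻¹ := h3 hx
      rw [map_mul T, map_inv T, app_app (hsq T hT)] at h4
      rw [← inv_inj, ← map_inv, mul_inv_rev, inv_inv, h4]; group
    exfalso
    refine hne (four hodd (hsq S hS) (hsq T hT) (hc T hT S hS) (one h2) (one hne) ?_ (hV S hS)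
      (hV T hT) (h1 S hS h2) inf_le_right (h1 _ (mul_mem hS hT) h3))
    rintro rfl
    exact one h3 (hsq S hS)

section pgrp

variable {p : ℕ} [hp : Fact p.Prime]

theorem meet (hodd : Odd (Nat.card P)) (hP : IsPGroup p P) {g a b : P} (ha : a ∈ zpowers g)
    (hb : b ∈ zpowers g) {S : MulAut P} (hSa : S a = a) (hSb : S b = b⁻¹) : a = 1 ∨ b = 1 := by
  rcases H20.le_total_of_cyclic (hP.to_subgroup (zpowers g)) inferInstance
    (zpowers_le.2 ha) (zpowers_le.2 hb) with h | h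
  · left
    obtain ⟨k, hk⟩ := h (mem_zpowers a)
    apply eq_one_of_inv hodd
    conv_rhs => rw [← hSa]
    rw [← hk]
    simp only [map_zpow, hSb, inv_zpow]
  · right
    obtain ⟨k, hk⟩ := h (mem_zpowers b)
    apply eq_one_of_inv hodd
    rw [← hSb, ← hk]
    simp only [map_zpow, hSa]

theorem inv_gen (hodd : Odd (Nat.card P)) (hP : IsPGroup p P) {g b : P} (hb : b ∈ zpowers g)
    (hb1 : b ≠ 1) {S : MulAut P} (hS : S * S = 1) (hg : S g ∈ zpowers g) (hSb : S b = b⁻¹) :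
    S g = g⁻¹ := by
  have hc : S g * g = g * S g := by
    obtain ⟨k, hk⟩ := hg
    rw [← hk]; exact (Commute.zpow_self g k).eq
  rcases meet hodd hP (mul_mem (mem_zpowers g) hg) hb (S := S)
    (by rw [map_mul, app_app hS, hc]) hSb with h | h
  · exact eq_inv_of_mul_eq_one_right h
  · exact absurd h hb1

theorem fix_gen (hodd : Odd (Nat.card P)) (hP : IsPGroup p P) {g a : P} (ha : a ∈ zpowers g)
    (ha1 : a ≠ 1) {S : MulAut P} (hS : S * S = 1) (hg : S g ∈ zpowers g) (hSa : S a = a) :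
    S g = g := by
  rcases meet hodd hP ha (mul_mem (mem_zpowers g) (inv_mem hg)) (S := S) hSa
    (by rw [map_mul, map_inv, app_app hS, mul_inv_rev, inv_inv]) with h | h
  · exact absurd h ha1
  · exact (mul_inv_eq_one.1 h).symm

end pgrp

omit [Finite P] in
theorem comm_mem (hodd : Odd (Nat.card P)) {a b y : P} {S U : MulAut P} (hS : S * S = 1)
    (hSa : S a = a⁻¹) (hSb : S b = b⁻¹) (hfix : ∀ x, S x = x → x ∈ zpowers y)
    (hUa : U a = a) (hUb : U b = b) (hUy : U y = y⁻¹) :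
    ⁅a, b⁆ ∈ ⁅commutator P, (⊤ : Subgroup P)⁆ := by
  set N := ⁅commutator P, (⊤ : Subgroup P)⁆ with hN
  set c := ⁅a, b⁆ with hc
  have hcm : c ∈ commutator P := commutator_mem_commutator (mem_top a) (mem_top b)
  set d := c * (S c)⁻¹ with hd
  have hdN : d ∈ N := by
    have : d = ⁅c, (b * a)⁻¹⁆ := by
      rw [hd, hc, map_commutatorElement, hSa, hSb]
      simp only [commutatorElement_def]; group
    rw [this]
    exact commutator_mem_commutator hcm (mem_top _)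
  have hSd : S d = d⁻¹ := by rw [hd, map_mul, map_inv, app_app hS, mul_inv_rev, inv_inv]
  obtain ⟨k, hk⟩ := hodd
  have hee : d ^ (k + 1) * d ^ (k + 1) = d := by
    rw [← pow_add, show k + 1 + (k + 1) = 2 * k + 1 + 1 by ring, ← hk, pow_succ,
      pow_card_eq_one', one_mul]
  set e := d ^ (k + 1) with he
  have hSe : S e = e⁻¹ := by rw [he, map_pow, hSd, inv_pow]
  have hSc : S c = (e * e)⁻¹ * c := by rw [hee, hd]; group
  obtain ⟨j, hj⟩ := hfix (e⁻¹ * c) (by rw [map_mul, map_inv, hSe, hSc]; group)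
  have hU : U (e⁻¹ * c) = (e⁻¹ * c)⁻¹ := by
    rw [← hj]; simp only [map_zpow, hUy, inv_zpow]
  have hUc : U c = c := by rw [hc, map_commutatorElement, hUa, hUb]
  have heN : e ∈ N := pow_mem hdN _
  have hUe : U e ∈ N := by
    have h1 : N.Characteristic := inferInstance
    exact (characteristic_iff_le_comap.1 h1 U) heN
  rw [map_mul, map_inv, hUc] at hU
  have h2 : c * c ∈ N := by
    have : c * c = (c * U e * c⁻¹) * e := by
      have h3 : e = c * ((U e)⁻¹ * c) := by rw [hU]; group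
      conv_rhs => arg 2; rw [h3]
      group
    rw [this]
    exact mul_mem ((inferInstance : N.Normal).conj_mem _ hUe c) heN
  have h4 : c = (c * c) ^ (k + 1) := by
    rw [← pow_two, ← pow_mul, show 2 * (k + 1) = 2 * k + 1 + 1 by ring, ← hk, pow_succ,
      pow_card_eq_one', one_mul]
  rw [h4]
  exact pow_mem h2 _

omit [Finite P] in
theorem comm_of_gen [Group.IsNilpotent P] {a b c : P} (hgen : closure {a, b, c} = ⊤)
    (h1 : ⁅a, b⁆ ∈ ⁅commutator P, (⊤ : Subgroup P)⁆) (h2 : ⁅a, c⁆ ∈ ⁅commutator P, (⊤ : Subgroup P)⁆)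
    (h3 : ⁅b, c⁆ ∈ ⁅commutator P, (⊤ : Subgroup P)⁆) : IsMulCommutative P := by
  set N := ⁅commutator P, (⊤ : Subgroup P)⁆ with hN
  have key : ∀ x y : P, ⁅x, y⁆ ∈ N ↔ Commute (x : P ⧸ N) (y : P ⧸ N) := fun x y => by
    rw [← commutatorElement_eq_one_iff_commute, ← QuotientGroup.eq_one_iff]
    exact Iff.rfl
  rw [key] at h1 h2 h3
  have h4 : commutator P ≤ N := by
    refine commutator_le.2 fun x _ y _ => (key x y).2 ?_
    have hx : x ∈ closure {a, b, c} := hgen ▸ mem_top x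
    have hy : y ∈ closure {a, b, c} := hgen ▸ mem_top y
    refine closure_induction₂ (k := {a, b, c})
      (p := fun (x y : P) _ _ => Commute (x : P ⧸ N) (y : P ⧸ N)) ?_
      (fun _ _ => Commute.one_left _) (fun _ _ => Commute.one_right _)
      (fun _ _ _ _ _ _ h h' => h.mul_left h') (fun _ _ _ _ _ _ h h' => h.mul_right h')
      (fun _ _ _ _ h => h.inv_left) (fun _ _ _ _ h => h.inv_right) hx hy
    rintro x y (rfl | rfl | rfl) (rfl | rfl | rfl)
    exacts [.refl _, h1, h2, h1.symm, .refl _, h3, h2.symm, h3.symm, .refl _]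
  have : Group.IsNilpotent (⊤ : Subgroup P) := inferInstance
  have h5 : commutator P = ⊥ := H3.eq_bot_of_le_commutator le_top h4
  refine ⟨⟨fun x y => ?_⟩⟩
  have : ⁅x, y⁆ ∈ commutator P := commutator_mem_commutator (mem_top x) (mem_top y)
  rw [h5, mem_bot] at this
  exact (commutatorElement_eq_one_iff_commute.1 this).eq

theorem card_ker_le {P : Type*} [CommGroup P] [Finite P] {p : ℕ} {a b : P}
    (hgen : closure {a, b} = ⊤) (hp : 0 < p) : Nat.card (powMonoidHom p : P →* P).ker ≤ p ^ 2 := by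
  set f : P →* P := powMonoidHom p with hf
  have h1 : Nat.card f.ker = Nat.card (P ⧸ f.range) := by
    have h2 := f.ker.card_mul_index
    have h3 := f.range.card_mul_index
    rw [index_ker, mul_comm] at h2
    exact Nat.eq_of_mul_eq_mul_left Nat.card_pos (h2.trans h3.symm)
  have h4 : ∀ x : P, Nat.card (zpowers (x : P ⧸ f.range)) ≤ p := fun x => by
    rw [Nat.card_zpowers]
    refine Nat.le_of_dvd hp (orderOf_dvd_of_pow_eq_one ?_)
    rw [← QuotientGroup.mk_pow, QuotientGroup.eq_one_iff]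
    exact ⟨x, rfl⟩
  have h5 : zpowers (a : P ⧸ f.range) ⊔ zpowers (b : P ⧸ f.range) = ⊤ := by
    have := congrArg (Subgroup.map (QuotientGroup.mk' f.range)) hgen
    rw [map_top_of_surjective _ (QuotientGroup.mk'_surjective _), MonoidHom.map_closure,
      Set.image_pair, Set.insert_eq, Subgroup.closure_union, ← zpowers_eq_closure,
      ← zpowers_eq_closure] at this
    exact this
  have h6 := H1.card_sup_dvd_normal (zpowers (a : P ⧸ f.range)) (zpowers (b : P ⧸ f.range))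
  rw [h5, card_top] at h6
  rw [h1, pow_two]
  exact (Nat.le_of_dvd (Nat.mul_pos Nat.card_pos Nat.card_pos) h6).trans
    (Nat.mul_le_mul (h4 a) (h4 b))

omit [Finite P] in
theorem adjust {I : Subgroup (MulAut P)} {S A : MulAut P} (hS : S ∈ I) {x : P}
    (hx : ∀ S ∈ I, S x = x ∨ S x = x⁻¹) (hA : A x = x⁻¹) : S x = x ∨ (S * A) x = x := by
  rcases hx S hS with h | h
  · exact Or.inl h
  · right; rw [MulAut.mul_apply, hA, map_inv, h, inv_inv]

theorem basis (hodd : Odd (Nat.card P)) (I : Subgroup (MulAut P))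
    (hsq : ∀ e ∈ I, e * e = 1) (hc : ∀ e ∈ I, ∀ f ∈ I, e * f = f * e) (h8 : Nat.card I = 8) :
    ∃ T1 ∈ I, ∃ T2 ∈ I, ∃ T3 ∈ I, ∃ x1 x2 x3 : P, x1 ≠ 1 ∧ x2 ≠ 1 ∧ x3 ≠ 1 ∧
      T1 x1 = x1⁻¹ ∧ T1 x2 = x2 ∧ T1 x3 = x3 ∧ T2 x1 = x1 ∧ T2 x2 = x2⁻¹ ∧ T2 x3 = x3 ∧
      T3 x1 = x1 ∧ T3 x2 = x2 ∧ T3 x3 = x3⁻¹ := by
  have W : ∀ T ∈ I, T ≠ 1 → ∃ x : P, x ≠ 1 ∧ T x = x⁻¹ ∧ ∀ S ∈ I, S x = x ∨ S x = x⁻¹ :=
    fun T hT h1 => weight hodd I hsq hc hT ⊤ (fun _ _ _ _ => mem_top _)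
      fun h => h1 (MulEquiv.ext fun x => h (mem_top x))
  have out : ∀ A B : MulAut P, ∃ C ∈ I, C ≠ 1 ∧ C ≠ A ∧ C ≠ B ∧ C ≠ B * A := by
    intro A B
    by_contra hall
    push Not at hall
    have h1 : (I : Set (MulAut P)) ⊆ {1, A, B, B * A} := fun C hC => by
      by_contra h
      simp only [Set.mem_insert_iff, Set.mem_singleton_iff, not_or] at h
      exact h.2.2.2 (hall C hC h.1 h.2.1 h.2.2.1)
    have h2 := Set.ncard_le_ncard h1
    have h3 := Set.ncard_insert_le 1 ({A, B, B * A} : Set (MulAut P))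
    have h4 := Set.ncard_insert_le A ({B, B * A} : Set (MulAut P))
    have h5 := Set.ncard_insert_le B ({B * A} : Set (MulAut P))
    rw [Set.ncard_singleton] at h5
    have h6 : (I : Set (MulAut P)).ncard = 8 := h8
    omega
  have inv : ∀ e ∈ I, e⁻¹ = e := fun e he => inv_eq_of_mul_eq_one_right (hsq e he)
  obtain ⟨A1, hA1, n1, -⟩ := out 1 1
  obtain ⟨x1, hx1, e1, w1⟩ := W A1 hA1 n1
  obtain ⟨A2, hA2, n2, f21⟩ : ∃ A ∈ I, A ≠ 1 ∧ A x1 = x1 := by
    obtain ⟨C, hC, c1, c2, -⟩ := out A1 1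
    rcases adjust hC w1 e1 with h | h
    · exact ⟨C, hC, c1, h⟩
    · exact ⟨_, mul_mem hC hA1, fun h' => c2 (by rw [eq_inv_of_mul_eq_one_left h', inv _ hA1]), h⟩
  obtain ⟨x2, hx2, e2, w2⟩ := W A2 hA2 n2
  obtain ⟨T3, hT3, n3, f31, f32⟩ : ∃ A ∈ I, A ≠ 1 ∧ A x1 = x1 ∧ A x2 = x2 := by
    obtain ⟨C, hC, c1, c2, c3, c4⟩ := out A1 A2
    obtain ⟨D, hD, d1, d2, d3⟩ : ∃ D ∈ I, D ≠ 1 ∧ D ≠ A2 ∧ D x1 = x1 := by
      rcases adjust hC w1 e1 with h | h
      · exact ⟨C, hC, c1, c3, h⟩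
      · exact ⟨_, mul_mem hC hA1, fun h' => c2 (by rw [eq_inv_of_mul_eq_one_left h', inv _ hA1]),
          fun h' => c4 (by rw [← h', mul_assoc, hsq _ hA1, mul_one]), h⟩
    rcases adjust hD w2 e2 with h | h
    · exact ⟨D, hD, d1, d3, h⟩
    · exact ⟨_, mul_mem hD hA2, fun h' => d2 (by rw [eq_inv_of_mul_eq_one_left h', inv _ hA2]),
        by rw [MulAut.mul_apply, f21, d3], h⟩
  obtain ⟨x3, hx3, e3, w3⟩ := W T3 hT3 n3
  obtain ⟨T2, hT2, g1, g2, g3⟩ : ∃ A ∈ I, A x1 = x1 ∧ A x2 = x2⁻¹ ∧ A x3 = x3 := by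
    rcases adjust hA2 w3 e3 with h | h
    · exact ⟨A2, hA2, f21, e2, h⟩
    · exact ⟨_, mul_mem hA2 hT3, by rw [MulAut.mul_apply, f31, f21],
        by rw [MulAut.mul_apply, f32, e2], h⟩
  obtain ⟨B1, hB1, k1, k2⟩ : ∃ A ∈ I, A x1 = x1⁻¹ ∧ A x2 = x2 := by
    rcases adjust hA1 w2 g2 with h | h
    · exact ⟨A1, hA1, e1, h⟩
    · exact ⟨_, mul_mem hA1 hT2, by rw [MulAut.mul_apply, g1, e1], h⟩
  obtain ⟨T1, hT1, l1, l2, l3⟩ : ∃ A ∈ I, A x1 = x1⁻¹ ∧ A x2 = x2 ∧ A x3 = x3 := by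
    rcases adjust hB1 w3 e3 with h | h
    · exact ⟨B1, hB1, k1, k2, h⟩
    · exact ⟨_, mul_mem hB1 hT3, by rw [MulAut.mul_apply, f31, k1],
        by rw [MulAut.mul_apply, f32, k2], h⟩
  exact ⟨T1, hT1, T2, hT2, T3, hT3, x1, x2, x3, hx1, hx2, hx3, l1, l2, l3, g1, g2, g3, f31, f32, e3⟩

omit [Finite P] in
theorem enum (hodd : Odd (Nat.card P)) (I : Subgroup (MulAut P)) (h8 : Nat.card I = 8)
    {T1 T2 T3 : MulAut P} (h1 : T1 ∈ I) (h2 : T2 ∈ I) (h3 : T3 ∈ I) {x1 x2 x3 : P}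
    (n1 : x1 ≠ 1) (n2 : x2 ≠ 1) (n3 : x3 ≠ 1) (a1 : T1 x1 = x1⁻¹) (a2 : T1 x2 = x2)
    (a3 : T1 x3 = x3) (b1 : T2 x1 = x1) (b2 : T2 x2 = x2⁻¹) (b3 : T2 x3 = x3)
    (c1 : T3 x1 = x1) (c2 : T3 x2 = x2) (c3 : T3 x3 = x3⁻¹) {S : MulAut P} (hS : S ∈ I) :
    S = 1 ∨ S = T1 ∨ S = T2 ∨ S = T3 ∨ S = T1 * T2 ∨ S = T1 * T3 ∨ S = T2 * T3 ∨
      S = T1 * T2 * T3 := by
  let f : Bool × Bool × Bool → I := fun v =>
    ⟨(if v.1 then T1 else 1) * (if v.2.1 then T2 else 1) * (if v.2.2 then T3 else 1), by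
      refine mul_mem (mul_mem ?_ ?_) ?_ <;> split_ifs <;> simp [h1, h2, h3, one_mem]⟩
  have m1 : x1⁻¹ ≠ x1 := fun h => n1 (eq_one_of_inv hodd h)
  have m2 : x2⁻¹ ≠ x2 := fun h => n2 (eq_one_of_inv hodd h)
  have m3 : x3⁻¹ ≠ x3 := fun h => n3 (eq_one_of_inv hodd h)
  have hinj : Function.Injective f := by
    rintro ⟨a, b, c⟩ ⟨a', b', c'⟩ h
    have e1 := congrArg (fun S : I => (S : MulAut P) x1) h
    have e2 := congrArg (fun S : I => (S : MulAut P) x2) h
    have e3 := congrArg (fun S : I => (S : MulAut P) x3) h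
    have g1 : ∀ a b c, (f (a, b, c) : MulAut P) x1 = if a then x1⁻¹ else x1 := by
      rintro (_ | _) (_ | _) (_ | _) <;> simp [f, a1, b1, c1]
    have g2 : ∀ a b c, (f (a, b, c) : MulAut P) x2 = if b then x2⁻¹ else x2 := by
      rintro (_ | _) (_ | _) (_ | _) <;> simp [f, a2, b2, c2]
    have g3 : ∀ a b c, (f (a, b, c) : MulAut P) x3 = if c then x3⁻¹ else x3 := by
      rintro (_ | _) (_ | _) (_ | _) <;> simp [f, a3, b3, c3]
    simp only [g1, g2, g3] at e1 e2 e3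
    have k1 : a = a' := by
      cases a <;> cases a' <;> simp [m1, m1.symm] at e1 ⊢
    have k2 : b = b' := by
      cases b <;> cases b' <;> simp [m2, m2.symm] at e2 ⊢
    have k3 : c = c' := by
      cases c <;> cases c' <;> simp [m3, m3.symm] at e3 ⊢
    rw [k1, k2, k3]
  have : Finite I := Nat.finite_of_card_ne_zero (by omega)
  obtain ⟨⟨a, b, c⟩, h⟩ := (hinj.bijective_of_nat_card_le (by rw [h8]; simp)).2 ⟨S, hS⟩
  have h' := (congrArg Subtype.val h).symm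
  cases a <;> cases b <;> cases c <;> simp [f] at h' <;> simp [h']

end Cfsg.Agent.H3.E8A
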