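import Cfsg.Agent.H3.FEig
import Cfsg.Prelude.Def_LocalEven

/-! Affine sections over subgroups of `SL₂(p)`; eigenvectors of power maps. -/

set_option autoImplicit false
set_option linter.unusedSectionVars false

open Cfsg Cfsg.FusionSystem Equiv H13
open scoped MatrixGroups

namespace H3

variable {G : Type*} [Group G] {p : ℕ} [hp : Fact p.Prime]

theorem isSec_aff_of_data [Finite G] (hp2 : p ≠ 2) (B : Subgroup SL(2, ZMod p)) (hB : -1 ∈ B)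
    {Y : Subgroup SL(3, ZMod p)} (hY : ∀ X, X ∈ Y ↔ ∃ M ∈ B, ∃ v, H4.aff M v = X)
    {H T : Subgroup G} {π : G → Multiplicative (Fin 2 → ZMod p)}
    (hTH : T ≤ H) (h1 : HomOn T π) (h2 : ∀ v, ∃ x ∈ T, π x = v)
    (h3 : ∀ M ∈ B, ∃ g ∈ H, g ∈ Subgroup.normalizer (T : Set G) ∧
      ∀ x ∈ T, (π (g * x * g⁻¹)).toAdd = M • (π x).toAdd) : H4.IsSec Y H := by
  classical
  let K : Subgroup G :=
    { carrier := {g | g ∈ H ∧ g ∈ Subgroup.normalizer (T : Set G) ∧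
        ∃ M ∈ B, ∀ x ∈ T, (π (g * x * g⁻¹)).toAdd = M • (π x).toAdd}
      one_mem' := ⟨H.one_mem, Subgroup.one_mem _, 1, B.one_mem, fun x _ => by simp⟩
      mul_mem' := by
        rintro a b ⟨ha, ha', M, hMB, hM⟩ ⟨hb, hb', N, hNB, hN⟩
        refine ⟨H.mul_mem ha hb, Subgroup.mul_mem _ ha' hb', M * N, B.mul_mem hMB hNB,
          fun x hx => ?_⟩
        rw [mul_smul, ← hN x hx, ← hM _ (conj_mem_of_normalizer hb' hx)]
        congr 2; group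
      inv_mem' := by
        rintro a ⟨ha, ha', M, hMB, hM⟩
        refine ⟨H.inv_mem ha, Subgroup.inv_mem _ ha', M⁻¹, B.inv_mem hMB, fun x hx => ?_⟩
        rw [eq_inv_smul_iff, ← hM _ (conj_mem_of_normalizer (Subgroup.inv_mem _ ha') hx)]
        congr 2; group }
  have hK : ∀ g : G, ∃ M : SL(2, ZMod p), g ∈ K → M ∈ B ∧ ∀ x ∈ T,
      (π (g * x * g⁻¹)).toAdd = M • (π x).toAdd := fun g => by
    by_cases hg : g ∈ K
    · exact hg.2.2.imp fun _ h _ => h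
    · exact ⟨1, fun h => absurd h hg⟩
  choose φ hφ using hK
  have uniq : ∀ g ∈ K, ∀ M : SL(2, ZMod p), (∀ x ∈ T,
      (π (g * x * g⁻¹)).toAdd = M • (π x).toAdd) → φ g = M := fun g hg M hM =>
    sl2_eq_of_smul fun v => by
      obtain ⟨x, hx, e⟩ := h2 (Multiplicative.ofAdd v)
      have : v = (π x).toAdd := by rw [e]; rfl
      rw [this, ← hM x hx, (hφ g hg).2 x hx]
  have hom : HomOn K φ := fun a ha b hb => uniq _ (K.mul_mem ha hb) _ fun x hx => by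
    rw [mul_smul, ← (hφ b hb).2 x hx, ← (hφ a ha).2 _ (conj_mem_of_normalizer hb.2.1 hx)]
    congr 2; group
  have hc : ∀ t ∈ T, ∀ x ∈ T, (π (t * x * t⁻¹)).toAdd = (1 : SL(2, ZMod p)) • (π x).toAdd :=
    fun t ht x hx => by rw [h1.map_conj ht hx, mul_inv_cancel_comm, one_smul]
  have hTK : T ≤ K := fun t ht => ⟨hTH ht, Subgroup.le_normalizer ht, 1, B.one_mem, hc t ht⟩
  have hT1 : ∀ t ∈ T, φ t = 1 := fun t ht => uniq t (hTK ht) 1 (hc t ht)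
  have surj : ∀ M ∈ B, ∃ g ∈ K, φ g = M := fun M hM => by
    obtain ⟨g, hg, hg', h⟩ := h3 M hM
    exact ⟨g, ⟨hg, hg', M, hM, h⟩, uniq g ⟨hg, hg', M, hM, h⟩ M h⟩
  have hZn : (Subgroup.zpowers (-1 : SL(2, ZMod p))).Normal := by
    refine ⟨?_⟩
    rintro _ ⟨k, rfl⟩ g
    refine ⟨k, ?_⟩
    have : Commute g ((-1 : SL(2, ZMod p)) ^ k) := (Commute.neg_one_right g).zpow_right k
    change (-1) ^ k = g * (-1) ^ k * g⁻¹
    rw [this.eq, mul_inv_cancel_right]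
  have h4 : IsPGroup 2 (Subgroup.zpowers (-1 : SL(2, ZMod p))) :=
    H4.elemAb_isPGroup (H4.elemAb_zpowers (by simp))
  obtain ⟨S, hS⟩ := exists_sylIn 2 (pre K φ (Subgroup.zpowers (-1)))
  have hSK := hS.le.trans (pre_le _ _ _)
  have h5 : ∀ z ∈ pre K φ (Subgroup.zpowers (-1)), ∃ s ∈ S, φ s = φ z := fun z hz => by
    have := (hS.img (hom.mono (pre_le _ _ _))).eq_of_isPGroup
      (h4.to_le (by rw [hom.img_pre]; exact inf_le_left))
    exact (hom.mono hSK).mem_img.1 (this ▸ mem_img_of_mem φ hz)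
  have key : ∀ w ∈ T, w ∈ Subgroup.normalizer (S : Set G) → π w = 1 := by
    intro w hw hwN
    obtain ⟨z, hz, e⟩ := surj _ hB
    obtain ⟨t, ht, e'⟩ := h5 z (hom.mem_pre.2 ⟨hz, e ▸ Subgroup.mem_zpowers _⟩)
    have k1 := conj_mem_of_normalizer (hSK ht).2.1 hw
    have k2 : π (t * w * t⁻¹) = (π w)⁻¹ := Multiplicative.toAdd.injective (by
      rw [(hφ t (hSK ht)).2 w hw, e', e, toAdd_inv]
      apply H4.vec2_ext <;> simp [H4.sl2_smul_zero, H4.sl2_smul_one])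
    obtain ⟨k, hk⟩ := isPGroup_iff_mem.1 hS.isPGroup _
      (S.mul_mem ht (conj_mem_of_normalizer hwN (S.inv_mem ht)))
    have k3 := h1.map_pow (T.mul_mem k1 (T.inv_mem hw)) (2 ^ k)
    rw [show t * w * t⁻¹ * w⁻¹ = t * (w * t⁻¹ * w⁻¹) by group, hk, h1.map_one,
      show t * (w * t⁻¹ * w⁻¹) = t * w * t⁻¹ * w⁻¹ by group, h1.map_mul k1 (T.inv_mem hw), k2,
      h1.map_inv hw, ← pow_two, ← pow_mul, ← pow_succ', inv_pow, eq_comm, inv_eq_one] at k3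
    refine H11.eq_one_of_pow_coprime
      (((Nat.coprime_primes hp.out Nat.prime_two).2 hp2).pow_right _) ?_ k3
    apply Multiplicative.toAdd.injective
    rw [toAdd_pow, toAdd_one]
    ext i; simp
  have hR : K ⊓ Subgroup.normalizer (S : Set G) ≤ Subgroup.normalizer (T : Set G) :=
    fun g hg => hg.1.2.1
  have dec : ∀ g : (T ⊔ K ⊓ Subgroup.normalizer (S : Set G) : Subgroup G), ∃ x ∈ T,
      ∃ n ∈ K ⊓ Subgroup.normalizer (S : Set G), x * n = g := fun g =>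
    (H10.mem_sup_of_NN' hR).1 g.2
  choose x hx n hn e using dec
  have hL : T ⊔ K ⊓ Subgroup.normalizer (S : Set G) ≤ K := sup_le hTK inf_le_left
  have u2 : ∀ g, ∀ y ∈ T, ∀ m ∈ K ⊓ Subgroup.normalizer (S : Set G), y * m = g.1 →
      π (x g) = π y := fun g y hy m hm e' => by
    refine (H14.Fus.homOn_eq_iff h1 (hx g) hy).2 (key _ (T.mul_mem (T.inv_mem (hx g)) hy) ?_)
    rw [show (x g)⁻¹ * y = n g * m⁻¹ by
      rw [inv_mul_eq_iff_eq_mul, ← mul_assoc, e, ← e', mul_inv_cancel_right]]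
    exact Subgroup.mul_mem _ (hn g).2 (Subgroup.inv_mem _ hm.2)
  have u3 : ∀ y ∈ T, ∀ m ∈ K, φ (y * m) = φ m := fun y hy m hm => by
    rw [hom.map_mul (hTK hy) hm, hT1 y hy, one_mul]
  refine ⟨_, MonoidHom.mk' (fun g => ⟨H4.aff (φ g) (π (x g)).toAdd, (hY _).2
    ⟨_, (hφ g (hL g.2)).1, _, rfl⟩⟩) fun g h => Subtype.ext ?_, hL.trans fun g hg => hg.1, ?_⟩
  · change H4.aff _ _ = H4.aff _ _ * H4.aff _ _
    have k1 := conj_mem_of_normalizer (hR (hn g)) (hx h)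
    rw [H4.aff_mul, Subgroup.coe_mul, hom.map_mul (hL g.2) (hL h.2), u2 (g * h) _
      (T.mul_mem (hx g) k1) _ (Subgroup.mul_mem _ (hn g) (hn h)) (by
        rw [Subgroup.coe_mul, ← e g, ← e h]; group), h1.map_mul (hx g) k1, toAdd_mul,
      (hφ _ (hn g).1).2 _ (hx h), ← u3 _ (hx g) _ (hn g).1, e]
  · rintro ⟨X, hX⟩
    obtain ⟨M, hM, v, rfl⟩ := (hY X).1 hX
    obtain ⟨g, hg, rfl⟩ := surj M hM
    obtain ⟨z, hz, k1⟩ := hS.frattini (H14.Fus.mem_normalizer_pre hom hg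
      ((Subgroup.normalizer_eq_top _).ge trivial))
    obtain ⟨s, hs, k2⟩ := h5 _ (Subgroup.inv_mem _ hz)
    obtain ⟨y, hy, k3⟩ := h2 (Multiplicative.ofAdd v)
    have hzK := pre_le _ _ _ hz
    have k4 : s * (z * g) ∈ K ⊓ Subgroup.normalizer (S : Set G) :=
      ⟨K.mul_mem (hSK hs) (K.mul_mem hzK hg), Subgroup.mul_mem _ (Subgroup.le_normalizer hs) k1⟩
    refine ⟨⟨y * (s * (z * g)), Subgroup.mul_mem_sup hy k4⟩, Subtype.ext ?_⟩
    change H4.aff _ _ = H4.aff _ _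
    rw [u2 _ y hy _ k4 rfl, k3, u3 _ hy _ k4.1, hom.map_mul (hSK hs) (K.mul_mem hzK hg),
      hom.map_mul hzK hg, k2, hom.map_inv hzK, inv_mul_cancel_left]
    rfl

/-- the upper triangular matrices in `SL₂` -/
def bor2 (K : Type*) [Field K] : Subgroup SL(2, K) where
  carrier := {M | M.1 1 0 = 0}
  one_mem' := rfl
  mul_mem' := fun {M N} hM hN => by
    show (M * N).1 1 0 = 0
    rw [H4.sl2_mul_apply, show M.1 1 0 = 0 from hM, show N.1 1 0 = 0 from hN]; simp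
  inv_mem' := fun {M} hM => by
    show (M⁻¹).1 1 0 = 0
    rw [Matrix.SpecialLinearGroup.coe_inv, Matrix.adjugate_fin_two]
    simpa using hM

theorem mem_fOver_iff (X : SL(3, ZMod p)) :
    X ∈ fOver (ZMod p) ↔ ∃ M ∈ bor2 (ZMod p), ∃ v, H4.aff M v = X := by
  refine ⟨fun h => ?_, by rintro ⟨M, hM, v, rfl⟩; exact Subgroup.subset_closure ⟨hM, rfl, rfl, rfl⟩⟩
  induction h using Subgroup.closure_induction with
  | mem X hX =>
    obtain ⟨M, v, rfl⟩ := H4.mem_qd_iff.1 (Subgroup.subset_closure hX.2)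
    exact ⟨M, hX.1, v, rfl⟩
  | one => exact ⟨1, Subgroup.one_mem _, 0, H4.aff_one⟩
  | mul X Y _ _ hX hY =>
    obtain ⟨M, hM, v, rfl⟩ := hX
    obtain ⟨N, hN, w, rfl⟩ := hY
    exact ⟨_, Subgroup.mul_mem _ hM hN, _, (H4.aff_mul _ _ _ _).symm⟩
  | inv X _ hX =>
    obtain ⟨M, hM, v, rfl⟩ := hX
    refine ⟨M⁻¹, Subgroup.inv_mem _ hM, -(M⁻¹ • v), eq_inv_of_mul_eq_one_left ?_⟩
    rw [H4.aff_mul, inv_mul_cancel, neg_add_cancel, H4.aff_one]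

theorem FInv.isSec [Finite G] (hp2 : p ≠ 2) {H S : Subgroup G} {hS : S ≤ H}
    (h : FInv p (fusionSystemOfSubgroup H S hS)) : H4.IsSec (fOver (ZMod p)) H := by
  obtain ⟨T, π, h1, h2, h3⟩ := h
  refine isSec_aff_of_data hp2 (bor2 (ZMod p)) (show (-1 : SL(2, ZMod p)).1 1 0 = 0 by simp)
    mem_fOver_iff ((h3 1 rfl).choose_spec.1.le.trans hS) h1 h2 fun M hM => ?_
  obtain ⟨α, h4, h5⟩ := h3 M hM
  obtain ⟨-, -, hm, g, hg, e⟩ := iso_ofSubgroup_iff.1 h4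
  exact ⟨g, hg, maps_cj_iff.1 (hm.congr e), fun x hx => by rw [← e x hx, h5 x hx]⟩

theorem eig_trick [Finite G] {A A₀ : Subgroup G} (hA : IsPGroup p A)
    (hc : A ≤ Subgroup.centralizer (A : Set G)) {f : G → G} (hf : HomOn A f) (h1 : ∀ x ∈ A, f x ∈ A)
    (h2 : ∀ x ∈ A, x ∈ A₀ → f x ∈ A₀) {y : G} (hy : y ∈ A) (hy0 : y ∉ A₀) {n : ℕ}
    (h3 : f y * (y ^ n)⁻¹ ∈ A₀) : ∃ z ∈ A, z ≠ 1 ∧ z ^ p = 1 ∧ f z = z ^ n := by
  have hm : ∀ x ∈ A, f x * (x ^ n)⁻¹ ∈ A := fun x hx =>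
    A.mul_mem (h1 x hx) (A.inv_mem (A.pow_mem hx n))
  have hd : HomOn A fun x => f x * (x ^ n)⁻¹ := fun a ha b hb => by
    beta_reduce
    rw [hf.map_mul ha hb, Commute.mul_pow (hc hb a ha), mul_inv_rev, mul_assoc, mul_assoc,
      ← mul_assoc (f b), hc (A.inv_mem (A.pow_mem ha n)) _ (hm b hb)]
  obtain ⟨z, hz, h4, h5⟩ : ∃ z ∈ A, z ≠ 1 ∧ f z * (z ^ n)⁻¹ = 1 := by
    by_contra hcon
    push Not at hcon
    have hR := pre_le A (fun x => f x * (x ^ n)⁻¹) A₀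
    have h4 := (hd.mono hR).card_img ((hd.mono hR).injOn_iff.2 fun x hx e =>
      by_contra fun h => hcon x (hR hx) h e)
    have h5 : img (fun x => f x * (x ^ n)⁻¹) (pre A (fun x => f x * (x ^ n)⁻¹) A₀) ≤ A ⊓ A₀ :=
      img_le_iff.2 fun x hx => ⟨hm x (hR hx), (hd.mem_pre.1 hx).2⟩
    have h6 : A ⊓ A₀ < pre A (fun x => f x * (x ^ n)⁻¹) A₀ := lt_of_le_of_ne
      (fun x hx => hd.mem_pre.2 ⟨hx.1, A₀.mul_mem (h2 x hx.1 hx.2) (A₀.inv_mem (A₀.pow_mem hx.2 n))⟩)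
      fun e => hy0 (e.ge (hd.mem_pre.2 ⟨hy, h3⟩)).2
    exact (card_lt_of_lt (h5.trans_lt h6)).ne h4
  obtain ⟨k, hk⟩ := isPGroup_iff_mem.1 hA z hz
  obtain ⟨m, h6, h7⟩ := exists_pow_not_mem' (Q := ⊥) hk h4
  refine ⟨z ^ m, A.pow_mem hz m, h6, h7, ?_⟩
  rw [hf.map_pow hz, mul_inv_eq_one.1 h5, ← pow_mul, ← pow_mul, mul_comm]

theorem Eig.exists_eig [Finite G] {H S Y : Subgroup G} {hS : S ≤ H} (hY : IsPGroup p Y)
    (hc : Y ≤ Subgroup.centralizer (Y : Set G)) (h : Eig p (fusionSystemOfSubgroup H S hS) Y)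
    {n : ℕ} (hn : ¬ p ∣ n) : ∃ z ∈ Y, z ≠ 1 ∧ z ^ p = 1 ∧ ∃ g ∈ H, g * z * g⁻¹ = z ^ n := by
  obtain ⟨A, A₀, σ, y, h1, h2, h3, h4, h5, h6⟩ := h n hn
  obtain ⟨z, h7, h8, h9, h10⟩ := eig_trick (hY.to_le h1) (h1.trans (hc.trans
    (Subgroup.centralizer_le h1))) h2.hom (fun x hx => h2.mem hx) h3 h4 h5 h6
  obtain ⟨-, -, -, g, hg, e⟩ := iso_ofSubgroup_iff.1 h2
  exact ⟨z, h1 h7, h8, h9, g, hg, by rw [← h10, e z h7]⟩

/-- Glauberman's theorem on the failure of control of fusion by `Z(J(S))` -/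
theorem zj_controls_or [Finite G] (hp2 : p ≠ 2) (S : Sylow p G) :
    (∀ (A : Set G) (g : G), A ⊆ (S : Subgroup G) → (∀ a ∈ A, g * a * g⁻¹ ∈ (S : Subgroup G)) →
      ∃ x ∈ Subgroup.normalizer ((centerThompsonOf 0 (S : Subgroup G) : Subgroup G) : Set G),
        ∀ a ∈ A, g * a * g⁻¹ = x * a * x⁻¹) ∨
    (H4.IsSec (fOver (ZMod p))
        (Subgroup.normalizer ((centerThompsonOf 0 (S : Subgroup G) : Subgroup G) : Set G)) ∧
      ∀ n : ℕ, ¬ p ∣ n → ∃ z ∈ centerThompsonOf 0 (S : Subgroup G), z ≠ 1 ∧ z ^ p = 1 ∧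
        ∃ g ∈ Subgroup.normalizer ((centerThompsonOf 0 (S : Subgroup G) : Subgroup G) : Set G),
          g * z * g⁻¹ = z ^ n) := by
  have hZ := H4.centerThompsonOf_le (n := 0) (S : Subgroup G)
  have hN := Subgroup.le_normalizer.trans
    (H4.normalizer_le_normalizer_centerThompsonOf (n := 0) (S : Subgroup G))
  refine (zj_or (E := fusionSystemOfSubgroup _ _ hN) hp2 S.2 (saturated_group S) le_rfl
    (sc_of_normal (H14.Fus.normal_ofSubgroup hZ le_rfl)) fun P σ h1 _ h3 h4 => ?_).imp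
    (fun h A g h1 h2 => ?_) fun h => ⟨h.1.isSec hp2, fun n hn => h.2.exists_eig (S.2.to_le hZ)
      (H10.center_le_CC _) hn⟩
  · obtain ⟨h5, h6, g, e⟩ := mor_group_iff.1 h3
    exact mor_ofSubgroup_iff.2 ⟨h5, h6, g, maps_cj_iff.1 (h4.congr fun x hx => e x (h1 hx)), e⟩
  · have h0 : Subgroup.closure A ≤ S := (Subgroup.closure_le _).2 h1
    have h3 : img (cj g) (Subgroup.closure A) ≤ S := by
      rw [(homOn_cj _ g).img_closure]
      exact (Subgroup.closure_le _).2 (by rintro _ ⟨a, ha, rfl⟩; exact h2 a ha)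
    obtain ⟨-, -, x, hx, e⟩ := mor_ofSubgroup_iff.1 (Mor.of_sub h (P := Subgroup.closure A)
      (f := cj g) (mor_group_iff.2 ⟨h0, img_le_iff.1 h3, g, fun _ _ => rfl⟩))
    exact ⟨x, hx, fun a ha => e a (Subgroup.subset_closure ha)⟩

end H3
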