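import Cfsg.Agent.H3.R7c

/-! Two noncentral chief factors: the abelian normal subgroup. -/

set_option autoImplicit false
set_option linter.unusedSectionVars false
open Subgroup
open scoped IsMulCommutative

namespace Cfsg.Agent.H3.R4

universe u

variable {Y : Type u} {K : Type*} [Group Y] [Finite Y] [Group K] {π : Y →* K}

theorem four_el {G : Type*} [Group G] [Finite G] {L : Subgroup G} (hL : Nat.card L ≤ 4) {x y z : G}
    (hx : x ∈ L) (hy : y ∈ L) (hz : z ∈ L) (x1 : x ≠ 1) (y1 : y ≠ 1) (z1 : z ≠ 1) (xy : x ≠ y)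
    (xz : x ≠ z) (yz : y ≠ z) (h : x * y ≠ 1) : z = x * y := by
  classical
  by_contra hh
  have h1 : ({1, x, y, z, x * y} : Finset G).card = 5 := by
    rw [Finset.card_insert_of_notMem, Finset.card_insert_of_notMem, Finset.card_insert_of_notMem,
      Finset.card_pair hh]
    · simp only [Finset.mem_insert, Finset.mem_singleton, not_or]
      exact ⟨yz, fun e => x1 (right_eq_mul.1 e)⟩
    · simp only [Finset.mem_insert, Finset.mem_singleton, not_or]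
      exact ⟨xy, xz, fun e => y1 (left_eq_mul.1 e)⟩
    · simp only [Finset.mem_insert, Finset.mem_singleton, not_or]
      exact ⟨x1.symm, y1.symm, z1.symm, h.symm⟩
  have h2 : (({1, x, y, z, x * y} : Finset G) : Set G) ⊆ L := by
    intro a ha
    simp only [Finset.coe_insert, Finset.coe_singleton, Set.mem_insert_iff, Set.mem_singleton_iff] at ha
    rcases ha with rfl | rfl | rfl | rfl | rfl
    exacts [one_mem _, hx, hy, hz, mul_mem hx hy]
  have h3 := Set.ncard_le_ncard h2 (Set.toFinite _)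
  rw [Set.ncard_coe_finset, h1, ← Nat.card_coe_set_eq] at h3
  exact absurd (h3.trans hL) (by norm_num)

theorem exists_seven (hπ : Function.Surjective π) (hK : Nat.card K = 168) :
    ∃ g, π g ^ 7 = 1 ∧ π g ≠ 1 := by
  have : Finite K := Nat.finite_of_card_ne_zero (by omega)
  have : Fact (Nat.Prime 7) := ⟨by norm_num⟩
  obtain ⟨κ, hκ⟩ := exists_prime_orderOf_dvd_card' (G := K) 7 (by rw [hK]; norm_num)
  obtain ⟨g, rfl⟩ := hπ κ
  exact ⟨g, hκ ▸ pow_orderOf_eq_one _, fun e => by rw [e, orderOf_one] at hκ; omega⟩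

theorem fpf_N {N : Subgroup Y} [N.Normal] (h2 : ∀ x ∈ N, x * x = 1) (cN : Nat.card N = 8)
    (fN : centralizer (N : Set Y) = π.ker) {g : Y} (h7 : π g ^ 7 = 1) (h1 : π g ≠ 1) {m : Y}
    (hm : m ∈ N) (e : g * m * g⁻¹ = m) : m = 1 := by
  have hc := H12.SR.comm_of_sq (T := N) fun t ht => by rw [pow_two, h2 t ht]
  have : IsMulCommutative N := ⟨⟨fun a b => Subtype.ext (hc b.2 a a.2)⟩⟩
  have := ((seven (V := N) (fun v => Subtype.ext (h2 _ v.2)) (by omega) (α := MulAut.conjNormal g)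
    (by rw [← map_pow, conjNormal_eq_one, fN, MonoidHom.mem_ker, map_pow, h7])
    (by rw [Ne, conjNormal_eq_one, fN]; exact h1)).resolve_right (by omega)).2
  have h3 : (⟨m, hm⟩ : N) ∈ Fx (MulAut.conjNormal g) := Subtype.ext e
  rw [this, mem_bot] at h3
  exact congrArg Subtype.val h3

/-- hypotheses for two noncentral chief factors -/
structure CH (π : Y →* K) (N Ω A : Subgroup Y) : Prop where
  hy : Hy π
  NΩ : N ≤ Ω
  ΩA : Ω ≤ A
  AQ : A ≤ π.ker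
  cN : Nat.card N = 8
  fN : centralizer (N : Set Y) = π.ker
  e2 : ∀ x ∈ Ω, x * x = 1
  zΩ : ∀ x ∈ Ω, ∀ q ∈ π.ker, q * x = x * q
  cm : ∀ x ∈ π.ker, ∀ y ∈ π.ker, x * y * x⁻¹ * y⁻¹ ∈ N
  sqA : ∀ a ∈ A, a * a ∈ N
  sqQ : ∀ y ∈ π.ker, y * y ∈ Ω
  i8 : Ω.relIndex A = 8
  tΩ : ∀ y, ∀ x ∈ Ω, y * x * y⁻¹ * x⁻¹ ∈ N
  hi : ∀ x ∈ π.ker, ∀ y ∈ π.ker, x ∉ A → y ∉ A → x * y ∈ A
  out : ∀ y ∈ π.ker, y ∉ A → (∀ x ∈ Ω, x ∈ N ∨ x * (y * y) ∈ N) ∧
    (y * y ∉ N ∨ ∃ a ∈ A, y * a ≠ a * y)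

/-- the same with coordinates -/
structure CX (π : Y →* K) (N Ω A : Subgroup Y) (ψ : Y → C3) (ρ : Y →* MulAut C3) : Prop
    extends CH π N Ω A, Fr π A Ω ψ ρ where
  ab : ∀ a ∈ A, ∀ b ∈ A, a * b = b * a
  sqi : ∀ a ∈ A, ∀ b ∈ A, a * a = b * b ↔ ψ a = ψ b
  sur : ∀ m ∈ N, ∃ a ∈ A, a * a = m
  tr : ∀ u v, u ≠ 1 → v ≠ 1 → ∃ y, ρ y u = v

variable {N Ω A : Subgroup Y} [N.Normal] [Ω.Normal] [A.Normal] {ψ : Y → C3} {ρ : Y →* MulAut C3}

theorem CH.cardA (H : CH π N Ω A) : Nat.card A = Nat.card Ω * 8 := by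
  rw [← H.i8, relIndex, ← Nat.card_congr (subgroupOfEquivOfLe H.ΩA).toEquiv, card_mul_index]

theorem CH.cx [IsSimpleGroup K] (H : CH π N Ω A) (hK : Nat.card K = 168) :
    ∃ ψ ρ, CX π N Ω A ψ ρ := by
  obtain ⟨g, g7, g1⟩ := exists_seven H.hy.surj hK
  have h2N : ∀ x ∈ N, x * x = 1 := fun x hx => H.e2 x (H.NΩ hx)
  have cj : ∀ y, ∀ x ∈ A, y * x * y⁻¹ ∈ A := fun y x hx => Normal.conj_mem inferInstance x hx y
  obtain ⟨a0, ha0, a01⟩ : ∃ a ∈ A, a * a ≠ 1 := by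
    by_contra hh
    push Not at hh
    have h1 := H.hy.sc.card_le A ⊥ fun y hy => by rw [pow_two]; exact hh y hy
    have h2 := card_le_of_le H.NΩ
    rw [card_bot, H.cardA] at h1
    rw [H.cN] at h2
    omega
  have sqc : ∀ c ∈ Ω, ∀ a ∈ A, c * a * (c * a) = a * a := fun c hc a ha => by
    rw [mul_assoc, ← mul_assoc a, H.zΩ c hc a (H.AQ ha), mul_assoc, ← mul_assoc, H.e2 c hc, one_mul]
  obtain ⟨ψ, ρ, F⟩ := exists_fr H.hy.surj hK (fun a ha => H.NΩ (H.sqA a ha))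
    (fun q hq a ha => H.NΩ (H.cm q hq a (H.AQ ha))) H.AQ (fun hh => a01 (by
      refine fpf_N h2N H.cN H.fN g7 g1 (H.sqA a0 ha0) ?_
      rw [← conj_mul, ← sqc _ (hh g a0 ha0) a0 ha0]; group)) H.i8
  have dec : ∀ a ∈ A, ∀ b ∈ A, ψ a = ψ b → ∃ c ∈ Ω, a = c * b := fun a ha b hb e =>
    ⟨a * b⁻¹, by rw [← F.ker _ (mul_mem ha (inv_mem hb)), F.mul a ha _ (inv_mem hb), F.inv b hb, e,
      c3_two], by simp⟩
  have sqeq : ∀ a ∈ A, ∀ b ∈ A, ψ a = ψ b → a * a = b * b := fun a ha b hb e => by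
    obtain ⟨c, hc, rfl⟩ := dec a ha b hb e
    exact sqc c hc b hb
  have r7 : ρ g ^ 7 = 1 := by rw [← map_pow, F.rk, map_pow, g7]
  have r1 : ρ g ≠ 1 := by rwa [Ne, F.rk]
  have fp := ((seven c3_two (by simp) r7 r1).resolve_right (by simp)).2
  have tr : ∀ u v, u ≠ 1 → v ≠ 1 → ∃ i < 7, ρ (g ^ i) u = v := fun u v hu hv => by
    obtain ⟨i, hi, e⟩ := trans7 r7 (U := ⊤) (fun _ _ => trivial) (by simp)
      (fun u _ e => by rw [← mem_bot, ← fp]; exact e) trivial hu trivial hv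
    exact ⟨i, hi, by rw [map_pow, e]⟩
  have ne1 : ∀ a ∈ A, ψ a ≠ 1 → a * a ≠ 1 := fun a ha e => by
    obtain ⟨i, -, hi⟩ := tr (ψ a0) (ψ a) (fun e => a01 (H.e2 _ ((F.ker _ ha0).1 e))) e
    rw [← F.cj _ a0 ha0] at hi
    rw [← sqeq _ (cj _ a0 ha0) a ha hi, conj_mul]
    simpa using a01
  have inj : ∀ a ∈ A, ∀ b ∈ A, ψ a ≠ 1 → ψ b ≠ 1 → a * a = b * b → ψ a = ψ b := by
    intro a ha b hb a1 b1 e
    obtain ⟨i, hi, e'⟩ := tr (ψ a) (ψ b) a1 b1
    rcases Nat.eq_zero_or_pos i with rfl | i0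
    · simpa using e'
    exfalso
    rw [← F.cj _ a ha] at e'
    refine ne1 a ha a1 (fpf_N h2N H.cN H.fN (g := g ^ i)
      (by rw [map_pow, ← pow_mul, mul_comm, pow_mul, g7, one_pow]) (fun e2 => r1 ?_) (H.sqA a ha) ?_)
    · rw [← F.rk, map_pow] at e2
      ext1 v
      exact fix_of_pow r7 i0 hi (by rw [e2]; rfl)
    · rw [← conj_mul, sqeq _ (cj _ a ha) b hb e', e]
  obtain ⟨w, k, t, h, co, -, -⟩ := F.lift H.hy.two
  let Cm : C3 → C3 → Prop := fun u v => ∀ a ∈ A, ∀ b ∈ A, ψ a = u → ψ b = v → a * b = b * a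
  have cm1 : ∀ a ∈ A, ∀ b ∈ A, a * b = b * a → Cm (ψ a) (ψ b) := by
    intro a ha b hb e a' ha' b' hb' e1 e2
    obtain ⟨c, hc, rfl⟩ := dec a' ha' a ha e1
    obtain ⟨d, hd, rfl⟩ := dec b' hb' b hb e2
    have z := fun x hx q hq => (show Commute q x from H.zΩ x hx q hq)
    exact (((z d hd c (H.AQ (H.ΩA hc))).mul_right (z c hc b (H.AQ hb)).symm).mul_left
      ((z d hd a (H.AQ ha)).mul_right e)).eq
  have cm2 : ∀ y u v, Cm u v → Cm (ρ y u) (ρ y v) := fun y u v hh => by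
    obtain ⟨a, ha, rfl⟩ := F.surj u
    obtain ⟨b, hb, rfl⟩ := F.surj v
    rw [← F.cj y a ha, ← F.cj y b hb]
    refine cm1 _ (cj y a ha) _ (cj y b hb) ?_
    rw [conj_mul, hh a ha b hb rfl rfl, conj_mul]
  obtain ⟨a, ha, ea⟩ := F.surj w
  obtain ⟨b, hb, eb⟩ := F.surj k
  have eab : ψ (a * b) = w * k := by rw [F.mul a ha b hb, ea, eb]
  have wk1 : w * k ≠ 1 := by rw [Ne, mul_eq_one_iff_eq_inv, c3_inv]; exact co.k2.symm
  have cwk : a * b = b * a := by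
    have fx : ∀ x ∈ A, ρ t (ψ x) = ψ x → x * x ∈ N ⊓ centralizer {t} := fun x hx e =>
      ⟨H.sqA x hx, mem_centralizer_singleton_iff.2 (comm_of_conj (by
        rw [← conj_mul]; exact sqeq _ (cj t x hx) x hx (by rw [F.cj t x hx, e]))).symm⟩
    have lt : N ⊓ centralizer {t} < N := lt_of_le_of_ne inf_le_left fun e => co.n1 (by
      rw [F.rk, ← MonoidHom.mem_ker, ← H.fN]
      exact fun m hm => mem_centralizer_singleton_iff.1 (e.ge hm).2)
    have c4 := H12.SR.two_le lt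
    have := four_el (L := N ⊓ centralizer {t}) (by rw [H.cN] at c4; omega)
      (fx a ha (by rw [ea, co.tw])) (fx b hb (by rw [eb, co.tk]))
      (fx _ (mul_mem ha hb) (by rw [eab, map_mul, co.tw, co.tk]))
      (ne1 a ha (ea ▸ co.w1)) (ne1 b hb (eb ▸ co.k1)) (ne1 _ (mul_mem ha hb) (eab ▸ wk1))
      (fun e => co.k2 (by rw [← ea, ← eb, inj a ha b hb (ea ▸ co.w1) (eb ▸ co.k1) e]))
      (fun e => co.k1 (by
        have := inj a ha _ (mul_mem ha hb) (ea ▸ co.w1) (eab ▸ wk1) e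
        rwa [ea, eab, left_eq_mul] at this))
      (fun e => co.w1 (by
        have := inj b hb _ (mul_mem ha hb) (eb ▸ co.k1) (eab ▸ wk1) e
        rwa [eb, eab, right_eq_mul] at this))
      (fun e => co.k2 (by
        rw [← ea, ← eb, inj a ha b hb (ea ▸ co.w1) (eb ▸ co.k1) ?_]
        rw [eq_inv_of_mul_eq_one_left e, inv_eq_of_mul_eq_one_right (h2N _ (H.sqA b hb))]))
    rw [mul_assoc, mul_assoc, mul_right_inj, ← mul_assoc, ← mul_assoc, mul_left_inj] at this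
    exact this.symm
  have cw : ∀ v, Cm w v := fun v => by
    obtain ⟨i, j, l, rfl⟩ := co.gen v
    have c3 : a * (h * b * h⁻¹) = h * b * h⁻¹ * a := by
      have := cm2 h _ _ (cm1 a ha b hb cwk)
      exact this a ha _ (cj h b hb) (by rw [ea, co.hw]) (F.cj h b hb)
    have pw : ∀ x ∈ A, ∀ i : ℕ, ψ (x ^ i) = ψ x ^ i := fun x hx i => by
      induction i with
      | zero => simpa using (F.ker 1 (one_mem _)).2 (one_mem _)
      | succ i ih => rw [pow_succ, pow_succ, F.mul _ (pow_mem hx i) x hx, ih]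
    have := cm1 a ha (a ^ i.1 * b ^ j.1 * (h * b * h⁻¹) ^ l.1)
      (mul_mem (mul_mem (pow_mem ha _) (pow_mem hb _)) (pow_mem (cj h b hb) _))
      ((((Commute.refl a).pow_right _).mul_right ((show Commute a b from cwk).pow_right _)).mul_right
        ((show Commute a _ from c3).pow_right _)).eq
    rwa [F.mul _ (mul_mem (pow_mem ha _) (pow_mem hb _)) _ (pow_mem (cj h b hb) _),
      F.mul _ (pow_mem ha _) _ (pow_mem hb _), pw a ha, pw b hb, pw _ (cj h b hb), F.cj h b hb,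
      ea, eb] at this
  have ab : ∀ a ∈ A, ∀ b ∈ A, a * b = b * a := fun x hx y hy => by
    by_cases e : ψ x = 1
    · exact (H.zΩ x ((F.ker x hx).1 e) y (H.AQ hy)).symm
    obtain ⟨i, -, hi⟩ := tr w (ψ x) co.w1 e
    exact cm2 (g ^ i) _ _ (cw ((ρ (g ^ i))⁻¹ (ψ y))) x hx y hy hi.symm (by simp)
  have sqi : ∀ a ∈ A, ∀ b ∈ A, a * a = b * b ↔ ψ a = ψ b := fun x hx y hy => by
    refine ⟨fun e => ?_, sqeq x hx y hy⟩
    by_contra hh
    refine ne1 (x * y⁻¹) (mul_mem hx (inv_mem hy)) ?_ ?_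
    · rwa [F.mul x hx _ (inv_mem hy), F.inv y hy, Ne, mul_eq_one_iff_eq_inv, c3_inv]
    · rw [(show Commute y⁻¹ x from ab _ (inv_mem hy) x hx).mul_mul_mul_comm, e]; group
  refine ⟨ψ, ρ, H, F, ab, sqi, fun m hm => ?_, fun u v hu hv => ?_⟩
  · choose σ hσ hσ' using F.surj
    have : Function.Injective (fun v => (⟨σ v * σ v, H.sqA _ (hσ v)⟩ : N)) := fun u v e => by
      rw [← hσ' u, ← hσ' v]; exact (sqi _ (hσ u) _ (hσ v)).1 (Subtype.mk.inj e)
    obtain ⟨v, hv⟩ := (this.bijective_of_nat_card_le (by simp [H.cN])).2 ⟨m, hm⟩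
    exact ⟨σ v, hσ v, Subtype.mk.inj hv⟩
  · obtain ⟨i, -, e⟩ := tr u v hu hv
    exact ⟨_, e⟩

end Cfsg.Agent.H3.R4
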