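import Cfsg.Agent.H3.U2
import Cfsg.Agent.H3.R7d
import Cfsg.Agent.H6.MaxCl
import Cfsg.Agent.H17.Mw5

/-! Tools for 2-groups with a self-centralizing elementary abelian subgroup of order 8. -/

set_option autoImplicit false
set_option linter.unusedSectionVars false
open Subgroup

namespace Cfsg.Agent.H3.Hd

variable {G : Type*} [Group G] [Finite G]

theorem odd_pow (hG : IsPGroup 2 G) {x : G} {k : ℤ} (hk : Odd k) (h : x ^ k = 1) : x = 1 := by
  obtain ⟨n, hn⟩ := IsPGroup.iff_orderOf.1 hG x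
  have h1 := orderOf_dvd_iff_zpow_eq_one.2 h
  rcases n with _ | n
  · exact orderOf_eq_one_iff.1 hn
  · rw [hn] at h1
    exact absurd (even_iff_two_dvd.2 ((dvd_pow_self 2 n.succ_ne_zero).trans (by exact_mod_cast h1)))
      (Int.not_even_iff_odd.2 hk)

theorem crd {K D : Subgroup G} : Nat.card ↥(K ⊓ D) * K.relIndex D = Nat.card D := by
  rw [← inf_relIndex_right, relIndex, ← Nat.card_congr (subgroupOfEquivOfLe inf_le_right).toEquiv,
    card_mul_index]

theorem bd {X L : Subgroup G} {a : G} (h : ∀ x ∈ X, x * a * x⁻¹ * a⁻¹ ∈ L) :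
    Nat.card X ≤ Nat.card ↥(centralizer {a} ⊓ X) * Nat.card L :=
  H12.SR.card_le_idx X le_rfl (H12.SR.idx_le h)

theorem cinv {x a : G} (aa : a * a = 1) (h : x * a * x⁻¹ * a⁻¹ * (x * a * x⁻¹ * a⁻¹) = 1) :
    x * a * x⁻¹ * a⁻¹ ∈ centralizer {a} := by
  have i : a⁻¹ = a := inv_eq_of_mul_eq_one_right aa
  have h2 : a * (x * a * x⁻¹ * a⁻¹) * a⁻¹ = (x * a * x⁻¹ * a⁻¹)⁻¹ := by
    calc _ = a * x * a * x⁻¹ * (a * a)⁻¹ := by group
      _ = _ := by rw [aa]; simp [i, mul_assoc]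
  rw [inv_eq_of_mul_eq_one_right h, mul_inv_eq_iff_eq_mul] at h2
  exact mem_centralizer_singleton_iff.2 h2.symm

theorem mc (hG : IsPGroup 2 G) {T : Subgroup G} {a : G} (ha : a ∈ T) (aa : a * a = 1)
    (c4 : Nat.card ↥(centralizer {a} ⊓ T) ≤ 4) (c8 : 8 ≤ Nat.card T)
    (hn : ∀ u ∈ T, a ∉ zpowers (u * u)) : ∃ u ∈ T, (∀ r ∈ T, r * r ∈ zpowers (u * u)) ∧
      (zpowers (u * u)).relIndex T ≤ 4 ∧ (∀ y ∈ zpowers (u * u), ∃ r ∈ T, y = r * a * r⁻¹ * a⁻¹) ∧
      u * u ≠ 1 ∧ ∀ a' ∈ T, ∀ s ∈ T, a' * a' = 1 → a' ∉ zpowers (u * u) → a' * a⁻¹ ∉ zpowers (u * u) →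
        s ∉ zpowers (u * u) → s * a⁻¹ ∉ zpowers (u * u) → s * a'⁻¹ ∉ zpowers (u * u) →
        ∀ y ∈ zpowers (u * u), s * s ≠ y * y := by
  have h0 : Nat.card (centralizer ({⟨a, ha⟩} : Set T)) ≤ 4 := by
    rw [← card_subtype]
    refine (card_le_of_le ?_).trans c4
    rintro _ ⟨x, hx, rfl⟩
    exact ⟨mem_centralizer_singleton_iff.2 (congrArg Subtype.val (mem_centralizer_singleton_iff.1 hx)),
      x.2⟩
  obtain ⟨⟨u, hu⟩, h2⟩ := (H6.taussky_aux _ T rfl (hG.to_subgroup T)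
    ((H6.index_commutator_le_card_cent _).trans h0)).resolve_left fun hc => by
      rw [(centralizer_eq_top_iff_subset).2 (by
        rintro _ rfl
        exact mem_center_iff.2 fun g => hc.1.1 _ _), card_top] at h0
      omega
  have cU : Nat.card T = 2 * Nat.card (zpowers u) := by
    rw [← card_mul_index (zpowers (⟨u, hu⟩ : T)), h2, Nat.card_zpowers, Nat.card_zpowers, orderOf_mk,
      mul_comm]
  have UT : zpowers u ≤ T := zpowers_le_of_mem hu
  have YU : zpowers (u * u) ≤ zpowers u := zpowers_le_of_mem (mul_mem (mem_zpowers u) (mem_zpowers u))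
  have tw := fun {x y} => H17.Mw.two_mul UT cU.le (x := x) (y := y)
  have ev : ∀ k : ℤ, Even k → u ^ k ∈ zpowers (u * u) := by
    rintro _ ⟨k, rfl⟩
    exact ⟨k, by simp only; rw [(Commute.refl u).mul_zpow, zpow_add]⟩
  have u1 : u * u ≠ 1 := fun e => by
    have := orderOf_le_of_pow_eq_one (x := u) (n := 2) (by norm_num) (by rw [pow_two, e])
    rw [Nat.card_zpowers] at cU
    omega
  have od : ∀ s ∈ zpowers u, s ∉ zpowers (u * u) → ∀ y ∈ zpowers (u * u), s * s ≠ y * y := by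
    rintro _ ⟨k, rfl⟩ h _ ⟨m, rfl⟩ e
    refine u1 (odd_pow hG (k := k - (m + m)) ((Int.not_even_iff_odd.1 fun e => h (ev k e)).sub_even
      ⟨m, rfl⟩) ?_)
    simp only at e
    rw [zpow_sub, zpow_add, ← e, (Commute.refl u).mul_zpow, mul_inv_cancel]
  have tw2 : ∀ x ∈ zpowers u, ∀ y ∈ zpowers u, x ∉ zpowers (u * u) → y ∉ zpowers (u * u) →
      x * y ∈ zpowers (u * u) := by
    rintro _ ⟨k, rfl⟩ _ ⟨m, rfl⟩ h1 h2
    simp only
    rw [← zpow_add]
    exact ev _ ((Int.not_even_iff_odd.1 fun e => h1 (ev k e)).add_odd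
      (Int.not_even_iff_odd.1 fun e => h2 (ev m e)))
  have inU : ∀ b, b * b = 1 → b ∉ zpowers (u * u) → b ∉ zpowers u := fun b h1 h2 h3 =>
    od b h3 h2 1 (one_mem _) (by rw [h1, mul_one])
  have aU := inU a aa (hn u hu)
  have nU : ∀ r ∈ T, ∀ x ∈ zpowers u, r * x * r⁻¹ ∈ zpowers u := fun r hr x hx => by
    by_cases e : r ∈ zpowers u
    · exact mul_mem (mul_mem e hx) (inv_mem e)
    · exact tw (mul_mem hr (UT hx)) (inv_mem hr) (by rwa [mul_mem_cancel_right hx])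
        (by rwa [inv_mem_iff])
  have sU : ∀ x ∈ zpowers u, x * x ∈ zpowers (u * u) := by
    rintro _ ⟨k, rfl⟩
    exact ⟨k, (Commute.refl u).mul_zpow k⟩
  have nY : ∀ r ∈ T, ∀ x ∈ zpowers (u * u), r * x * r⁻¹ ∈ zpowers (u * u) := by
    rintro r hr _ ⟨k, rfl⟩
    simp only
    rw [← conj_zpow, ← conj_mul]
    exact zpow_mem (sU _ (nU r hr u (mem_zpowers u))) k
  have sq : ∀ r ∈ T, r * r ∈ zpowers (u * u) := fun r hr => by
    by_cases e : r ∈ zpowers u
    · exact sU r e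
    have h1 := tw hr (inv_mem ha) e (by rwa [inv_mem_iff])
    have h3 : r * r = r * a⁻¹ * (a * (r * a⁻¹) * a⁻¹) * (a * a) := by group
    rw [h3, aa, mul_one]
    by_cases e' : r * a⁻¹ ∈ zpowers (u * u)
    · exact mul_mem e' (nY a ha _ e')
    · exact tw2 _ h1 _ (nU a ha _ h1) e' fun e2 => e' (by
        simpa [mul_assoc] using nY _ (inv_mem ha) _ e2)
  have i2 : (zpowers (u * u)).relIndex (zpowers u) ≤ 2 := H12.SR.idx_two fun x hx y hy x1 y1 =>
    tw2 _ (inv_mem hx) y hy (by rwa [inv_mem_iff]) y1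
  refine ⟨u, hu, sq, ?_, fun y hy => ?_, u1, fun a' ha' s hs a1 a2 a3 s1 s2 s3 => od s ?_ s1⟩
  · rw [← relIndex_mul_relIndex _ _ _ YU UT]
    exact Nat.mul_le_mul i2 (H12.SR.idx_of_card UT cU.le)
  · have cm : ∀ r ∈ T, r * a * r⁻¹ * a⁻¹ ∈ zpowers (u * u) := fun r hr =>
      H12.SR.comm_sq (fun h hh => pow_two h ▸ sq h hh) hr ha
    let f : T ⧸ (centralizer {a}).subgroupOf T → zpowers (u * u) := fun q =>
      ⟨q.out * a * (q.out : G)⁻¹ * a⁻¹, cm _ q.out.2⟩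
    have hf : Function.Injective f := fun x y e => by
      have e1 : (x.out : G) * a * (x.out : G)⁻¹ * a⁻¹ = y.out * a * (y.out : G)⁻¹ * a⁻¹ :=
        congrArg Subtype.val e
      rw [← x.out_eq', ← y.out_eq', QuotientGroup.eq, mem_subgroupOf, mem_centralizer_singleton_iff]
      simp only [coe_mul, coe_inv]
      calc (x.out : G)⁻¹ * y.out * a = (x.out : G)⁻¹ * (y.out * a * (y.out : G)⁻¹ * a⁻¹) * a * y.out := by
            group
        _ = _ := by rw [← e1]; group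
    have h3 := H12.SR.two_le (lt_of_le_of_ne YU fun e =>
      od u (mem_zpowers u) (fun h => ?_) u (e.ge (mem_zpowers u)) rfl)
    · have h4 := crd (K := centralizer {a}) (D := T)
      obtain ⟨q, e⟩ := (hf.bijective_of_nat_card_le (by
        change _ ≤ (centralizer {a}).relIndex T
        nlinarith)).2 ⟨y, hy⟩
      exact ⟨q.out, q.out.2, (congrArg Subtype.val e).symm⟩
    · obtain ⟨k, hk⟩ := h
      have h5 : u ^ (k + k - 1) = 1 := by
        simp only at hk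
        rw [zpow_sub, zpow_add, ← (Commute.refl u).mul_zpow, hk, zpow_one, mul_inv_cancel]
      exact u1 (by rw [odd_pow hG (x := u) (k := k + k - 1) ⟨k - 1, by ring⟩ h5, mul_one])
  · by_contra hh
    have := tw2 _ (tw hs (inv_mem ha) hh (by rwa [inv_mem_iff])) _
      (inv_mem (tw ha' (inv_mem ha) (inU a' a1 a2) (by rwa [inv_mem_iff]))) s2 (by rwa [inv_mem_iff])
    exact s3 (by simpa [mul_assoc] using this)

variable {B : Subgroup G} [B.Normal]

theorem tv (c8 : Nat.card B = 8) (e2 : ∀ x ∈ B, x * x = 1) (ab : ∀ x ∈ B, ∀ y ∈ B, x * y = y * x)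
    {s : G} (ss : s * s = 1) (s1 : s ∉ centralizer (B : Set G)) :
    Nat.card ↥(B ⊓ centralizer {s}) = 4 ∧ ∃ v ∈ B ⊓ centralizer {s}, v ≠ 1 ∧
      (∃ b ∈ B, s * b * s⁻¹ = v * b) ∧ ∀ b ∈ B, s * b * s⁻¹ = b ∨ s * b * s⁻¹ = v * b := by
  have nE : ∀ e ∈ B, s * e * s⁻¹ ∈ B := fun e he => Normal.conj_mem inferInstance e he s
  let δ : B →* B := MonoidHom.mk' (fun e => ⟨s * e * s⁻¹ * e, mul_mem (nE _ e.2) e.2⟩) fun a b =>
    Subtype.ext (by
      change s * (a * b) * s⁻¹ * (a * b) = s * a * s⁻¹ * a * (s * b * s⁻¹ * b)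
      rw [(show Commute (a : G) _ from ab _ a.2 _ (nE _ b.2)).mul_mul_mul_comm, conj_mul])
  have kδ : ∀ e : B, e ∈ δ.ker ↔ s * e = e * s := fun e => by
    rw [MonoidHom.mem_ker, Subtype.ext_iff, ← mul_inv_eq_iff_eq_mul]
    change s * e * s⁻¹ * e = 1 ↔ _
    rw [mul_eq_one_iff_eq_inv, inv_eq_of_mul_eq_one_right (e2 _ e.2)]
  have rk : δ.range ≤ δ.ker := by
    rintro _ ⟨e, rfl⟩
    rw [kδ]
    apply R4.comm_of_conj
    change s * (s * e * s⁻¹ * e) * s⁻¹ = s * e * s⁻¹ * e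
    calc _ = s * s * e * (s * s)⁻¹ * (s * e * s⁻¹) := by group
      _ = _ := by rw [ss, one_mul, inv_one, mul_one, ab _ e.2 _ (nE _ e.2)]
  have k1 := δ.ker.card_mul_index
  rw [index_ker, c8] at k1
  have k2 := card_le_of_le rk
  have k3 : δ.ker < ⊤ := lt_top_iff_ne_top.2 fun e => s1 fun x hx =>
    ((kδ ⟨x, hx⟩).1 (e.ge trivial)).symm
  have k4 := H12.SR.two_le k3
  rw [card_top, c8] at k4
  have k5 : Nat.card δ.ker = 4 ∧ Nat.card δ.range = 2 := by
    generalize Nat.card δ.ker = a at *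
    generalize Nat.card δ.range = b at *
    have : a ≤ 4 := by omega
    interval_cases a <;> omega
  have eZ : B ⊓ centralizer {s} = δ.ker.map B.subtype := le_antisymm
    (fun z hz => ⟨⟨z, hz.1⟩, (kδ _).2 (mem_centralizer_singleton_iff.1 hz.2).symm, rfl⟩) (by
      rintro _ ⟨z, hz, rfl⟩
      exact ⟨z.2, mem_centralizer_singleton_iff.2 ((kδ z).1 hz).symm⟩)
  refine ⟨by rw [eZ, card_subtype, k5.1], ?_⟩
  obtain ⟨⟨⟨v, vE⟩, hv⟩, v1, hu⟩ := (Nat.card_eq_two_iff' (1 : δ.range)).1 k5.2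
  refine ⟨v, ⟨vE, mem_centralizer_singleton_iff.2 ((kδ _).1 (rk hv)).symm⟩,
    fun e => v1 (Subtype.ext (Subtype.ext e)), ?_, fun e he => ?_⟩
  · obtain ⟨e, he⟩ := hv
    exact ⟨e, e.2, (eq_mul_inv_of_mul_eq (congrArg Subtype.val he)).trans
      (by rw [inv_eq_of_mul_eq_one_right (e2 e e.2)])⟩
  have i := inv_eq_of_mul_eq_one_right (e2 e he)
  by_cases h : δ ⟨e, he⟩ = 1
  · exact Or.inl ((eq_inv_of_mul_eq_one_left (congrArg Subtype.val h)).trans i)
  · have := congrArg (fun x => x.1.1) (hu ⟨_, ⟨e, he⟩, rfl⟩ fun h' => h (congrArg Subtype.val h'))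
    exact Or.inr ((eq_mul_inv_of_mul_eq this).trans (by rw [i]))

theorem cm2 {N M : Subgroup G} [N.Normal] [M.Normal] (h : N ≤ M) (hc : Nat.card M ≤ 2 * Nat.card N)
    (g : G) {x : G} (hx : x ∈ M) : g * x * g⁻¹ * x⁻¹ ∈ N := by
  by_cases e : x ∈ N
  · exact mul_mem (Normal.conj_mem inferInstance x e g) (inv_mem e)
  · refine H17.Mw.two_mul h hc (Normal.conj_mem inferInstance x hx g) (inv_mem hx) (fun e' => e ?_)
      (by rwa [inv_mem_iff])
    simpa [mul_assoc] using Normal.conj_mem inferInstance _ e' g⁻¹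

theorem flag (hG : IsPGroup 2 G) (c8 : Nat.card B = 8) (e2 : ∀ x ∈ B, x * x = 1) :
    (centralizer (B : Set G)).index ≤ 8 ∧ H17.Mw.Q (centralizer (B : Set G)) 4 := by
  obtain ⟨P, _, -, PB, cP⟩ := H9.exists_normal_card_eq_pow hG (M := B) (N := ⊥) bot_le (k := 2)
    (by simp) (by omega)
  obtain ⟨Z, _, -, ZP, cZ⟩ := H9.exists_normal_card_eq_pow hG (M := P) (N := ⊥) bot_le (k := 1)
    (by simp) (by omega)
  obtain ⟨p, hp, p1⟩ : ∃ p ∈ P, p ∉ Z := SetLike.not_le_iff_exists.1 fun h => by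
    have := card_le_of_le h; omega
  obtain ⟨b, hb, b1⟩ : ∃ b ∈ B, b ∉ P := SetLike.not_le_iff_exists.1 fun h => by
    have := card_le_of_le h; omega
  have z0 : ∀ g, ∀ z ∈ Z, g * z = z * g := fun g z hz => by
    have := cm2 (N := ⊥) bot_le (by simp [cZ]) g hz
    rwa [mem_bot, mul_inv_eq_one, mul_inv_eq_iff_eq_mul] at this
  have dP : ∀ x ∈ P, x ∉ Z → ∃ z ∈ Z, x = z * p := fun x hx e =>
    ⟨x * p⁻¹, H17.Mw.two_mul ZP (by omega) hx (inv_mem hp) e (by rwa [inv_mem_iff]), by simp⟩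
  have eC : centralizer (B : Set G) = centralizer {p} ⊓ centralizer {b} := le_antisymm
    (fun g hg => ⟨mem_centralizer_singleton_iff.2 (hg p (PB hp)).symm,
      mem_centralizer_singleton_iff.2 (hg b hb).symm⟩) fun g hg x hx => by
      have h1 : ∀ x ∈ P, Commute x g := fun x hx => by
        by_cases e : x ∈ Z
        · exact (z0 g x e).symm
        obtain ⟨z, hz, rfl⟩ := dP x hx e
        exact (show Commute z g from (z0 g z hz).symm).mul_left
          (mem_centralizer_singleton_iff.1 hg.1).symm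
      by_cases e : x ∈ P
      · exact h1 x e
      have := (h1 _ (H17.Mw.two_mul PB (by omega) hx (inv_mem hb) e (by rwa [inv_mem_iff]))).mul_left
        (mem_centralizer_singleton_iff.1 hg.2).symm
      rwa [inv_mul_cancel_right] at this
  have ix : ∀ (y : G) (L : Subgroup G), (∀ g, g * y * g⁻¹ * y⁻¹ ∈ L) →
      (centralizer ({y} : Set G)).index ≤ Nat.card L := fun y L h => by
    rw [← relIndex_top_right]; exact H12.SR.idx_le fun g _ => h g
  have i1 := ix p Z fun g => cm2 ZP (by omega) g hp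
  have i2 := ix b P fun g => cm2 PB (by omega) g hb
  have i3 := index_inf_le (H := centralizer ({p} : Set G)) (K := centralizer {b})
  rw [← eC] at i3
  have i4 : (centralizer (B : Set G)).index ≤ 8 := i3.trans (by nlinarith)
  refine ⟨i4, ?_⟩
  by_cases h1 : ∀ g, g * p = p * g
  · have := ix p ⊥ fun g => by rw [h1 g]; simp
    rw [card_bot] at this
    exact H17.Mw.Q4 (i3.trans (by nlinarith))
  by_cases h2 : ∀ g, g * b * g⁻¹ * b⁻¹ ∈ Z
  · have := ix b Z h2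
    exact H17.Mw.Q4 (i3.trans (by nlinarith))
  obtain ⟨f, f1, f2⟩ : ∃ f, f * p ≠ p * f ∧ f * b * f⁻¹ * b⁻¹ ∉ Z := by
    obtain ⟨g, hg⟩ := not_forall.1 h1
    obtain ⟨h, hh⟩ := not_forall.1 h2
    by_cases e1 : g * b * g⁻¹ * b⁻¹ ∈ Z
    · by_cases e2 : h * p = p * h
      · refine ⟨g * h, fun e => hg ?_, fun e => hh ?_⟩
        · have := (show Commute (g * h) p from e).mul_left (show Commute h p from e2).inv_left
          rwa [mul_inv_cancel_right] at this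
        · have := Normal.conj_mem inferInstance _ (mul_mem e (inv_mem e1)) g⁻¹
          simpa [mul_assoc] using this
      · exact ⟨h, e2, hh⟩
    · exact ⟨g, hg, e1⟩
  refine H17.Mw.Q8 i4 (g := f) fun h => f1 ?_
  have c1 := cm2 PB (by omega) f hb
  obtain ⟨z, hz, e⟩ := dP _ c1 f2
  have h3 : f * (f * b * f⁻¹ * b⁻¹) * f⁻¹ = (f * b * f⁻¹ * b⁻¹)⁻¹ := by
    calc _ = f ^ 2 * b * (f ^ 2)⁻¹ * (f * b⁻¹ * f⁻¹) := by simp [pow_two, mul_assoc]
      _ = _ := by rw [← h b hb]; group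
  rw [inv_eq_of_mul_eq_one_right (e2 _ (PB c1)), e, ← mul_assoc, z0 f z hz, mul_assoc, mul_assoc,
    mul_right_inj, ← mul_assoc, mul_inv_eq_iff_eq_mul] at h3
  exact h3

end Cfsg.Agent.H3.Hd
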