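import Cfsg.Agent.H3.Hd1

/-! Set-up for 2-groups with a self-centralizing elementary abelian subgroup of order 8. -/

set_option autoImplicit false
set_option linter.unusedSectionVars false
open Subgroup

namespace Cfsg.Agent.H3.Hd

variable {G : Type*} [Group G] [Finite G]

structure St (A B : Subgroup G) : Prop where
  hG : IsPGroup 2 G
  c8 : Nat.card B = 8
  e2 : ∀ x ∈ B, x * x = 1
  ab : ∀ x ∈ B, ∀ y ∈ B, x * y = y * x
  a8 : Nat.card A = 8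
  a2 : ∀ x ∈ A, x * x = 1
  cA : centralizer (A : Set G) = A

structure Gd (A B : Subgroup G) : Prop where
  ac : A ⊓ centralizer (B : Set G) ≤ B
  gd : ∀ a ∈ A, a ∉ B → centralizer (B : Set G) ⊓ centralizer {a} ≤ B
  xa : ∀ a ∈ A, a ∉ B → ∀ X : Subgroup G, X ≤ centralizer (B : Set G) →
    (∀ x ∈ X, x * a * x⁻¹ * a⁻¹ ∈ B) → Nat.card X ≤ 16

structure Bad (H K : Subgroup G) : Prop where
  le : K ≤ H
  sq : ∀ h ∈ H, h ^ 2 ∈ K
  big : 32 ≤ K.relIndex H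

structure Y1 (B S Y : Subgroup G) (a : G) : Prop where
  BY : B ≤ Y
  YC : Y ≤ centralizer (B : Set G)
  YS : Y ≤ S
  ab : ∀ x ∈ Y, ∀ y ∈ Y, x * y = y * x
  sq : ∀ r ∈ S, r * r ∈ Y
  ix : Y.relIndex S ≤ 4
  cm : ∀ y ∈ Y, ∃ r ∈ S, ∃ b ∈ B, y = r * a * r⁻¹ * a⁻¹ * b
  gen : ∃ u ∈ S, u * u ∉ B ∧ ∀ y ∈ Y, ∃ k : ℤ, ∃ b ∈ B, y = (u * u) ^ k * b
  five : ∀ a' ∈ S, ∀ s ∈ S, a' * a' = 1 → a' ∉ Y → a' * a⁻¹ ∉ Y → s ∉ Y → s * a⁻¹ ∉ Y →
    s * a'⁻¹ ∉ Y → ∀ y ∈ Y, s * s ≠ y * y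

structure Y2 (B S Y : Subgroup G) (a v w : G) : Prop where
  nS : S.Normal
  iS : S.index ≤ 2
  nY : Y.Normal
  mS : ∀ g, g * v = v * g → g ∈ S
  v1 : v ≠ 1
  vw : v ≠ w
  w1 : w ≠ 1
  wc : ∀ g, g * w = w * g
  vb : ∃ b ∈ B, a * b * a⁻¹ = v * b
  vb' : ∀ b ∈ B, a * b * a⁻¹ = b ∨ a * b * a⁻¹ = v * b
  om : ∀ y ∈ Y, y * y ∈ B → y ∈ B ∨ y * y = w

variable {A B H K : Subgroup G}

theorem St.aab (h : St A B) {x y : G} (hx : x ∈ A) (hy : y ∈ A) : x * y = y * x :=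
  (h.cA.ge hy) x hx

theorem St.BC (h : St A B) : B ≤ centralizer (B : Set G) := fun y hy x hx => h.ab x hx y hy

theorem Bad.al [B.Normal] (h : Bad H K) (h1 : B ≤ H) (h2 : ∀ x ∈ K, x ∈ B → x = 1) :
    32 ≤ Nat.card (centralizer (B : Set G)) := by
  have h3 : H ≤ centralizer (B : Set G) := fun g hg b hb => by
    have := h2 _ (H12.SR.comm_sq h.sq hg (h1 hb))
      (mul_mem (Normal.conj_mem inferInstance b hb g) (inv_mem hb))
    rw [mul_inv_eq_one, mul_inv_eq_iff_eq_mul] at this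
    exact this.symm
  have h4 := crd (K := K) (D := H)
  have h5 : 0 < Nat.card ↥(K ⊓ H) := Nat.card_pos
  have h6 := card_le_of_le h3
  have := h.big
  nlinarith

end Cfsg.Agent.H3.Hd
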