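import Cfsg.Agent.H3.Hd2

/-! The final count for 2-groups with a self-centralizing elementary abelian subgroup of order 8. -/

set_option autoImplicit false
set_option linter.unusedSectionVars false
open Subgroup

namespace Cfsg.Agent.H3.Hd

variable {G : Type*} [Group G] [Finite G] {A B H K : Subgroup G} [B.Normal]

theorem y3 {S Y : Subgroup G} {a v w : G} (h : St A B) (aC : a ∉ centralizer (B : Set G))
    (aa : a * a = 1) (aS : a ∈ S) (hy : Y1 B S Y a) (h2 : Y2 B S Y a v w) (hb : Bad H K) :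
    False := by
  have := h2.nS
  have := h2.nY
  obtain ⟨b, hb0, eb⟩ := h2.vb
  have nB : ∀ g, ∀ x ∈ B, g * x * g⁻¹ ∈ B := fun g x hx => Normal.conj_mem inferInstance x hx g
  have act : ∀ x y : G, x * y⁻¹ ∈ Y → ∀ b ∈ B, x * b * x⁻¹ = y * b * y⁻¹ := by
    intro x y e b hb
    have := hy.YC e _ (nB y b hb)
    calc x * b * x⁻¹ = x * y⁻¹ * (y * b * y⁻¹) * (x * y⁻¹)⁻¹ := by group
      _ = _ := by rw [← this, mul_inv_cancel_right]
  have cj : ∀ g, g * a * g⁻¹ * (g * b * g⁻¹) * (g * a * g⁻¹)⁻¹ = g * v * g⁻¹ * (g * b * g⁻¹) :=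
    fun g => by
      calc _ = g * (a * b * a⁻¹) * g⁻¹ := by group
        _ = _ := by rw [eb]; group
  have vv : ∀ g, g * a * g⁻¹ * a⁻¹ ∈ Y → g ∈ S := fun g e => by
    have e1 := act _ _ e _ (nB g b hb0)
    rw [cj] at e1
    rcases h2.vb' _ (nB g b hb0) with e2 | e2
    · rw [e2, mul_eq_right] at e1
      exact absurd (conj_eq_one_iff.1 e1) h2.v1
    · rw [e2, mul_left_inj] at e1
      exact h2.mS g (R4.comm_of_conj e1)
  have q4 : H17.Mw.Q Y 4 := by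
    by_cases e : ∀ g : G, g ^ 2 ∈ Y
    · have e1 : S = ⊤ := eq_top_iff.2 fun g _ =>
        vv g (H12.SR.comm_sq (H := ⊤) (fun x _ => e x) trivial trivial)
      refine H17.Mw.Q4 ?_
      rw [← relIndex_top_right, ← e1]
      exact hy.ix
    · obtain ⟨g, hg⟩ := not_forall.1 e
      refine H17.Mw.Q8 ?_ hg
      rw [← relIndex_mul_index hy.YS]
      exact Nat.mul_le_mul hy.ix h2.iS
  have r := H17.Mw.comb Y hb.sq
  have r2 := q4 H ((K ⊓ H) ⊔ Y) le_sup_right fun x hx => mem_sup_left ⟨hb.sq x hx, pow_mem hx 2⟩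
  let σ : ↥(Y ⊓ H) →* ↥(Y ⊓ H) := MonoidHom.mk' (fun d => d * d) fun x y =>
    (show Commute y x from Subtype.ext (hy.ab _ y.2.1 _ x.2.1)).mul_mul_mul_comm x y
  have k1 := σ.ker.card_mul_index
  rw [index_ker] at k1
  have k2 : σ.ker.map (Y ⊓ H).subtype ≤ B := by
    rintro _ ⟨d, hd, rfl⟩
    have e : (d : G) * d = 1 := congrArg Subtype.val hd
    exact (h2.om d d.2.1 (e ▸ one_mem B)).resolve_right fun e' => h2.w1 (e'.symm.trans e)
  have k3 : σ.range.map (Y ⊓ H).subtype ≤ K ⊓ (Y ⊓ H) := by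
    rintro _ ⟨_, ⟨d, rfl⟩, rfl⟩
    exact ⟨(pow_two (d : G) ▸ hb.sq d d.2.2 : (d : G) * d ∈ K), (σ d).2⟩
  have k4 := crd (K := K) (D := Y ⊓ H)
  have k5 := card_le_of_le k2
  have k6 := card_le_of_le k3
  have k7 : 0 < Nat.card ↥(K ⊓ (Y ⊓ H)) := Nat.card_pos
  have big := hb.big
  rw [card_subtype] at k5 k6
  have c8 := h.c8
  have r1 : 8 ≤ K.relIndex (Y ⊓ H) := by nlinarith
  have n1 : Nat.card ↥(K ⊓ (Y ⊓ H)) ≤ Nat.card σ.range := by nlinarith
  have n2 : 8 ≤ Nat.card σ.ker := by nlinarith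
  have n3 : K.relIndex (Y ⊓ H) ≤ 8 := by nlinarith
  have n4 : 4 ≤ ((K ⊓ H) ⊔ Y).relIndex H := by nlinarith
  have BH : B ≤ H := ((eq_of_le_of_card_ge k2 (by rw [card_subtype]; omega)).ge.trans
    (map_subtype_le _)).trans inf_le_right
  have KD : ∀ x ∈ K, x ∈ Y → x ∈ H → ∃ d ∈ Y, d * d = x := fun x x1 x2 x3 => by
    obtain ⟨_, ⟨d, rfl⟩, e⟩ := (eq_of_le_of_card_ge k3 (by rw [card_subtype]; omega)).ge ⟨x1, x2, x3⟩
    exact ⟨d, d.2.1, e⟩
  have no : ∀ x ∈ H, ∀ g, x * (g * a * g⁻¹)⁻¹ ∉ Y := fun x hx g e => by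
    have e1 := act _ _ e _ (nB g b hb0)
    rw [cj] at e1
    have e2 := H12.SR.comm_sq hb.sq hx (BH (nB g b hb0))
    have e3 := mul_mem (nB x _ (nB g b hb0)) (inv_mem (nB g b hb0))
    rw [e1, mul_inv_cancel_right] at e2 e3
    obtain ⟨d, hd, e4⟩ := KD _ e2 (hy.BY e3) (BH e3)
    rcases h2.om d hd (e4 ▸ e3) with e5 | e5
    · exact h2.v1 (conj_eq_one_iff.1 (e4.symm.trans (h.e2 d e5)))
    · refine h2.vw (mul_left_cancel (a := g) ?_)
      rw [h2.wc, ← e5, e4, inv_mul_cancel_right]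
  have y4 : 4 ≤ Y.relIndex H :=
    n4.trans (relIndex_le_of_le_left le_sup_right (H16.relIndex_pos _ _).ne')
  obtain ⟨g, hg, gS⟩ : ∃ g ∈ H, g ∉ S := SetLike.not_le_iff_exists.1 fun e => by
    have e1 := relIndex_mul_relIndex Y (H ⊔ Y) S le_sup_right (sup_le e hy.YS)
    rw [relIndex_sup_right] at e1
    have e2 := H16.relIndex_pos (H ⊔ Y) S
    have e3 := hy.ix
    have e4 := relIndex_eq_one.1 (show (H ⊔ Y).relIndex S = 1 by nlinarith) aS
    rw [← SetLike.mem_coe, mul_normal] at e4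
    obtain ⟨x, hx, y, hy', e5⟩ := e4
    refine no x hx 1 ?_
    simpa [← e5, mul_assoc] using Normal.conj_mem inferInstance _ (inv_mem hy') x
  obtain ⟨s, hs, sY⟩ : ∃ s ∈ S ⊓ H, s ∉ Y := SetLike.not_le_iff_exists.1 fun e => by
    have e1 := relIndex_le_of_le_left e (H16.relIndex_pos _ H).ne'
    rw [inf_relIndex_right] at e1
    have e2 := H17.Mw.rel_le S H
    have e3 := h2.iS
    omega
  obtain ⟨d, hd, e⟩ := KD (s * s) (pow_two s ▸ hb.sq s hs.2) (hy.sq s hs.1) (mul_mem hs.2 hs.2)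
  refine hy.five (g * a * g⁻¹) (Normal.conj_mem inferInstance a aS g) s hs.1
    (by rw [conj_mul, aa]; simp) (fun e => aC (hy.YC ?_)) (fun e => gS (vv g e))
    sY (by simpa using no s hs.2 1) (no s hs.2 g) d hd e.symm
  simpa [mul_assoc] using Normal.conj_mem inferInstance _ e g⁻¹

theorem eqc (h : St B B) (hb : Bad H K) : False := by
  have e := h.cA
  have r := H17.Mw.comb (centralizer (B : Set G)) hb.sq
  have r2 := (flag h.hG h.c8 h.e2).2 H ((K ⊓ H) ⊔ centralizer (B : Set G)) le_sup_right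
    fun x hx => mem_sup_left ⟨hb.sq x hx, pow_mem hx 2⟩
  rw [e] at r r2
  have k4 := crd (K := K) (D := B ⊓ H)
  have k5 := card_le_of_le (inf_le_left : B ⊓ H ≤ B)
  have k7 : 0 < Nat.card ↥(K ⊓ (B ⊓ H)) := Nat.card_pos
  have big := hb.big
  have c8 := h.c8
  have r1 : 8 ≤ K.relIndex (B ⊓ H) := by nlinarith
  have BH : B ≤ H := (eq_of_le_of_card_ge (inf_le_left : B ⊓ H ≤ B) (by nlinarith)).ge.trans
    inf_le_right
  have n1 : K ⊓ (B ⊓ H) = ⊥ := (card_le_one_iff_eq_bot _).1 (by nlinarith)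
  have := hb.al BH fun x x1 x2 => mem_bot.1 (n1.le ⟨x1, x2, BH x2⟩)
  rw [e] at this
  omega

theorem fin (h : St A B) (hb : ∀ H K : Subgroup G, ¬ Bad H K) : H17.Mw.R (⊤ : Subgroup G) 16 := by
  intro H K _ h2
  by_contra hh
  obtain ⟨n, hn⟩ := H17.Mw.pow2 h.hG K H
  refine hb H (K ⊓ H) ⟨inf_le_right, fun x hx => ⟨h2 x hx, pow_mem hx 2⟩, ?_⟩
  rw [inf_relIndex_right, hn]
  rw [hn, not_le] at hh
  exact Nat.pow_le_pow_right (n := 2) (i := 5) (by norm_num)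
    ((Nat.pow_lt_pow_iff_right (a := 2) (n := 4) (by norm_num)).1 hh)

theorem ex (hG : IsPGroup 2 G) (a8 : Nat.card A = 8) (a2 : ∀ x ∈ A, x * x = 1)
    (cA : centralizer (A : Set G) = A) :
    H17.Mw.R (⊤ : Subgroup G) 16 ∨ ∃ B : Subgroup G, B.Normal ∧ St A B := by
  by_cases h : ∀ A : Subgroup G, A.Normal → IsMulCommutative A → (∀ a ∈ A, a ^ 2 = 1) → Nat.card A ≤ 4
  · exact Or.inl (H17.Mw.macw hG h)
  push Not at h
  obtain ⟨M, _, m1, m2, m3⟩ := h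
  obtain ⟨n, hn⟩ := H9.card_eq_pow hG M
  obtain ⟨B, nB, -, BM, cB⟩ := H9.exists_normal_card_eq_pow hG (M := M) (N := ⊥) bot_le (k := 3)
    (by simp) (by
      rw [hn] at m3 ⊢
      exact Nat.pow_le_pow_right (by norm_num)
        ((Nat.pow_lt_pow_iff_right (a := 2) (n := 2) (by norm_num)).1 m3))
  exact Or.inr ⟨B, nB, hG, cB, fun x hx => pow_two x ▸ m2 x (BM hx), fun x hx y hy =>
    congrArg Subtype.val (m1.1.1 ⟨x, BM hx⟩ ⟨y, BM hy⟩), a8, a2, cA⟩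

end Cfsg.Agent.H3.Hd
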