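import Cfsg.Agent.H3.Hd3

/-! The central involution `w` and the involution `v`. -/

set_option autoImplicit false
set_option linter.unusedSectionVars false
open Subgroup

namespace Cfsg.Agent.H3.Hd

variable {G : Type*} [Group G] [Finite G] {A B Y : Subgroup G} [B.Normal] {a : G}

theorem y2 (h : St A B) (g : Gd A B) (ha : a ∈ A) (aB : a ∉ B) (c4 : Nat.card ↥(A ⊓ B) = 4)
    (hy : Y1 B (centralizer ((A ⊓ B : Subgroup G) : Set G)) Y a) :
    ∃ v w, Y2 B (centralizer ((A ⊓ B : Subgroup G) : Set G)) Y a v w := by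
  have aC : a ∉ centralizer (B : Set G) := fun e => aB (g.ac ⟨ha, e⟩)
  have aa := h.a2 a ha
  obtain ⟨p4, v, hv, v1, ⟨b, hb, eb⟩, vb'⟩ := tv h.c8 h.e2 h.ab aa aC
  have eP : A ⊓ B = B ⊓ centralizer {a} := eq_of_le_of_card_ge
    (fun x hx => ⟨hx.2, mem_centralizer_singleton_iff.2 (h.aab hx.1 ha)⟩) (by omega)
  have iB : ∀ x ∈ B, x⁻¹ = x := fun x hx => inv_eq_of_mul_eq_one_right (h.e2 x hx)
  have inv : ∀ y ∈ Y, a * y * a⁻¹ = y⁻¹ ∨ a * y * a⁻¹ = v * y⁻¹ := fun y hy' => by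
    obtain ⟨r, -, c, hc, e⟩ := hy.cm y hy'
    have e1 : a * (r * a * r⁻¹ * a⁻¹) * a⁻¹ = (r * a * r⁻¹ * a⁻¹)⁻¹ := by
      calc _ = a * r * a * r⁻¹ * (a * a)⁻¹ := by group
        _ = _ := by rw [aa]; simp [inv_eq_of_mul_eq_one_right aa, mul_assoc]
    have m : (r * a * r⁻¹ * a⁻¹)⁻¹ ∈ centralizer (B : Set G) := inv_mem (hy.YC (by
      rw [eq_mul_inv_of_mul_eq e.symm]; exact mul_mem hy' (inv_mem (hy.BY hc))))
    generalize r * a * r⁻¹ * a⁻¹ = d at e e1 m
    rw [e, ← conj_mul, e1, mul_inv_rev, iB c hc]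
    rcases vb' c hc with e2 | e2
    · exact Or.inl (by rw [e2, m c hc])
    · exact Or.inr (by rw [e2, ← m _ (mul_mem hv.1 hc), mul_assoc])
  obtain ⟨u, hu, u1, gen⟩ := hy.gen
  obtain ⟨j, y1, y2⟩ := H9.exists_pow_not_mem_pow_mem h.hG u1
  have y0 : (u * u) ^ 2 ^ j ∈ Y := pow_mem (hy.sq u hu) _
  have om0 : ∀ y ∈ Y, y * y ∈ B → y ∈ B ∨ y * ((u * u) ^ 2 ^ j)⁻¹ ∈ B := fun y hy' yy => by
    obtain ⟨k, c, hc, rfl⟩ := gen y hy'
    let q := QuotientGroup.mk' B
    have mq : ∀ x, x ∈ B ↔ q x = 1 := fun x => (QuotientGroup.eq_one_iff x).symm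
    have qc := (mq c).1 hc
    rw [mq] at y1 y2 yy ⊢
    rw [mq]
    simp only [map_mul, map_pow, map_zpow, map_inv, qc, mul_one] at y1 y2 yy ⊢
    generalize q u * q u = x at y1 y2 yy ⊢
    have o : orderOf x = 2 ^ (j + 1) := orderOf_eq_prime_pow y1 (by rwa [pow_succ, pow_mul])
    rw [← zpow_add, ← orderOf_dvd_iff_zpow_eq_one, o] at yy
    obtain ⟨m, hm⟩ := yy
    have hk : k = (2 ^ j : ℕ) * m := by push_cast at hm ⊢; rw [pow_succ] at hm; linarith
    rw [hk, zpow_mul, zpow_natCast]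
    generalize x ^ 2 ^ j = t at y2
    have y3 : t ^ (2 : ℤ) = 1 := mod_cast y2
    rcases Int.even_or_odd' m with ⟨l, rfl | rfl⟩
    · exact Or.inl (by rw [zpow_mul, y3, one_zpow])
    · exact Or.inr (by rw [zpow_add, zpow_mul, y3, one_zpow, one_mul, zpow_one, mul_inv_cancel])
  generalize (u * u) ^ 2 ^ j = y at y0 y1 y2 om0
  rw [pow_two] at y2
  have yC := hy.YC y0
  have sqb : ∀ c ∈ B, c * y * (c * y) = y * y := fun c hc => by
    rw [mul_assoc, ← mul_assoc y, ← yC c hc, mul_assoc, ← mul_assoc, h.e2 c hc, one_mul]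
  have yi : y⁻¹ = y * y * y := inv_eq_of_mul_eq_one_right (by
    rw [← h.e2 _ y2]; simp [mul_assoc])
  have ne : ¬ (a * y * a⁻¹ = y ∨ a * y * a⁻¹ = v * y) := by
    rintro (e | e)
    · exact y1 (g.gd a ha aB ⟨yC, mem_centralizer_singleton_iff.2 (R4.comm_of_conj e).symm⟩)
    · refine y1 ((mul_mem_cancel_right hb).1 (g.gd a ha aB ⟨mul_mem yC (h.BC hb),
        mem_centralizer_singleton_iff.2 (R4.comm_of_conj ?_).symm⟩))
      rw [← conj_mul, e, eb, yC v hv.1, mul_assoc, ← mul_assoc v, h.e2 v hv.1, one_mul]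
  have w1 : y * y ≠ 1 := fun e => ne (by simpa [yi, e] using inv y y0)
  have vw : v ≠ y * y := fun e => ne (by
    have := inv y y0
    rw [yi, ← e, ← mul_assoc v, h.e2 v hv.1, one_mul] at this
    exact this.symm)
  have nB : ∀ g, ∀ x ∈ B, g * x * g⁻¹ ∈ B := fun g x hx => Normal.conj_mem inferInstance x hx g
  have wc : ∀ t, t * (y * y) = y * y * t := fun t => by
    obtain ⟨X, _, x1, x2, x3, x4, -⟩ := H9.exists_normal_card_eq_mul h.hG
      (lt_of_le_of_ne h.BC fun e => y1 (e.ge yC))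
    let q := QuotientGroup.mk' B
    have mq : ∀ x, x ∈ (centralizer {q a}).comap q ↔ x * a * x⁻¹ * a⁻¹ ∈ B := fun x => by
      rw [mem_comap, mem_centralizer_singleton_iff, ← QuotientGroup.eq_one_iff,
        ← mul_inv_eq_one, mul_inv_rev, ← mul_assoc]
      rfl
    have x5 : X ≤ centralizer (B : Set G) ⊓ (centralizer {q a}).comap q := fun x hx =>
      ⟨x2 hx, (mq x).2 (x4 (commutator_mem_commutator hx (mem_top a)))⟩
    have x6 := g.xa a ha aB (centralizer (B : Set G) ⊓ (centralizer {q a}).comap q) inf_le_left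
      fun x hx => (mq x).1 hx.2
    have x7 : y ∈ X := (eq_of_le_of_card_ge x5 (by rw [x3, h.c8]; exact x6)).ge ⟨yC, (mq y).2 (by
      have : y * a * y⁻¹ * a⁻¹ = y * (a * y * a⁻¹)⁻¹ := by group
      rw [this]
      rcases inv y y0 with e | e
      · rw [e, inv_inv]; exact y2
      · rw [e, mul_inv_rev, inv_inv, ← mul_assoc]; exact mul_mem y2 (inv_mem hv.1))⟩
    have x8 := sqb _ (cm2 x1 x3.le t x7)
    rw [inv_mul_cancel_right, conj_mul] at x8
    exact R4.comm_of_conj x8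
  have wP : y * y ∈ B ⊓ centralizer {a} := ⟨y2, mem_centralizer_singleton_iff.2 (wc a).symm⟩
  have four : ∀ x ∈ B ⊓ centralizer {a}, x ≠ 1 → x ≠ v → x ≠ y * y → x = v * (y * y) :=
    fun x hx x1 x2 x3 => R4.four_el p4.le hv wP hx v1 w1 x1 vw x2.symm x3.symm fun e =>
      vw ((eq_inv_of_mul_eq_one_left e).trans (iB _ y2))
  have mS : ∀ t, t * v = v * t → t ∈ centralizer ((A ⊓ B : Subgroup G) : Set G) := fun t e x hx => by
    rw [eP] at hx
    by_cases x1 : x = 1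
    · simp [x1]
    by_cases x2 : x = v
    · rw [x2, e]
    by_cases x3 : x = y * y
    · rw [x3, wc]
    rw [four x hx x1 x2 x3, mul_assoc, ← wc, ← mul_assoc, ← e, mul_assoc]
  have mS' : ∀ t ∈ centralizer ((A ⊓ B : Subgroup G) : Set G), t * v = v * t := fun t ht =>
    (ht v (eP.ge hv)).symm
  have nW : (zpowers (y * y)).Normal := ⟨by
    rintro _ ⟨k, rfl⟩ t
    rw [((show Commute t (y * y) from wc t).zpow_right k).eq, mul_inv_cancel_right]
    exact ⟨k, rfl⟩⟩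
  have eW : ∀ x ∈ zpowers (y * y), x = 1 ∨ x = y * y := by
    rintro _ ⟨k, rfl⟩
    have y3 : (y * y) ^ (2 : ℤ) = 1 := by rw [zpow_two, h.e2 _ y2]
    rcases Int.even_or_odd' k with ⟨l, rfl | rfl⟩
    · exact Or.inl (by simp only; rw [zpow_mul, y3, one_zpow])
    · exact Or.inr (by simp only; rw [zpow_add, zpow_mul, y3, one_zpow, one_mul, zpow_one])
  have cv : ∀ t, v * t * v⁻¹ * t⁻¹ ∈ zpowers (y * y) := fun t => by
    obtain ⟨p, hp, p1, -, p2⟩ := H9.exists_central_step h.hG (M := B) (N := zpowers (y * y))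
      fun e => (eW v (e hv.1)).elim v1 vw
    have pa : p ∈ B ⊓ centralizer {a} := ⟨hp, mem_centralizer_singleton_iff.2 (by
      rcases vb' p hp with e | e
      · exact (R4.comm_of_conj e).symm
      · have := inv_mem (p2 a)
        rw [commutatorElement_inv, commutatorElement_def, e, mul_inv_cancel_right] at this
        exact absurd (eW v this) (not_or.2 ⟨v1, vw⟩))⟩
    have := p2 t
    rw [commutatorElement_def] at this
    by_cases e : p = v
    · rwa [e] at this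
    · rw [four p pa (fun e => p1 (e ▸ one_mem _)) (e) (fun e => p1 (e ▸ mem_zpowers _)), mul_assoc v,
        ← wc] at this
      simpa [mul_assoc] using this
  have cS : ∀ t s : G, s ∈ centralizer ((A ⊓ B : Subgroup G) : Set G) →
      t * s * t⁻¹ ∈ centralizer ((A ⊓ B : Subgroup G) : Set G) := fun t s hs => mS _ (by
    apply R4.comm_of_conj
    have e1 : t⁻¹ * v * t = (v * t⁻¹ * v⁻¹ * t⁻¹⁻¹)⁻¹ * v := by group
    have e2 : s * (t⁻¹ * v * t) = t⁻¹ * v * t * s := by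
      rw [e1]
      rcases eW _ (inv_mem (cv t⁻¹)) with e | e
      · rw [e, one_mul, mS' s hs]
      · rw [e, ← mul_assoc, wc s, mul_assoc _ s, mS' s hs, mul_assoc _ v]
    calc _ = t * (s * (t⁻¹ * v * t)) * s⁻¹ * t⁻¹ := by group
      _ = _ := by rw [e2]; group)
  refine ⟨v, y * y, ⟨fun s hs t => cS t s hs⟩, ?_, ⟨fun x hx t => ?_⟩, mS, v1, vw, w1, wc, ⟨b, hb, eb⟩,
    vb', fun x hx xx => (om0 x hx xx).imp_right fun e => ?_⟩
  · rw [← relIndex_top_right]
    refine H12.SR.idx_two fun s _ t _ s1 t1 => mS _ ?_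
    have k : ∀ s, s ∉ centralizer ((A ⊓ B : Subgroup G) : Set G) → v * s * v⁻¹ = y * y * s :=
      fun s hs => eq_mul_of_mul_inv_eq ((eW _ (cv s)).resolve_left fun e => hs (mS s (by
        rw [mul_inv_eq_one, mul_inv_eq_iff_eq_mul] at e; exact e.symm)))
    refine (R4.comm_of_conj ?_).symm
    rw [← conj_mul, ← conj_inv, k s s1, k t t1]
    group
  · obtain ⟨k, c, hc, rfl⟩ := gen x hx
    rw [← conj_mul, ← conj_zpow, ← conj_mul]
    exact mul_mem (zpow_mem (hy.sq _ (cS t u hu)) k) (hy.BY (nB t c hc))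
  · rw [← sqb _ e, inv_mul_cancel_right]

end Cfsg.Agent.H3.Hd
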