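import Cfsg.Agent.H26.Hig3

/-! Finite 2-groups all of whose elementary sections are vector spaces under a group of scalars. -/

set_option autoImplicit false
set_option linter.unusedSectionVars false

namespace Cfsg.Agent.H3.HgA

open Subgroup
open scoped commutatorElement

universe u

variable {F : Type*} [Field F] [Fintype F] [CharP F 2] {Q : Type u} [Group Q]

/-- `f` is a homomorphism from `A` to an elementary abelian 2-group -/
structure El {E : Type*} [Group E] (A : Subgroup Q) (f : Q → E) : Prop where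
  mul : ∀ x ∈ A, ∀ y ∈ A, f (x * y) = f x * f y
  sq : ∀ x ∈ A, f x * f x = 1

namespace El
variable {E : Type*} [Group E] {A : Subgroup Q} {f : Q → E} (h : El A f)
include h

theorem one : f 1 = 1 := by simpa using h.mul 1 A.one_mem 1 A.one_mem

theorem inv {x : Q} (hx : x ∈ A) : f x⁻¹ = f x := by
  have h1 := h.mul _ (A.inv_mem hx) _ hx
  rw [inv_mul_cancel, h.one] at h1
  exact mul_right_cancel (h1.symm.trans (h.sq x hx).symm)

theorem swap {x y : Q} (hx : x ∈ A) (hy : y ∈ A) : f x * f y = f y * f x := by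
  rw [← h.mul x hx y hy, ← h.inv (A.mul_mem hx hy), mul_inv_rev, h.mul _ (A.inv_mem hy) _ (A.inv_mem hx),
    h.inv hx, h.inv hy]

theorem comm {x y : Q} (hx : x ∈ A) (hy : y ∈ A) : f ⁅x, y⁆ = 1 := by
  rw [commutatorElement_def, h.mul _ (A.mul_mem (A.mul_mem hx hy) (A.inv_mem hx)) _ (A.inv_mem hy),
    h.mul _ (A.mul_mem hx hy) _ (A.inv_mem hx), h.mul _ hx _ hy, h.inv hx, h.inv hy, mul_assoc (f x * f y),
    ← h.mul x hx y hy, h.sq _ (A.mul_mem hx hy)]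

/-- the kernel -/
def ker : Subgroup Q where
  carrier := {x | x ∈ A ∧ f x = 1}
  one_mem' := ⟨A.one_mem, h.one⟩
  mul_mem' := fun {x y} hx hy => ⟨A.mul_mem hx.1 hy.1, by rw [h.mul x hx.1 y hy.1, hx.2, hy.2, one_mul]⟩
  inv_mem' := fun {x} hx => ⟨A.inv_mem hx.1, by rw [h.inv hx.1, hx.2]⟩

theorem congr {x y : Q} (hx : x ∈ A) (hxy : x⁻¹ * y ∈ h.ker) : f y = f x := by
  have := h.mul x hx _ hxy.1
  rwa [mul_inv_cancel_left, hxy.2, mul_one] at this

end El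

theorem El.der_le {E : Type*} [Group E] {f : Q → E} (h : El ⊤ f) : commutator Q ≤ h.ker :=
  commutator_le.2 fun _ _ _ _ => ⟨trivial, h.comm trivial trivial⟩

theorem El.sq_le {E : Type*} [Group E] {f : Q → E} {A : Subgroup Q} (h : El A f) : H26.Sq A ≤ h.ker :=
  H26.Sq_le_iff.2 fun x hx => ⟨A.mul_mem hx hx, (h.mul x hx x hx).trans (h.sq x hx)⟩

theorem el_mk (N : Subgroup Q) [N.Normal] {A : Subgroup Q} (h : ∀ x ∈ A, x * x ∈ N) :
    El A (fun x => (x : Q ⧸ N)) :=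
  ⟨fun _ _ _ _ => rfl, fun x hx => (QuotientGroup.eq_one_iff _).2 (h x hx)⟩

theorem cm (x y : Q) : ⁅x, y⁆ ∈ commutator Q := commutator_mem_commutator trivial trivial

theorem bil {E : Type*} [Group E] {f : Q → E} (h : El (commutator Q) f)
    (h3 : ∀ g : Q, ∀ u ∈ commutator Q, f ⁅g, u⁆ = 1) (y : Q) :
    El ⊤ (fun x : Q => f ⁅x, y⁆) ∧ El ⊤ (fun x : Q => f ⁅y, x⁆) := by
  have h1 : El ⊤ (fun x : Q => f ⁅x, y⁆) := ⟨fun x _ x' _ => by
    have : ⁅x * x', y⁆ = ⁅x, ⁅x', y⁆⁆ * (⁅x', y⁆ * ⁅x, y⁆) := by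
      simp only [commutatorElement_def]; group
    rw [this, h.mul _ (cm _ _) _ (mul_mem (cm _ _) (cm _ _)), h3 _ _ (cm _ _), one_mul,
      h.mul _ (cm _ _) _ (cm _ _), h.swap (cm _ _) (cm _ _)], fun x _ => h.sq _ (cm _ _)⟩
  refine ⟨h1, ?_⟩
  have : (fun x : Q => f ⁅y, x⁆) = fun x : Q => f ⁅x, y⁆ := funext fun x => by
    rw [← commutatorElement_inv x y, h.inv (cm _ _)]
  rwa [this]

/-- invariant subgroups -/
def Inv (s : F → Q →* Q) (A : Subgroup Q) : Prop := ∀ a, ∀ x ∈ A, s a x ∈ A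

theorem inv_top (s : F → Q →* Q) : Inv s ⊤ := fun _ _ _ => trivial

theorem inv_der (s : F → Q →* Q) : Inv s (commutator Q) := fun a x hx =>
  (map_commutator ⊤ ⊤ (s a)).le.trans (commutator_mono le_top le_top) ⟨x, hx, rfl⟩

theorem Inv.sq {s : F → Q →* Q} {A : Subgroup Q} (h : Inv s A) : Inv s (H26.Sq A) := fun a x hx =>
  (show H26.Sq A ≤ (H26.Sq A).comap (s a) from H26.Sq_le_iff.2 fun y hy => by
    rw [mem_comap, map_mul]; exact H26.sq_mem_Sq (h a y hy)) hx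

/-- the induced maps on a quotient -/
def qs (s : F → Q →* Q) (N : Subgroup Q) [N.Normal] (h : Inv s N) (a : F) : Q ⧸ N →* Q ⧸ N :=
  QuotientGroup.map N N (s a) (h a)

theorem qs_mk (s : F → Q →* Q) (N : Subgroup Q) [N.Normal] (h : Inv s N) (a : F) (x : Q) :
    qs s N h a x = s a x := rfl

/-- an action of the multiplicative monoid of `F` -/
structure SM (s : F → Q →* Q) : Prop where
  mul : ∀ a b x, s (a * b) x = s a (s b x)
  one : ∀ x, s 1 x = x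
  zero : ∀ x, s 0 x = 1

/-- an action by scalars -/
structure SA (s : F → Q →* Q) : Prop extends SM s where
  add : ∀ (A : Subgroup Q) {E : Type u} [Group E] (f : Q → E), Inv s A → El A f → ∀ a b, ∀ x ∈ A,
    f (s (a + b) x) = f (s a x) * f (s b x)

/-- central elements of order at most two -/
def Om (Q : Type u) [Group Q] : Subgroup Q where
  carrier := {z | z * z = 1 ∧ ∀ g, Commute g z}
  one_mem' := ⟨mul_one 1, fun g => Commute.one_right g⟩
  mul_mem' := fun {x y} hx hy => ⟨by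
    rw [mul_assoc, ← mul_assoc y, (hx.2 y).eq, mul_assoc, hy.1, mul_one, hx.1],
    fun g => (hx.2 g).mul_right (hy.2 g)⟩
  inv_mem' := fun {x} hx => ⟨by rw [← mul_inv_rev, hx.1, inv_one], fun g => (hx.2 g).inv_right⟩

instance : (Om Q).Normal := ⟨fun n hn g => by rwa [(hn.2 g).eq, mul_inv_cancel_right]⟩

theorem el_Om {A : Subgroup Q} (h : A ≤ Om Q) : El A (fun x => x) :=
  ⟨fun _ _ _ _ => rfl, fun _ hx => (h hx).1⟩

namespace SM
variable {s : F → Q →* Q} (h : SM s)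
include h

theorem inv_app {a : F} (ha : a ≠ 0) (x : Q) : s a⁻¹ (s a x) = x := by
  rw [← h.mul, inv_mul_cancel₀ ha, h.one]

theorem app_inv {a : F} (ha : a ≠ 0) (x : Q) : s a (s a⁻¹ x) = x := by
  rw [← h.mul, mul_inv_cancel₀ ha, h.one]

theorem inj {a : F} (ha : a ≠ 0) : Function.Injective (s a) :=
  Function.LeftInverse.injective (h.inv_app ha)

theorem eq_zero {a : F} {x : Q} (hx : x ≠ 1) (e : s a x = 1) : a = 0 := by
  by_contra ha
  exact hx (h.inj ha (e.trans (map_one _).symm))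

theorem quot (N : Subgroup Q) [N.Normal] (hN : Inv s N) : SM (qs s N hN) :=
  ⟨fun a b x => QuotientGroup.induction_on x fun x => by rw [qs_mk, qs_mk, qs_mk, h.mul],
    fun x => QuotientGroup.induction_on x fun x => by rw [qs_mk, h.one],
    fun x => QuotientGroup.induction_on x fun x => by rw [qs_mk, h.zero]; rfl⟩

theorem commute {z : Q} (hz : ∀ g, Commute g z) (a : F) (g : Q) : Commute g (s a z) := by
  by_cases ha : a = 0
  · rw [ha, h.zero]; exact Commute.one_right g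
  · rw [← h.app_inv ha g]; exact (hz _).map _

theorem inv_Om : Inv s (Om Q) := fun a x hx =>
  ⟨by rw [← map_mul, hx.1, map_one], h.commute hx.2 a⟩

end SM

theorem jac {H : Type*} [Group H] (x y z : H) (h1 : Commute ⁅x, y⁆ ⁅x, z⁆)
    (h2 : Commute ⁅x, y⁆ ⁅y, z⁆) (h3 : Commute ⁅x, z⁆ ⁅y, z⁆)
    (h4 : ∀ g, Commute g ⁅⁅x, y⁆, z⁆) (h5 : ∀ g, Commute g ⁅y, ⁅x, z⁆⁆) :
    ⁅x, ⁅y, z⁆⁆ = ⁅⁅x, y⁆, z⁆ * ⁅y, ⁅x, z⁆⁆ := by
  have e0 : ⁅x, ⁅y, z⁆⁆ = ⁅⁅x, y⁆ * y, ⁅x, z⁆ * z⁆ * ⁅y, z⁆⁻¹ := by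
    simp only [commutatorElement_def]; group
  rw [e0]
  generalize ⁅x, y⁆ = u at *
  generalize ⁅x, z⁆ = v at *
  have e1 : ⁅u * y, v * z⁆ = u * (⁅y, v⁆ * (v * ⁅y, z⁆ * v⁻¹)) * u⁻¹ *
      (⁅u, v⁆ * (v * ⁅u, z⁆ * v⁻¹)) := by
    simp only [commutatorElement_def]; group
  rw [e1, commutatorElement_eq_one_iff_commute.2 h1, one_mul, h3.eq, (h4 v).eq,
    mul_inv_cancel_right, mul_inv_cancel_right, ((h5 u).mul_right h2).eq, mul_inv_cancel_right,
    mul_assoc, mul_assoc, ← mul_assoc ⁅y, z⁆, (h4 ⁅y, z⁆).eq, mul_inv_cancel_right]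
  exact (h4 _).eq

theorem exists_Om [Finite Q] (hQ : IsPGroup 2 Q) {M : Subgroup Q} [M.Normal] (hM : M ≠ ⊥) :
    ∃ z ∈ M, z ∈ Om Q ∧ z ≠ 1 := by
  obtain ⟨z, h1, h2, h3⟩ := H9.exists_mem_center_orderOf_eq hQ hM
  exact ⟨z, h1, ⟨H6.ord2_mul_self h3, fun g => mem_center_iff.1 h2 g⟩, H6.ord2_ne_one h3⟩

theorem card_quot_lt [Finite Q] {N : Subgroup Q} [N.Normal] {z : Q} (hz : z ∈ N) (h1 : z ≠ 1) :
    Nat.card (Q ⧸ N) < Nat.card Q := by
  rw [← N.index_mul_card, ← index_eq_card]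
  have : 1 < Nat.card N := (one_lt_card_iff_ne_bot N).2 fun h => h1 (by simpa [h] using hz)
  have := Nat.pos_of_ne_zero N.index_ne_zero_of_finite
  nlinarith

namespace SA
variable {s : F → Q →* Q} (h : SA s)
include h

theorem quot (N : Subgroup Q) [N.Normal] (hN : Inv s N) : SA (qs s N hN) :=
  ⟨h.toSM.quot N hN, fun A _ _ f hA hf a b x hx => by
    obtain ⟨x, rfl⟩ := QuotientGroup.mk_surjective x
    exact h.add (A.comap (QuotientGroup.mk' N)) (fun x => f x) (fun a x hx => hA a x hx)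
      ⟨fun x hx y hy => hf.mul x hx y hy, fun x hx => hf.sq x hx⟩ a b x hx⟩

theorem pol {A₁ A₂ A₃ : Subgroup Q} (i₁ : Inv s A₁) (i₂ : Inv s A₂) (i₃ : Inv s A₃) {E : Type u}
    [Group E] {f : Q → E} (h₃ : El A₃ f) (h₁ : ∀ y ∈ A₂, El A₁ (fun x => f ⁅x, y⁆))
    (h₂ : ∀ x ∈ A₁, El A₂ (fun y => f ⁅x, y⁆)) (a : F) {x y : Q} (hx : x ∈ A₁) (hy : y ∈ A₂)
    (hc : ⁅x, y⁆ ∈ A₃) : f ⁅s a x, y⁆ = f ⁅x, s a y⁆ := by
  have e1 := h.add A₁ _ i₁ (h₁ _ (i₂ (a + 1) y hy)) a 1 x hx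
  have e2 := h.add A₂ _ i₂ (h₂ _ (i₁ a x hx)) a 1 y hy
  have e3 := h.add A₂ _ i₂ (h₂ _ hx) a 1 y hy
  have e4 := h.add A₃ _ i₃ h₃ a 1 _ hc
  simp only [h.one, map_commutatorElement] at e1 e2 e3 e4
  rw [e1, e2, e3, mul_assoc, mul_right_inj, ← mul_assoc, mul_eq_right] at e4
  exact mul_right_cancel (e4.trans ((h₂ x hx).sq _ (i₂ a y hy)).symm)

theorem rt {E : Type u} [Group E] {f : Q → E} (hf : El (commutator Q) f)
    (h3 : ∀ g : Q, ∀ u ∈ commutator Q, f ⁅g, u⁆ = 1) {a b c : F} (hc : c * c = a * b) (x y : Q) :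
    f ⁅s a x, s b y⁆ = f (s c ⁅x, y⁆) := by
  have p := fun a x y => h.pol (inv_top s) (inv_top s) (inv_der s) hf (fun y _ => (bil hf h3 y).1)
    (fun y _ => (bil hf h3 y).2) a (x := x) (y := y) trivial trivial (cm _ _)
  rw [← p, ← h.mul, mul_comm b, ← hc, h.mul, p, map_commutatorElement]

theorem add_Om {z : Q} (hz : z ∈ Om Q) (a b : F) : s (a + b) z = s a z * s b z :=
  h.add _ (fun x => x) h.inv_Om (el_Om le_rfl) a b z hz

theorem step {a : F} (ha0 : a ≠ 0) (ha1 : a ≠ 1) (h3 : ∀ u ∈ commutator Q, ∀ z : Q, ⁅u, z⁆ ∈ Om Q) :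
    commutator Q ≤ center Q := by
  have h3' : ∀ z : Q, ∀ u ∈ commutator Q, ⁅z, u⁆ = ⁅u, z⁆ := fun z u hu => by
    rw [← commutatorElement_inv u z]; exact inv_eq_of_mul_eq_one_right (h3 u hu z).1
  have l1 : ∀ z ∈ (⊤ : Subgroup Q), El (commutator Q) (fun u => ⁅u, z⁆) := fun z _ =>
    ⟨fun u hu v hv => by
      rw [commutatorElement_mul_left_eq_conj_mul, ((h3 v hv z).2 u).eq, mul_inv_cancel_right,
        ((h3 u hu z).2 _).eq], fun u hu => (h3 u hu z).1⟩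
  have l2 : ∀ u ∈ commutator Q, El ⊤ (fun z => ⁅u, z⁆) := fun u hu =>
    ⟨fun y _ z _ => by
      rw [commutatorElement_mul_right_eq_mul_conj, mul_assoc _ y, ((h3 u hu z).2 y).eq, ← mul_assoc,
        mul_inv_cancel_right], fun z _ => (h3 u hu z).1⟩
  have l3 : ∀ z g : Q, ∀ u ∈ commutator Q, ⁅⁅g, u⁆, z⁆ = 1 := fun z g u hu => by
    rw [h3' g u hu]; exact commutatorElement_eq_one_iff_commute.2 ((h3 u hu g).2 z).symm
  have p := fun a u (hu : u ∈ commutator Q) z => h.pol (inv_der s) (inv_top s) h.inv_Om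
    (el_Om le_rfl) l1 l2 a hu (y := z) trivial (h3 u hu z)
  have q1 : ∀ b, ∀ u ∈ commutator Q, ∀ z : Q, ⁅s (b * b) u, z⁆ = s b ⁅u, z⁆ := fun b u hu z => by
    rw [h.mul, p b _ (inv_der s b u hu), map_commutatorElement]
  have c1 : ∀ x y z : Q, ⁅⁅s (a * a * (a * a)) x, y⁆, z⁆ = s a ⁅⁅x, y⁆, z⁆ := fun x y z => by
    have := h.rt (l1 z trivial) (l3 z) (c := a * a) (a := a * a * (a * a)) (b := 1) (by ring) x y
    rw [h.one] at this
    rw [this, q1 _ _ (cm _ _)]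
  have cc : ∀ u ∈ commutator Q, ∀ x y : Q, Commute u ⁅x, y⁆ := fun u hu x y =>
    commutatorElement_eq_one_iff_commute.1 ((l2 u hu).comm trivial trivial)
  have J : ∀ x y z : Q, ⁅⁅y, z⁆, x⁆ = ⁅⁅x, y⁆, z⁆ * ⁅⁅x, z⁆, y⁆ := fun x y z => by
    rw [← h3' x _ (cm _ _), ← h3' y _ (cm _ _)]
    exact jac x y z (cc _ (cm _ _) _ _) (cc _ (cm _ _) _ _) (cc _ (cm _ _) _ _)
      (h3 _ (cm _ _) z).2 (by rw [h3' y _ (cm _ _)]; exact (h3 _ (cm _ _) y).2)
  have key : ∀ x y z : Q, ⁅⁅y, z⁆, x⁆ = 1 := fun x y z => by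
    have e := J (s (a * a * (a * a)) x) y z
    rw [c1, c1, ← map_mul, ← J, ← p _ _ (cm _ _), q1 _ _ (cm _ _), h.mul] at e
    have ht := h3 _ (cm y z) x
    have := h.add_Om ht a 1
    rw [h.inj ha0 e, h.one, ht.1] at this
    by_contra h1
    exact ha1 (by linear_combination h.eq_zero h1 this - CharTwo.two_eq_zero (R := F))
  exact commutator_le.2 fun y _ z _ => mem_center_iff.2 fun x =>
    (commutatorElement_eq_one_iff_commute.1 (key x y z)).symm.eq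

end SA

theorem class2 {a : F} (ha0 : a ≠ 0) (ha1 : a ≠ 1) (n : ℕ) : ∀ (Q : Type u) [Group Q] [Finite Q]
    (s : F → Q →* Q), Nat.card Q = n → IsPGroup 2 Q → SA s → commutator Q ≤ center Q := by
  induction n using Nat.strong_induction_on with
  | _ n ih =>
  intro Q _ _ s hn hQ h
  by_cases h0 : commutator Q = ⊥
  · rw [h0]; exact bot_le
  obtain ⟨z, -, hz, h1⟩ := exists_Om hQ h0
  have := ih _ (hn ▸ card_quot_lt hz h1) _ _ rfl (hQ.to_quotient _) (h.quot _ h.inv_Om)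
  refine h.step ha0 ha1 fun u hu g => ?_
  rw [← QuotientGroup.eq_one_iff]
  have h2 : (u : Q ⧸ Om Q) ∈ commutator _ := (map_commutator ⊤ ⊤ (QuotientGroup.mk' _)).le.trans
    (commutator_mono le_top le_top) ⟨u, hu, rfl⟩
  exact (map_commutatorElement (QuotientGroup.mk' (Om Q)) u g).trans
    (commutatorElement_eq_one_iff_commute.2 (mem_center_iff.1 (this h2) _).symm)

end Cfsg.Agent.H3.HgA
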