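import Cfsg.Agent.H3.HgA
import Cfsg.Agent.H22.QB
import Cfsg.Agent.H22.GL2
import Cfsg.Agent.H10.GG1
import Cfsg.Agent.H7.Heisen

/-! Special 2-groups with a two-dimensional Frattini quotient over a field of scalars. -/

set_option autoImplicit false
set_option linter.unusedSectionVars false

namespace Cfsg.Agent.H3.HgA

open Subgroup Cfsg
open scoped commutatorElement

universe u

variable {F : Type*} [Field F] [Fintype F] [CharP F 2] {Q : Type u} [Group Q]

theorem sq_eq_bot [Finite Q] (hQ : IsPGroup 2 Q) {A : Subgroup Q} (hA : H26.Abe A)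
    (h : A ≤ H26.Sq A) : A = ⊥ := by
  have : ∀ k, ∀ x ∈ A, ∃ y ∈ A, x = y ^ 2 ^ k := fun k => by
    induction k with
    | zero => exact fun x hx => ⟨x, hx, by simp⟩
    | succ k ih =>
      intro x hx
      obtain ⟨y, hy, rfl⟩ := ih x hx
      obtain ⟨z, hz, rfl⟩ := hA.mem_Sq.1 (h hy)
      exact ⟨z, hz, by rw [← sq, ← pow_mul, pow_succ']⟩
  obtain ⟨k, hk⟩ := IsPGroup.iff_card.1 hQ
  refine eq_bot_iff.2 fun x hx => ?_
  obtain ⟨y, -, rfl⟩ := this k x hx
  rw [← hk, pow_card_eq_one']; exact one_mem _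

instance : (H26.Sq (⊤ : Subgroup Q)).Normal :=
  ⟨fun n hn _ => H26.conj_mem_Sq (fun _ _ => mem_top _) n hn⟩

/-- the square root -/
noncomputable def sqr (a : F) : F := (H26.frob F).symm a

theorem sqr_mul (a : F) : sqr a * sqr a = a := by rw [← H26.frob_apply, sqr, RingEquiv.apply_symm_apply]

theorem sqr_eq {a c : F} (h : c * c = a) : sqr a = c := by
  rw [← h, ← H26.frob_apply, sqr, RingEquiv.symm_apply_apply]

theorem sqr_add (a b : F) : sqr (a + b) = sqr a + sqr b := map_add _ a b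

theorem eq_of_add {a b : F} (h : a + b = 0) : a = b := by
  linear_combination h - b * CharTwo.two_eq_zero (R := F)

/-- coordinates on a special group -/
structure Std (p r : F) (π : Q →* Multiplicative (F × F)) (i : Multiplicative F →* Q) : Prop where
  surj : Function.Surjective π
  inj : Function.Injective i
  ker : π.ker = i.range
  cent : ∀ w x, i w * x = x * i w
  sq : ∀ x, x * x = i (.ofAdd (p * (π x).toAdd.1 ^ 2 + (π x).toAdd.1 * (π x).toAdd.2 +
    r * (π x).toAdd.2 ^ 2))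

namespace SA
variable {s : F → Q →* Q} (h : SA s)
include h

theorem indep (he : ∀ x : Q, x * x = 1) {u v : Q} (hu : u ≠ 1) (hv : ∀ a, v ≠ s a u) :
    Function.Injective (fun p : F × F => s p.1 u * s p.2 v) := by
  have ad := fun a b x => h.add ⊤ (fun x => x) (inv_top s) ⟨fun _ _ _ _ => rfl, fun x _ => he x⟩ a b x
    trivial
  rintro ⟨a, b⟩ ⟨a', b'⟩ e
  have e1 : s (a' + a) u = s (b' + b) v := by
    rw [ad, ad, eq_mul_inv_of_mul_eq e, ← mul_assoc, ← mul_assoc, he, one_mul,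
      inv_eq_of_mul_eq_one_right (he _)]
  by_cases hb : b' + b = 0
  · rw [hb, h.zero] at e1
    rw [eq_of_add hb, eq_of_add (h.eq_zero hu e1)]
  · exact absurd (by rw [h.mul, e1, h.inv_app hb]) (hv ((b' + b)⁻¹ * (a' + a)))

theorem two [Finite Q] (hQ : IsPGroup 2 Q) (hc : commutator Q ≤ center Q) (hne : commutator Q ≠ ⊥) :
    ∃ u v : Q, Function.Injective
      (fun p : F × F => ((s p.1 u * s p.2 v : Q) : Q ⧸ H26.Sq (⊤ : Subgroup Q))) := by
  by_cases H : ∃ u v : Q, (u : Q ⧸ H26.Sq (⊤ : Subgroup Q)) ≠ 1 ∧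
      ∀ a, (v : Q ⧸ H26.Sq (⊤ : Subgroup Q)) ≠ s a u
  · obtain ⟨u, v, hu, hv⟩ := H
    exact ⟨u, v, (h.quot _ (inv_top s).sq).indep (fun x => QuotientGroup.induction_on x fun x =>
      (QuotientGroup.eq_one_iff _).2 (H26.sq_mem_Sq trivial)) hu hv⟩
  push Not at H
  obtain ⟨u, hu⟩ : ∃ u : Q, ∀ v : Q, ∃ a, (v : Q ⧸ H26.Sq (⊤ : Subgroup Q)) = s a u := by
    by_cases H1 : ∃ u : Q, (u : Q ⧸ H26.Sq (⊤ : Subgroup Q)) ≠ 1
    · obtain ⟨u, hu⟩ := H1
      exact ⟨u, fun v => H u v hu⟩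
    · push Not at H1
      exact ⟨1, fun v => ⟨0, by rw [H1, H1]⟩⟩
  have hA : H26.Abe (commutator Q) := fun x hx y _ => (mem_center_iff.1 (hc hx) y).symm
  have : (H26.Sq (commutator Q)).Normal := ⟨fun n hn g => by
    rwa [mem_center_iff.1 (hc (H26.Sq_le _ hn)), mul_inv_cancel_right]⟩
  have hf := el_mk (H26.Sq (commutator Q)) fun x hx => H26.sq_mem_Sq (A := commutator Q) hx
  have h3 : ∀ g : Q, ∀ u ∈ commutator Q, ((⁅g, u⁆ : Q) : Q ⧸ H26.Sq (commutator Q)) = 1 :=
    fun g u hu => by rw [commutatorElement_eq_one_iff_mul_comm.2 (mem_center_iff.1 (hc hu) g)]; rfl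
  refine absurd (sq_eq_bot hQ hA (commutator_le.2 fun x _ y _ => ?_)) hne
  obtain ⟨a, ha⟩ := hu x
  obtain ⟨b, hb⟩ := hu y
  have b1 := (bil hf h3 y).1
  have b2 := (bil hf h3 (s a u)).2
  rw [← QuotientGroup.eq_one_iff, b1.congr trivial (b1.sq_le (QuotientGroup.eq.1 ha.symm)),
    b2.congr trivial (b2.sq_le (QuotientGroup.eq.1 hb.symm)), h.rt hf h3 (sqr_mul (a * b)),
    commutatorElement_self, map_one]
  rfl

theorem std (hc : commutator Q ≤ center Q) (hne : commutator Q ≠ ⊥)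
    (hsq : ∀ x : Q, x * x ∈ commutator Q) (u v : Q)
    (hg : ∀ x : Q, ∃ a b, (x : Q ⧸ commutator Q) = (s a u * s b v : Q)) :
    ∃ (p r : F) (π : Q →* _) (i : _ →* Q), Std p r π i := by
  have cz : ∀ g : Q, ∀ z ∈ commutator Q, ⁅g, z⁆ = 1 := fun g z hz =>
    commutatorElement_eq_one_iff_mul_comm.2 (mem_center_iff.1 (hc hz) g)
  have hO : commutator Q ≤ Om Q := commutator_le.2 fun x _ y _ => ⟨by
    have := cz x _ (hsq y)
    rwa [commutatorElement_mul_right_eq_mul_conj, mul_assoc _ y, mem_center_iff.1 (hc (cm x y)) y,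
      ← mul_assoc, mul_inv_cancel_right] at this, fun g => mem_center_iff.1 (hc (cm x y)) g⟩
  have hf := el_Om hO
  have b1 := fun y => (bil hf cz y).1
  have b2 := fun y => (bil hf cz y).2
  have hw := hO (cm u v)
  let i : Multiplicative F →* Q := MonoidHom.mk' (fun c => s (sqr c.toAdd) ⁅u, v⁆) fun a b => by
    rw [toAdd_mul, sqr_add, h.add_Om hw]
  have hi : ∀ c, i (.ofAdd c) = s (sqr c) ⁅u, v⁆ := fun c => rfl
  have e1 : ∀ a b, ⁅s a u, s b v⁆ = i (.ofAdd (a * b)) := fun a b => h.rt hf cz (sqr_mul _) u v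
  have e2 : ∀ a b x, ⁅s a x, s b x⁆ = 1 := fun a b x => by
    have := h.rt hf cz (sqr_mul (a * b)) x x
    rwa [commutatorElement_self, map_one] at this
  have e3 : ∀ a b a' b', ⁅s a u * s b v, s a' u * s b' v⁆ = i (.ofAdd (a * b' + a' * b)) := by
    intro a b a' b'
    have k1 := (b1 (s a' u * s b' v)).mul (s a u) trivial (s b v) trivial
    have k2 := (b2 (s a u)).mul (s a' u) trivial (s b' v) trivial
    have k3 := (b2 (s b v)).mul (s a' u) trivial (s b' v) trivial
    have k4 := hf.inv (cm (s a' u) (s b v))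
    simp only [commutatorElement_inv] at k1 k2 k3 k4
    rw [k1, k2, k3, k4, e2, e2, e1, e1, one_mul, mul_one, ← map_mul]; rfl
  have hir : commutator Q ≤ i.range := commutator_le.2 fun x _ y _ => by
    obtain ⟨a, b, hx⟩ := hg x
    obtain ⟨a', b', hy⟩ := hg y
    have k1 := (b1 y).congr trivial ((b1 y).der_le (QuotientGroup.eq.1 hx.symm))
    have k2 := (b2 (s a u * s b v)).congr trivial ((b2 _).der_le (QuotientGroup.eq.1 hy.symm))
    exact ⟨_, ((k1.trans k2).trans (e3 _ _ _ _)).symm⟩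
  have hw1 : ⁅u, v⁆ ≠ 1 := fun e => hne (eq_bot_iff.2 fun x hx => by
    obtain ⟨c, rfl⟩ := hir hx
    change s _ _ = 1
    rw [e, map_one])
  have hinj : Function.Injective i := (injective_iff_map_eq_one i).2 fun c hc => by
    have := sqr_mul c.toAdd
    rw [h.eq_zero hw1 hc, mul_zero] at this
    exact this.symm
  have hir' : ∀ c, i c ∈ commutator Q := fun c => inv_der s _ _ (cm u v)
  have hm := el_mk (commutator Q) (A := ⊤) fun x _ => hsq x
  let θ : Multiplicative (F × F) →* Q ⧸ commutator Q :=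
    MonoidHom.mk' (fun c => (s c.toAdd.1 u * s c.toAdd.2 v : Q)) fun a b => by
      have k1 := h.add ⊤ _ (inv_top s) hm a.toAdd.1 b.toAdd.1 u trivial
      have k2 := h.add ⊤ _ (inv_top s) hm a.toAdd.2 b.toAdd.2 v trivial
      have k3 := hm.swap (x := s b.toAdd.1 u) (y := s a.toAdd.2 v) trivial trivial
      simp only [toAdd_mul, Prod.fst_add, Prod.snd_add, QuotientGroup.mk_mul, k1, k2, mul_assoc]
      rw [← mul_assoc (s b.toAdd.1 u : Q ⧸ commutator Q), k3, mul_assoc]
  have hθ : Function.Bijective θ := ⟨(injective_iff_map_eq_one θ).2 fun c hc => by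
      have hc := (QuotientGroup.eq_one_iff _).1 hc
      have k1 := (e3 0 1 _ _).symm.trans (cz _ _ hc)
      have k2 := (e3 1 0 _ _).symm.trans (cz _ _ hc)
      rw [map_eq_one_iff _ hinj] at k1 k2
      exact Prod.ext (show c.toAdd.1 = 0 by simpa using k1) (show c.toAdd.2 = 0 by simpa using k2),
    fun x => QuotientGroup.induction_on x fun x => by
      obtain ⟨a, b, e⟩ := hg x
      exact ⟨.ofAdd (a, b), e.symm⟩⟩
  let e := MulEquiv.ofBijective θ hθ
  obtain ⟨p, hp⟩ := hir (hsq u)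
  obtain ⟨r, hr⟩ := hir (hsq v)
  have e4 : ∀ a c, s a (i c) = i (.ofAdd (c.toAdd * a ^ 2)) := fun a c => by
    rw [hi, sqr_eq (c := a * sqr c.toAdd) (by linear_combination a ^ 2 * sqr_mul c.toAdd), h.mul]; rfl
  refine ⟨p.toAdd, r.toAdd, e.symm.toMonoidHom.comp (QuotientGroup.mk' _), i,
    e.symm.surjective.comp (QuotientGroup.mk'_surjective _), hinj, ?_,
    fun w x => (mem_center_iff.1 (hc (hir' w)) x).symm, fun x => ?_⟩
  · ext x
    simp only [MonoidHom.mem_ker, MonoidHom.comp_apply, MulEquiv.coe_toMonoidHom,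
      EmbeddingLike.map_eq_one_iff, QuotientGroup.mk'_apply, QuotientGroup.eq_one_iff]
    exact ⟨fun hx => hir hx, by rintro ⟨c, rfl⟩; exact hir' c⟩
  · obtain ⟨a, b, hx⟩ := hg x
    have k0 : e.symm x = .ofAdd (a, b) := e.symm_apply_eq.2 hx
    have hz := hO (QuotientGroup.eq.1 hx.symm)
    have k1 : x * x = s a (u * u) * ⁅(s a u)⁻¹, s b v⁆ * s b (v * v) := by
      obtain ⟨z, rfl⟩ : ∃ z, x = s a u * s b v * z := ⟨_, (mul_inv_cancel_left _ _).symm⟩
      rw [inv_mul_cancel_left] at hz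
      rw [mul_assoc _ z, ← mul_assoc z, ← (hz.2 _).eq, mul_assoc _ z, hz.1, map_mul, map_mul,
        commutatorElement_def]
      group
    have k2 := (b1 (s b v)).inv (x := s a u) trivial
    change _ = i (.ofAdd (_ * (e.symm x).toAdd.1 ^ 2 + (e.symm x).toAdd.1 * (e.symm x).toAdd.2 +
      _ * (e.symm x).toAdd.2 ^ 2))
    rw [k1, k2, ← hp, ← hr, e4, e4, e1, k0, ← map_mul, ← map_mul]; rfl

end SA

theorem Std.iso {p r : F} {π : Q →* _} {i : _ →* Q} (h : Std p r π i) [Finite Q] {P V W : Type*}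
    [Group P] [Finite P] [AddCommGroup V] [AddCommGroup W] (π' : P →* Multiplicative V)
    (i' : Multiplicative W →* P) (hπ : Function.Surjective π') (hi : Function.Injective i')
    (hk : π'.ker = i'.range) (q : V → W) (hq : ∀ x, x * x = i' (.ofAdd (q (π' x).toAdd)))
    (θ : F × F ≃+ V) (ψ : F ≃+ W)
    (e : ∀ a b, ψ (p * a ^ 2 + a * b + r * b ^ 2) = q (θ (a, b))) : Nonempty (Q ≃* P) := by
  let θ' := AddEquiv.toMultiplicative θ
  let ψ' := AddEquiv.toMultiplicative ψ
  refine H26.iso_of_quad (θ'.toMonoidHom.comp π) π' (θ'.surjective.comp h.surj) hπ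
    (i.comp ψ'.symm.toMonoidHom) i' (h.inj.comp ψ'.symm.injective) hi ?_ hk (fun w x => h.cent _ x)
    fun x x' hx => ⟨_, ?_, hq x'⟩
  · rw [← MonoidHom.comap_ker, (MonoidHom.ker_eq_bot_iff θ'.toMonoidHom).2 θ'.injective, MonoidHom.comap_bot, h.ker,
      MonoidHom.range_comp, (MonoidHom.range_eq_top (f := ψ'.symm.toMonoidHom)).2 ψ'.symm.surjective, ← MonoidHom.range_eq_map]
  · rw [h.sq, ← hx]
    refine congrArg i (ψ'.eq_symm_apply.2 ?_)
    exact congrArg Multiplicative.ofAdd (e _ _)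

theorem card_syl (P : Sylow 2 (Matrix.ProjectiveSpecialLinearGroup (Fin 3) F)) :
    Nat.card P = Fintype.card F ^ 3 := by
  have h1 := H22.gcd_mul_card_PSL (F := F) 3 (by norm_num)
  have h2 := H22.card_units_mul_card_SL (F := F) (ι := Fin 3)
  have h3 := H22.not_dvd_card_pow_sub_one (F := F) 2 le_rfl
  rw [pow_one] at h3
  have hq : Fintype.card F - 1 ≠ 0 := by rintro h; simp [h] at h3
  rw [← show _ = Fintype.card F ^ 3 from H22.card_sylow_GL 2 3 (Classical.arbitrary _),
    P.card_eq_multiplicity,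
    Sylow.card_eq_multiplicity, ← h2, ← h1, H22.card_units_field, Nat.factorization_mul hq
      (mul_ne_zero (Nat.gcd_ne_zero_right hq) Nat.card_pos.ne'),
    Nat.factorization_mul (Nat.gcd_ne_zero_right hq) Nat.card_pos.ne']
  simp [Nat.factorization_eq_zero_of_not_dvd h3,
    Nat.factorization_eq_zero_of_not_dvd (mt (·.trans (Nat.gcd_dvd_right 3 _)) h3)]

open H7 Matrix in
theorem heis_syl (P : Sylow 2 (Matrix.ProjectiveSpecialLinearGroup (Fin 3) F)) :
    Nonempty (Heisen 1 F ≃* P) := by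
  let φ : Heisen 1 F →* SpecialLinearGroup (Fin 3) F := MonoidHom.mk'
    (fun g => ⟨!![1, g.x 0, g.z; 0, 1, g.y 0; 0, 0, 1], by simp [det_fin_three]⟩) fun a b => by
      refine Subtype.ext ?_
      change !![1, (a * b).x 0, (a * b).z; 0, 1, (a * b).y 0; 0, 0, 1] =
        !![1, a.x 0, a.z; 0, 1, a.y 0; 0, 0, 1] * !![1, b.x 0, b.z; 0, 1, b.y 0; 0, 0, 1]
      ext i j
      have : (a * b).z = a.z + b.z + a.x 0 * b.y 0 := by
        change a.z + b.z + a.x ⬝ᵥ b.y = _; simp [dotProduct]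
      have h1 : (a * b).x 0 = a.x 0 + b.x 0 := rfl
      have h2 : (a * b).y 0 = a.y 0 + b.y 0 := rfl
      fin_cases i <;> fin_cases j <;> simp [Matrix.mul_apply, Fin.sum_univ_three, this, h1, h2] <;> ring
  let f := (QuotientGroup.mk' (center (SpecialLinearGroup (Fin 3) F))).comp φ
  have hf : Function.Injective f := (injective_iff_map_eq_one _).2 fun g hg => by
    obtain ⟨r, -, hr⟩ := Matrix.SpecialLinearGroup.mem_center_iff.1 ((QuotientGroup.eq_one_iff (φ g)).1 hg)
    have k1 := congrFun (congrFun hr 0) 1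
    have k2 := congrFun (congrFun hr 0) 2
    have k3 := congrFun (congrFun hr 1) 2
    simp [φ] at k1 k2 k3
    exact Heisen.ext (funext fun i => by rw [Subsingleton.elim i 0]; exact k1.symm)
      (funext fun i => by rw [Subsingleton.elim i 0]; exact k3.symm) k2.symm
  have hc : Nat.card f.range = Fintype.card F ^ 3 := by
    rw [← Nat.card_congr (MonoidHom.ofInjective hf).toEquiv, Heisen.card_eq, Nat.card_eq_fintype_card]
  obtain ⟨n, -, hn⟩ := FiniteField.card F 2
  obtain ⟨R, hR⟩ := H6.exists_sylow_eq_of_card P (IsPGroup.of_card (n := n * 3) (by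
    rw [hc, hn, pow_mul])) (by rw [card_syl, hc])
  exact ⟨((MonoidHom.ofInjective hf).trans (MulEquiv.subgroupCongr hR.symm)).trans (R.equiv P)⟩

open H7 in
theorem Std.lin {p r : F} {π : Q →* _} {i : _ →* Q} (h : Std p r π i) [Finite Q] {a b : F}
    (hab : a ≠ 0 ∨ b ≠ 0) (h0 : p * a ^ 2 + a * b + r * b ^ 2 = 0)
    (P : Sylow 2 (Matrix.ProjectiveSpecialLinearGroup (Fin 3) F)) : Nonempty (Q ≃* P) := by
  have t := CharTwo.two_eq_zero (R := F)
  obtain ⟨c, d, hcd⟩ : ∃ c d, a * d + b * c = 1 := by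
    rcases hab with h | h
    · exact ⟨0, a⁻¹, by simp [h]⟩
    · exact ⟨b⁻¹, 0, by simp [h]⟩
  obtain ⟨c, d, h1, h2⟩ : ∃ c d, a * d + b * c = 1 ∧ p * c ^ 2 + c * d + r * d ^ 2 = 0 := by
    refine ⟨c + (p * c ^ 2 + c * d + r * d ^ 2) * a, d + (p * c ^ 2 + c * d + r * d ^ 2) * b, ?_, ?_⟩
    · linear_combination hcd + (p * c ^ 2 + c * d + r * d ^ 2) * a * b * t
    · generalize hk : p * c ^ 2 + c * d + r * d ^ 2 = k
      linear_combination hk + k * hcd + k ^ 2 * h0 + (k + p * c * k * a + r * d * k * b) * t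
  let θ : F × F →+ F × F := AddMonoidHom.mk' (fun v => (v.1 * a + v.2 * c, v.1 * b + v.2 * d))
    fun v w => by ext <;> simp <;> ring
  have hθ : Function.Bijective θ := Finite.injective_iff_bijective.1
    ((injective_iff_map_eq_zero θ).2 fun v hv => by
      have k1 : v.1 * a + v.2 * c = 0 := congrArg Prod.fst hv
      have k2 : v.1 * b + v.2 * d = 0 := congrArg Prod.snd hv
      exact Prod.ext (by change v.1 = 0; linear_combination d * k1 + c * k2 - v.1 * h1 - v.2 * c * d * t)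
        (by change v.2 = 0; linear_combination b * k1 + a * k2 - v.2 * h1 - v.1 * a * b * t))
  obtain ⟨e⟩ := heis_syl P
  obtain ⟨e'⟩ := h.iso (P := Heisen 1 F) (V := F × F) (W := F)
    (MonoidHom.mk' (fun g => .ofAdd (g.x 0, g.y 0)) fun _ _ => rfl)
    (MonoidHom.mk' (fun c => ⟨0, 0, c.toAdd⟩) fun _ _ => Heisen.ext (add_zero _).symm (add_zero _).symm
      (by change _ = _ + _ + _; simp))
    (fun v => ⟨⟨fun _ => v.toAdd.1, fun _ => v.toAdd.2, 0⟩, rfl⟩)
    (fun _ _ e => congrArg Heisen.z e) (by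
      ext g
      refine ⟨fun hg => ⟨.ofAdd g.z, ?_⟩, by rintro ⟨c, rfl⟩; rfl⟩
      exact Heisen.ext (funext fun i => by rw [Subsingleton.elim i 0]; exact (congrArg Prod.fst hg).symm)
        (funext fun i => by rw [Subsingleton.elim i 0]; exact (congrArg Prod.snd hg).symm) rfl)
    (fun v => v.1 * v.2) (fun g => Heisen.ext (funext fun i => CharTwo.add_self_eq_zero _)
      (funext fun i => CharTwo.add_self_eq_zero _) (by
        change g.z + g.z + dotProduct g.x g.y = g.x 0 * g.y 0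
        simp [dotProduct, CharTwo.add_self_eq_zero]))
    (AddEquiv.ofBijective θ hθ).symm (AddEquiv.refl F) fun x y => by
      obtain ⟨⟨u, v⟩, e⟩ := hθ.2 (x, y)
      rw [(AddEquiv.ofBijective θ hθ).symm_apply_eq.2 e.symm]
      obtain ⟨rfl, rfl⟩ := Prod.ext_iff.1 e
      change p * (u * a + v * c) ^ 2 + (u * a + v * c) * (u * b + v * d) + r * (u * b + v * d) ^ 2 = u * v
      linear_combination u ^ 2 * h0 + v ^ 2 * h2 + u * v * h1 + (p * u * a * v * c + r * u * b * v * d) * t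
  exact ⟨e'.trans e⟩

section
variable {E : Type*} [Field E] [Fintype E] [CharP E 2] {q : ℕ} (hE : Fintype.card E = q ^ 2)

/-- the fixed field of the conjugation -/
abbrev K0 : Subfield E := RingHom.eqLocusField (H23.conj hE) (RingHom.id E)

noncomputable instance : Fintype (K0 hE) := Fintype.ofFinite _

theorem card_K0 : Fintype.card (K0 hE) = q := by
  rw [← Nat.card_eq_fintype_card]; exact H23.card_fixed hE

theorem psu_syl (hq : Even q) (P : Sylow 2 (PSU 3 E q)) : Nonempty (H6.UG hE ≃* P) := by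
  obtain ⟨n, -, hn⟩ := FiniteField.card (K0 hE) 2
  rw [card_K0] at hn
  have h2 : IsPGroup 2 (H6.UG hE) := IsPGroup.of_card (n := n * 3) (by rw [H6.UG.card, hn, pow_mul])
  have hzo : Odd (Nat.card (center (SU 3 E q))) := (H22.card_center_SU hE 3 (by norm_num)) ▸
    Odd.of_dvd_nat (by decide) (Nat.gcd_dvd_left _ _)
  let f := (QuotientGroup.mk' (center (SU 3 E q))).comp (H6.UG.toSU (hF := hE))
  have hf : Function.Injective f := (injective_iff_map_eq_one _).2 fun x hx => by
    obtain ⟨k, hk⟩ := h2 x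
    have h3 := hzo.of_dvd_nat (Subgroup.orderOf_dvd_natCard _ ((QuotientGroup.eq_one_iff _).1 hx))
    rw [orderOf_injective _ H6.UG.toSU_injective] at h3
    exact orderOf_eq_one_iff.1 (Nat.Coprime.eq_one_of_dvd (Nat.Coprime.pow_right k
      (Nat.coprime_two_right.2 h3)) (orderOf_dvd_of_pow_eq_one hk))
  have h3 := (H10.sylow_su3 h2 hq).map_top (QuotientGroup.mk'_surjective (center _))
  rw [MonoidHom.map_range] at h3
  exact ⟨(MonoidHom.ofInjective hf).trans (h3.toSylowTop.equiv P)⟩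

theorem exists_root {d : K0 hE} (hd : ∀ t : K0 hE, t * t + t ≠ d) :
    ∃ ω : E, H23.conj hE ω = ω + 1 ∧ ω * ω + ω = d := by
  have t2 := CharTwo.two_eq_zero (R := E)
  obtain ⟨w, hw⟩ := H22.QA.exists_omega hE
  have hw' : H23.conj hE w = w + 1 := by linear_combination hw - w * t2
  let d₀ : K0 hE := ⟨w * w + w, by
    change H23.conj hE _ = w * w + w
    rw [map_add, map_mul, hw']; linear_combination (w + 1) * t2⟩
  let g : K0 hE →+ K0 hE := AddMonoidHom.mk' (fun t => t * t + t) fun a b => by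
    linear_combination a * b * CharTwo.two_eq_zero (R := K0 hE)
  have hi : g.range.index = 2 := by
    rw [AddSubgroup.index_range, Nat.card_eq_two_iff]
    refine ⟨0, ⟨1, show (1 : K0 hE) * 1 + 1 = 0 by rw [one_mul, CharTwo.add_self_eq_zero]⟩, by simp [Subtype.ext_iff], ?_⟩
    refine Set.eq_univ_of_forall fun ⟨t, ht⟩ => ?_
    have : t * (t + 1) = 0 := by rw [mul_add, mul_one]; exact ht
    rcases mul_eq_zero.1 this with h | h
    · exact .inl (Subtype.ext h)
    · exact .inr (Subtype.ext (eq_of_add h))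
  have h0 : d₀ ∉ g.range := by
    rintro ⟨t, ht⟩
    have h1 : (t : E) * t + t = w * w + w := congrArg Subtype.val ht
    have h2 : H23.conj hE t = t := t.2
    have : (w - t) * (w - (t + 1)) = 0 := by linear_combination -h1 + (t * t + t - w * t - w) * t2
    rcases mul_eq_zero.1 this with h | h
    · rw [sub_eq_zero.1 h, h2] at hw'; simp at hw'
    · rw [sub_eq_zero.1 h, map_add, h2, map_one] at hw'; simp at hw'
  obtain ⟨t, ht⟩ := (AddSubgroup.add_mem_iff_of_index_two hi).2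
    (iff_of_false (fun ⟨t, ht⟩ => hd t ht) h0)
  have h1 : (t : E) * t + t = d + (w * w + w) := congrArg Subtype.val ht
  refine ⟨w + t, by rw [map_add, hw', show H23.conj hE t = t from t.2]; ring, ?_⟩
  linear_combination h1 + (w * w + w + w * t) * t2

theorem Std.uni {p r : K0 hE} {π : Q →* _} {i : _ →* Q} (h : Std p r π i) [Finite Q]
    (h0 : ∀ a b, p * a ^ 2 + a * b + r * b ^ 2 = 0 → a = 0 ∧ b = 0) (hq : Even q)
    (P : Sylow 2 (PSU 3 E q)) : Nonempty (Q ≃* P) := by
  have t2 := CharTwo.two_eq_zero (R := E)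
  have hp : p ≠ 0 := fun hp => one_ne_zero (h0 1 0 (by simp [hp])).1
  have hp' : (p : E) ≠ 0 := fun e => hp (Subtype.ext e)
  obtain ⟨ω, h1, h2⟩ := exists_root hE (d := p * r) fun t ht => one_ne_zero (h0 (t / p) 1 (by
    field_simp
    linear_combination ht + p * r * CharTwo.two_eq_zero (R := K0 hE))).2
  have cj : ∀ a : K0 hE, H23.conj hE a = a := fun a => a.2
  let θ : K0 hE × K0 hE →+ E := AddMonoidHom.mk' (fun v => p * v.1 + v.2 * ω) fun v w => by
    simp; ring
  have hθ : Function.Bijective θ := (Fintype.bijective_iff_injective_and_card _).2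
    ⟨(injective_iff_map_eq_zero θ).2 fun v hv => by
      have k1 : (p : E) * v.1 + v.2 * ω = 0 := hv
      have k2 := congrArg (H23.conj hE) k1
      rw [map_add, map_mul, map_mul, cj, cj, cj, h1, map_zero] at k2
      have k3 : (v.2 : E) = 0 := by linear_combination k2 - k1
      rw [k3, zero_mul, add_zero, mul_eq_zero] at k1
      exact Prod.ext (Subtype.ext (k1.resolve_left hp')) (Subtype.ext k3),
    by rw [Fintype.card_prod, card_K0, hE]; ring⟩
  let ψ : K0 hE ≃+ H22.QA.Fx hE :=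
    { toFun := fun c => ⟨p * c, (p * c).2⟩
      invFun := fun c => p⁻¹ * ⟨c.1, c.2⟩
      left_inv := fun c => Subtype.ext (by simp [hp'])
      right_inv := fun c => Subtype.ext (by simp [hp'])
      map_add' := fun a b => Subtype.ext (by simp [mul_add]) }
  have hx := H22.QA.su_qx hE
  obtain ⟨e⟩ := psu_syl hE hq P
  have : Finite (H6.UG hE) := Finite.of_equiv _ e.symm.toEquiv
  obtain ⟨e'⟩ := h.iso _ _ hx.surj hx.inj hx.ker _ hx.sq (AddEquiv.ofBijective θ hθ) ψ fun a b =>
    Subtype.ext (by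
      change (p : E) * (p * a ^ 2 + a * b + r * b ^ 2) = H23.conj hE (p * a + b * ω) * (p * a + b * ω)
      rw [map_add, map_mul, map_mul, cj, cj, cj, h1]
      have h2 : ω * ω + ω = p * r := h2
      linear_combination -(b : E) ^ 2 * h2 - (p : E) * a * b * ω * t2)
  exact ⟨e'.trans e⟩

theorem Std.cases {p r : K0 hE} {π : Q →* _} {i : _ →* Q} (h : Std p r π i) [Finite Q] (hq : Even q) :
    (∀ P : Sylow 2 (PSU 3 E q), Nonempty (Q ≃* P)) ∨
    ∀ P : Sylow 2 (Matrix.ProjectiveSpecialLinearGroup (Fin 3) (K0 hE)), Nonempty (Q ≃* P) := by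
  by_cases h0 : ∀ a b, p * a ^ 2 + a * b + r * b ^ 2 = 0 → a = 0 ∧ b = 0
  · exact .inl (h.uni hE h0 hq)
  · push Not at h0
    obtain ⟨a, b, h1, h2⟩ := h0
    exact .inr (h.lin (by tauto) h1)

end

end Cfsg.Agent.H3.HgA
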