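import Cfsg.Agent.H3.HgB

/-! Finite 2-groups with an involutory automorphism whose fixed points form a line. -/

set_option autoImplicit false
set_option linter.unusedSectionVars false

namespace Cfsg.Agent.H3.HgA

open Subgroup Cfsg
open scoped commutatorElement

universe u

variable {F : Type*} [Field F] [Fintype F] [CharP F 2] {Q : Type u} [Group Q]

theorem nine {E : Type*} [Group E] (Φ : F → E) (hc : ∀ a b, Φ a * Φ b = Φ b * Φ a)
    (h2 : ∀ a, Φ a * Φ a = 1) (p q r t v w : F) :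
    Φ p * Φ q * Φ r * (Φ q * Φ t * Φ v) * (Φ r * Φ v * Φ w) = Φ p * Φ t * Φ w := by
  let : CommGroup (closure (Set.range Φ)) := closureCommGroupOfComm (by
    rintro _ ⟨a, rfl⟩ _ ⟨b, rfl⟩; exact hc a b)
  let Ψ : F → closure (Set.range Φ) := fun a => ⟨Φ a, Subgroup.subset_closure ⟨a, rfl⟩⟩
  have h3 : ∀ a, Ψ a * Ψ a = 1 := fun a => Subtype.ext (h2 a)
  have : Ψ p * Ψ q * Ψ r * (Ψ q * Ψ t * Ψ v) * (Ψ r * Ψ v * Ψ w) = Ψ p * Ψ t * Ψ w :=
    calc _ = Ψ p * Ψ t * Ψ w * (Ψ q * Ψ q) * (Ψ r * Ψ r) * (Ψ v * Ψ v) := by ac_rfl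
      _ = _ := by rw [h3, h3, h3, mul_one, mul_one, mul_one]
  exact congrArg Subtype.val this

/-- the defect of additivity -/
def df (s : F → Q →* Q) (a b : F) (x : Q) : Q := s a x * s b x * s (a + b) x

theorem SM.sa {s : F → Q →* Q} (h : SM s) (hn : ∀ a b, ∃ m, ∀ x, (df s a b)^[m] x = 1) : SA s := by
  refine ⟨h, fun A E _ f hA hf a b x hx => ?_⟩
  have hd : ∀ y ∈ A, df s a b y ∈ A := fun y hy => mul_mem (mul_mem (hA _ _ hy) (hA _ _ hy)) (hA _ _ hy)
  have hd' : ∀ k, ∀ y ∈ A, (df s a b)^[k] y ∈ A := fun k y hy =>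
    Function.Iterate.rec (· ∈ A) hy hd k
  have P : ∀ j c, ∀ y ∈ A, f (s c ((df s a b)^[2 ^ j] y)) = f (s (c * a ^ 2 ^ j) y) *
      f (s (c * b ^ 2 ^ j) y) * f (s (c * (a + b) ^ 2 ^ j) y) := fun j => by
    induction j with
    | zero =>
      intro c y hy
      simp only [pow_zero, pow_one, Function.iterate_one, df, map_mul, ← h.mul]
      rw [hf.mul _ (mul_mem (hA _ _ hy) (hA _ _ hy)) _ (hA _ _ hy), hf.mul _ (hA _ _ hy) _ (hA _ _ hy)]
    | succ j ih =>
      intro c y hy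
      rw [pow_succ, mul_two, Function.iterate_add_apply, ih c _ (hd' _ y hy), ih _ y hy, ih _ y hy,
        ih _ y hy, pow_add, pow_add, pow_add]
      have := nine (fun t => f (s t y)) (fun _ _ => hf.swap (hA _ _ hy) (hA _ _ hy))
        (fun _ => hf.sq _ (hA _ _ hy)) (c * a ^ 2 ^ j * a ^ 2 ^ j) (c * a ^ 2 ^ j * b ^ 2 ^ j)
        (c * a ^ 2 ^ j * (a + b) ^ 2 ^ j) (c * b ^ 2 ^ j * b ^ 2 ^ j) (c * b ^ 2 ^ j * (a + b) ^ 2 ^ j)
        (c * (a + b) ^ 2 ^ j * (a + b) ^ 2 ^ j)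
      rw [mul_right_comm c (b ^ 2 ^ j) (a ^ 2 ^ j), mul_right_comm c ((a + b) ^ 2 ^ j) (a ^ 2 ^ j),
        mul_right_comm c ((a + b) ^ 2 ^ j) (b ^ 2 ^ j), this]
      simp only [mul_assoc]
  obtain ⟨m, hm⟩ := hn a b
  obtain ⟨n, -, hn⟩ := FiniteField.card F 2
  have h1 : ∀ t : F, t ^ 2 ^ (n * m) = t := fun t => by
    rw [pow_mul, ← hn, FiniteField.pow_card_pow]
  obtain ⟨k, hk⟩ := Nat.exists_eq_add_of_le' (show m ≤ 2 ^ (n * m) from
    (Nat.le_mul_of_pos_left m n.2).trans Nat.lt_two_pow_self.le)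
  have := P (n * m) 1 x hx
  rw [h1, h1, h1, one_mul, one_mul, one_mul, hk, Function.iterate_add_apply, hm,
    Function.iterate_fixed (by simp [df]), map_one, hf.one] at this
  exact mul_right_cancel ((hf.sq _ (hA _ _ hx)).trans this)

/-- an involutory automorphism whose fixed points form a line -/
structure HH (s : F → Q →* Q) (α : Q →* Q) : Prop extends SM s where
  comm : ∀ a x, α (s a x) = s a (α x)
  inv : ∀ x, α (α x) = x
  tr : ∀ x y, α x = x → α y = y → x ≠ 1 → ∃ a, y = s a x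
  add : ∀ x, α x = x → ∀ a b, s (a + b) x = s a x * s b x

/-- the fixed points -/
abbrev Fix (α : Q →* Q) : Subgroup Q := α.eqLocus (MonoidHom.id Q)

namespace HH
variable {s : F → Q →* Q} {α : Q →* Q} (h : HH s α)
include h

theorem sq {x : Q} (hx : α x = x) : x * x = 1 := by
  have := h.add x hx 1 1
  rw [CharTwo.add_self_eq_zero, h.zero, h.one] at this
  exact this.symm

theorem inv_fix : Inv s (Fix α) := fun a x hx => (h.comm a x).trans (congrArg (s a) hx)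

theorem exists_fix [Finite Q] (hQ : IsPGroup 2 Q) {N : Subgroup Q} [N.Normal] (hN : N ≠ ⊥)
    (hα : ∀ x ∈ N, α x ∈ N) : ∃ z ∈ N, z ≠ 1 ∧ α z = z ∧ ∀ g, Commute g z := by
  obtain ⟨y, h1, h2, h3⟩ := exists_Om hQ hN
  by_cases e : α y = y
  · exact ⟨y, h1, h3, e, h2.2⟩
  · refine ⟨y * α y, mul_mem h1 (hα y h1), fun e' => e (mul_left_cancel (e'.trans h2.1.symm)),
      by rw [map_mul, h.inv, (h2.2 _).eq], fun g => (h2.2 g).mul_right ?_⟩
    rw [← h.inv g]; exact (h2.2 _).map α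

theorem fix_le [Finite Q] (hQ : IsPGroup 2 Q) {N : Subgroup Q} [N.Normal] (hN : N ≠ ⊥)
    (hα : ∀ x ∈ N, α x ∈ N) (hs : Inv s N) : Fix α ≤ N := fun x hx => by
  obtain ⟨z, h1, h2, h3, -⟩ := h.exists_fix hQ hN hα
  obtain ⟨a, rfl⟩ := h.tr z x h3 hx h2
  exact hs a z h1

theorem cen [Finite Q] (hQ : IsPGroup 2 Q) {x : Q} (hx : α x = x) (g : Q) : Commute g x := by
  by_cases h1 : x = 1
  · rw [h1]; exact Commute.one_right g
  have : Nontrivial Q := ⟨x, 1, h1⟩
  obtain ⟨z, -, h2, h3, h4⟩ := h.exists_fix hQ top_ne_bot fun _ _ => trivial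
  obtain ⟨a, rfl⟩ := h.tr z x h3 hx h2
  exact h.commute h4 a g

theorem normal [Finite Q] (hQ : IsPGroup 2 Q) : (Fix α).Normal :=
  ⟨fun n hn g => by rwa [(h.cen hQ hn g).eq, mul_inv_cancel_right]⟩

theorem quot [Finite Q] (hQ : IsPGroup 2 Q) [(Fix α).Normal] :
    HH (qs s (Fix α) h.inv_fix) (QuotientGroup.map _ _ α fun x hx => congrArg α hx) := by
  have k1 : ∀ x y : Q, x⁻¹ * α x = y⁻¹ * α y → (x : Q ⧸ Fix α) = y := fun x y e => by
    rw [QuotientGroup.eq_iff_div_mem]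
    change α (x / y) = x / y
    rw [map_div, eq_mul_of_inv_mul_eq e.symm, div_eq_mul_inv, div_eq_mul_inv]
    group
  have k2 : ∀ a x, (s a x)⁻¹ * α (s a x) = s a (x⁻¹ * α x) := fun a x => by
    rw [h.comm, map_mul, map_inv]
  refine ⟨h.toSM.quot _ _, fun a x => QuotientGroup.induction_on x fun x => congrArg _ (h.comm a x),
    fun x => QuotientGroup.induction_on x fun x => congrArg _ (h.inv x),
    fun x y hx hy h1 => ?_, fun x hx a b => ?_⟩
  · obtain ⟨x, rfl⟩ := QuotientGroup.mk_surjective x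
    obtain ⟨y, rfl⟩ := QuotientGroup.mk_surjective y
    obtain ⟨a, ha⟩ := h.tr _ _ (QuotientGroup.eq.1 hx.symm) (QuotientGroup.eq.1 hy.symm) fun e =>
      h1 ((QuotientGroup.eq_one_iff _).2 (inv_mul_eq_one.1 e).symm)
    exact ⟨a, k1 _ _ (ha.trans (k2 a x).symm)⟩
  · obtain ⟨x, rfl⟩ := QuotientGroup.mk_surjective x
    have hx : x⁻¹ * α x ∈ Fix α := QuotientGroup.eq.1 hx.symm
    refine k1 (s (a + b) x) (s a x * s b x) ?_
    rw [k2, h.add _ hx, map_mul α, mul_inv_rev, mul_assoc, ← mul_assoc (s a x)⁻¹, k2, ← mul_assoc,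
      (h.cen hQ (h.inv_fix a _ hx) _).eq, mul_assoc, k2]

end HH

theorem HH.nil (n : ℕ) : ∀ (Q : Type u) [Group Q] [Finite Q] (s : F → Q →* Q) (α : Q →* Q),
    Nat.card Q = n → IsPGroup 2 Q → HH s α → ∀ a b, ∃ m, ∀ x, (df s a b)^[m] x = 1 := by
  induction n using Nat.strong_induction_on with
  | _ n ih =>
  intro Q _ _ s α hn hQ h a b
  rcases subsingleton_or_nontrivial Q with h0 | h0
  · exact ⟨0, fun x => Subsingleton.elim _ _⟩
  have := h.normal hQ
  obtain ⟨z, -, h2, h3, -⟩ := h.exists_fix hQ top_ne_bot fun _ _ => trivial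
  obtain ⟨m, hm⟩ := ih _ (hn ▸ card_quot_lt (N := Fix α) h3 h2) _ _ _ rfl (hQ.to_quotient _)
    (h.quot hQ) a b
  refine ⟨m + 1, fun x => ?_⟩
  have h4 : Function.Semiconj (QuotientGroup.mk : Q → Q ⧸ Fix α) (df s a b)
    (df (qs s (Fix α) h.inv_fix) a b) := fun x => rfl
  have h5 := (QuotientGroup.eq_one_iff _).1 ((h4.iterate_right m x).trans (hm x))
  rw [Function.iterate_succ_apply', df, ← h.add _ h5]
  exact h.sq (h.inv_fix _ _ h5)

theorem HH.sa [Finite Q] {s : F → Q →* Q} {α : Q →* Q} (h : HH s α) (hQ : IsPGroup 2 Q) : SA s :=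
  h.toSM.sa (HH.nil _ Q s α rfl hQ h)

theorem HH.surj {P : Type*} [Group P] {t : F → P →* P} {β : P →* P} (n : ℕ) :
    ∀ (Q : Type u) [Group Q] [Finite Q] (s : F → Q →* Q) (α : Q →* Q) (f : Q →* P),
    Nat.card Q = n → IsPGroup 2 Q → HH s α → Function.Surjective f → (∀ a x, t a (f x) = f (s a x)) →
    (∀ x, β (f x) = f (α x)) → HH t β := by
  induction n using Nat.strong_induction_on with
  | _ n ih =>
  intro Q _ _ s α f hn hQ h hf h1 h2
  by_cases h0 : f.ker = ⊥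
  · have hi := (MonoidHom.ker_eq_bot_iff f).1 h0
    refine ⟨⟨fun a b => hf.forall.2 fun x => ?_, hf.forall.2 fun x => ?_, hf.forall.2 fun x => ?_⟩,
      fun a => hf.forall.2 fun x => ?_, hf.forall.2 fun x => ?_,
      hf.forall₂.2 fun x y hx hy h3 => ?_, hf.forall.2 fun x hx a b => ?_⟩
    · rw [h1, h1, h1, h.mul]
    · rw [h1, h.one]
    · rw [h1, h.zero, map_one]
    · rw [h1, h2, h2, h1, h.comm]
    · rw [h2, h2, h.inv]
    · obtain ⟨a, rfl⟩ := h.tr x y (hi ((h2 x).symm.trans hx)) (hi ((h2 y).symm.trans hy))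
        fun e => h3 (by rw [e, map_one])
      exact ⟨a, (h1 a x).symm⟩
    · rw [h1, h1, h1, h.add x (hi ((h2 x).symm.trans hx)), map_mul]
  have := h.normal hQ
  have k1 : ∀ x ∈ f.ker, α x ∈ f.ker := fun x hx => by
    rw [MonoidHom.mem_ker, ← h2, hx, map_one]
  obtain ⟨z, -, h3, h4, -⟩ := h.exists_fix hQ h0 k1
  have hle := h.fix_le hQ h0 k1 fun a x hx => by rw [MonoidHom.mem_ker, ← h1, hx, map_one]
  exact ih _ (hn ▸ card_quot_lt (N := Fix α) h4 h3) _ _ _ (QuotientGroup.lift _ f hle) rfl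
    (hQ.to_quotient _) (h.quot hQ) (fun y => by obtain ⟨x, rfl⟩ := hf y; exact ⟨x, rfl⟩)
    (fun a x => QuotientGroup.induction_on x (h1 a)) fun x => QuotientGroup.induction_on x h2

theorem HH.ab {A : Type u} [CommGroup A] {s : F → A →* A} {α : A →* A} (h : HH s α)
    (hA : IsPGroup 2 A) {u : A} (hu : u * u = 1) (hα : α u ≠ u) (x : A) :
    x * x = 1 ∧ ∃ a b, x = s a u * s b (u⁻¹ * α u) := by
  have k0 : ∀ x : A, x⁻¹ * α x * (x⁻¹ * α x) = 1 → α (x⁻¹ * α x) = x⁻¹ * α x := fun x e => by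
    rw [map_mul, map_inv, h.inv, ← inv_eq_of_mul_eq_one_right e, mul_inv_rev, inv_inv]
  have hv := k0 u (by rw [mul_mul_mul_comm, ← map_mul, ← mul_inv, hu]; simp)
  have hv1 : u⁻¹ * α u ≠ 1 := fun e => hα (inv_mul_eq_one.1 e).symm
  have k1 : ∀ x : A, x⁻¹ * α x * (x⁻¹ * α x) = 1 →
      x * x = 1 ∧ ∃ a b, x = s a u * s b (u⁻¹ * α u) := fun x e => by
    obtain ⟨a, ha⟩ := h.tr _ _ hv (k0 x e) hv1
    obtain ⟨b, hb⟩ := h.tr _ ((s a u)⁻¹ * x) hv (by
      rw [map_mul, map_inv, eq_mul_of_inv_mul_eq ha, map_mul, map_inv, ← h.comm, mul_comm (s a u)⁻¹ (α _),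
        mul_left_comm x, inv_mul_cancel_left, mul_comm]) hv1
    have hx := eq_mul_of_inv_mul_eq hb
    refine ⟨?_, a, b, hx⟩
    rw [hx, mul_mul_mul_comm, ← map_mul, ← map_mul, hu, h.sq hv, map_one, map_one, one_mul]
  have k2 : ∀ k (x : A), x ^ 2 ^ k = 1 → x * x = 1 := fun k => by
    induction k with
    | zero => intro x e; rw [show x = 1 by simpa using e, one_mul]
    | succ k ih =>
      intro x e
      have e1 := ih (x * x) (by rw [← pow_two, ← pow_mul, ← pow_succ', e])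
      have e2 := h.sq (x := x * α x) (by rw [map_mul, h.inv, mul_comm])
      refine (k1 x ?_).1
      rw [mul_mul_mul_comm] at e2 ⊢
      rwa [← mul_inv, inv_eq_of_mul_eq_one_right e1]
  obtain ⟨k, hk⟩ := hA x
  exact k1 x (by rw [mul_mul_mul_comm, ← map_mul, ← mul_inv, k2 k x hk]; simp)

theorem HH.card_fix [Finite Q] {s : F → Q →* Q} {α : Q →* Q} (h : HH s α) :
    Nat.card (Fix α) ≤ Fintype.card F := by
  by_cases h0 : ∃ z, α z = z ∧ z ≠ 1
  · obtain ⟨z, h1, h2⟩ := h0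
    rw [← Nat.card_eq_fintype_card]
    refine Nat.card_le_card_of_surjective (fun a => ⟨s a z, h.inv_fix a z h1⟩) fun y => ?_
    obtain ⟨a, ha⟩ := h.tr z y h1 y.2 h2
    exact ⟨a, Subtype.ext ha.symm⟩
  · push Not at h0
    rw [show Fix α = ⊥ from eq_bot_iff.2 h0, card_bot]
    exact Fintype.card_pos

theorem HH.std [Finite Q] {s : F → Q →* Q} {α : Q →* Q} (h : HH s α) (hQ : IsPGroup 2 Q) {a : F}
    (ha0 : a ≠ 0) (ha1 : a ≠ 1) (hne : commutator Q ≠ ⊥) :
    ∃ (p r : F) (π : Q →* _) (i : _ →* Q), Std p r π i := by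
  have hs := h.sa hQ
  have hc := class2 ha0 ha1 _ Q s rfl hQ hs
  obtain ⟨u, v, huv⟩ := hs.two hQ hc hne
  let : CommGroup (Q ⧸ commutator Q) := Abelianization.commGroup Q
  let β : Q ⧸ commutator Q →* Q ⧸ commutator Q := QuotientGroup.map _ _ α fun x hx =>
    (map_commutator ⊤ ⊤ α).le.trans (commutator_mono le_top le_top) ⟨x, hx, rfl⟩
  have hA : HH (qs s _ (inv_der s)) β := HH.surj _ Q s α (QuotientGroup.mk' _) rfl hQ h
    (QuotientGroup.mk'_surjective _) (fun _ _ => rfl) fun _ => rfl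
  let g : Q ⧸ commutator Q →* Q ⧸ commutator Q := powMonoidHom 2
  have h1 : g.range.comap (QuotientGroup.mk' _) ≤ H26.Sq ⊤ := by
    rintro x ⟨y, hy⟩
    obtain ⟨y, rfl⟩ := QuotientGroup.mk_surjective y
    have h2 : commutator Q ≤ H26.Sq ⊤ := fun c hc => (QuotientGroup.eq_one_iff c).1
      ((el_mk (H26.Sq ⊤) fun x hx => H26.sq_mem_Sq hx).der_le hc).2
    have := mul_mem (H26.sq_mem_Sq (a := y) (mem_top _))
      (h2 ((QuotientGroup.eq (a := y ^ 2)).1 hy))
    rwa [← pow_two, mul_inv_cancel_left] at this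
  have h2 := Nat.le_of_dvd (Nat.pos_of_ne_zero index_ne_zero_of_finite) (index_dvd_of_le h1)
  rw [index_comap_of_surjective _ (QuotientGroup.mk'_surjective _), index_range] at h2
  have h3 := Nat.card_le_card_of_injective _ huv
  rw [Nat.card_prod, Nat.card_eq_fintype_card, ← index_eq_card] at h3
  obtain ⟨w, hw, hw'⟩ : ∃ w ∈ g.ker, w ∉ Fix β := SetLike.not_le_iff_exists.1 fun hle => by
    have h4 := (card_le_of_le hle).trans hA.card_fix
    have := Fintype.one_lt_card (α := F)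
    nlinarith
  have key := hA.ab (hQ.to_quotient _) (u := w) (by rw [← pow_two]; exact hw) hw'
  obtain ⟨w, rfl⟩ := QuotientGroup.mk_surjective w
  exact hs.std hc hne (fun x => (QuotientGroup.eq_one_iff _).1 (key x).1) w (w⁻¹ * α w)
    fun x => (key x).2

theorem exists_HH [Finite Q] (α ρ : MulAut Q) (hα : α * α = 1) (hc : Commute α ρ)
    (hρ : ρ ^ (Fintype.card F - 1) = 1) (C : Subgroup Q) (hC : ∀ x, x ∈ C ↔ α x = x)
    (h2 : ∀ x ∈ C, x * x = 1) (hcard : Nat.card C = Fintype.card F)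
    (htr : ∀ x ∈ C, ∀ y ∈ C, x ≠ 1 → y ≠ 1 → ∃ k : ℕ, (ρ ^ k) x = y) :
    ∃ s : F → Q →* Q, HH s α.toMonoidHom := by
  classical
  obtain ⟨g, hg⟩ := IsCyclic.exists_generator (α := Fˣ)
  have hd : orderOf ρ ∣ orderOf g := by
    rw [orderOf_eq_card_of_forall_mem_zpowers hg, H22.card_units_field]
    exact orderOf_dvd_of_pow_eq_one hρ
  let φ := monoidHomOfForallMemZpowers hg hd
  have hφ : φ g = ρ := monoidHomOfForallMemZpowers_apply_gen hg hd
  have hcm : ∀ k x, α (φ k x) = φ k (α x) := fun k x => by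
    obtain ⟨j, rfl⟩ := mem_zpowers_iff.1 (hg k)
    rw [map_zpow, hφ, ← MulAut.mul_apply, (hc.zpow_right j).eq, MulAut.mul_apply]
  have hm : ∀ k, ∀ x ∈ C, φ k x ∈ C := fun k x hx => (hC _).2 (by rw [hcm, (hC x).1 hx])
  have hsq : ∀ v : C, v * v = 1 := fun v => Subtype.ext (h2 v v.2)
  let : CommGroup C :=
    { mul_comm := fun a b => by
        rw [← inv_eq_of_mul_eq_one_right (hsq (a * b)), mul_inv_rev, inv_eq_of_mul_eq_one_right (hsq a),
          inv_eq_of_mul_eq_one_right (hsq b)] }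
  let R : Fˣ → Additive C →+ Additive C := fun k =>
    (((φ k).toMonoidHom.comp C.subtype).codRestrict C fun x => hm k x x.2).toAdditive
  have : Nontrivial C := Finite.one_lt_card_iff_nontrivial.1 (hcard ▸ Fintype.one_lt_card)
  obtain ⟨v, hv⟩ := exists_ne (1 : C)
  obtain ⟨ψ, χ, h3, h4, h5, -⟩ := H26.exists_eigen (F := F) (V := Additive C) hsq R
    (fun v => Subtype.ext (by simp [R])) (fun k l v => Subtype.ext (by simp [R]))
    (fun k w e hw => by
      have hw' : (w.toMul : Q) ≠ 1 := fun e => hw (Subtype.ext e)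
      let o : Option Fˣ → C := fun o => o.elim 1 fun k => ⟨φ k w.toMul, hm k _ w.toMul.2⟩
      have ho : Function.Surjective o := fun y => by
        by_cases hy : y = 1
        · exact ⟨none, hy.symm⟩
        · obtain ⟨j, hj⟩ := htr _ w.toMul.2 y y.2 hw' fun e => hy (Subtype.ext e)
          exact ⟨some (g ^ j), Subtype.ext (by simpa [o, hφ] using hj)⟩
      have hb := (Nat.bijective_iff_surjective_and_card o).2 ⟨ho, by
        rw [Finite.card_option, H22.card_units_field, hcard, Nat.sub_add_cancel Fintype.card_pos]⟩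
      exact Option.some.inj (hb.1 (a₁ := some k) (a₂ := some 1)
        (Subtype.ext ((congrArg Subtype.val e).trans (by simp [o]; rfl))))) ⊥ (v := .ofMul v) hv
  have h6 := ((Nat.bijective_iff_injective_and_card ψ).2 ⟨h4, by
    rw [Nat.card_eq_fintype_card, ← hcard]; rfl⟩).2
  let e := MulEquiv.ofBijective χ h3
  let s : F → Q →* Q := fun a => if ha : a = 0 then 1 else (φ (e.symm (Units.mk0 a ha))).toMonoidHom
  have s0 : ∀ x, s 0 x = 1 := fun x => by simp [s]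
  have s1 : ∀ a (ha : a ≠ 0) x, s a x = φ (e.symm (Units.mk0 a ha)) x := fun a ha x => by
    simp [s, ha]
  have s2 : ∀ a c, s a ((ψ c).toMul : C) = ((ψ (a * c)).toMul : C) := fun a c => by
    by_cases ha : a = 0
    · rw [ha, s0, zero_mul, map_zero]; rfl
    · have := congrArg (fun w : Additive C => ((w.toMul : C) : Q)) (h5 (e.symm (Units.mk0 a ha)) c)
      rw [show χ (e.symm (Units.mk0 a ha)) = Units.mk0 a ha from e.apply_symm_apply _] at this
      rw [s1 a ha]; exact this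
  have ex : ∀ x, α x = x → ∃ c, x = ((ψ c).toMul : C) := fun x hx => by
    obtain ⟨c, hc⟩ := h6 (.ofMul ⟨x, (hC x).2 hx⟩)
    exact ⟨c, by rw [hc]; rfl⟩
  refine ⟨s, ⟨fun a b x => ?_, fun x => ?_, s0⟩, fun a x => ?_, fun x => ?_, fun x y hx hy h1 => ?_,
    fun x hx a b => ?_⟩
  · by_cases ha : a = 0
    · rw [ha, zero_mul, s0, s0]
    by_cases hb : b = 0
    · rw [hb, mul_zero, s0, map_one]
    rw [s1 a ha, s1 b hb, s1 _ (mul_ne_zero ha hb), Units.mk0_mul, map_mul, map_mul, MulAut.mul_apply]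
  · rw [s1 1 one_ne_zero, Units.mk0_one, map_one, map_one]; rfl
  · by_cases ha : a = 0
    · rw [ha, s0, s0, map_one]
    · rw [s1 a ha, s1 a ha]; exact hcm _ x
  · exact congrArg (fun f : MulAut Q => f x) hα
  · obtain ⟨c, rfl⟩ := ex x hx
    obtain ⟨d, rfl⟩ := ex y hy
    have hc0 : c ≠ 0 := fun e => h1 (by rw [e, map_zero]; rfl)
    exact ⟨d / c, by rw [s2, div_mul_cancel₀ _ hc0]⟩
  · obtain ⟨c, rfl⟩ := ex x hx
    rw [s2, s2, s2, add_mul, map_add]; rfl

end Cfsg.Agent.H3.HgA
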