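import Cfsg.Agent.H3.Cnt
import Cfsg.Agent.H8.Count
import Cfsg.Agent.H8.Cyc
import Cfsg.Agent.H9.NormalCyc
import Cfsg.Agent.H6.MaxCl

/-! The number of subgroups of given order in a `p`-group modulo `p ^ 2`. -/

set_option autoImplicit false

namespace Cfsg.Agent.H3

open Subgroup MulAction

theorem ncard_modEq_fiber {α β : Type*} {B : Set α} (hB : B.Finite) {C : Set β} (hC : C.Finite)
    (f : α → β) (hf : ∀ b ∈ B, f b ∈ C) (R : β → Prop) {m d : ℕ}
    (h1 : ∀ y ∈ C, R y → {c ∈ B | f c = y}.ncard ≡ m [MOD d])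
    (h2 : ∀ y ∈ C, ¬ R y → {c ∈ B | f c = y}.ncard ≡ 0 [MOD d]) :
    B.ncard ≡ {y ∈ C | R y}.ncard * m [MOD d] := by
  classical
  have e : {y ∈ C | R y} = ↑(hC.toFinset.filter R) := by ext; simp
  rw [Set.ncard_eq_toFinset_card _ hB, e, Set.ncard_coe_finset,
    Finset.card_eq_sum_card_fiberwise (f := f) (t := hC.toFinset)
      (fun b hb => by simpa using hf b (by simpa using hb)), ← smul_eq_mul, ← Finset.sum_const,
    Finset.sum_filter]
  refine Nat.ModEq.sum fun y hy => ?_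
  rw [← Set.ncard_coe_finset, show (↑(hB.toFinset.filter (f · = y)) : Set α) =
    {c ∈ B | f c = y} by ext; simp]
  split_ifs with h
  exacts [h1 y (by simpa using hy) h, h2 y (by simpa using hy) h]

variable {G : Type*} [Group G] [Finite G] {p : ℕ} [hp : Fact p.Prime]

theorem max_count {n : ℕ} (hG : Nat.card G = p ^ (n + 1)) :
    ∃ d, p ^ d = {H : Subgroup G | Nat.card H = p ^ n}.ncard * (p - 1) + 1 := by
  let C := Multiplicative (ZMod p)
  have hC : Nat.card C = p := by simp [C]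
  have : Finite (G →* C) := DFunLike.finite _
  have hA : IsPGroup p (G →* C) := fun φ => ⟨1, MonoidHom.ext fun g => by
    rw [pow_one, MonoidHom.pow_apply]; exact (congrArg _ hC.symm).trans pow_card_eq_one'⟩
  obtain ⟨d, hd⟩ := IsPGroup.iff_card.1 hA
  have sj : ∀ φ : G →* C, φ ≠ 1 → Function.Surjective φ := fun φ h =>
    MonoidHom.range_eq_top.1 ((φ.range.eq_bot_or_eq_top_of_prime_card (hp := ⟨hC ▸ hp.out⟩)).resolve_left
      fun e => h (MonoidHom.range_eq_bot_iff.1 e))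
  have ix : ∀ H : Subgroup G, Nat.card H = p ^ n ↔ H.index = p := fun H => by
    have := H.card_mul_index.trans (hG.trans (pow_succ _ _))
    exact ⟨fun e => Nat.eq_of_mul_eq_mul_left (pow_pos hp.out.pos n) (e ▸ this),
      fun e => Nat.eq_of_mul_eq_mul_right hp.out.pos (e ▸ this)⟩
  refine ⟨d, ?_⟩
  rw [← hd, ← ncard_eq_mul (B := ({1}ᶜ : Set (G →* C))) (Set.toFinite _) (Set.toFinite _) (·.ker)
    (fun φ h => (ix _).2 (by rw [index_ker, MonoidHom.range_eq_top.2 (sj φ h), card_top, hC])),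
    ← Set.ncard_singleton (1 : G →* C), add_comm, Set.ncard_add_ncard_compl]
  intro M hM
  have hi := (ix M).1 hM
  have := H9.normal_of_index_eq_prime (IsPGroup.of_card hG) hi
  let e : G ⧸ M ≃* C := mulEquivOfPrimeCardEq hi hC
  have hk : ∀ a : MulAut C, ((e.trans a).toMonoidHom.comp (QuotientGroup.mk' M)).ker = M := fun a =>
    ext fun g => by simp [MonoidHom.mem_ker]
  rw [← Nat.totient_prime hp.out, ← (IsCyclic.card_mulAut C).trans (congrArg _ hC),
    ← Set.ncard_range_of_injective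
    (f := fun a : MulAut C => (e.trans a).toMonoidHom.comp (QuotientGroup.mk' M))]
  · congr 1
    ext φ
    refine ⟨fun h => ⟨e.symm.trans (QuotientGroup.liftEquiv M (sj φ h.1) h.2.symm), ?_⟩, ?_⟩
    · ext g; simp
    · rintro ⟨a, rfl⟩
      refine ⟨fun h => ?_, hk a⟩
      rw [← hk a, (congrArg MonoidHom.ker h).trans MonoidHom.ker_one, index_top] at hi
      exact hp.out.one_lt.ne hi
  · intro a b h
    ext c
    obtain ⟨q, rfl⟩ := e.surjective c
    obtain ⟨g, rfl⟩ := QuotientGroup.mk'_surjective M q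
    exact DFunLike.congr_fun h g

theorem max_cyc {n : ℕ} (hG : Nat.card G = p ^ (n + 1)) (hc : IsCyclic G) :
    {H : Subgroup G | Nat.card H = p ^ n}.ncard = 1 := by
  obtain ⟨H, hH⟩ := Sylow.exists_subgroup_card_pow_prime (G := G) p (n := n)
    (hG ▸ pow_dvd_pow p n.le_succ)
  exact Set.ncard_eq_one.2 ⟨H, Set.eq_singleton_iff_unique_mem.2 ⟨hH, fun K hK =>
    H8.eq_of_card_eq_of_isCyclic (P := ⊤) inferInstance le_top le_top (hK.trans hH.symm)⟩⟩

theorem max_ncyc {n : ℕ} (hG : Nat.card G = p ^ (n + 1)) (hc : ¬ IsCyclic G) :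
    {H : Subgroup G | Nat.card H = p ^ n}.ncard ≡ 1 + p [MOD p ^ 2] := by
  obtain ⟨d, hd⟩ := max_count hG
  have h1 := hp.out.two_le
  obtain ⟨H, hH⟩ := Sylow.exists_subgroup_card_pow_prime (G := G) p (n := n)
    (hG ▸ pow_dvd_pow p n.le_succ)
  have h2 : 1 < {H : Subgroup G | Nat.card H = p ^ n}.ncard := by
    refine (Set.one_lt_ncard_iff (Set.toFinite _)).2 ?_
    obtain ⟨g, hg⟩ : ∃ g, g ∉ H := by
      by_contra! h
      rw [(eq_top_iff' H).2 h, card_top, hG] at hH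
      exact absurd (Nat.pow_right_injective h1 hH) (by omega)
    obtain ⟨k, hk⟩ := IsPGroup.iff_card.1 ((IsPGroup.of_card hG).to_subgroup (zpowers g))
    obtain ⟨K, hK, hg'⟩ := Sylow.exists_subgroup_card_pow_prime_le p (n := k) (m := n)
      (hG ▸ pow_dvd_pow p n.le_succ) (zpowers g) hk (by
        by_contra h
        refine hc ⟨g, (eq_top_iff' _).1 (eq_top_of_le_card (zpowers g) ?_)⟩
        rw [hk, hG]
        exact Nat.pow_le_pow_right hp.out.pos (by omega))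
    exact ⟨H, K, hH, hK, fun e => hg (e ▸ hg' (mem_zpowers g))⟩
  generalize {H : Subgroup G | Nat.card H = p ^ n}.ncard = s at *
  obtain ⟨q, rfl⟩ : ∃ q, p = q + 1 := ⟨p - 1, by omega⟩
  rw [Nat.add_sub_cancel] at hd
  refine Nat.ModEq.cancel_right_of_coprime (c := q) (Nat.Coprime.pow_left 2 (by simp))
    (Nat.ModEq.add_right_cancel' 1 ?_)
  rw [← hd, show (1 + (q + 1)) * q + 1 = (q + 1) ^ 2 by ring]
  have := Nat.mul_le_mul_right q h2
  rcases d with _ | _ | d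
  · simp at hd; omega
  · simp at hd; omega
  · exact (Nat.modEq_zero_iff_dvd.2 (pow_dvd_pow _ (by omega))).trans (Nat.modEq_zero_iff_dvd.2 dvd_rfl).symm

theorem ncard_quot (N : Subgroup G) [N.Normal] (P : Subgroup (G ⧸ N) → Prop) (n : ℕ) :
    {K : Subgroup G | (Nat.card K = Nat.card N * n ∧ N ≤ K) ∧ P (K.map (QuotientGroup.mk' N))}.ncard
      = {X : Subgroup (G ⧸ N) | Nat.card X = n ∧ P X}.ncard := by
  have hs := QuotientGroup.mk'_surjective N
  have hc : ∀ X : Subgroup (G ⧸ N), Nat.card (X.comap (QuotientGroup.mk' N)) =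
    Nat.card N * Nat.card X := fun X => QuotientGroup.card_preimage_mk N X
  symm
  refine Set.ncard_congr (fun X _ => X.comap (QuotientGroup.mk' N)) (fun X hX => ⟨⟨hX.1 ▸ hc X,
    QuotientGroup.le_comap_mk' N X⟩, (map_comap_eq_self_of_surjective hs X).symm ▸ hX.2⟩)
    (fun _ _ _ _ => (comap_injective hs ·)) fun K hK => ?_
  have e : (K.map (QuotientGroup.mk' N)).comap (QuotientGroup.mk' N) = K := by
    rw [comap_map_eq, QuotientGroup.ker_mk', sup_eq_left.2 hK.1.2]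
  exact ⟨_, ⟨Nat.eq_of_mul_eq_mul_left Nat.card_pos (by rw [← hc, e, hK.1.1]), hK.2⟩, e⟩

theorem card_map_mk {N K : Subgroup G} [N.Normal] (h : N ≤ K) :
    Nat.card N * Nat.card (K.map (QuotientGroup.mk' N)) = Nat.card K := by
  refine (QuotientGroup.card_preimage_mk N (K.map (QuotientGroup.mk' N))).symm.trans ?_
  change Nat.card ((K.map (QuotientGroup.mk' N)).comap (QuotientGroup.mk' N)) = _
  rw [comap_map_eq, QuotientGroup.ker_mk', sup_eq_left.2 h]

theorem max_le {n : ℕ} {L : Subgroup G} (hL : Nat.card L = p ^ (n + 1)) [Decidable (IsCyclic L)] :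
    {H : Subgroup G | Nat.card H = p ^ n ∧ H ≤ L}.ncard ≡ 1 + if IsCyclic L then 0 else p
      [MOD p ^ 2] := by
  rw [ncard_sub_le]
  split_ifs with h
  · exact congrArg (· % p ^ 2) (max_cyc hL h)
  · exact max_ncyc hL h

theorem fiber_mod {Z L : Subgroup G} [Z.Normal] (hZ : Nat.card Z = p) {n : ℕ} (h : Z ≤ L)
    (hL : Nat.card L = p ^ (n + 2)) :
    (¬ IsCyclic L ∧ IsCyclic (L.map (QuotientGroup.mk' Z)) →
      {H ∈ {H : Subgroup G | Nat.card H = p ^ (n + 1) ∧ ¬ Z ≤ H} | H ⊔ Z = L}.ncard ≡ p [MOD p ^ 2]) ∧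
    (¬ (¬ IsCyclic L ∧ IsCyclic (L.map (QuotientGroup.mk' Z))) →
      {H ∈ {H : Subgroup G | Nat.card H = p ^ (n + 1) ∧ ¬ Z ≤ H} | H ⊔ Z = L}.ncard ≡ 0 [MOD p ^ 2]) := by
  classical
  have h1 := max_le hL
  have h2 := max_le (n := n) (L := L.map (QuotientGroup.mk' Z)) (Nat.eq_of_mul_eq_mul_left hp.out.pos
    (by rw [← pow_succ', ← hL, ← card_map_mk h, hZ]))
  rw [← ncard_quot Z (· ≤ L.map (QuotientGroup.mk' Z)), hZ, ← pow_succ'] at h2
  simp only [Subgroup.map_le_map_iff, QuotientGroup.ker_mk', sup_eq_left.2 h] at h2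
  rw [show {H : Subgroup G | Nat.card H = p ^ (n + 1) ∧ H ≤ L} =
    {H ∈ {H : Subgroup G | Nat.card H = p ^ (n + 1) ∧ ¬ Z ≤ H} | H ⊔ Z = L} ∪
    {K : Subgroup G | (Nat.card K = p ^ (n + 1) ∧ Z ≤ K) ∧ K ≤ L} from ?_,
    Set.ncard_union_eq (Set.disjoint_left.2 fun _ a b => a.1.2 b.1.2)] at h1
  · refine ⟨fun ⟨a, b⟩ => ?_, fun a => ?_⟩
    · rw [if_neg a, add_comm 1] at h1
      rw [if_pos b] at h2
      exact Nat.ModEq.add_right_cancel h2 h1
    · refine Nat.ModEq.add_right_cancel h2 (h1.trans ?_)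
      by_cases b : IsCyclic L
      · rw [if_pos b, if_pos (isCyclic_of_surjective _ (MonoidHom.subgroupMap_surjective _ L)), zero_add]
      · rw [if_neg b, if_neg fun c => a ⟨b, c⟩, zero_add]
  ext H
  refine ⟨fun ⟨a, b⟩ => (em (Z ≤ H)).symm.imp (fun c => ⟨⟨a, c⟩, eq_of_le_of_card_ge (sup_le b h) ?_⟩)
    fun c => ⟨⟨a, c⟩, b⟩, fun a => a.elim (fun a => ⟨a.1.1, a.2 ▸ le_sup_left⟩) fun a => ⟨a.1.1, a.2⟩⟩
  rw [hL, pow_succ, ← a]
  exact pg_le_card ((IsPGroup.of_card hL).to_le (sup_le b h)) (left_lt_sup.2 c)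

theorem card_sup_prime {Z H : Subgroup G} [Z.Normal] (hZ : Nat.card Z = p) (h : ¬ Z ≤ H) :
    Nat.card (H ⊔ Z : Subgroup G) = Nat.card H * p := by
  rw [H1.card_sup_of_disjoint le_normalizer_of_normal, hZ]
  have := (H.subgroupOf Z).eq_bot_or_eq_top_of_prime_card (hp := ⟨hZ ▸ hp.out⟩)
  rw [subgroupOf_eq_bot, subgroupOf_eq_top] at this
  exact disjoint_iff.1 (this.resolve_right h)

theorem cyc_out {Z : Subgroup G} [Z.Normal] (hZ : Nat.card Z = p) (n : ℕ) :
    p ∣ {H : Subgroup G | (Nat.card H = p ^ (n + 1) ∧ IsCyclic H) ∧ ¬ Z ≤ H}.ncard := by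
  refine H8.dvd_ncard_of_fiber _ (· ⊔ Z) p fun H ⟨⟨a, b⟩, c⟩ => ?_
  have hL : Nat.card (H ⊔ Z : Subgroup G) = p ^ (n + 2) := by rw [card_sup_prime hZ c, a, ← pow_succ]
  have e : ∀ K : Subgroup G, (K ⊔ Z).map (QuotientGroup.mk' Z) = K.map (QuotientGroup.mk' Z) :=
    fun K => by rw [Subgroup.map_sup, QuotientGroup.map_mk'_self, sup_bot_eq]
  have h := fiber_mod hZ le_sup_right hL
  rw [show {y | y ∈ {H : Subgroup G | (Nat.card H = p ^ (n + 1) ∧ IsCyclic H) ∧ ¬ Z ≤ H} ∧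
    y ⊔ Z = H ⊔ Z} = {K ∈ {H : Subgroup G | Nat.card H = p ^ (n + 1) ∧ ¬ Z ≤ H} | K ⊔ Z = H ⊔ Z}
    from Set.ext fun K => ⟨fun k => ⟨⟨k.1.1.1, k.1.2⟩, k.2⟩, fun k => ⟨⟨⟨k.1.1, ?_⟩, k.1.2⟩, k.2⟩⟩]
  · exact (em _).elim (fun k => (Nat.modEq_zero_iff_dvd.1 (((h.1 k).of_dvd (dvd_pow_self p two_ne_zero)).trans
      (Nat.modEq_zero_iff_dvd.2 dvd_rfl)))) fun k =>
      Nat.modEq_zero_iff_dvd.1 ((h.2 k).of_dvd (dvd_pow_self p two_ne_zero))
  have h1 : IsCyclic (K.map (QuotientGroup.mk' Z)) := by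
    rw [← e, k.2, e]; exact isCyclic_of_surjective _ (MonoidHom.subgroupMap_surjective _ H)
  refine isCyclic_of_injective _ (((Nat.bijective_iff_surjective_and_card _).2
    ⟨MonoidHom.subgroupMap_surjective (QuotientGroup.mk' Z) K, ?_⟩).1)
  refine Nat.eq_of_mul_eq_mul_left hp.out.pos ?_
  rw [← e, ← hZ, card_map_mk le_sup_right, card_sup_prime hZ k.1.2, hZ, mul_comm]

theorem univ_id.{u} (j : ℕ) : ∀ (G : Type u) [Group G] [Finite G], IsPGroup p G →
    p ^ (j + 1) ∣ Nat.card G → {H : Subgroup G | Nat.card H = p ^ j}.ncard +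
      {H : Subgroup G | Nat.card H = p ^ (j + 1) ∧ IsCyclic H}.ncard * p ≡ 1 + p [MOD p ^ 2] := by
  induction j with
  | zero =>
    intro G _ _ _ hd
    have h := H8.card_sub_modEq hp.out hd
    simp only [pow_zero, card_eq_one, Set.ofPred_eq_eq_singleton, Set.ncard_singleton]
    rw [show {H : Subgroup G | Nat.card H = p ^ (0 + 1) ∧ IsCyclic H} =
      {H : Subgroup G | Nat.card H = p ^ (0 + 1)} from Set.ext fun H => and_iff_left_of_imp fun h =>
        isCyclic_of_prime_card (h.trans (pow_one p))]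
    simpa [sq] using! (h.mul_right' p).add_left 1
  | succ j ih =>
    intro G _ _ hG hd
    obtain ⟨Z, _, -, -, hZ⟩ := H9.exists_normal_card_eq_pow hG (M := ⊤) (N := ⊥) bot_le (k := 1)
      (by simpa using hp.out.one_le) (card_top (G := G) ▸ Nat.le_of_dvd Nat.card_pos
        ((pow_dvd_pow p (by omega)).trans hd))
    rw [pow_one] at hZ
    have h1 := ih (G ⧸ Z) (hG.to_quotient Z) (Nat.dvd_of_mul_dvd_mul_right hp.out.pos (by
      rwa [← pow_succ, ← hZ, ← card_eq_card_quotient_mul_card_subgroup, hZ]))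
    have h2 := ncard_quot Z (fun _ => True) (p ^ j)
    simp only [and_true] at h2
    rw [← h2, ← ncard_quot Z (IsCyclic ·), hZ, ← pow_succ', ← pow_succ'] at h1
    have h3 := ncard_modEq_fiber (Set.toFinite {H : Subgroup G | Nat.card H = p ^ (j + 1) ∧ ¬ Z ≤ H})
      (Set.toFinite {H : Subgroup G | Nat.card H = p ^ (j + 2) ∧ Z ≤ H}) (· ⊔ Z)
      (fun H a => ⟨by rw [card_sup_prime hZ a.2, a.1, ← pow_succ], le_sup_right⟩) _
      (fun L a => (fiber_mod hZ a.2 a.1).1) fun L a => (fiber_mod hZ a.2 a.1).2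
    obtain ⟨c, h4⟩ := cyc_out hZ (j + 1)
    have sp : ∀ (S : Set (Subgroup G)) (P : Subgroup G → Prop),
        S.ncard = {x ∈ S | P x}.ncard + {x ∈ S | ¬ P x}.ncard := fun S P =>
      (Set.ncard_inter_add_ncard_sdiff_eq_ncard S {x | P x}).symm
    have e1 := sp {H : Subgroup G | Nat.card H = p ^ (j + 1)} (Z ≤ ·)
    have e2 := sp {H : Subgroup G | Nat.card H = p ^ (j + 1 + 1) ∧ IsCyclic H} (Z ≤ ·)
    have e3 := sp {K : Subgroup G | (Nat.card K = p ^ (j + 1 + 1) ∧ Z ≤ K) ∧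
      IsCyclic (K.map (QuotientGroup.mk' Z))} (IsCyclic ·)
    simp only [Set.mem_ofPred_eq] at e1 e2 e3 h3
    rw [e3, show {x : Subgroup G | ((Nat.card x = p ^ (j + 1 + 1) ∧ Z ≤ x) ∧
      IsCyclic (x.map (QuotientGroup.mk' Z))) ∧ IsCyclic x} =
      {x : Subgroup G | (Nat.card x = p ^ (j + 1 + 1) ∧ IsCyclic x) ∧ Z ≤ x} from Set.ext fun x =>
      ⟨fun a => ⟨⟨a.1.1.1, a.2⟩, a.1.1.2⟩, fun a => ⟨⟨⟨a.1.1, a.2⟩, have := a.1.2
        isCyclic_of_surjective _ (MonoidHom.subgroupMap_surjective _ x)⟩, a.1.2⟩⟩] at h1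
    simp only [and_assoc, and_comm (a := IsCyclic _) (b := ¬ _)] at e1 e2 h1 h3 h4
    rw [e1, e2, h4]
    refine .trans ?_ h1
    have h5 : p * c * p ≡ 0 [MOD p ^ 2] := Nat.modEq_zero_iff_dvd.2 ⟨c, by ring⟩
    convert ((h3.add h5).add_left _).add_left _ using 1
    rotate_left
    · rw [add_zero, add_mul, add_assoc]
    · ring_nf

theorem card_pow_ord (n : ℕ) : {x : G | orderOf x = n}.ncard =
    {H : Subgroup G | Nat.card H = n ∧ IsCyclic H}.ncard * n.totient := by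
  refine ncard_eq_mul (Set.toFinite _) (Set.toFinite _) zpowers
    (fun x hx => And.intro ((Nat.card_zpowers x).trans hx) (isCyclic_zpowers x)) fun H ⟨a, b⟩ => ?_
  obtain ⟨x, rfl⟩ := H8.exists_zpowers_eq_of_isCyclic b
  rw [← a, Nat.card_zpowers, ← H8.ncard_generators]
  congr 1
  exact Set.ext fun y => ⟨fun h => h.2, fun h => ⟨H8.orderOf_eq_of_zpowers_eq h, h⟩⟩

theorem dvd_cyc_of {j : ℕ} (h : p ^ (j + 1) ∣ {x : G | orderOf x = p ^ (j + 1)}.ncard) :
    p ∣ {H : Subgroup G | Nat.card H = p ^ (j + 1) ∧ IsCyclic H}.ncard := by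
  rw [card_pow_ord, Nat.totient_prime_pow_succ hp.out, mul_left_comm, pow_succ] at h
  exact (Nat.Coprime.dvd_mul_right ((Nat.coprime_self_sub_right hp.out.one_le).2 (by simp))).1
    (Nat.dvd_of_mul_dvd_mul_left (pow_pos hp.out.pos j) h)

theorem dvd_ord {E : Subgroup G} [E.Normal] (hE : Nat.card E = p ^ 2) (he : ∀ e ∈ E, e ^ p = 1)
    {j : ℕ} (h : ∀ x : G, ∀ e ∈ E, (x * e) ^ p ^ (j + 1) = x ^ p ^ (j + 1)) :
    p ^ (j + 2) ∣ {x : G | orderOf x = p ^ (j + 2)}.ncard := by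
  have o1 : ∀ x y : G, (y : G ⧸ E) ∈ zpowers (x : G ⧸ E) →
      ∃ i : ℤ, y ^ p ^ (j + 1) = (x ^ p ^ (j + 1)) ^ i := fun x y ⟨i, a⟩ => ⟨i, by
    have h1 := h (x ^ i) _ (QuotientGroup.eq.1 ((QuotientGroup.mk_zpow _ _ _).trans a))
    rw [mul_inv_cancel_left] at h1
    rw [h1, ← zpow_natCast, ← zpow_natCast, zpow_comm]⟩
  have o : ∀ x y : G, zpowers (y : G ⧸ E) = zpowers (x : G ⧸ E) → orderOf x = p ^ (j + 2) →
      orderOf y = p ^ (j + 2) := fun x y a b => by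
    obtain ⟨i, h1⟩ := o1 x y (a ▸ mem_zpowers _)
    obtain ⟨k, h2⟩ := o1 y x (a ▸ mem_zpowers _)
    refine orderOf_eq_prime_pow (fun c => ?_) (by rw [pow_succ, pow_mul, h1, ← zpow_natCast,
      zpow_comm, zpow_natCast, ← pow_mul, ← pow_succ, ← b, pow_orderOf_eq_one, one_zpow])
    have := orderOf_dvd_of_pow_eq_one (h2.trans (by rw [c, one_zpow]))
    rw [b, Nat.pow_dvd_pow_iff_le_right hp.out.one_lt] at this
    omega
  have h1 := QuotientGroup.card_preimage_mk E (QuotientGroup.mk '' {x : G | orderOf x = p ^ (j + 2)})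
  rw [show QuotientGroup.mk ⁻¹' (QuotientGroup.mk (s := E) '' {x : G | orderOf x = p ^ (j + 2)}) =
    {x : G | orderOf x = p ^ (j + 2)} from Set.ext fun y => ⟨fun ⟨x, a, b⟩ => o x y (by rw [b]) a,
      fun a => ⟨y, a, rfl⟩⟩] at h1
  rw [← Nat.card_coe_set_eq, h1, hE]
  refine .trans (by rw [pow_add, mul_comm])
    (Nat.mul_dvd_mul_left _ (H8.dvd_ncard_of_totient _ ?_ (p ^ j) ?_))
  · rintro _ ⟨x, a, rfl⟩ y b
    obtain ⟨y, rfl⟩ := QuotientGroup.mk_surjective y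
    exact ⟨y, o x y b a, rfl⟩
  · rintro _ ⟨x, a, rfl⟩
    obtain ⟨t, -, ht⟩ := (Nat.dvd_prime_pow hp.out).1
      (a ▸ orderOf_map_dvd (QuotientGroup.mk' E) x : _ ∣ p ^ (j + 2))
    obtain ⟨t, rfl⟩ : ∃ s, t = j + s + 1 := ⟨t - j - 1, by
      by_contra c
      have h2 : ((x ^ p ^ j : G) : G ⧸ E) = 1 := orderOf_dvd_iff_pow_eq_one.1
        (ht ▸ pow_dvd_pow p (by omega) : orderOf (QuotientGroup.mk' E x) ∣ _)
      have := orderOf_dvd_of_pow_eq_one ((pow_mul _ _ _).trans (he _ ((QuotientGroup.eq_one_iff _).1 h2)))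
      rw [a, ← pow_succ, Nat.pow_dvd_pow_iff_le_right hp.out.one_lt] at this
      omega⟩
    rw [show orderOf (x : G ⧸ E) = _ from ht, Nat.totient_prime_pow_succ hp.out, pow_add, mul_assoc]
    exact dvd_mul_right _ _

open scoped commutatorElement in
theorem four_dvd_sq (hG : IsPGroup 2 G) {E : Subgroup G} [E.Normal] (hE : Nat.card E = 2 ^ 2)
    (he : IsElementaryAbelian 2 E) {z : G} (hz : z ∈ E) (z1 : z ≠ 1) (zc : ∀ g, Commute z g)
    (hZ : ∀ e ∈ E, ∀ g, ⁅e, g⁆ ∈ zpowers z)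
    (hc : ∀ a : G, ¬ Nat.card (centralizer ({a} : Set G)) ≤ 2 ^ 2) :
    4 ∣ {x : G | x ^ 2 = 1}.ncard := by
  classical
  have := he.1
  set T := centralizer (E : Set G)
  have hT : E ≤ T := le_centralizer E
  have oz : orderOf z = 2 := orderOf_eq_prime (he.2 z hz) z1
  have mz : ∀ y ∈ zpowers z, y = 1 ∨ y = z := fun y hy => by
    simpa [oz, Finset.range_add_one, or_comm] using mem_zpowers_iff_mem_range_orderOf.1 hy
  have nz : (zpowers z).Normal := ⟨fun y hy g => by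
    rcases mz y hy with rfl | rfl <;> simp [← (zc g).eq]⟩
  rw [← Set.ncard_inter_add_ncard_sdiff_eq_ncard _ (T : Set G)]
  refine dvd_add ((show 4 = _ from hE.symm) ▸ H6.card_dvd_ncard_of_free E _ (Set.toFinite _)
    (fun e h b hb => ⟨?_, T.mul_mem (hT h) hb.2⟩) fun e _ b _ => mul_eq_right.1) ?_
  · exact (Commute.mul_pow (hb.2 e h) 2).trans (by rw [he.2 e h, hb.1, one_mul])
  by_cases h : ∀ x ∈ {x : G | x ^ 2 = 1} \ T, 4 ∣ (centralizer ({x} : Set G)).index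
  · refine H6.dvd_ncard_of_relIndex (G := ConjAct G) ⊤ 4 _ (Set.toFinite _) (fun g _ b hb => ⟨?_,
      fun c => hb.2 (by simpa using (Normal.mem_comm_iff (H := T) inferInstance).1 c)⟩) fun b hb => ?_
    · change (g • b) ^ 2 = 1
      rw [← smul_pow', show b ^ 2 = 1 from hb.1, smul_one]
    · rw [relIndex_top_right, ConjAct.stabilizer_eq_centralizer]
      exact h b hb
  push Not at h
  obtain ⟨x, ⟨hx, xT⟩, hi⟩ := h
  have iT : T.index = 2 := by
    have := H9.index_centralizer_le_pow hG 2 E hE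
    have := T.index_ne_zero_of_finite
    have : T.index ≠ 1 := fun h => xT (index_eq_one.1 h ▸ mem_top x)
    change T.index ≤ 2 at *
    omega
  set D := centralizer ({x} : Set G)
  have iD : D.index = 2 := by
    obtain ⟨_ | _ | n, h⟩ := hG.index D
    · exact absurd (fun e _ => mem_centralizer_singleton_iff.1 (index_eq_one.1 h ▸ mem_top e : e ∈ D)) xT
    · exact h
    · exact absurd (h ▸ ⟨2 ^ n, by ring⟩) hi
  have := normal_of_index_eq_two iD
  obtain ⟨c, c1, c2, c3, c4⟩ := H9.exists_central_step hG (M := D ⊓ T) (N := zpowers z) fun h => by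
    have h1 := H1.card_inf_mul_relIndex T D
    have h2 := Nat.le_of_dvd (by omega) (relIndex_dvd_index_of_normal T D)
    have h3 := card_le_of_le h
    rw [Nat.card_zpowers, oz, inf_comm] at h3
    have := Nat.mul_le_mul h3 h2
    exact hc x (by change Nat.card D ≤ 4; omega)
  let f := QuotientGroup.mk' (zpowers z)
  have fm : ∀ y, y ^ 2 ∈ zpowers z ↔ f y ^ 2 = 1 := fun y => (QuotientGroup.eq_one_iff _).symm
  let N := T ⊓ (H9.omegaAb (center (G ⧸ zpowers z)) inferInstance 2).comap f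
  have mN : ∀ y ∈ T, (∀ g, ⁅y, g⁆ ∈ zpowers z) → y ^ 2 ∈ zpowers z → y ∈ N := fun y a b c =>
    ⟨a, mem_center_iff.2 fun q => by
      obtain ⟨g, rfl⟩ := QuotientGroup.mk_surjective q
      exact (commutatorElement_eq_one_iff_mul_comm.1 ((map_commutatorElement f y g).symm.trans
        ((QuotientGroup.eq_one_iff _).2 (b g)))).symm, (fm y).1 c⟩
  obtain ⟨e, eE, ex⟩ : ∃ e ∈ E, e ∉ D := by
    by_contra! h
    exact xT fun e a => mem_centralizer_singleton_iff.1 (h e a)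
  have h8 : 8 ∣ Nat.card N := by
    have h1 : E < N := lt_of_le_of_ne (fun e a => mN e (hT a) (hZ e a) (he.2 e a ▸ one_mem _))
      fun h => ex ((eq_of_le_of_card_ge (sup_le (zpowers_le.2 hz) (zpowers_le.2
        (h ▸ mN c c1.2 c4 c3))) (by rw [H9.card_sup_zpowers Nat.prime_two (le_normalizer_of_normal
          (H := zpowers z) (K := ⊤) trivial) c2 c3, Nat.card_zpowers, oz, hE]; rfl)) ▸
        (sup_le (zpowers_le.2 (mem_centralizer_singleton_iff.2 (zc x))) (zpowers_le.2 c1.1)) <| eE)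
    obtain ⟨n, hn⟩ := IsPGroup.iff_card.1 (hG.to_subgroup N)
    have := H1.card_lt_of_lt h1
    rw [hE, hn, Nat.pow_lt_pow_iff_right one_lt_two] at this
    exact hn ▸ pow_dvd_pow 2 (show 3 ≤ n from this)
  have h9 := h8.trans (H6.card_dvd_ncard_of_free N {y : G | y ^ 2 ∈ zpowers z ∧ y ∉ T}
    (Set.toFinite _) (fun n a b hb => ⟨(fm _).2 ?_, fun c => hb.2 ((T.mul_mem_cancel_left a.1).1 c)⟩)
    fun e _ b _ => mul_eq_right.1)
  swap
  · rw [smul_eq_mul, map_mul, (Commute.symm (mem_center_iff.1 a.2.1 (f b))).mul_pow, a.2.2,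
      (fm b).1 hb.1, one_mul]
  have sq : ∀ y ∉ T, (e * y) ^ 2 = z * y ^ 2 := fun y hy => by
    have h1 : ⁅e, y⁆ = z := (mz _ (hZ e eE y)).resolve_left fun h => ex (by
      have h2 : e ∈ centralizer {y} := mem_centralizer_singleton_iff.2
        (commutatorElement_eq_one_iff_mul_comm.1 h)
      have h3 := ((mul_mem_iff_of_index_two iT).2 (iff_of_false hy xT)) e eE
      rw [← mul_assoc, mem_centralizer_singleton_iff.1 h2, mul_assoc, mul_assoc] at h3
      exact mem_centralizer_singleton_iff.2 (mul_left_cancel h3))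
    have h2 : e = e⁻¹ := eq_inv_of_mul_eq_one_left (by rw [← pow_two, he.2 e eE])
    rw [← h1, commutatorElement_def, ← h2]; simp [pow_two, mul_assoc]
  rw [show {y : G | y ^ 2 ∈ zpowers z ∧ y ∉ T} = {x : G | x ^ 2 = 1} \ T ∪
    (e * ·) '' ({x : G | x ^ 2 = 1} \ T) from ?_, Set.ncard_union_eq, Set.ncard_image_of_injective _
    (mul_right_injective e)] at h9
  · omega
  · refine Set.disjoint_left.2 ?_
    rintro _ a ⟨y, b, rfl⟩
    exact z1 (by simpa [show y ^ 2 = 1 from b.1] using (sq y b.2).symm.trans a.1)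
  ext y
  refine ⟨fun ⟨a, b⟩ => (mz _ a).imp (fun c => ⟨c, b⟩) fun c => ⟨e * y, ⟨?_, fun d =>
    b ((T.mul_mem_cancel_left (hT eE)).1 d)⟩, ?_⟩, ?_⟩
  · exact (sq y b).trans (by rw [c, ← pow_two, he.2 z hz])
  · simp only [← mul_assoc, ← pow_two, he.2 e eE, one_mul]
  · rintro (⟨a, b⟩ | ⟨y, ⟨a, b⟩, rfl⟩)
    · exact ⟨(show y ^ 2 = 1 from a) ▸ one_mem _, b⟩
    · exact ⟨by rw [sq y b, show y ^ 2 = 1 from a, mul_one]; exact mem_zpowers z,
        fun d => b ((T.mul_mem_cancel_left (hT eE)).1 d)⟩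

open scoped commutatorElement in
theorem dvd_ord_of {m : ℕ} (hG : Nat.card G = p ^ m) (hnc : ¬ IsCyclic G)
    (h2 : p = 2 → Group.nilpotencyClass G ≠ m - 1) {j : ℕ} (hj : j + 2 ≤ m) :
    p ^ (j + 2) ∣ {x : G | orderOf x = p ^ (j + 2)}.ncard := by
  have hP := IsPGroup.of_card hG
  obtain ⟨n, rfl⟩ : ∃ n, m = n + 2 := ⟨m - 2, by omega⟩
  have hc : p = 2 → ∀ a : G, ¬ Nat.card (centralizer ({a} : Set G)) ≤ p ^ 2 := fun h a ha =>
    h2 h (H6.class_of_card_cent n G a hG ha)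
  obtain ⟨E, _, he, hE⟩ : ∃ E : Subgroup G, E.Normal ∧ IsElementaryAbelian p E ∧
      Nat.card E = p ^ 2 := by
    by_cases h : p = 2
    · subst h
      by_contra! h
      obtain ⟨k, a, b, c, d, -, -, -, e⟩ := H6.dqs_data ((H9.cyclic_or_dqs hP
        fun V a b c => h V a ⟨b, c⟩).resolve_left hnc)
      exact hc rfl b (H6.card_cent_le_four c d e)
    · obtain ⟨E, -, a⟩ := H9.exists_normal_rank_two h hP ⊤ (mt H9.isCyclic_iff_top.1 hnc)
      exact ⟨E, a⟩
  have p1 := hp.out.one_lt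
  obtain ⟨z, hz, z1, zp, zc⟩ := H9.exists_central_step hP (M := E) (N := ⊥) fun h => by
    rw [le_bot_iff.1 h, card_bot] at hE; nlinarith
  simp only [mem_bot, commutatorElement_eq_one_iff_commute] at z1 zp zc
  have oz := orderOf_eq_prime zp z1
  have zc' : ∀ y ∈ zpowers z, ∀ g, Commute g y := fun _ ⟨i, a⟩ g => a ▸ (zc g).symm.zpow_right i
  have nz : (zpowers z).Normal := ⟨fun y hy g => by rwa [(zc' y hy g).eq, mul_inv_cancel_right]⟩
  obtain ⟨K, -, -, k1, k2, k3, -⟩ := H9.exists_normal_card_eq_mul hP (M := E) (N := zpowers z)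
    (lt_of_le_of_ne (zpowers_le.2 hz) fun h => by rw [← h, Nat.card_zpowers, oz] at hE; nlinarith)
  obtain rfl : K = E := eq_of_le_of_card_ge k1 (by rw [k2, hE, Nat.card_zpowers, oz, sq])
  have hZ : ∀ e ∈ K, ∀ g, ⁅e, g⁆ ∈ zpowers z := fun e a g =>
    k3 (commutator_mem_commutator a (mem_top g))
  by_cases h : p ^ (j + 1) = 2
  · obtain rfl : p = 2 := (Nat.prime_dvd_prime_iff_eq hp.out Nat.prime_two).1
      (h ▸ dvd_pow_self p j.succ_ne_zero)
    obtain rfl : j = 0 := by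
      have := Nat.pow_right_injective le_rfl (h.trans (pow_one 2).symm); omega
    have h3 := four_dvd_sq hP hE he hz z1 zc hZ (hc rfl)
    have h4 : 4 ∣ {x : G | x ^ 4 = 1}.ncard := H8.frobenius_dvd (hG ▸ ⟨2 ^ n, by ring⟩)
    rw [show {x : G | x ^ 4 = 1} = {x : G | x ^ 2 = 1} ∪ {x : G | orderOf x = 2 ^ (0 + 2)} from ?_,
      Set.ncard_union_eq (Set.disjoint_left.2 fun x a b => by
        simpa [show orderOf x = _ from b] using orderOf_dvd_of_pow_eq_one a)] at h4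
    · exact (Nat.dvd_add_right h3).1 h4
    refine Set.ext fun x => ⟨fun a => (em _).imp_right fun b => orderOf_eq_prime_pow (n := 1) b a, ?_⟩
    rintro (a | a)
    · exact (pow_mul x 2 2).trans (by rw [a, one_pow])
    · exact orderOf_dvd_iff_pow_eq_one.1 (dvd_of_eq a)
  refine dvd_ord hE he.2 fun x e a => ?_
  obtain ⟨i, hi⟩ := H9.prime_dvd_choose_two j.succ_ne_zero h
  rw [H9.mul_pow_class_two (zc' _ (hZ e a x) x) (zc' _ (hZ e a x) e), hi, pow_succ' p, pow_mul e,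
    he.2 e a, pow_mul ⁅e, x⁆, orderOf_dvd_iff_pow_eq_one.1
      ((orderOf_dvd_of_mem_zpowers (hZ e a x)).trans oz.dvd)]
  simp

end Cfsg.Agent.H3
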