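import Cfsg.Agent.H22.AutN
import Cfsg.Agent.H3.HgB
import Cfsg.Agent.H1.Gasch
import Cfsg.Agent.H9.Blackburn

/-! The two elementary abelian subgroups of order sixteen in a Sylow `2`-subgroup of `L₃(4)`. -/

set_option autoImplicit false
set_option linter.unusedSectionVars false

namespace Cfsg.Agent.H3.L34

open Subgroup Matrix
open scoped MatrixGroups

variable {F : Type*} [Field F]

/-- unitriangular matrices -/
def S (a b c : F) : SL(3, F) := ⟨!![1, a, c; 0, 1, b; 0, 0, 1], by simp [det_fin_three]⟩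

/-- the projection -/
abbrev sg : SL(3, F) →* PSL(3, F) := QuotientGroup.mk' (center _)

/-- their images -/
def U (a b c : F) : PSL(3, F) := sg (S a b c)

theorem S_mul (a b c d e f : F) : S a b c * S d e f = S (a + d) (b + e) (c + f + a * e) := by
  refine Subtype.ext ?_
  change !![1, a, c; 0, 1, b; 0, 0, 1] * !![1, d, f; 0, 1, e; 0, 0, 1] = !![1, _, _; 0, 1, _; 0, 0, 1]
  ext i j
  fin_cases i <;> fin_cases j <;> simp [Matrix.mul_apply, Fin.sum_univ_three] <;> ring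

theorem U_mul (a b c d e f : F) : U a b c * U d e f = U (a + d) (b + e) (c + f + a * e) := by
  unfold U; rw [← map_mul, S_mul]

theorem S_zero : S (0 : F) 0 0 = 1 := by
  ext i j
  fin_cases i <;> fin_cases j <;> simp [S]

theorem U_zero : U (0 : F) 0 0 = 1 := by unfold U; rw [S_zero, map_one]

theorem S_inv (a b c : F) : (S a b c)⁻¹ = S (-a) (-b) (a * b - c) := by
  rw [inv_eq_iff_mul_eq_one, S_mul, ← S_zero]
  congr 1 <;> ring

theorem U_inv (a b c : F) : (U a b c)⁻¹ = U (-a) (-b) (a * b - c) := by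
  unfold U; rw [← map_inv, S_inv]

theorem sg_eq {g h : SL(3, F)} : sg g = sg h ↔ ∃ r : F, r ^ 3 = 1 ∧ g.1 = r • h.1 := by
  constructor
  · intro e
    have h1 : g * h⁻¹ ∈ center SL(3, F) := by
      rw [← QuotientGroup.eq_one_iff]
      show sg (g * h⁻¹) = 1
      rw [map_mul, map_inv, e, mul_inv_cancel]
    obtain ⟨r, h2, hr⟩ := Matrix.SpecialLinearGroup.mem_center_iff.1 h1
    refine ⟨r, by simpa using h2, ?_⟩
    have : g = g * h⁻¹ * h := by group
    rw [this, Matrix.SpecialLinearGroup.coe_mul, ← hr, scalar_apply, ← smul_eq_diagonal_mul]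
  · rintro ⟨r, h1, h2⟩
    have : g * h⁻¹ ∈ center SL(3, F) := by
      refine Matrix.SpecialLinearGroup.mem_center_iff.2 ⟨r, by simpa using h1, ?_⟩
      rw [Matrix.SpecialLinearGroup.coe_mul, h2, smul_mul_assoc, ← Matrix.SpecialLinearGroup.coe_mul, mul_inv_cancel,
        scalar_apply, Matrix.SpecialLinearGroup.coe_one, smul_one_eq_diagonal]
    rw [← QuotientGroup.eq_one_iff] at this
    have h3 : sg (g * h⁻¹) = 1 := this
    rwa [map_mul, map_inv, mul_inv_eq_one] at h3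

theorem U_inj {a b c d e f : F} (h : U a b c = U d e f) : a = d ∧ b = e ∧ c = f := by
  obtain ⟨r, -, hr⟩ := sg_eq.1 h
  have h0 := congrFun (congrFun hr 0) 0
  have h1 := congrFun (congrFun hr 0) 1
  have h2 := congrFun (congrFun hr 1) 2
  have h3 := congrFun (congrFun hr 0) 2
  simp [S] at h0 h1 h2 h3
  subst h0
  simp at h1 h2 h3
  exact ⟨h1, h2, h3⟩

/-- transvections with a common centre -/
def A : Subgroup PSL(3, F) where
  carrier := {y | ∃ a c, y = U a 0 c}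
  one_mem' := ⟨0, 0, U_zero.symm⟩
  mul_mem' := by
    rintro _ _ ⟨a, c, rfl⟩ ⟨d, f, rfl⟩
    exact ⟨_, _, by rw [U_mul, add_zero]⟩
  inv_mem' := by
    rintro _ ⟨a, c, rfl⟩
    exact ⟨_, _, by rw [U_inv, neg_zero]⟩

/-- transvections with a common axis -/
def B : Subgroup PSL(3, F) where
  carrier := {y | ∃ b c, y = U 0 b c}
  one_mem' := ⟨0, 0, U_zero.symm⟩
  mul_mem' := by
    rintro _ _ ⟨a, c, rfl⟩ ⟨d, f, rfl⟩
    exact ⟨_, _, by rw [U_mul, add_zero]⟩
  inv_mem' := by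
    rintro _ ⟨a, c, rfl⟩
    exact ⟨_, _, by rw [U_inv, neg_zero]⟩

/-- the unitriangular group -/
def UU : Subgroup PSL(3, F) where
  carrier := {y | ∃ a b c, y = U a b c}
  one_mem' := ⟨0, 0, 0, U_zero.symm⟩
  mul_mem' := by
    rintro _ _ ⟨a, b, c, rfl⟩ ⟨d, e, f, rfl⟩
    exact ⟨_, _, _, U_mul ..⟩
  inv_mem' := by
    rintro _ ⟨a, b, c, rfl⟩
    exact ⟨_, _, _, U_inv ..⟩

theorem sup_eq : (A ⊔ B : Subgroup PSL(3, F)) = UU := by
  refine le_antisymm (sup_le ?_ ?_) ?_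
  · rintro _ ⟨a, c, rfl⟩; exact ⟨_, _, _, rfl⟩
  · rintro _ ⟨a, c, rfl⟩; exact ⟨_, _, _, rfl⟩
  · rintro _ ⟨a, b, c, rfl⟩
    have : U a b c = U 0 b c * U a 0 0 := by rw [U_mul]; simp
    rw [this]
    exact mul_mem (mem_sup_right ⟨_, _, rfl⟩) (mem_sup_left ⟨_, _, rfl⟩)

theorem card_A : Nat.card (A : Subgroup PSL(3, F)) = Nat.card F ^ 2 := by
  rw [pow_two, ← Nat.card_prod]
  refine (Nat.card_eq_of_bijective (fun v : F × F => (⟨U v.1 0 v.2, _, _, rfl⟩ : A)) ⟨fun v w h => ?_, ?_⟩).symm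
  · obtain ⟨h1, -, h2⟩ := U_inj (congrArg Subtype.val h)
    exact Prod.ext h1 h2
  · rintro ⟨_, a, c, rfl⟩; exact ⟨(a, c), rfl⟩

theorem card_B : Nat.card (B : Subgroup PSL(3, F)) = Nat.card F ^ 2 := by
  rw [pow_two, ← Nat.card_prod]
  refine (Nat.card_eq_of_bijective (fun v : F × F => (⟨U 0 v.1 v.2, _, _, rfl⟩ : B)) ⟨fun v w h => ?_, ?_⟩).symm
  · obtain ⟨-, h1, h2⟩ := U_inj (congrArg Subtype.val h)
    exact Prod.ext h1 h2
  · rintro ⟨_, a, c, rfl⟩; exact ⟨(a, c), rfl⟩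

theorem card_UU : Nat.card (UU : Subgroup PSL(3, F)) = Nat.card F ^ 3 := by
  rw [pow_succ, pow_two, ← Nat.card_prod, ← Nat.card_prod]
  refine (Nat.card_eq_of_bijective (fun v : (F × F) × F => (⟨U v.1.1 v.1.2 v.2, _, _, _, rfl⟩ : UU))
    ⟨fun v w h => ?_, ?_⟩).symm
  · obtain ⟨h0, h1, h2⟩ := U_inj (congrArg Subtype.val h)
    exact Prod.ext (Prod.ext h0 h1) h2
  · rintro ⟨_, a, b, c, rfl⟩; exact ⟨((a, b), c), rfl⟩

theorem le_or {E : Subgroup PSL(3, F)} (hE : E ≤ UU) (h : IsElementaryAbelian 2 E) : E ≤ A ∨ E ≤ B := by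
  by_contra hcon
  push Not at hcon
  obtain ⟨x, hx, hxA⟩ := SetLike.not_le_iff_exists.1 hcon.1
  obtain ⟨y, hy, hyB⟩ := SetLike.not_le_iff_exists.1 hcon.2
  obtain ⟨a, b, c, rfl⟩ := hE hx
  obtain ⟨d, e, f, rfl⟩ := hE hy
  have hb : b ≠ 0 := by rintro rfl; exact hxA ⟨_, _, rfl⟩
  have hd : d ≠ 0 := by rintro rfl; exact hyB ⟨_, _, rfl⟩
  have h1 := h.2 _ hx
  have h2 := h.2 _ hy
  rw [pow_two, U_mul, ← U_zero] at h1 h2
  obtain ⟨-, h3, h4⟩ := U_inj h1
  obtain ⟨-, -, h6⟩ := U_inj h2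
  have h22 : (2 : F) = 0 := by
    have : 2 * b = 0 := by linear_combination h3
    exact (mul_eq_zero.1 this).resolve_right hb
  have ha : a = 0 := by
    have : a * b = 0 := by linear_combination h4 - c * h22
    exact (mul_eq_zero.1 this).resolve_right hb
  have he : e = 0 := by
    have : d * e = 0 := by linear_combination h6 - f * h22
    exact (mul_eq_zero.1 this).resolve_left hd
  have h7 : U a b c * U d e f = U d e f * U a b c :=
    congrArg Subtype.val (h.1.1.1 (⟨_, hx⟩ : E) ⟨_, hy⟩)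
  rw [U_mul, U_mul] at h7
  obtain ⟨-, -, h8⟩ := U_inj h7
  rw [ha, he] at h8
  exact mul_ne_zero hd hb (by linear_combination -h8)

/-- the antidiagonal matrix -/
def w0 : SL(3, F) := ⟨!![0, 0, 1; 0, -1, 0; 1, 0, 0], by simp [det_fin_three]⟩

/-- the graph automorphism fixing the unitriangular group -/
def tau : MulAut PSL(3, F) := MulAut.conj (sg w0) * H22.itBar F (Fin 3)

theorem tau_U (a b c : F) : tau (U a b c) = U b a (a * b - c) := by
  show sg w0 * sg (H22.itAut F (Fin 3) (S a b c)) * (sg w0)⁻¹ = _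
  rw [mul_inv_eq_iff_eq_mul, ← map_mul, U, ← map_mul]
  refine congrArg _ (Subtype.ext ?_)
  rw [Matrix.SpecialLinearGroup.coe_mul, Matrix.SpecialLinearGroup.coe_mul, H22.coe_itAut, S_inv]
  ext i j
  fin_cases i <;> fin_cases j <;> simp [S, w0, Matrix.mul_apply, Fin.sum_univ_three]

theorem comap_A : (A : Subgroup PSL(3, F)).comap tau.toMonoidHom = B := by
  ext y
  constructor
  · rintro ⟨a, c, h⟩
    refine ⟨a, -c, tau.injective ?_⟩
    rw [tau_U]; simpa using h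
  · rintro ⟨b, c, rfl⟩
    exact ⟨_, _, tau_U ..⟩

theorem comap_B : (B : Subgroup PSL(3, F)).comap tau.toMonoidHom = A := by
  ext y
  constructor
  · rintro ⟨a, c, h⟩
    refine ⟨a, -c, tau.injective ?_⟩
    rw [tau_U]; simpa using h
  · rintro ⟨b, c, rfl⟩
    exact ⟨_, _, tau_U ..⟩

theorem center_le {y : PSL(3, F)} (hy : y ∈ UU) (h1 : y * U 1 0 0 = U 1 0 0 * y) (h2 : y * U 0 1 0 = U 0 1 0 * y) :
    y ∈ A ⊓ B := by
  obtain ⟨a, b, c, rfl⟩ := hy
  rw [U_mul, U_mul] at h1 h2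
  have h3 := (U_inj h1).2.2
  have h4 := (U_inj h2).2.2
  have hb : b = 0 := by linear_combination -h3
  have ha : a = 0 := by linear_combination h4
  subst ha hb
  exact ⟨⟨_, _, rfl⟩, ⟨_, _, rfl⟩⟩

/-- the point stabiliser -/
def P0 : Subgroup SL(3, F) where
  carrier := {g | g.1 1 0 = 0 ∧ g.1 2 0 = 0}
  one_mem' := by simp
  mul_mem' := by
    rintro g h ⟨h1, h2⟩ ⟨h3, h4⟩
    simp [Matrix.mul_apply, Fin.sum_univ_three, h1, h2, h3, h4]
  inv_mem' := by
    rintro g ⟨h1, h2⟩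
    simp [adjugate_fin_three, h1, h2]

theorem det_P0 (g : (P0 : Subgroup SL(3, F))) :
    g.1.1 0 0 * (g.1.1 1 1 * g.1.1 2 2 - g.1.1 1 2 * g.1.1 2 1) = 1 := by
  have := g.1.2
  rw [det_fin_three, g.2.1, g.2.2] at this
  linear_combination this

variable (h3 : ∀ x : F, x ≠ 0 → x ^ 3 = 1)
include h3

theorem cube_P0 (g : (P0 : Subgroup SL(3, F))) : g.1.1 0 0 ^ 3 = 1 :=
  h3 _ fun e => by have := det_P0 g; rw [e, zero_mul] at this; exact zero_ne_one this

/-- the Levi projection -/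
def rho : (P0 : Subgroup SL(3, F)) →* SL(2, F) := MonoidHom.mk'
  (fun g => ⟨g.1.1 0 0 ^ 2 • !![g.1.1 1 1, g.1.1 1 2; g.1.1 2 1, g.1.1 2 2], by
    have h1 := det_P0 g
    have h2 := cube_P0 h3 g
    rw [det_smul, det_fin_two_of, Fintype.card_fin]
    linear_combination (g.1.1 0 0 ^ 3) * h1 + h2⟩) fun g h => by
    refine Subtype.ext ?_
    have h1 := g.2.1
    have h2 := g.2.2
    have h4 := h.2.1
    have h5 := h.2.2
    change _ = (_ • _ : Matrix (Fin 2) (Fin 2) F) * (_ • _ : Matrix (Fin 2) (Fin 2) F)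
    ext i j
    fin_cases i <;> fin_cases j <;>
      simp [Matrix.mul_apply, Fin.sum_univ_three, Fin.sum_univ_two, h1, h2, h4, h5] <;> ring

theorem coe_rho (g : (P0 : Subgroup SL(3, F))) :
    (rho h3 g).1 = g.1.1 0 0 ^ 2 • !![g.1.1 1 1, g.1.1 1 2; g.1.1 2 1, g.1.1 2 2] := rfl

theorem mem_A (g : (P0 : Subgroup SL(3, F))) : sg g.1 ∈ A ↔ rho h3 g = 1 := by
  have hc := cube_P0 h3 g
  constructor
  · rintro ⟨a, c, h⟩
    obtain ⟨r, hr, e⟩ := sg_eq.1 h
    refine Subtype.ext ?_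
    rw [coe_rho, e]
    ext i j
    fin_cases i <;> fin_cases j <;> simp [S] <;> linear_combination hr
  · intro h
    have h1 := congrArg Subtype.val h
    rw [coe_rho] at h1
    have e1 := congrFun (congrFun h1 0) 0
    have e2 := congrFun (congrFun h1 0) 1
    have e3 := congrFun (congrFun h1 1) 0
    have e4 := congrFun (congrFun h1 1) 1
    simp only [Matrix.smul_apply, of_apply, cons_val', cons_val_zero, cons_val_one, cons_val_fin_one, smul_eq_mul,
      Matrix.SpecialLinearGroup.coe_one, one_apply_eq, ne_eq, zero_ne_one, not_false_eq_true, one_apply_ne,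
      one_ne_zero] at e1 e2 e3 e4
    refine ⟨g.1.1 0 0 ^ 2 * g.1.1 0 1, g.1.1 0 0 ^ 2 * g.1.1 0 2, sg_eq.2 ⟨g.1.1 0 0, hc, ?_⟩⟩
    have h4 := g.2.1
    have h5 := g.2.2
    ext i j
    fin_cases i <;> fin_cases j <;> simp [S, h4, h5]
    · linear_combination (-g.1.1 0 1) * hc
    · linear_combination (-g.1.1 0 2) * hc
    · linear_combination (g.1.1 0 0) * e1 - (g.1.1 1 1) * hc
    · linear_combination (g.1.1 0 0) * e2 - (g.1.1 1 2) * hc
    · linear_combination (g.1.1 0 0) * e3 - (g.1.1 2 1) * hc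
    · linear_combination (g.1.1 0 0) * e4 - (g.1.1 2 2) * hc

omit h3 in
theorem S_mem (a b c : F) : S a b c ∈ P0 := ⟨rfl, rfl⟩

theorem normalizer_A : normalizer ((A : Subgroup PSL(3, F)) : Set PSL(3, F)) = P0.map sg := by
  refine le_antisymm (fun y hy => ?_) ?_
  · obtain ⟨g, rfl⟩ := QuotientGroup.mk'_surjective _ y
    obtain ⟨a, c, h⟩ := (mem_normalizer_iff.1 hy (U 0 0 1)).1 ⟨_, _, rfl⟩
    rw [mul_inv_eq_iff_eq_mul, U, U, ← map_mul, ← map_mul] at h
    obtain ⟨r, -, e⟩ := sg_eq.1 h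
    refine ⟨g, ?_, rfl⟩
    rw [Matrix.SpecialLinearGroup.coe_mul, Matrix.SpecialLinearGroup.coe_mul] at e
    have e1 := congrFun (congrFun e 1) 0
    have e2 := congrFun (congrFun e 1) 2
    have e3 := congrFun (congrFun e 2) 0
    have e4 := congrFun (congrFun e 2) 2
    simp only [S, Matrix.mul_apply, Fin.sum_univ_three, Matrix.smul_apply, of_apply,
      cons_val', cons_val_zero, cons_val_one, cons_val_fin_one, cons_val, smul_eq_mul] at e1 e2 e3 e4
    by_cases hr : r = 1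
    · subst hr
      exact ⟨by linear_combination e2, by linear_combination e4⟩
    · have hr' : 1 - r ≠ 0 := sub_ne_zero.2 (Ne.symm hr)
      exact ⟨(mul_eq_zero.1 (by linear_combination e1 : (1 - r) * g.1 1 0 = 0)).resolve_left hr',
        (mul_eq_zero.1 (by linear_combination e3 : (1 - r) * g.1 2 0 = 0)).resolve_left hr'⟩
  · have key : ∀ g ∈ (P0 : Subgroup SL(3, F)), ∀ y ∈ A, sg g * y * (sg g)⁻¹ ∈ A := by
      rintro g hg _ ⟨a, c, rfl⟩
      have h1 := (mem_A h3 ⟨_, S_mem a 0 c⟩).1 ⟨_, _, rfl⟩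
      have h2 := (mem_A h3 (⟨g, hg⟩ * ⟨_, S_mem a 0 c⟩ * ⟨g, hg⟩⁻¹)).2 (by
        rw [map_mul, map_mul, h1, mul_one, map_inv, mul_inv_cancel])
      simpa [U] using h2
    rintro _ ⟨g, hg, rfl⟩
    refine mem_normalizer_iff.2 fun y => ⟨key g hg y, fun h => ?_⟩
    have := key g⁻¹ (inv_mem hg) _ h
    rwa [map_inv, inv_inv, mul_assoc, inv_mul_cancel_right, inv_mul_cancel_left] at this

omit h3 in
/-- the Levi complement -/
def lv (D : SL(2, F)) : (P0 : Subgroup SL(3, F)) :=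
  ⟨⟨!![1, 0, 0; 0, D.1 0 0, D.1 0 1; 0, D.1 1 0, D.1 1 1], by
    have := D.2
    rw [det_fin_two] at this
    simp [det_fin_three, this]⟩, rfl, rfl⟩

theorem rho_lv (D : SL(2, F)) : rho h3 (lv D) = D := by
  refine Subtype.ext ?_
  rw [coe_rho]
  ext i j
  fin_cases i <;> fin_cases j <;> simp [lv]

theorem exists_rho : ∃ ρ : normalizer ((A : Subgroup PSL(3, F)) : Set PSL(3, F)) →* SL(2, F),
    Function.Surjective ρ ∧ ∀ n, ρ n = 1 ↔ n.1 ∈ A := by
  let f : (P0 : Subgroup SL(3, F)) →* normalizer ((A : Subgroup PSL(3, F)) : Set PSL(3, F)) :=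
    (sg.comp P0.subtype).codRestrict _ fun g => by rw [normalizer_A h3]; exact ⟨g, g.2, rfl⟩
  have hf : Function.Surjective f := by
    rintro ⟨y, hy⟩
    obtain ⟨g, hg, rfl⟩ := (normalizer_A h3).le hy
    exact ⟨⟨g, hg⟩, rfl⟩
  have hk : f.ker ≤ (rho h3).ker := fun g hg => (mem_A h3 g).1 (by
    have : sg g.1 = 1 := congrArg Subtype.val hg
    rw [this]; exact one_mem _)
  have e : ∀ g, f.liftOfSurjective hf ⟨rho h3, hk⟩ (f g) = rho h3 g := fun g =>
    f.liftOfRightInverse_comp_apply _ _ _ g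
  refine ⟨f.liftOfSurjective hf ⟨rho h3, hk⟩, fun D => ⟨f (lv D), by rw [e, rho_lv]⟩, fun n => ?_⟩
  obtain ⟨g, rfl⟩ := hf n
  rw [e, ← mem_A]; rfl

omit h3 in
theorem trans {y : PSL(3, F)} (hy : y ∈ A) (h1 : y ≠ 1) : ∃ g : PSL(3, F), g * U 0 0 1 * g⁻¹ = y := by
  obtain ⟨a, c, rfl⟩ := hy
  by_cases hc : c = 0
  · subst hc
    have ha : a ≠ 0 := by rintro rfl; exact h1 U_zero
    refine ⟨sg (lv ⟨!![0, a⁻¹; -a, 0], by simp [det_fin_two, ha]⟩).1, ?_⟩
    rw [mul_inv_eq_iff_eq_mul, U, U, ← map_mul, ← map_mul]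
    refine congrArg _ (Subtype.ext ?_)
    rw [Matrix.SpecialLinearGroup.coe_mul, Matrix.SpecialLinearGroup.coe_mul]
    ext i j
    fin_cases i <;> fin_cases j <;> simp [lv, S, Matrix.mul_apply, Fin.sum_univ_three, ha]
  · refine ⟨sg (lv ⟨!![c, 0; -a, c⁻¹], by simp [det_fin_two, hc]⟩).1, ?_⟩
    rw [mul_inv_eq_iff_eq_mul, U, U, ← map_mul, ← map_mul]
    refine congrArg _ (Subtype.ext ?_)
    rw [Matrix.SpecialLinearGroup.coe_mul, Matrix.SpecialLinearGroup.coe_mul]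
    ext i j
    fin_cases i <;> fin_cases j <;> simp [lv, S, Matrix.mul_apply, Fin.sum_univ_three, hc, mul_comm]

end Cfsg.Agent.H3.L34
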