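import Cfsg.Agent.H3.Misc
import Cfsg.Agent.H1.PSolv

/-! Normal complements for groups whose Sylow subgroups have small rank. -/

set_option autoImplicit false

namespace H3

open Cfsg Subgroup
open scoped Pointwise commutatorElement IsMulCommutative

universe u

variable {G : Type u} [Group G] [Finite G] {p : ℕ} [Fact p.Prime]

theorem npc_of_rank_le_two (P : Sylow p G) (hr : ∀ Q : Subgroup G, Q ≤ P → Group.rank Q ≤ 2)
    (h : ∀ q : ℕ, q.Prime → q ≠ p → q ∣ Nat.card G → ¬ q ∣ p ^ 2 - 1) :
    HasNormalPComplement p G := by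
  by_contra hn
  obtain ⟨Q, hQ, q, hq, hqp, hqG, g, k, hk, hg, hc⟩ := exists_primePow_not_centralizing P hn
  obtain ⟨m, hm0, hm, -, hd⟩ := exists_dvd_pow_sub_one_rank (P.isPGroup'.to_le hQ) hq hqp hk hg hc
  have hm2 := hm.trans (hr Q hQ)
  refine h q hq hqp hqG (hd.trans ?_)
  interval_cases m
  · rw [pow_one]; exact Nat.sub_one_dvd_pow_sub_one _ _
  · exact dvd_rfl

theorem npc_of_isMetacyclic (P : Sylow p G) (hP : IsMetacyclic (P : Subgroup G))
    (h : ∀ q : ℕ, q.Prime → q ≠ p → q ∣ Nat.card G → ¬ q ∣ p ^ 2 - 1) :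
    HasNormalPComplement p G :=
  npc_of_rank_le_two P (fun _ hQ => rank_le_two_of_isMetacyclic
    (isMetacyclic_of_injective hP (inclusion hQ) (inclusion_injective hQ))) h

omit [Fact p.Prime] [Finite G] in
theorem isMetacyclic_of_surjective' {H : Type u} [Group H] (h : IsMetacyclic G) (f : G →* H)
    (hf : Function.Surjective f) : IsMetacyclic H := by
  obtain ⟨N, hN, h1, h2⟩ := h
  have hn : (N.map f).Normal := hN.map f hf
  refine ⟨N.map f, hn, isCyclic_of_surjective _ (f.subgroupMap_surjective N), ?_⟩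
  refine isCyclic_of_surjective (QuotientGroup.map N (N.map f) f (le_comap_map _ _)) ?_
  intro y
  obtain ⟨y, rfl⟩ := QuotientGroup.mk_surjective y
  obtain ⟨x, rfl⟩ := hf y
  exact ⟨x, rfl⟩

omit [Finite G] in
theorem isMetacyclic_of_index_dvd_prime {x : G} (hx : (zpowers x).index ∣ p)
    (hn : (zpowers x).Normal) : IsMetacyclic G := by
  refine ⟨zpowers x, hn, inferInstance, ?_⟩
  rcases (Nat.dvd_prime Fact.out).mp hx with h | h
  · have : Subsingleton (G ⧸ zpowers x) := (Nat.card_eq_one_iff_unique.mp h).1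
    infer_instance
  · exact isCyclic_of_prime_card h

theorem isSolvable_of_npc (h : HasNormalPComplement p G)
    (hs : ∀ N : Subgroup G, (Nat.card N).Coprime p → Group.IsSolvable N) : Group.IsSolvable G := by
  obtain ⟨N, hN, h1, h2⟩ := hasNormalPComplement_iff_exists.mp h
  have := hs N h1
  have := h2.isNilpotent
  exact Group.isSolvable_of_ker_le_range N.subtype (QuotientGroup.mk' N) (by simp)

end H3
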