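import Cfsg.Agent.H3.Misc2
import Cfsg.Agent.H9.Basic
import Cfsg.Agent.H4.Sec

/-! More small tools: a characteristic subgroup of small exponent, minimal sections. -/

set_option autoImplicit false

namespace H3

open Cfsg Subgroup
open scoped Pointwise commutatorElement IsMulCommutative

universe u

variable {G : Type*} [Group G] [Finite G] {p : ℕ} [hp : Fact p.Prime]

theorem exists_small_char_comm (hG : IsPGroup p G) :
    ∃ D : Subgroup G, D.Characteristic ∧ (∀ x ∈ D, x ^ p = 1 ∨ (p = 2 ∧ x ^ 4 = 1)) ∧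
      ⁅D, (⊤ : Subgroup G)⁆ ≤ centralizer (D : Set G) ∧
      ∀ a : MulAut G, (orderOf a).Coprime p → (∀ x ∈ D, a x = x) → a = 1 := by
  obtain ⟨H, hH, -, h1, h2, h3⟩ := exists_critical hG ⊥
  obtain ⟨e, he1, he2, he3⟩ : ∃ e : ℕ, p ∣ e.choose 2 ∧ (∀ x : G, x ^ e = 1 → x ^ p = 1 ∨ (p = 2 ∧ x ^ 4 = 1)) ∧
      ∀ x c : G, c ^ p = 1 → x ^ p = c ^ p.choose 2 → x ^ e = 1 := by
    rcases hp.out.eq_two_or_odd' with rfl | hodd
    · exact ⟨4, by decide, fun x hx => Or.inr ⟨rfl, hx⟩, fun x c hc hx => by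
        rw [show 4 = 2 * 2 from rfl, pow_mul, hx, Nat.choose_self, pow_one, hc]⟩
    · refine ⟨p, H9.odd_dvd_choose_two hodd, fun x hx => Or.inl hx, fun x c hc hx => ?_⟩
      obtain ⟨k, hk⟩ := H9.odd_dvd_choose_two hodd
      rw [hx, hk, pow_mul, hc, one_pow]
  have hcomm : ∀ x ∈ H, ∀ y ∈ H, Commute x ⁅y, x⁆ ∧ Commute y ⁅y, x⁆ ∧ ⁅y, x⁆ ^ p = 1 :=
    fun x hx y hy => by
      have hc := (h2 (Subgroup.commutator_mem_commutator hy (Subgroup.mem_top x))).2
      refine ⟨hc _ hx, hc _ hy, ?_⟩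
      rw [← H9.commutator_pow_left (hc _ hy), commutatorElement_eq_one_iff_mul_comm]
      exact (h1 _ hy _ hx).symm
  let D : Subgroup G :=
    { carrier := {x | x ∈ H ∧ x ^ e = 1}
      one_mem' := ⟨one_mem _, one_pow e⟩
      inv_mem' := fun {x} hx => ⟨inv_mem hx.1, by rw [inv_pow, hx.2, inv_one]⟩
      mul_mem' := fun {x y} hx hy => ⟨mul_mem hx.1 hy.1, by
        obtain ⟨h4, h5, h6⟩ := hcomm x hx.1 y hy.1
        obtain ⟨k, hk⟩ := he1
        rw [H9.mul_pow_class_two h4 h5, hx.2, hy.2, hk, pow_mul, h6, one_pow, one_mul, one_mul]⟩ }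
  have hDH : D ≤ H := fun x hx => hx.1
  refine ⟨D, Subgroup.characteristic_iff_le_comap.2 fun φ x hx =>
    ⟨Subgroup.characteristic_iff_le_comap.1 hH φ hx.1, ?_⟩, fun x hx => he2 x hx.2,
    (commutator_mono hDH le_rfl).trans (h2.trans (inf_le_right.trans (centralizer_le hDH))),
    fun a ha h => aut_eq_one_of_fix_selfCentralizing hG H h3 ha ?_⟩
  · rw [← map_pow, hx.2, map_one]
  have key : ∀ (k : ℕ), ∀ x ∈ H, x ^ p ^ k = 1 → a x = x := by
    intro k
    induction k with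
    | zero => intro x _ hx; rw [pow_zero, pow_one] at hx; rw [hx, map_one]
    | succ k ih =>
      intro x hx hxk
      have h4 : a (x ^ p) = x ^ p := ih _ (pow_mem hx p) (by rw [← pow_mul, ← pow_succ', hxk])
      have hax : a x ∈ H := Subgroup.characteristic_iff_map_le.mp hH a ⟨x, hx, rfl⟩
      obtain ⟨hc1, hc2, h5⟩ := hcomm _ (inv_mem hx) _ hax
      refine aut_fix_of_fix (h _ ⟨mul_mem (inv_mem hx) hax, he3 _ _ h5 ?_⟩)
        (hG.orderOf_coprime ha.symm _).symm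
      rw [H9.mul_pow_class_two hc1 hc2, ← map_pow, h4, inv_pow, inv_mul_cancel, one_mul]
  intro x hx
  obtain ⟨k, hk⟩ := hG x
  exact key k x hx hk

end H3
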