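import Cfsg.Agent.H10.Act
import Cfsg.Agent.H10.Spe
import Cfsg.Agent.H7.Kegel
import Cfsg.Agent.H8.Kaz
import Cfsg.Agent.H17.FT
import Cfsg.Agent.H11.Join
import Cfsg.Agent.H9.Basic

/-! A criterion for `p`-elements to act trivially on an irreducible module. -/

set_option autoImplicit false
set_option linter.unusedSectionVars false

namespace H3.Pt

open Subgroup _root_.Cfsg _root_.H10
open scoped IsMulCommutative

variable {G : Type*} [Group G]

/-- the two parts of an element -/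
theorem exists_parts [Finite G] (p : ℕ) (hp : p.Prime) (w : G) : ∃ j m : ℕ, m.Coprime p ∧
    orderOf w = p ^ j * m ∧ orderOf (w ^ m) = p ^ j ∧ orderOf (w ^ p ^ j) = m := by
  obtain ⟨j, m, h1, h2⟩ := Nat.exists_eq_pow_mul_and_not_dvd (orderOf_pos w).ne' p hp.ne_one
  have hm : m ≠ 0 := by rintro rfl; exact h1 (dvd_zero _)
  refine ⟨j, m, ((Nat.Prime.coprime_iff_not_dvd hp).2 h1).symm, h2, ?_, ?_⟩
  · rw [orderOf_pow_of_dvd hm (h2 ▸ dvd_mul_left _ _), h2, Nat.mul_div_cancel _ (Nat.pos_of_ne_zero hm)]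
  · rw [orderOf_pow_of_dvd (pow_ne_zero _ hp.ne_zero) (h2 ▸ dvd_mul_right _ _), h2,
      Nat.mul_div_cancel_left _ (pow_pos hp.pos _)]

/-- an element lies in a subgroup when its two parts do -/
theorem mem_of_parts [Finite G] {p : ℕ} (hp : p.Prime) {w : G} {H : Subgroup G}
    (h1 : ∀ n j : ℕ, orderOf (w ^ n) = p ^ j → w ^ n ∈ H)
    (h2 : ∀ n : ℕ, (orderOf (w ^ n)).Coprime p → w ^ n ∈ H) : w ∈ H := by
  obtain ⟨j, m, c, -, e1, e2⟩ := exists_parts p hp w
  exact H9.mem_of_pow_mem_of_coprime (h1 _ _ e1) (h2 _ (e2 ▸ c)) (c.pow_right j)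

theorem pow_ne_one_of_prime {q n : ℕ} (hq : q.Prime) {w : G} (h : q ∣ orderOf w) (hn : n.Coprime q) :
    w ^ n ≠ 1 := fun e =>
  hq.one_lt.ne' (Nat.Coprime.eq_one_of_dvd hn.symm (h.trans (orderOf_dvd_of_pow_eq_one e)))

theorem lemX_abs {A V : Type*} [Group A] [Finite A] [CommGroup V] [MulDistribMulAction A V]
    [FaithfulSMul A V] {p : ℕ} (hp : p.Prime) (hV : ∀ v : V, v ^ p = 1) (h0 : pCore p A = ⊥)
    (h1 : p ≠ 2 → ∀ z : A, orderOf z = 2 → ∀ v : V, z • v = v → v = 1)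
    (h2 : ∀ y : A, orderOf y = p → ∀ v : V, ∏ i ∈ Finset.range p, y ^ i • v = 1)
    (h3 : ∀ (w : A) (q : ℕ), q.Prime → q ≠ p → p ∣ orderOf w → ¬ q ∣ orderOf w) :
    ¬ p ∣ Nat.card A := fun hd => by
  have := Fact.mk hp
  obtain ⟨y, oy⟩ := exists_prime_orderOf_dvd_card' p hd
  have y1 : y ≠ 1 := ne_one_of_orderOf_eq oy
  by_cases p2 : p = 2
  · subst p2
    refine y1 (eq_of_smul_eq_smul (α := V) fun v => ?_)
    have := h2 y oy v
    simp only [Finset.prod_range_succ, Finset.range_zero, Finset.prod_empty, pow_zero, one_smul,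
      one_mul, pow_one] at this
    rw [one_smul, eq_inv_of_mul_eq_one_right this, inv_eq_of_mul_eq_one_right ((sq v).symm.trans (hV v))]
  by_cases ev : 2 ∣ Nat.card A
  · have : Fact (Nat.Prime 2) := ⟨Nat.prime_two⟩
    obtain ⟨z, oz⟩ := exists_prime_orderOf_dvd_card' 2 ev
    have zz : z * z = 1 := by rw [← sq, ← oz, pow_orderOf_eq_one]
    have iv : ∀ v : V, z • v = v⁻¹ := fun v => eq_inv_of_mul_eq_one_left (h1 p2 z oz _ (by
      rw [smul_mul', smul_smul, zz, one_smul, mul_comm]))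
    have c : Commute y z := eq_of_smul_eq_smul (α := V) fun v => by
      rw [mul_smul, mul_smul, iv, iv, smul_inv']
    have o := c.orderOf_mul_eq_mul_orderOf_of_coprime (by
      rw [oy, oz]; exact (Nat.coprime_primes hp Nat.prime_two).2 p2)
    rw [oy, oz] at o
    exact h3 (y * z) 2 Nat.prime_two (Ne.symm p2) (o ▸ dvd_mul_right _ _) (o ▸ dvd_mul_left _ _)
  have hs := H17.odd_solvable (G := A) (Nat.odd_iff.2 (Nat.two_dvd_ne_zero.1 ev))
  obtain ⟨Q, q, hn, Q0, -, hq, -, -, hQ, -⟩ := H1.exists_minimal_normal_elementary (⊤ : Subgroup A)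
    inferInstance (fun e => y1 (e.le (mem_top y)))
  have := Fact.mk hq
  have qp : q ≠ p := by
    rintro rfl
    exact Q0 (eq_bot_iff.2 ((H1.le_pCore hQ).trans h0.le))
  have cp : (Nat.card Q).Coprime p := by
    obtain ⟨k, hk⟩ := hQ.exists_card_eq
    rw [hk]; exact ((Nat.coprime_primes hq hp).2 qp).pow_left k
  have yQ : y ∉ Q := fun e => hp.one_lt.ne' (Nat.Coprime.eq_one_of_dvd cp.symm
    (oy ▸ Q.orderOf_dvd_natCard e))
  have ob : orderOf (y : A ⧸ Q) = p := orderOf_eq_prime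
    (by rw [← QuotientGroup.mk_pow, ← oy, pow_orderOf_eq_one, QuotientGroup.mk_one])
    (mt (QuotientGroup.eq_one_iff y).1 yQ)
  have key : ∀ u ∈ Q, orderOf (u * y) = p := fun u hu => by
    have e : ((u * y : A) : A ⧸ Q) = y := by
      rw [QuotientGroup.mk_mul, (QuotientGroup.eq_one_iff u).2 hu, one_mul]
    have d : p ∣ orderOf (u * y) := by
      rw [← ob, ← e]; exact orderOf_map_dvd (QuotientGroup.mk' Q) _
    have m : (u * y) ^ p ∈ Q := (QuotientGroup.eq_one_iff _).1 (by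
      rw [QuotientGroup.mk_pow, e, ← ob, pow_orderOf_eq_one])
    refine orderOf_eq_prime (by_contra fun n1 => ?_) fun e1 => hp.one_lt.ne' (by simpa [e1] using d)
    obtain ⟨k, hk⟩ := orderOf_eq_pow_of_mem hQ m
    have k0 : k ≠ 0 := by rintro rfl; exact n1 (by simpa using hk)
    exact h3 _ q hq qp d (((hk ▸ dvd_pow_self q k0 :)).trans (orderOf_pow_dvd p))
  obtain ⟨z, hz, z1⟩ := (bot_or_exists_ne_one Q).resolve_left Q0
  refine z1 (eq_of_smul_eq_smul (α := V) fun v => ?_)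
  obtain ⟨m, hm⟩ := exists_pow_eq_self_of_coprime (x := v) (n := Nat.card Q)
    (cp.coprime_dvd_right (orderOf_dvd_of_pow_eq_one (hV v)))
  have := H7.norm_fixed_abstract Q y (fun u hu => hn.conj_mem u hu y) hp
    (fun u hu => by rw [← key u hu, pow_orderOf_eq_one]) v (fun u hu => h2 _ (key u hu) v) hz
  rw [one_smul, ← hm, smul_pow', this]

theorem lemX [Finite G] {N V : Subgroup G} {p : ℕ} (hp : p.Prime) (hN : N ≤ NN(V))
    (hc : V ≤ CC(V)) (hV : ∀ v ∈ V, v ^ p = 1) (h0 : V ≠ ⊥)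
    (hm : ∀ U ≤ V, N ≤ NN(U) → U = ⊥ ∨ U = V)
    (h1 : p ≠ 2 → ∀ z ∈ N, ∀ k, orderOf z = 2 ^ k → z ∉ CC(V) → ∀ v ∈ V, Commute z v → v = 1)
    (h2 : ∀ y ∈ N, ∀ k, orderOf y = p ^ k → y ∉ CC(V) → y ^ p ∈ CC(V) → ∀ v ∈ V,
      (v * y) ^ p = y ^ p)
    (h3 : ∀ y ∈ N, ∀ z ∈ N, ∀ k, orderOf y = p ^ k → (orderOf z).Coprime p → Commute y z →
      y ∈ CC(V) ∨ z ∈ CC(V)) {y : G} (hy : y ∈ N) {k : ℕ} (oy : orderOf y = p ^ k) :
    y ∈ CC(V) := by
  have := Fact.mk hp
  have : IsMulCommutative V := isMulCommutative_iff_le_CC.2 hc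
  let φ : N →* MulAut V := V.normalizerMonoidHom.comp (inclusion hN)
  have ap : ∀ (x : N) (v : V), ((φ x v : V) : G) = x * v * (x : G)⁻¹ := fun _ _ => rfl
  have ker : ∀ x : N, φ x = 1 ↔ (x : G) ∈ CC(V) := fun x => by
    rw [mem_CC]
    refine ⟨fun e v hv => ?_, fun e => MulEquiv.ext fun v => Subtype.ext ?_⟩
    · have := ap x ⟨v, hv⟩
      rw [e] at this
      exact (mul_inv_eq_iff_eq_mul.1 this.symm).symm
    · rw [ap, ← e v v.2]; simp
  let f := φ.rangeRestrict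
  have hf : Function.Surjective f := φ.rangeRestrict_surjective
  have kf : ∀ x : N, f x = 1 ↔ (x : G) ∈ CC(V) := fun x => by
    rw [← ker, Subtype.ext_iff]; rfl
  have sm : ∀ (x : N) (v : V), ((f x • v : V) : G) = x * v * (x : G)⁻¹ := fun _ _ => rfl
  have pV : IsPGroup p V := isPGroup_iff_mem.2 fun v hv => ⟨1, by rw [pow_one, hV v hv]⟩
  have nd := lemX_abs (A := φ.range) (V := V) hp (fun v => Subtype.ext (hV v v.2)) ?_ ?_ ?_ ?_
  · have := dvd_trans (orderOf_map_dvd f ⟨y, hy⟩) ((orderOf_mk y hy).trans oy).dvd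
    obtain ⟨j, -, hj⟩ := (Nat.dvd_prime_pow hp).1 this
    rcases j with _ | j
    · exact (kf ⟨y, hy⟩).1 (by simpa using hj)
    · exact (nd ((hj ▸ dvd_pow_self p j.succ_ne_zero :).trans (orderOf_dvd_natCard _))).elim
  · obtain ⟨P, -, hP, e⟩ := exists_pgroup_map_eq f (X := ⊤) (H1.isPGroup_pCore (p := p) (G := φ.range))
      (by rw [← MonoidHom.range_eq_map, f.range_eq_top.2 hf]; exact le_top)
    let K := ((pCore p φ.range).comap f).map N.subtype
    have hK : N ≤ NN(K) := le_NN_map_subtype _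
    have hPK : V ⊓ CC(P.map N.subtype) ≤ CC(K) := fun v hv => mem_CC.2 (by
      rintro _ ⟨x, hx, rfl⟩
      obtain ⟨u, hu, e1⟩ := (e.symm ▸ mem_comap.1 hx : f x ∈ P.map f)
      have h5 := sm x ⟨v, (mem_inf.1 hv).1⟩
      have h6 : (u : G) * v = v * u := mem_CC.1 hv.2 _ (mem_map_of_mem N.subtype hu)
      rw [← e1, sm, h6, mul_inv_cancel_right] at h5
      exact mul_inv_eq_iff_eq_mul.1 h5.symm)
    have := (hm (V ⊓ CC(K)) inf_le_left (le_NN_inf hN (le_NN_CC hK))).resolve_left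
      (ne_bot_of_le_ne_bot (inf_CC_ne_bot' pV (hP.map _) ((map_subtype_le _).trans hN) h0)
        (le_inf inf_le_left hPK))
    refine eq_bot_iff.2 fun a ha => ?_
    obtain ⟨x, rfl⟩ := hf a
    exact (kf x).2 (le_CC_symm (this.ge.trans inf_le_right) (mem_map_of_mem N.subtype ha))
  · intro p2 z oz v e
    have : Fact (Nat.Prime 2) := ⟨Nat.prime_two⟩
    obtain ⟨x, rfl, j, hj⟩ := H8.exists_lift_pElt f hf (q := 2) (k := 1) (by simpa using oz)
    refine Subtype.ext (h1 p2 x x.2 j (by rw [orderOf_coe, hj])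
      (fun c => ne_one_of_orderOf_eq oz ((kf x).2 c)) v v.2 ?_)
    have := sm x v
    rw [e] at this
    exact mul_inv_eq_iff_eq_mul.1 this.symm
  · intro z oz v
    obtain ⟨x, rfl, j, hj⟩ := H8.exists_lift_pElt f hf (q := p) (k := 1) (by simpa using oz)
    have e := h2 x x.2 j (by rw [orderOf_coe, hj]) (fun c => ne_one_of_orderOf_eq oz ((kf x).2 c))
      ((kf (x ^ p)).1 (by rw [map_pow, ← oz, pow_orderOf_eq_one])) v v.2
    have gen : ∀ n : ℕ, ((v : G) * x) ^ n =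
        ((∏ i ∈ Finset.range n, f x ^ i • v : V) : G) * (x : G) ^ n := fun n => by
      induction n with
      | zero => simp
      | succ n ih =>
        rw [pow_succ, ih, Finset.prod_range_succ, coe_mul, ← map_pow, sm, coe_pow]
        group
    rw [gen] at e
    exact Subtype.ext (mul_eq_right.1 e)
  · intro w q hq qp d1 d2
    obtain ⟨x, rfl⟩ := hf w
    obtain ⟨j, m, c, -, e1, e2⟩ := exists_parts p hp (x : G)
    rcases h3 _ (pow_mem x.2 m) _ (pow_mem x.2 (p ^ j)) j e1 (e2 ▸ c) (Commute.pow_pow_self _ _ _)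
      with e | e
    · exact pow_ne_one_of_prime hp d1 c (by rw [← map_pow]; exact (kf _).2 e)
    · exact pow_ne_one_of_prime hq d2 (((Nat.coprime_primes hp hq).2 qp.symm).pow_left j)
        (by rw [← map_pow]; exact (kf _).2 e)

end H3.Pt
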