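import Cfsg.Agent.H3.Px
import Cfsg.Agent.H8.Baer

/-! Partitions of the `p`-regular elements of a finite group by abelian subgroups of equal order. -/

set_option autoImplicit false
set_option linter.unusedSectionVars false

namespace H3.Pt

open Subgroup _root_.Cfsg _root_.H10

variable {G : Type*} [Group G] [Finite G] {p : ℕ} {S : Set (Subgroup G)} {A B : Subgroup G}

/-- a conjugation invariant family of subgroups which partitions the `p`-regular elements -/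
structure Pa (p : ℕ) (S : Set (Subgroup G)) : Prop where
  ex : ∀ x : G, x ≠ 1 → (orderOf x).Coprime p → ∃ A ∈ S, x ∈ A
  uniq : ∀ A ∈ S, ∀ B ∈ S, ∀ x ∈ A, x ∈ B → x ≠ 1 → A = B
  conj : ∀ A ∈ S, ∀ g, cj g A ∈ S

theorem cop_mul {x y : G} (c : Commute x y) (h1 : (orderOf x).Coprime p) (h2 : (orderOf y).Coprime p) :
    (orderOf (x * y)).Coprime p := (h1.mul_left h2).coprime_dvd_left c.orderOf_mul_dvd_mul_orderOf

theorem cop_pow {x : G} (h : (orderOf x).Coprime p) (n : ℕ) : (orderOf (x ^ n)).Coprime p :=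
  h.coprime_dvd_left (orderOf_pow_dvd n)

theorem exists_pow_ord {x : G} {r : ℕ} (h : r ∣ orderOf x) : ∃ n : ℕ, orderOf (x ^ n) = r :=
  ⟨_, orderOf_pow_orderOf_div (orderOf_pos x).ne' h⟩

theorem exists_prime_dvd_ord {x : G} (h : x ≠ 1) : ∃ r : ℕ, r.Prime ∧ r ∣ orderOf x :=
  Nat.exists_prime_and_dvd (mt orderOf_eq_one_iff.1 h)

theorem ne_one_of_ord {x : G} {r : ℕ} (hr : r.Prime) (h : orderOf x = r) : x ≠ 1 := fun e =>
  hr.one_lt.ne (by simpa [e] using h)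

theorem conj_of_comm {g a : G} (c : Commute g a) : g * a * g⁻¹ = a := by rw [c.eq]; simp

theorem cop_of_mem (h : (Nat.card A).Coprime p) {x : G} (hx : x ∈ A) : (orderOf x).Coprime p :=
  h.coprime_dvd_left (A.orderOf_dvd_natCard hx)

namespace Pa
variable (h : Pa p S)
include h

theorem norm (hA : A ∈ S) {a g : G} (ha : a ∈ A) (a1 : a ≠ 1) (hg : g * a * g⁻¹ ∈ A) : g ∈ NN(A) :=
  mem_NN.2 (h.uniq _ (h.conj A hA g) A hA _ (conj_mem_cj ha) hg (by simpa using a1))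

theorem norm_of_comm (hA : A ∈ S) {a g : G} (ha : a ∈ A) (a1 : a ≠ 1) (c : Commute g a) :
    g ∈ NN(A) := h.norm hA ha a1 (by rwa [conj_of_comm c])

theorem NN_le (hA : A ∈ S) {X : Subgroup G} (hX : X ≤ A) (h0 : X ≠ ⊥) : NN(X) ≤ NN(A) := fun _ hg => by
  obtain ⟨a, ha, a1⟩ := (bot_or_exists_ne_one X).resolve_left h0
  exact h.norm hA (hX ha) a1 (hX (conj_mem_of_mem_NN hg ha))

theorem eq_one (hA : A ∈ S) (hB : B ∈ S) (hne : A ≠ B) {x : G} (h1 : x ∈ A) (h2 : x ∈ B) : x = 1 :=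
  by_contra fun e => hne (h.uniq A hA B hB x h1 h2 e)

theorem ord_eq (hA : A ∈ S) {a y : G} (ha : a ∈ A) (a1 : a ≠ 1) (hy : y ∉ A) (c : Commute a y)
    (c1 : (orderOf a).Coprime p) (c2 : (orderOf y).Coprime p) : orderOf y = orderOf a := by
  obtain ⟨B, hB, yB⟩ := h.ex y (by rintro rfl; exact hy A.one_mem) c2
  obtain ⟨C, hC, w⟩ := h.ex (a * y) (fun e => hy (eq_inv_of_mul_eq_one_right e ▸ A.inv_mem ha))
    (cop_mul c c1 c2)
  have n1 : C ≠ A := by rintro rfl; exact hy ((C.mul_mem_cancel_left ha).1 w)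
  have n2 : C ≠ B := by
    rintro rfl
    exact hy (h.uniq _ hA _ hC a ha ((C.mul_mem_cancel_right yB).1 w) a1 ▸ yB)
  refine Nat.dvd_antisymm (orderOf_dvd_of_pow_eq_one (h.eq_one hC hB n2 ?_ (B.pow_mem yB _)))
    (orderOf_dvd_of_pow_eq_one (h.eq_one hC hA n1 ?_ (A.pow_mem ha _)))
  · simpa [c.mul_pow] using C.pow_mem w (orderOf a)
  · simpa [c.mul_pow] using C.pow_mem w (orderOf y)

theorem ord_prime (hA : A ∈ S) {a y : G} (ha : a ∈ A) (a1 : a ≠ 1) (hy : y ∉ A) (c : Commute a y)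
    (c1 : (orderOf a).Coprime p) (c2 : (orderOf y).Coprime p) : (orderOf a).Prime := by
  obtain ⟨r, hr, hd⟩ := exists_prime_dvd_ord a1
  obtain ⟨n, hn⟩ := exists_pow_ord hd
  rw [← h.ord_eq hA ha a1 hy c c1 c2, h.ord_eq hA (A.pow_mem ha n) (ne_one_of_ord hr hn) hy
    (c.pow_left n) (cop_pow c1 n) c2, hn]
  exact hr

theorem mem_of_ne (hA : A ∈ S) {a y : G} (ha : a ∈ A) (a1 : a ≠ 1) (c : Commute a y)
    (c1 : (orderOf a).Coprime p) (c2 : (orderOf y).Coprime p) (hne : orderOf y ≠ orderOf a) : y ∈ A :=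
  by_contra fun hy => hne (h.ord_eq hA ha a1 hy c c1 c2)

theorem mem_of_cop (hA : A ∈ S) {a y : G} (ha : a ∈ A) (a1 : a ≠ 1) (c : Commute a y)
    (c1 : (orderOf a).Coprime p) (c2 : (orderOf y).Coprime p) (hc : (orderOf y).Coprime (orderOf a)) :
    y ∈ A := h.mem_of_ne hA ha a1 c c1 c2 fun e => a1 (by simpa [e] using hc)

end Pa

/-- the members are abelian `p'`-groups of one order which has two prime divisors -/
structure PP (p : ℕ) (S : Set (Subgroup G)) : Prop extends Pa p S where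
  prime : p.Prime
  cop : ∀ A ∈ S, (Nat.card A).Coprime p
  comm : ∀ A ∈ S, A ≤ CC(A)
  card : ∀ A ∈ S, ∀ B ∈ S, Nat.card A = Nat.card B
  two : ∀ A ∈ S, ∀ q : ℕ, ∃ r : ℕ, r.Prime ∧ r ≠ q ∧ r ∣ Nat.card A
  ctl : ∀ A ∈ S, ∀ a ∈ A, a ≠ 1 → ∀ u k, orderOf u = p ^ k → Commute u a → u ∈ CC(A)

theorem exists_ord {r : ℕ} (hr : r.Prime) (h : r ∣ Nat.card A) : ∃ a ∈ A, orderOf a = r :=
  have := Fact.mk hr; exists_orderOf_eq_of_dvd h

theorem cop_primes {q r : ℕ} (hq : q.Prime) (hr : r.Prime) (h : q ≠ r) (i j : ℕ) :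
    (q ^ i).Coprime (r ^ j) := ((Nat.coprime_primes hq hr).2 h).pow i j

namespace PP
variable (h : PP p S)
include h

theorem ne (hA : A ∈ S) {s : ℕ} (hs : s.Prime) (hd : s ∣ Nat.card A) : s ≠ p := by
  rintro rfl
  exact hs.one_lt.ne' ((h.cop A hA).symm.eq_one_of_dvd hd)

theorem cent_mem (hA : A ∈ S) {u : G} (hu : u ∈ CC(A)) (c : (orderOf u).Coprime p) : u ∈ A := by
  obtain ⟨r, hr, hn, hd⟩ := h.two A hA (orderOf u)
  obtain ⟨a, ha, oa⟩ := exists_ord hr hd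
  exact h.mem_of_ne hA ha (ne_one_of_ord hr oa) (mem_CC.1 hu a ha) (cop_of_mem (h.cop A hA) ha) c
    (oa ▸ hn.symm)

theorem fpf (hA : A ∈ S) {v g : G} (hv : v ∈ A) (v1 : v ≠ 1) (c : Commute g v)
    (hc : (orderOf g).Coprime (orderOf v)) : g ∈ CC(A) :=
  mem_of_parts h.prime (fun n j e => h.ctl A hA v hv v1 _ j e (c.pow_left n)) fun n e =>
    h.comm A hA (h.mem_of_cop hA hv v1 (c.pow_left n).symm (cop_of_mem (h.cop A hA) hv) e
      (cop_pow hc n))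

theorem exists_fix (hA : A ∈ S) {s : ℕ} (hs : s.Prime) (hd : s ∣ Nat.card A) {y : G}
    (hy : y ∈ NN(A)) {k : ℕ} (oy : orderOf y = s ^ k) : ∃ v ∈ A, orderOf v = s ∧ Commute v y := by
  have := Fact.mk hs
  obtain ⟨a, ha, oa⟩ := exists_ord hs hd
  have e := @mem_omegaOne_iff _ _ s _ (h.comm A hA)
  obtain ⟨v, hv, v1⟩ := (bot_or_exists_ne_one _).resolve_left (inf_CC_ne_bot' (N := omegaOne s A)
    (isPGroup_iff_mem.2 fun x hx => ⟨1, by rw [pow_one, (e.1 hx).2]⟩)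
    (isPGroup_zpowers_of_orderOf oy) (zpowers_le.2 (NN_le_NN_omegaOne A hy))
    fun e0 => ne_one_of_ord hs oa (e0.le (e.2 ⟨ha, by rw [← oa, pow_orderOf_eq_one]⟩)))
  exact ⟨v, (e.1 hv.1).1, orderOf_eq_prime (e.1 hv.1).2 v1,
    (mem_CC.1 hv.2 y (mem_zpowers y)).symm⟩

theorem three (hA : A ∈ S) {s : ℕ} (hs : s.Prime) (hd : s ∣ Nat.card A) {y z : G}
    (hy : y ∈ NN(A)) (hz : z ∈ NN(A)) {k : ℕ} (oy : orderOf y = s ^ k) (yA : y ∉ A)
    (oz : (orderOf z).Coprime s) (c : Commute y z) : z ∈ CC(A) := by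
  have y1 : y ≠ 1 := by rintro rfl; exact yA A.one_mem
  obtain ⟨K, hK, yK⟩ := h.ex y y1 (by
    simpa [oy] using cop_primes hs h.prime (h.ne hA hs hd) k 1)
  obtain ⟨v, hv, ov, cv⟩ := h.exists_fix hA hs hd hy oy
  have h1 := h.fpf hK yK y1 c.symm (oy ▸ oz.pow_right k)
  have h2 : v * z * v⁻¹ * z⁻¹ ∈ A := by
    simpa [mul_assoc] using A.mul_mem hv (conj_mem_of_mem_NN hz (A.inv_mem hv))
  have h3 := h.eq_one hA hK (by rintro rfl; exact yA yK) h2 (h.cent_mem hK (mul_mem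
    (conj_mem_of_mem_NN (NN_le_NN_CC K (h.norm_of_comm hK yK y1 cv)) h1) (inv_mem h1))
    (cop_of_mem (h.cop A hA) h2))
  exact h.fpf hA hv (ne_one_of_ord hs ov) (commutatorElement_eq_one_iff_commute.1 h3).symm (ov ▸ oz)

theorem exists_V (hA : A ∈ S) {s : ℕ} (hs : s.Prime) (hd : s ∣ Nat.card A) : ∃ V ≤ A,
    NN(A) ≤ NN(V) ∧ (∃ v ∈ V, orderOf v = s) ∧ ∀ y ∈ NN(A), ∀ k, orderOf y = s ^ k → y ∈ CC(V) := by
  have := Fact.mk hs
  obtain ⟨a, ha, oa⟩ := exists_ord hs hd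
  have e := @mem_omegaOne_iff _ _ s _ (h.comm A hA)
  obtain ⟨V, h1, h0, h2, hm⟩ := H11.exists_min_invariant (N := omegaOne s A)
    (fun e0 => ne_one_of_ord hs oa (e0.le (e.2 ⟨ha, by rw [← oa, pow_orderOf_eq_one]⟩)))
    (NN_le_NN_omegaOne A)
  have hV := h1.trans (omegaOne_le A)
  have ex : ∀ v ∈ V, v ^ s = 1 := fun v hv => (e.1 (h1 hv)).2
  have hc : A ≤ CC(V) := (h.comm A hA).trans (CC_anti hV)
  obtain ⟨v, hv, v1⟩ := (bot_or_exists_ne_one V).resolve_left h0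
  refine ⟨V, hV, h2, ⟨v, hv, orderOf_eq_prime (ex v hv) v1⟩, fun y hy k oy =>
    lemX hs h2 (hV.trans hc) ex h0 hm ?_ ?_ ?_ hy oy⟩
  · intro s2 z _ k oz hz v hv c
    by_contra v1
    refine hz (CC_anti hV (h.fpf hA (hV hv) v1 c ?_))
    simpa [oz, orderOf_eq_prime (ex v hv) v1] using cop_primes Nat.prime_two hs s2.symm k 1
  · have key : ∀ w ∈ NN(A), ∀ k, orderOf w = s ^ k → w ∉ A → w ^ s = 1 := fun w hw k ow wA => by
      obtain ⟨v, hv, ov, cv⟩ := h.exists_fix hA hs hd hw ow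
      rw [← ov, ← h.ord_eq hA hv (ne_one_of_ord hs ov) wA cv (cop_of_mem (h.cop A hA) hv)
        (by simpa [ow] using cop_primes hs h.prime (h.ne hA hs hd) k 1), pow_orderOf_eq_one]
    intro y hy k oy yC _ v hv
    have yA : y ∉ A := fun e => yC (hc e)
    obtain ⟨j, hj⟩ := orderOf_eq_pow_of_mem (isPGroup_sup_of_NN' (p := s) (H := V)
      (isPGroup_iff_mem.2 fun x hx => ⟨1, by rw [pow_one, ex x hx]⟩)
      (isPGroup_zpowers_of_orderOf oy) (zpowers_le.2 (h2 hy))) (mul_mem_sup hv (mem_zpowers y))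
    rw [key y hy k oy yA, key _ (mul_mem (le_NN_self A (hV hv)) hy) j hj
      fun e => yA ((A.mul_mem_cancel_left (hV hv)).1 e)]
  · intro y hy z hz k oy oz c
    by_cases yA : y ∈ A
    · exact Or.inl (hc yA)
    · exact Or.inr (CC_anti hV (h.three hA hs hd hy hz oy yA oz c))

theorem one_prime (hA : A ∈ S) {q s : ℕ} (hq : q.Prime) (hs : s.Prime) (hne : q ≠ s)
    (dq : q ∣ Nat.card A) (ds : s ∣ Nat.card A) {x y : G} (hx : x ∈ NN(A)) (hy : y ∈ NN(A))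
    {i j : ℕ} (ox : orderOf x = q ^ i) (oy : orderOf y = s ^ j) (xA : x ∉ A) : y ∈ A := by
  by_contra yA
  obtain ⟨V, h1, h2, ⟨v, hv, ov⟩, h3⟩ := h.exists_V hA hq dq
  obtain ⟨W, k1, k2, ⟨w, hw, ow⟩, k3⟩ := h.exists_V hA hs ds
  have c1 : x * y * x⁻¹ * y⁻¹ ∈ CC(V) := by
    simpa [mul_assoc] using mul_mem (h3 x hx i ox)
      (conj_mem_of_mem_NN (NN_le_NN_CC V (h2 hy)) (inv_mem (h3 x hx i ox)))
  have c2 : x * y * x⁻¹ * y⁻¹ ∈ CC(W) :=
    mul_mem (conj_mem_of_mem_NN (NN_le_NN_CC W (k2 hx)) (k3 y hy j oy)) (inv_mem (k3 y hy j oy))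
  have c3 : x * y * x⁻¹ * y⁻¹ ∈ CC(A) := mem_of_parts hq
    (fun n l e => h.fpf hA (k1 hw) (ne_one_of_ord hs ow) (mem_CC.1 (pow_mem c2 n) w hw).symm
      (by simpa [e, ow] using cop_primes hq hs hne l 1))
    fun n e => h.fpf hA (h1 hv) (ne_one_of_ord hq ov) (mem_CC.1 (pow_mem c1 n) v hv).symm (ov ▸ e)
  let f := A.normalizerMonoidHom
  have kf : ∀ g : NN(A), f g = 1 ↔ (g : G) ∈ CC(A) := fun g => by
    rw [← MonoidHom.mem_ker, normalizerMonoidHom_ker, mem_subgroupOf]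
  have gen : ∀ {r : ℕ}, r.Prime → r ∣ Nat.card A → ∀ g : NN(A), ∀ l, orderOf (g : G) = r ^ l →
      (g : G) ∉ A → ∃ l, orderOf (f g) = r ^ (l + 1) := fun {r} hr hd g l e gA => by
    obtain ⟨m, -, hm⟩ := (Nat.dvd_prime_pow hr).1
      (dvd_trans (orderOf_map_dvd f g) ((orderOf_coe g).symm.trans e).dvd)
    rcases m with _ | m
    · exact (gA (h.cent_mem hA ((kf g).1 (by simpa using hm))
        (by simpa [e] using cop_primes hr h.prime (h.ne hA hr hd) l 1))).elim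
    · exact ⟨m, hm⟩
  obtain ⟨a, ha⟩ := gen hq dq ⟨x, hx⟩ i ox xA
  obtain ⟨b, hb⟩ := gen hs ds ⟨y, hy⟩ j oy yA
  have c : Commute (f ⟨x, hx⟩) (f ⟨y, hy⟩) := commutatorElement_eq_one_iff_commute.1 (by
    rw [← map_commutatorElement]; exact (kf _).2 c3)
  have o := c.orderOf_mul_eq_mul_orderOf_of_coprime (by rw [ha, hb]; exact cop_primes hq hs hne _ _)
  rw [← map_mul, ha, hb] at o
  obtain ⟨l, m, cm, -, e1, e2⟩ := exists_parts q hq (x * y)
  have m0 := mul_mem hx hy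
  refine pow_ne_one_of_prime hs (o ▸ Dvd.dvd.mul_left (dvd_pow_self s b.succ_ne_zero) _)
    (by simpa using cop_primes hq hs hne l 1 : (q ^ l).Coprime s) ?_
  rw [← map_pow]
  refine (kf _).2 (h.three hA hq dq (pow_mem m0 m) (pow_mem m0 _) e1 (fun e => ?_) (e2 ▸ cm)
    (Commute.pow_pow_self _ _ _))
  refine pow_ne_one_of_prime hq (o ▸ Dvd.dvd.mul_right (dvd_pow_self q a.succ_ne_zero) _) cm ?_
  rw [← map_pow]
  exact (kf _).2 (h.comm A hA e)

theorem dvd_card (hA : A ∈ S) {q : ℕ} (hq : q.Prime) (qp : q ≠ p) (hd : q ∣ Nat.card G) :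
    q ∣ Nat.card A := by
  have := Fact.mk hq
  obtain ⟨x, ox⟩ := exists_prime_orderOf_dvd_card' q hd
  obtain ⟨B, hB, xB⟩ := h.ex x (ne_one_of_ord hq ox) (ox ▸ (Nat.coprime_primes hq h.prime).2 qp)
  rw [h.card A hA B hB, ← ox]
  exact B.orderOf_dvd_natCard xB

theorem index_eq (hA : A ∈ S) (hB : B ∈ S) : A.index = B.index :=
  Nat.eq_of_mul_eq_mul_left (Nat.card_pos (α := A))
    (by rw [card_mul_index, h.card A hA B hB, card_mul_index])

theorem exists_out (hA : A ∈ S) {q : ℕ} (hq : q.Prime) (qp : q ≠ p) (hd : q ∣ A.index) :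
    ∃ x ∈ NN(A), ∃ i, orderOf x = q ^ i ∧ x ∉ A := by
  have := Fact.mk hq
  obtain ⟨T, hT⟩ := exists_isSylowIn q A
  obtain ⟨Q, hQ, h1⟩ := exists_isSylowIn_ge hT.isPGroup (le_top : T ≤ ⊤)
  obtain ⟨x, hx, xT⟩ := SetLike.exists_of_lt (lt_inf_NN hQ.isPGroup (h1.lt_of_ne fun e =>
    hQ.not_dvd_relIndex (by
      rw [relIndex_top_right]; exact hd.trans (index_dvd_of_le (e ▸ hT.le)))))
  obtain ⟨i, hi⟩ := orderOf_eq_pow_of_mem hQ.isPGroup hx.1
  exact ⟨x, h.NN_le hA hT.le (hT.ne_bot (h.dvd_card hA hq qp (hd.trans A.index_dvd_card))) hx.2, i,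
    hi, fun e => xT ((hT.eq_of_le (hQ.isPGroup.to_le inf_le_left) (le_inf h1 hT.le)
      inf_le_right).le (mem_inf.2 ⟨hx.1, e⟩))⟩

theorem eq_of_dvd (hA : A ∈ S) {q s : ℕ} (hq : q.Prime) (hs : s.Prime) (qp : q ≠ p) (sp : s ≠ p)
    (dq : q ∣ A.index) (ds : s ∣ A.index) : q = s := by_contra fun hne => by
  obtain ⟨x, hx, i, ox, xA⟩ := h.exists_out hA hq qp dq
  obtain ⟨y, hy, j, oy, yA⟩ := h.exists_out hA hs sp ds
  exact yA (h.one_prime hA hq hs hne (h.dvd_card hA hq qp (dq.trans A.index_dvd_card))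
    (h.dvd_card hA hs sp (ds.trans A.index_dvd_card)) hx hy ox oy xA)

theorem not_dvd (hA : A ∈ S) {q : ℕ} (hq : q.Prime) (qp : q ≠ p) : ¬ q ∣ A.index := fun dq => by
  have := Fact.mk hq
  have := Fact.mk h.prime
  have cq : ∀ {x : G} {i : ℕ}, orderOf x = q ^ i → (orderOf x).Coprime p := fun {x i} e => by
    simpa [e] using cop_primes hq h.prime qp i 1
  obtain ⟨Q, hQ⟩ := exists_isSylowIn q (⊤ : Subgroup G)
  obtain ⟨z, hz, z1⟩ := (bot_or_exists_ne_one _).resolve_left (center_ne_bot hQ.isPGroup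
    (hQ.ne_bot (by rw [card_top]; exact dq.trans A.index_dvd_card)))
  obtain ⟨i, oz⟩ := orderOf_eq_pow_of_mem hQ.isPGroup hz.1
  obtain ⟨B, hB, zB⟩ := h.ex z z1 (cq oz)
  rw [h.index_eq hA hB] at dq
  clear hA
  have QN : Q ≤ NN(B) := fun g hg => h.norm_of_comm hB zB z1 (mem_CC.1 hz.2 g hg)
  obtain ⟨r, hr, rq, dr⟩ := h.two B hB q
  have := Fact.mk hr
  have rp := h.ne hB hr dr
  have cj1 : ∀ C ∈ S, ∃ g, C = cj g B := fun C hC => by
    have sy : ∀ D ∈ S, ∃ R, IsSylowIn r R D ∧ IsSylowIn r R ⊤ := fun D hD => by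
      obtain ⟨R, hR⟩ := exists_isSylowIn r D
      refine ⟨R, hR, isSylowIn_of_not_dvd le_top hR.isPGroup fun e => ?_⟩
      rw [relIndex_top_right, ← relIndex_mul_index hR.le] at e
      exact (hr.dvd_mul.1 e).elim hR.not_dvd_relIndex fun e =>
        rq (h.eq_of_dvd hD hr hq rp qp e (h.index_eq hB hD ▸ dq))
    obtain ⟨R, h1, h2⟩ := sy B hB
    obtain ⟨R', k1, k2⟩ := sy C hC
    obtain ⟨g, -, rfl⟩ := h2.exists_cj k2
    obtain ⟨a, ha, a1⟩ := (bot_or_exists_ne_one _).resolve_left (h1.ne_bot dr)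
    exact ⟨g, h.uniq _ hC _ (h.conj B hB g) _ (k1.le (conj_mem_cj ha)) (conj_mem_cj (h1.le ha))
      (by simpa using a1)⟩
  have ix := Nat.eq_prime_pow_of_unique_prime_dvd (p := p) (H8.index_centralizer_pos z).ne'
    fun {t} ht hd => by_contra fun tp => by
      have e := h.eq_of_dvd hB ht hq tp qp (hd.trans (index_dvd_of_le fun g hg =>
        mem_centralizer_singleton_iff.2 (mem_CC.1 (h.comm B hB zB) g hg))) dq
      subst e
      exact hQ.not_dvd_relIndex (by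
        rw [relIndex_top_right]
        exact hd.trans (index_dvd_of_le fun g hg =>
          mem_centralizer_singleton_iff.2 (mem_CC.1 hz.2 g hg)))
  have zL := H8.mk_mem_pCore_of_index_pow oz ix
  set O := pCore p G
  have hO : IsPGroup p O := isPGroup_pCore'
  set f := QuotientGroup.mk' O
  set L := (pCore q (G ⧸ O)).comap f
  have sy := hQ.inf_normal le_top (le_NN_of_normal ⊤ L)
  have QB : Q ⊓ L ≤ B := fun u hu => by
    obtain ⟨a, ha, oa⟩ := exists_ord hr dr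
    obtain ⟨j, ou⟩ := orderOf_eq_pow_of_mem hQ.isPGroup hu.1
    have h1 := conj_mem_of_mem_NN (QN hu.1) ha
    have h2 : (u * a * u⁻¹ * a⁻¹) ^ r = 1 := by
      rw [Commute.mul_pow (mem_CC.1 (h.comm B hB (inv_mem ha)) _ h1), conj_pow, inv_pow, ← oa]
      simp
    have h3 : u * a * u⁻¹ * a⁻¹ ∈ L := by
      simpa [mul_assoc] using mul_mem hu.2 (Normal.conj_mem inferInstance _ (inv_mem hu.2) a)
    have h4 := H11.eq_one_of_mem_of_coprime isPGroup_pCore' (mem_comap.1 h3)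
      (((Nat.coprime_primes hr hq).2 rq).coprime_dvd_left
        (orderOf_dvd_of_pow_eq_one (by rw [← map_pow, h2, map_one])))
    have h5 := H11.eq_one_of_mem_of_coprime hO ((QuotientGroup.eq_one_iff _).1 h4)
      (cop_of_mem (h.cop B hB) (mul_mem h1 (inv_mem ha)))
    exact h.mem_of_cop hB ha (ne_one_of_ord hr oa) (commutatorElement_eq_one_iff_commute.1 h5).symm
      (cop_of_mem (h.cop B hB) ha) (cq ou) (by simpa [ou, oa] using cop_primes hq hr rq.symm j 1)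
  have LK : L ≤ B ⊔ O := by
    have e := (sy.map f).eq_of_le (isPGroup_pCore'.to_le (map_comap_le _ _)) (map_mono inf_le_right)
      le_rfl
    refine (le_comap_map f L).trans ?_
    rw [e, comap_map_eq, QuotientGroup.ker_mk']
    exact sup_le_sup_right QB _
  have nK : ⊤ ≤ NN(B ⊔ O) := by
    rw [← sy.frattini_sup le_top (le_NN_of_normal ⊤ L)]
    exact sup_le (LK.trans (le_NN_self _)) (le_NN_sup (inf_le_right.trans (h.NN_le hB QB
      fun e => z1 (e.le (mem_inf.2 ⟨hz.1, zL⟩)))) (le_NN_of_normal _ _))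
  obtain ⟨x, hx, j, ox, xB⟩ := h.exists_out hB hq qp dq
  obtain ⟨C, hC, xC⟩ := h.ex x (by rintro rfl; exact xB B.one_mem) (cq ox)
  obtain ⟨g, rfl⟩ := cj1 C hC
  have h1 : x ∈ (B ⊔ O) ⊓ NN(B) := ⟨cj_le_of_mem_NN (nK (mem_top g)) le_sup_left xC, hx⟩
  rw [dedekind_left (le_NN_self B) (le_NN_of_normal _ _)] at h1
  obtain ⟨k, hk⟩ := pow_mem_of_sup (hO.to_le inf_le_left) inf_le_right h1
  exact xB (mem_of_pow_mem ((cq ox).pow_right k) hk)

theorem index_pow (hA : A ∈ S) : ∃ k, A.index = p ^ k :=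
  ⟨_, Nat.eq_prime_pow_of_unique_prime_dvd index_ne_zero_of_finite fun ht hd =>
    by_contra fun tp => h.not_dvd hA ht tp hd⟩

end PP

end H3.Pt
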