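import Cfsg.Agent.H3.Py
import Cfsg.Agent.H3.Dg1
import Cfsg.Agent.H7.Kegel
import Cfsg.Agent.H17.Be1
import Cfsg.Agent.H10.RO4
import Cfsg.Agent.H1.CIT11
import Cfsg.Agent.H18.TI
import Cfsg.Agent.S0039

/-! Finite groups with a partition. -/

set_option autoImplicit false
set_option linter.unusedSectionVars false

namespace H3.Pt

open Subgroup _root_.Cfsg _root_.H10
open scoped commutatorElement

universe u

/-- the Hughes subgroup is proper -/
def Hu (G : Type*) [Group G] : Prop := ∃ p : ℕ, p.Prime ∧ closure {g : G | g ^ p ≠ 1} ≠ ⊤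

/-- there is a Frobenius kernel -/
def Fk (G : Type*) [Group G] : Prop :=
  ∃ K : Subgroup G, K.Normal ∧ K ≠ ⊥ ∧ K ≠ ⊤ ∧ ∀ x ∈ K, x ≠ 1 → ∀ c, Commute c x → c ∈ K

variable {G : Type u} [Group G] [Finite G] {S : Set (Subgroup G)} {A B H V : Subgroup G} {p : ℕ}

theorem Fk.compl (h : Fk G) : ∃ K H : Subgroup G, K.Normal ∧ K ≠ ⊥ ∧ H ≠ ⊥ ∧ K.IsComplement' H ∧
    (∀ x ∈ H, x ≠ 1 → K ⊓ centralizer {x} = ⊥) ∧ IsFrobeniusComplement H := by
  obtain ⟨A, _, h1, h2, hc⟩ := h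
  have hd := H18.index_dvd_card_sub_one A fun k hk h1 c hc' =>
    hc k hk h1 c (mem_centralizer_singleton_iff.1 hc')
  have hcop : (Nat.card A).Coprime A.index := by
    refine Nat.Coprime.coprime_dvd_right hd ?_
    obtain ⟨m, hm⟩ : ∃ m, Nat.card A = m + 1 := ⟨_, (Nat.succ_pred_eq_of_pos Nat.card_pos).symm⟩
    rw [hm]; simp
  obtain ⟨H, hH⟩ := exists_right_complement'_of_coprime hcop
  have hHb : H ≠ ⊥ := by
    rintro rfl
    exact h2 (by simpa using hH.sup_eq_top)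
  have hf : ∀ x ∈ H, x ≠ 1 → A ⊓ centralizer {x} = ⊥ := fun x hx hx1 => eq_bot_iff.2 fun a ha => by
    by_contra ha1
    exact hx1 (disjoint_def.1 hH.disjoint
      (hc a ha.1 ha1 x (mem_centralizer_singleton_iff.1 ha.2).symm) hx)
  exact ⟨A, H, ‹_›, h1, hHb, hH, hf, (Cfsg.Agent.S0039.result A H hH h1 hHb).2 hf⟩

theorem hu_of (hp : p.Prime) (hH : H ≠ ⊤) (h : ∀ g, g ∉ H → g ^ p = 1) : Hu G :=
  ⟨p, hp, ne_top_of_le_ne_top hH ((closure_le H).2 fun g hg => by_contra fun k => hg (h g k))⟩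

theorem pg_of_exp (hV : ∀ v ∈ V, v ^ p = 1) : IsPGroup p V :=
  isPGroup_iff_mem.2 fun x hx => ⟨1, by rw [pow_one, hV x hx]⟩

theorem exists_fix (hp : p.Prime) [V.Normal] (hV : ∀ v ∈ V, v ^ p = 1) (h0 : V ≠ ⊥) {y : G} {k : ℕ}
    (oy : orderOf y = p ^ k) : ∃ v ∈ V, v ≠ 1 ∧ Commute v y := by
  have := Fact.mk hp
  obtain ⟨v, hv, v1⟩ := (bot_or_exists_ne_one _).resolve_left (inf_CC_ne_bot' (pg_of_exp hV)
    (isPGroup_zpowers_of_orderOf oy) (le_NN_of_normal _ _) h0)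
  exact ⟨v, hv.1, v1, (mem_CC.1 hv.2 y (mem_zpowers y)).symm⟩

theorem ord_mul (hp : p.Prime) [V.Normal] (hV : ∀ v ∈ V, v ^ p = 1) {v y : G} {k : ℕ} (hv : v ∈ V)
    (oy : orderOf y = p ^ k) : ∃ j, orderOf (v * y) = p ^ j :=
  have := Fact.mk hp
  orderOf_eq_pow_of_mem (isPGroup_sup_of_NN' (pg_of_exp hV) (isPGroup_zpowers_of_orderOf oy)
    (le_NN_of_normal _ _)) (mul_mem_sup hv (mem_zpowers y))

theorem ord_of_exp (hp : p.Prime) {v : G} (h : v ^ p = 1) (v1 : v ≠ 1) : orderOf v = p :=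
  have := Fact.mk hp; orderOf_eq_prime h v1

theorem pow_mul_mem {N : Subgroup G} {w u : G} (hw : w ∈ NN(N)) (hu : u ∈ N) (n : ℕ) :
    (u * w) ^ n * (w ^ n)⁻¹ ∈ N := by
  induction n with
  | zero => simp
  | succ n ih =>
    have := N.mul_mem hu (conj_mem_of_mem_NN hw ih)
    convert this using 1
    rw [pow_succ', pow_succ' w]; group

theorem pow_mul_hom {U : Subgroup G} {w u v : G} (hw : w ∈ NN(U)) (hc : U ≤ CC(U)) (hu : u ∈ U)
    (hv : v ∈ U) (n : ℕ) : (u * v * w) ^ n * (w ^ n)⁻¹ =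
      (u * w) ^ n * (w ^ n)⁻¹ * ((v * w) ^ n * (w ^ n)⁻¹) := by
  induction n with
  | zero => simp
  | succ n ih =>
    have k : ∀ x : G, (x * w) ^ (n + 1) * (w ^ (n + 1))⁻¹ =
      x * (w * ((x * w) ^ n * (w ^ n)⁻¹) * w⁻¹) := fun x => by rw [pow_succ', pow_succ' w]; group
    have c := hc hv _ (conj_mem_of_mem_NN hw (pow_mul_mem hw hu n))
    rw [k, k, k, ih]
    generalize (u * w) ^ n * (w ^ n)⁻¹ = a at c ⊢
    generalize (v * w) ^ n * (w ^ n)⁻¹ = b
    calc _ = u * (v * (w * a * w⁻¹)) * (w * b * w⁻¹) := by group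
      _ = _ := by rw [← c]; group

/-- a conjugation invariant partition by proper subgroups -/
structure Pf (S : Set (Subgroup G)) : Prop extends Pa 1 S where
  ne_top : ∀ A ∈ S, A ≠ ⊤

/-- a normal member `H` which contains an element of order `p` commuting with an element outside -/
structure NC (H C : Subgroup G) (p : ℕ) : Prop where
  normal : C.Normal
  le : H ≤ C
  ord : ∀ c ∈ C, c ∉ H → orderOf c = p
  mem : ∀ w k, orderOf w = p ^ k → w ∈ C
  cop : ∀ w, w ∉ C → (orderOf w).Coprime p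
  nc : ∀ w, w ∉ C → ∀ x ∈ C, x ∉ H → ¬ Commute w x

namespace Pf
variable (h : Pf S)
include h

theorem ex' {x : G} (x1 : x ≠ 1) : ∃ A ∈ S, x ∈ A := h.ex x x1 (Nat.coprime_one_right _)

theorem ord (hA : A ∈ S) {a y : G} (ha : a ∈ A) (a1 : a ≠ 1) (hy : y ∉ A) (c : Commute a y) :
    orderOf y = orderOf a :=
  h.ord_eq hA ha a1 hy c (Nat.coprime_one_right _) (Nat.coprime_one_right _)

theorem ordp (hA : A ∈ S) {a y : G} (ha : a ∈ A) (a1 : a ≠ 1) (hy : y ∉ A) (c : Commute a y) :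
    (orderOf a).Prime :=
  h.ord_prime hA ha a1 hy c (Nat.coprime_one_right _) (Nat.coprime_one_right _)

theorem mem (hA : A ∈ S) {a y : G} (ha : a ∈ A) (a1 : a ≠ 1) (c : Commute a y)
    (hne : orderOf y ≠ orderOf a) : y ∈ A := by_contra fun hy => hne (h.ord hA ha a1 hy c)

theorem mem' (hA : A ∈ S) {a y : G} (ha : a ∈ A) (a1 : a ≠ 1) (c : Commute a y)
    (hc : (orderOf y).Coprime (orderOf a)) : y ∈ A :=
  h.mem hA ha a1 c fun e => a1 (by simpa [e] using hc)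

theorem pow_eq_one (hA : A ∈ S) {w : G} (hw : w ∉ A) {n : ℕ} (hn : w ^ n ∈ A) : w ^ n = 1 := by
  obtain ⟨B, hB, wB⟩ := h.ex' (x := w) (by rintro rfl; exact hw A.one_mem)
  exact h.eq_one hA hB (by rintro rfl; exact hw wB) hn (B.pow_mem wB n)

/-- `v` centralizes `z` when both commute with `y`, the orders of `y` and `z` differ and the normal
subgroup `V` containing `v` meets the member of `y` trivially -/
theorem comm3 [V.Normal] (hB : B ∈ S) (hV : ∀ x ∈ V, x ∈ B → x = 1) {v y z : G} (hv : v ∈ V)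
    (hy : y ∈ B) (y1 : y ≠ 1) (hz : z ∈ B) (c : Commute v y) : Commute v z := by
  refine commutatorElement_eq_one_iff_commute.1 (hV _ ?_
    (B.mul_mem (conj_mem_of_mem_NN (h.norm_of_comm hB hy y1 c) hz) (B.inv_mem hz)))
  simpa only [commutatorElement_def, mul_assoc] using
    V.mul_mem hv (Normal.conj_mem inferInstance _ (V.inv_mem hv) z)

theorem nil (hH : H ∈ S) [H.Normal] {x y : G} (hx : x ∈ H) (x1 : x ≠ 1) (hy : y ∉ H)
    (c : Commute x y) : Group.IsNilpotent H := by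
  have hp := h.ordp hH hx x1 hy c
  have oy := h.ord hH hx x1 hy c
  have := H7.kegel hp (H.subgroupOf (H ⊔ zpowers y)) (fun e => hy
    (mem_subgroupOf.1 (e.ge (mem_top ⟨y, mem_sup_right (mem_zpowers y)⟩)))) fun w hw => by
      obtain ⟨a, ha, _, ⟨i, rfl⟩, e⟩ := (mem_sup_of_NN' (le_NN_of_normal _ H)).1 w.2
      refine Subtype.ext (h.pow_eq_one hH hw ?_)
      have := pow_mul_mem (le_NN_of_normal ⊤ H (mem_top (y ^ i))) ha (orderOf x)
      rwa [← zpow_natCast (y ^ i), ← zpow_mul, mul_comm i, zpow_mul, zpow_natCast, ← oy,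
        pow_orderOf_eq_one, one_zpow, inv_one, mul_one, oy, e] at this
  exact Group.nilpotent_of_mulEquiv (subgroupOfEquivOfLe (le_sup_left (b := zpowers y)))

theorem exists_nc (hH : H ∈ S) [H.Normal] {x y : G} (hx : x ∈ H) (x1 : x ≠ 1) (hy : y ∉ H)
    (c : Commute x y) : ∃ C, NC H C (orderOf x) := by
  have hp := h.ordp hH hx x1 hy c
  have := h.nil hH hx x1 hy c
  generalize ox : orderOf x = p at hp
  have := Fact.mk hp
  have hZ : H ⊓ CC(H) ≤ CC((H ⊓ CC(H) : Subgroup G)) := inf_le_right.trans (CC_anti inf_le_left)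
  have e := @mem_omegaOne_iff _ _ p _ hZ
  obtain ⟨V, h1, h0, h2, hm⟩ := H11.exists_min_invariant (N := omegaOne p (H ⊓ CC(H))) (L := ⊤)
    (by
      obtain ⟨P, hP⟩ := (isPGroup_zpowers_of_orderOf_eq
        ((orderOf_coe (⟨x, hx⟩ : H)).symm.trans ox)).exists_le_sylow
      obtain ⟨z, z1, z2, z3⟩ := H9.exists_mem_center_ne_one (M := (P : Subgroup H))
        fun e => x1 (congrArg Subtype.val (mem_bot.1 (e.le (hP (mem_zpowers _)))))
      obtain ⟨k, hk⟩ := orderOf_eq_pow_of_mem P.isPGroup' z1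
      obtain ⟨n, hn⟩ := exists_pow_ord (x := z) (r := p) (hk ▸ dvd_pow_self p
        (by rintro rfl; exact z2 (by simpa using hk)))
      rw [← orderOf_coe] at hn
      exact fun e0 => ne_one_of_ord hp hn (e0.le (e.2 ⟨⟨(z ^ n).2, fun a ha => congrArg Subtype.val
        (mem_center_iff.1 (pow_mem z3 n) ⟨a, ha⟩)⟩, by rw [← hn, pow_orderOf_eq_one]⟩)))
    ((le_NN_of_normal _ _).trans (NN_le_NN_omegaOne _))
  have := normal_of_top_le_NN h2
  have hV := h1.trans (omegaOne_le _)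
  have ex : ∀ v ∈ V, v ^ p = 1 := fun v hv => (e.1 (h1 hv)).2
  have hc : H ≤ CC(V) := le_CC_symm (hV.trans inf_le_right)
  have o1 : ∀ v ∈ V, v ≠ 1 → ∀ w, w ∉ H → Commute v w → orderOf w = p := fun v hv v1 w hw c =>
    (h.ord hH (hV hv).1 v1 hw c).trans (ord_of_exp hp (ex v hv) v1)
  have o2 : ∀ w k, orderOf w = p ^ k → w ∉ H → orderOf w = p := fun w k ow hw => by
    obtain ⟨v, hv, v1, c⟩ := exists_fix hp ex h0 ow
    exact o1 v hv v1 w hw c
  have o3 : ∀ y z, y ∉ H → z ∉ H → Commute y z → ∀ v ∈ V, v ≠ 1 → Commute v y → orderOf z = p := by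
    intro y z hy hz c v hv v1 cv
    by_contra k
    have y1 : y ≠ 1 := by rintro rfl; exact hy H.one_mem
    obtain ⟨B, hB, yB⟩ := h.ex' y1
    exact k (o1 v hv v1 z hz (h.comm3 hB (fun x hx xB => h.eq_one hH hB
      (by rintro rfl; exact hy yB) (hV hx).1 xB) hv yB y1
      (h.mem hB yB y1 c (by rwa [o1 v hv v1 y hy cv])) cv))
  have key : ∀ w k, orderOf w = p ^ k → w ∈ CC(V) := fun w k ow => by
    refine lemX hp h2 (hV.trans (inf_le_left.trans hc)) ex h0 hm ?_ ?_ ?_ (mem_top w) ow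
    · intro p2 z _ k oz hz v hv c
      by_contra v1
      have := (o1 v hv v1 z (fun e => hz (hc e)) c.symm).symm.trans oz
      exact p2 ((Nat.prime_dvd_prime_iff_eq hp Nat.prime_two).1 (hp.dvd_of_dvd_pow this.dvd))
    · intro y _ k oy yC _ v hv
      obtain ⟨j, hj⟩ := ord_mul hp ex hv oy
      rw [← o2 y k oy fun e => yC (hc e), pow_orderOf_eq_one, o2 y k oy fun e => yC (hc e),
        ← o2 _ j hj fun e => yC (hc ((H.mul_mem_cancel_left (hV hv).1).1 e)), pow_orderOf_eq_one]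
    · intro y _ z _ k oy oz c
      by_contra! k
      obtain ⟨v, hv, v1, cv⟩ := exists_fix hp ex h0 oy
      rw [o3 y z (fun e => k.1 (hc e)) (fun e => k.2 (hc e)) c v hv v1 cv] at oz
      exact hp.one_lt.ne' (by simpa using oz)
  obtain ⟨v, hv, v1⟩ := (bot_or_exists_ne_one V).resolve_left h0
  have nc : ∀ w, w ∉ CC(V) → ∀ x ∈ CC(V), x ∉ H → ¬ Commute w x := fun w hw x hx xH c =>
    hw (key w 1 (by rw [pow_one]; exact o3 x w xH (fun e => hw (hc e)) c.symm v hv v1 (hx v hv)))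
  refine ⟨CC(V), inferInstance, hc, fun c hc cH => o1 v hv v1 c cH (hc v hv), key, fun w hw => ?_, nc⟩
  obtain ⟨j, m, h3, h4, h5, h6⟩ := exists_parts p hp w
  have h7 : w ^ p ^ j ∉ CC(V) := fun k => hw (mem_of_parts hp (fun n j e => key _ j e) fun n e => by
    obtain ⟨l, hl⟩ := exists_pow_eq_self_of_coprime (x := w ^ n) (n := p ^ j) (e.symm.pow_left j)
    rw [← hl, ← pow_mul w, mul_comm, pow_mul]
    exact pow_mem (pow_mem k n) l)
  rcases j with _ | j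
  · simpa [h4] using h3
  have w1 : w ^ m ≠ 1 := fun e => hp.ne_one (by simpa [e] using h5.symm)
  have cm : Commute (w ^ m) (w ^ p ^ (j + 1)) := (Commute.refl w).pow_pow _ _
  by_cases wH : w ^ m ∈ H
  · refine (h7 (hc (h.mem' hH wH w1 cm ?_))).elim
    rw [h5, h6]; exact h3.pow_right _
  · exact (nc _ h7 _ (key _ _ h5) wH cm.symm).elim

theorem caseA (hH : H ∈ S) [H.Normal] (h0 : H ≠ ⊥) : Hu G ∨ Fk G := by
  by_cases k : ∀ x ∈ H, x ≠ 1 → ∀ c, Commute c x → c ∈ H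
  · exact Or.inr ⟨H, ‹_›, h0, h.ne_top H hH, k⟩
  push Not at k
  obtain ⟨x, hx, x1, y, c, hy⟩ := k
  obtain ⟨C, hC⟩ := h.exists_nc hH hx x1 hy c.symm
  have hp := h.ordp hH hx x1 hy c.symm
  have oy := h.ord hH hx x1 hy c.symm
  by_cases e : C = ⊤
  · exact Or.inl (hu_of hp (h.ne_top H hH) fun g hg => by
      rw [← hC.ord g (e.ge (mem_top g)) hg, pow_orderOf_eq_one])
  refine Or.inr ⟨C, hC.normal, ne_bot_of_le_ne_bot h0 hC.le, e, fun a ha a1 w cw => by_contra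
    fun hw => ?_⟩
  have aH : a ∈ H := by_contra fun k => hC.nc w hw a ha k cw
  have wH : w ∉ H := fun k => hw (hC.le k)
  obtain ⟨D, hD⟩ := h.exists_nc hH aH a1 wH cw.symm
  have ow := h.ord hH aH a1 wH cw.symm
  have yC := hC.mem y 1 (by rw [pow_one, oy])
  have wD := hD.mem w 1 (by rw [pow_one, ow])
  have h1 := hC.cop (w * y) fun k => hw ((C.mul_mem_cancel_right yC).1 k)
  have := hD.normal
  have h2 := pow_mul_mem (le_NN_of_normal ⊤ D (mem_top y)) wD (orderOf (w * y))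
  rw [pow_orderOf_eq_one, one_mul, inv_mem_iff] at h2
  obtain ⟨l, hl⟩ := exists_pow_eq_self_of_coprime (x := y) (n := orderOf (w * y)) (oy ▸ h1)
  have h3 := hD.ord y (hl ▸ pow_mem h2 l) hy
  have h4 := hC.cop w hw
  rw [ow, ← h3, oy] at h4
  exact hp.one_lt.ne' (by simpa using h4)

theorem b3 {U : Subgroup G} [U.Normal] (hc : U ≤ CC(U)) (hU : ∀ u ∈ U, u ^ p = 1) (hB : B ∈ S)
    {w : G} (hw : w ∈ B) (h1 : w ^ p ∈ CC(U)) (h2 : w ^ p ≠ 1) {u v : G} (hu : u ∈ U) (hv : v ∈ U)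
    (uB : u ∉ B) (vB : v ∉ B) : u * v ∈ B := by
  have k : ∀ x ∈ U, x ∉ B → (x * w) ^ p = 1 := fun x hx xB => by
    refine h.pow_eq_one hB (fun e => xB ((B.mul_mem_cancel_right hw).1 e)) ?_
    have n := h.norm_of_comm hB (B.pow_mem hw p) h2 (h1 x hx)
    have := pow_mul_mem n (conj_mem_of_mem_NN n hw) p
    rwa [hU x hx, inv_one, mul_one, inv_mul_cancel_right] at this
  by_contra e
  have := pow_mul_hom (le_NN_of_normal ⊤ U (mem_top w)) hc hu hv p
  rw [k _ (U.mul_mem hu hv) e, k u hu uB, k v hv vB] at this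
  exact h2 (by simpa using this)

section
variable (hn : ∀ A ∈ S, A.Normal → A = ⊥) (hp : p.Prime) [V.Normal] (h0 : V ≠ ⊥) (hc : V ≤ CC(V))
  (hV : ∀ v ∈ V, v ^ p = 1)
include hn hp h0 hc hV

theorem exists_out (hB : B ∈ S) : ∃ v ∈ V, v ∉ B := by
  by_contra! k
  exact h0 (le_bot_iff.1 (hn B hB (normal_of_top_le_NN
    ((le_NN_of_normal ⊤ V).trans (h.NN_le hB k h0))) ▸ k))

theorem b1 (hB : B ∈ S) {z : G} (hz : z ∈ B) (z1 : z ≠ 1) (oz : (orderOf z).Coprime p) :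
    ∀ x ∈ V, x ∈ B → x = 1 := fun x hx xB => by_contra fun x1 => by
  have := Fact.mk hp
  obtain ⟨v, hv, vB⟩ := h.exists_out hn hp h0 hc hV hB
  obtain ⟨k, hk⟩ := (pg_of_exp hV).exists_card_eq
  have e := H1.commutator_sup_centralizer (A := zpowers z) (K := V) (le_NN_of_normal _ _)
    (by rw [hk, Nat.card_zpowers]; exact oz.pow_right k) (Or.inl (Dg.solv_zpowers z))
  refine vB ((sup_le ((commutator_mono le_rfl (zpowers_le.2 hz)).trans (comm_le_right fun u hu =>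
    h.norm_of_comm hB xB x1 (hc hx u hu))) fun u hu => ?_ : _ ≤ B) (e.ge hv))
  exact h.mem' hB hz z1 (hu.2 z (mem_zpowers z))
    (oz.symm.coprime_dvd_left (orderOf_dvd_of_pow_eq_one (hV u hu.1)))

theorem b2 {y z : G} {k : ℕ} (oy : orderOf y = p ^ k) (y1 : y ≠ 1) (oz : (orderOf z).Coprime p)
    (c : Commute y z) : z = 1 := by_contra fun z1 => by
  obtain ⟨B, hB, hz⟩ := h.ex' z1
  obtain ⟨v, hv, v1, cv⟩ := exists_fix hp hV h0 oy
  have k := h.b1 hn hp h0 hc hV hB hz z1 oz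
  exact v1 (k v hv (h.mem' hB hz z1
    (h.comm3 hB k hv (h.mem' hB hz z1 c.symm (oy ▸ oz.symm.pow_left _)) y1 hz cv).symm
    (oz.symm.coprime_dvd_left (orderOf_dvd_of_pow_eq_one (hV v hv)))))

theorem expC {c : G} (h1 : c ∈ CC(V)) : c ^ p = 1 := by
  by_cases c1 : c = 1
  · simp [c1]
  obtain ⟨B, hB, cB⟩ := h.ex' c1
  obtain ⟨v, hv, vB⟩ := h.exists_out hn hp h0 hc hV hB
  exact orderOf_dvd_iff_pow_eq_one.1
    (h.ord hB cB c1 vB (h1 v hv).symm ▸ orderOf_dvd_of_pow_eq_one (hV v hv))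

theorem s4 {w : G} (hw : w ∉ CC(V)) (h1 : w ^ p ∈ CC(V)) (h2 : w ^ p ≠ 1) :
    Nonempty (G ≃* Equiv.Perm (Fin 4)) := by
  obtain ⟨B, hB, wB⟩ := h.ex' (x := w) (by rintro rfl; exact hw (one_mem _))
  obtain rfl : p = 2 := by
    by_contra p2
    obtain ⟨v, hv, vB⟩ := h.exists_out hn hp h0 hc hV hB
    obtain ⟨l, hl⟩ := exists_pow_eq_self_of_coprime (x := v) (n := 2)
      (((Nat.coprime_primes Nat.prime_two hp).2 (Ne.symm p2)).coprime_dvd_right
        (orderOf_dvd_of_pow_eq_one (hV v hv)))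
    exact vB (hl ▸ B.pow_mem (pow_two v ▸ h.b3 hc hV hB wB h1 h2 hv hv vB vB) l)
  have eC : ∀ c ∈ CC(V), c ^ 2 = 1 := fun c => h.expC hn hp h0 hc hV
  have eC' : ∀ c ∈ CC(V), c * c = 1 := fun c k => pow_two c ▸ eC c k
  have cC : CC(V) ≤ CC(CC(V)) := fun a ha b hb => Dg.DG.comm_sq eC' hb ha
  obtain ⟨g, hg⟩ : ∃ g, cj g B ≠ B := by
    by_contra! k
    exact h2 (mem_bot.1 ((hn B hB (normal_iff_cj.2 k)).le (B.pow_mem wB 2)))
  have hB' := h.conj B hB g
  have aB := B.pow_mem wB 2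
  have e2 : (g * w * g⁻¹) ^ 2 = g * w ^ 2 * g⁻¹ := conj_pow
  have cw : Commute w (w ^ 2) := (Commute.refl w).pow_right 2
  have k2 : ∀ x ∈ CC(V), x ∉ B → ∀ y ∈ CC(V), y ∉ B → x * y ∈ B := fun x hx xB y hy yB =>
    h.b3 cC eC hB wB (cC h1) h2 hx hy xB yB
  generalize w ^ 2 = a at h1 h2 aB e2 cw
  have bC : g * a * g⁻¹ ∈ CC(V) := Normal.conj_mem inferInstance a h1 g
  have b1 : g * a * g⁻¹ ≠ 1 := by simpa using h2
  have bB' : g * a * g⁻¹ ∈ cj g B := conj_mem_cj aB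
  have bB : g * a * g⁻¹ ∉ B := fun k => b1 (h.eq_one hB' hB hg bB' k)
  have k1 : ∀ x ∈ CC(V), x ∈ B → x = 1 ∨ x = a := fun x hx xB => or_iff_not_imp_left.2 fun x1 => by
    have := h.eq_one hB' hB hg (h.b3 cC eC hB' (conj_mem_cj wB) (e2 ▸ cC bC) (e2 ▸ b1) hx h1
      (fun k => x1 (h.eq_one hB' hB hg k xB)) fun k => h2 (h.eq_one hB' hB hg k aB))
      (B.mul_mem xB aB)
    rw [eq_inv_of_mul_eq_one_left this, inv_eq_of_mul_eq_one_left (eC' a h1)]
  generalize hb : g * a * g⁻¹ = b at bC b1 bB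
  have h4 : H4.Four a b := ⟨ord_of_exp hp (eC a h1) h2, ord_of_exp hp (eC b bC) b1,
    fun e => bB (e ▸ aB), cC bC a h1⟩
  have eV : H4.V4 a b = CC(V) := by
    refine le_antisymm ((closure_le _).2 ?_) fun x hx => h4.mem.2 ?_
    · rintro _ (rfl | rfl)
      exacts [h1, bC]
    by_cases xB : x ∈ B
    · exact (k1 x hx xB).imp_right Or.inl
    refine Or.inr (Or.inr ((k1 _ (mul_mem hx bC) (k2 x hx xB b bC bB)).imp (fun e => ?_)
      fun e => ?_))
    · rw [eq_inv_of_mul_eq_one_left e, inv_eq_of_mul_eq_one_left (eC' b bC)]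
    · rw [← e, mul_assoc, eC' b bC, mul_one]
  have hC : ∀ g, Commute g a → Commute g b → g ∈ H4.V4 a b := fun g c1 c2 => by
    rw [eV]
    refine CC_anti hc ?_
    rw [← eV, centralizer_closure, mem_centralizer_iff]
    rintro _ (rfl | rfl)
    exacts [c1.symm, c2.symm]
  have nV : ∀ g, ∀ x ∈ H4.V4 a b, g * x * g⁻¹ ∈ H4.V4 a b := fun g x hx => by
    rw [eV] at hx ⊢; exact Normal.conj_mem inferInstance x hx g
  have wa : w * a * w⁻¹ = a := conj_of_comm cw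
  have wb : w * b * w⁻¹ = a * b := by
    rcases h4.mem.1 (nV w b (H4.right_mem_V4 a b)) with e | e | e | e
    · exact (b1 (by simpa using e)).elim
    · exact (h4.ne (by simpa using wa.trans e.symm)).elim
    · exact (hw (eV ▸ hC w cw (mul_inv_eq_iff_eq_mul.1 e))).elim
    · exact e
  obtain ⟨e⟩ := H4.normalizer_V4_equiv h4 hC (H4.card_normalizer_V4 h4 hC fun x y hxy e => by
    obtain ⟨k, hk⟩ : ∃ k, k * a * k⁻¹ = x := by
      rcases h4.mem.1 (e ▸ H4.left_mem_V4 x y) with r | r | r | r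
      · exact (H6.ord2_ne_one hxy.oa r).elim
      · exact ⟨1, by simp [r]⟩
      · exact ⟨g, hb.trans r.symm⟩
      · exact ⟨w * g, by rw [r, ← wb, ← hb]; group⟩
    rcases hxy.mem.1 (e ▸ nV k b (H4.right_mem_V4 a b)) with r | r | r | r
    · exact (b1 (by simpa using r)).elim
    · exact (h4.ne (by simpa using hk.trans r.symm)).elim
    · exact ⟨k, hk, r⟩
    · refine ⟨k * w, ?_, ?_⟩
      · calc _ = k * (w * a * w⁻¹) * k⁻¹ := by group
          _ = x := by rw [wa, hk]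
      · calc _ = k * (w * b * w⁻¹) * k⁻¹ := by group
          _ = k * a * k⁻¹ * (k * b * k⁻¹) := by rw [wb]; group
          _ = y := by rw [hk, r, ← mul_assoc, H4.sq_of_ord2 hxy.oa, one_mul])
  exact ⟨topEquiv.symm.trans ((MulEquiv.subgroupCongr (top_unique (le_NN_iff.2 fun g _ =>
    nV g)).symm).trans e)⟩

theorem caseB (hm : ∀ L : Subgroup G, L.Normal → L ≤ V → L = ⊥ ∨ L = V) :
    Nonempty (G ≃* Equiv.Perm (Fin 4)) ∨ Hu G ∨ Fk G := by
  by_cases k : ∀ w, w ∉ CC(V) → w ^ p ∈ CC(V) → w ^ p = 1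
  swap
  · push Not at k
    obtain ⟨w, h1, h2, h3⟩ := k
    exact Or.inl (h.s4 hn hp h0 hc hV h1 h2 h3)
  have key : ∀ w k, orderOf w = p ^ k → w ∈ CC(V) := fun w l ow => by
    refine lemX hp (le_NN_of_normal ⊤ V) hc hV h0
      (fun U h1 h2 => hm U (normal_of_top_le_NN h2) h1) ?_ ?_ ?_ (mem_top w) ow
    · intro p2 z _ k oz hz v hv c
      by_contra v1
      exact hz (h.b2 hn hp h0 hc hV ((ord_of_exp hp (hV v hv) v1).trans (pow_one p).symm) v1
        (by simpa [oz] using cop_primes Nat.prime_two hp (Ne.symm p2) k 1) c.symm ▸ one_mem _)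
    · intro y _ j oy yC h1 v hv
      rw [k y yC h1, k _ (fun e => yC ((Subgroup.mul_mem_cancel_left _ (hc hv)).1 e))
        ((Subgroup.mul_mem_cancel_right _ (inv_mem h1)).1
          (hc (pow_mul_mem (le_NN_of_normal ⊤ V (mem_top y)) hv p)))]
    · intro y _ z _ k oy oz c
      by_cases y1 : y = 1
      exacts [Or.inl (y1 ▸ one_mem _), Or.inr (h.b2 hn hp h0 hc hV oy y1 oz c ▸ one_mem _)]
  by_cases e : CC(V) = ⊤
  · exact Or.inr (Or.inl (hu_of hp (H := ⊥) (fun k => h0 (le_bot_iff.1 (le_top.trans k.ge)))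
      fun g _ => h.expC hn hp h0 hc hV (e.ge (mem_top g))))
  refine Or.inr (Or.inr ⟨CC(V), inferInstance, ne_bot_of_le_ne_bot h0 hc, e, fun x hx x1 c cx =>
    mem_of_parts hp (fun n j e => key _ j e) fun n e => ?_⟩)
  exact h.b2 hn hp h0 hc hV ((ord_of_exp hp (h.expC hn hp h0 hc hV hx) x1).trans (pow_one p).symm)
    x1 e (cx.pow_left n).symm ▸ one_mem _

end

theorem cch {Ω : Type*} [MulAction G Ω] {a : Ω} {t : G} {Q : Subgroup G} (r : H26.R1 G Ω a t Q)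
    (hQ : IsPGroup 2 Q) (hA : A ∈ S) (h1 : Q ≤ A) (h2 : ∀ x ∈ A, x • a = a)
    (h3 : ∀ j ∈ A, orderOf j = 2 → ∀ c, Commute c j → c ∈ A) {x c : G} (hx : x ∈ Q) (x1 : x ≠ 1)
    (hc : Commute c x) : c ∈ Q := by
  have ca := r.fix_of_comm hx x1 hc
  have cn : ∀ n : ℕ, c ^ n • a = a := fun n => (MulAction.stabilizer G a).pow_mem ca n
  refine mem_of_parts Nat.prime_two (fun n j e => r.mem_Q_of_two_pow (cn n) (n := j)
    (by rw [← e, pow_orderOf_eq_one])) fun n e => ?_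
  by_contra k
  obtain ⟨q, hq, hd⟩ := exists_prime_dvd_ord (x := c ^ n) fun e => k (e ▸ one_mem Q)
  obtain ⟨m, ov⟩ := exists_pow_ord hd
  have q2 : q.Coprime 2 := e.coprime_dvd_left hd
  obtain ⟨l, hl⟩ := orderOf_eq_pow_of_mem hQ hx
  obtain ⟨i, oj⟩ := exists_pow_ord (x := x) (r := 2) (hl ▸ dvd_pow_self 2
    (by rintro rfl; exact x1 (by simpa using hl)))
  have cv : Commute ((c ^ n) ^ m) (x ^ i) := ((hc.pow_left n).pow_left m).pow_right i
  have va : (c ^ n) ^ m • a = a := by rw [← pow_mul]; exact cn _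
  have jQ := Q.pow_mem hx i
  generalize (c ^ n) ^ m = v at ov cv va
  generalize x ^ i = j at oj cv jQ
  have := Fact.mk hq
  have := r.finite
  obtain ⟨b, vb, ba⟩ : ∃ b, v • b = b ∧ b ≠ a := by
    by_contra! k
    have h4 := (isPGroup_zpowers_of_orderOf_eq ov).card_modEq_card_fixedPoints Ω
    have h5 : MulAction.fixedPoints (zpowers v) Ω = {a} := Set.eq_singleton_iff_unique_mem.2
      ⟨fun g => zpowers_le.2 (MulAction.mem_stabilizer_iff.2 va) g.2,
        fun b hb => k b (hb ⟨v, mem_zpowers v⟩)⟩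
    obtain ⟨n, hn⟩ := hQ.exists_card_eq
    rw [h5, r.card_Ω, hn, Nat.card_unique (α := ({a} : Set Ω))] at h4
    have h6 := (Nat.modEq_iff_dvd' (Nat.le_add_left 1 _)).1 h4.symm
    exact hq.one_lt.ne' ((q2.pow_right n).eq_one_of_dvd (by simpa using h6))
  obtain ⟨g, rfl⟩ := r.trans a b
  have j1 := H6.ord2_ne_one oj
  have n1 : g⁻¹ • a ≠ a := fun e => ba (by rw [← e, smul_inv_smul, e])
  obtain ⟨y, hy, e1⟩ := r.exists_smul (d := g⁻¹ • j • g • a) n1 fun e =>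
    ba (r.eq_a_of_fix jQ j1 (inv_smul_eq_iff.1 e))
  have e2 := r.eq_of_smul_eq (r.conj (h := g⁻¹ * v * g)
    (by rw [mul_smul, mul_smul, vb, inv_smul_smul]) hy) hy n1 (by
      have : v⁻¹ • a = a := inv_smul_eq_iff.2 va.symm
      simp only [mul_smul, mul_inv_rev, inv_inv, smul_inv_smul, this, e1]
      rw [← mul_smul v, cv.eq, mul_smul, vb])
  obtain ⟨l, hl⟩ := orderOf_eq_pow_of_mem hQ hy
  have e3 := h2 _ (h.mem' (y := g * y * g⁻¹) hA (h3 j (h1 jQ) oj v cv) (ne_one_of_ord hq ov) (by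
    calc v * (g * y * g⁻¹) = g * (g⁻¹ * v * g * y * (g⁻¹ * v * g)⁻¹) * g⁻¹ * v := by group
      _ = _ := by rw [e2]) (by rw [H5.Gd.ord_conj, hl, ov]; exact q2.symm.pow_left l))
  rw [mul_smul, mul_smul, e1, smul_inv_smul, ← eq_inv_smul_iff, r.fix (Q.inv_mem jQ)] at e3
  exact ba e3

theorem caseF [Nontrivial G] (hn : ∀ A ∈ S, A.Normal → A = ⊥)
    (hs : ∀ N : Subgroup G, N.Normal → Group.IsSolvable N → N = ⊥) :
    (∃ A ∈ S, ∃ T ≤ A, H8.CCH T) ∨ Dg.Res G := by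
  have hO : pPrimeCore 2 G = ⊥ := hs _ inferInstance
    (H17.odd_solvable (Nat.coprime_two_right.1 (H1.coprime_card_pPrimeCore 2)))
  have ns : ¬ Group.IsSolvable G := fun _ => top_ne_bot (hs ⊤ inferInstance inferInstance)
  by_cases k : ∀ j, orderOf j = 2 → ∀ A ∈ S, j ∈ A → centralizer {j} ≤ A
  swap
  · push Not at k
    obtain ⟨j, ⟨oj, A, hA, jA, hj⟩, mx⟩ := Set.exists_max_image
      {j : G | orderOf j = 2 ∧ ∃ A ∈ S, j ∈ A ∧ ¬ centralizer {j} ≤ A}
      (fun j => Nat.card (centralizer {j})) (Set.toFinite _) k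
    have j1 := H6.ord2_ne_one oj
    have o2 : ∀ x ∈ centralizer {j}, x ∉ A → orderOf x = 2 := fun x hx xA =>
      (h.ord hA jA j1 xA (mem_centralizer_singleton_iff.1 hx).symm).trans oj
    obtain ⟨x, hx, xA⟩ := SetLike.not_le_iff_exists.1 hj
    have h4 : H4.Four j x := ⟨oj, o2 x hx xA, fun e => xA (e ▸ jA),
      (mem_centralizer_singleton_iff.1 hx).symm⟩
    have jC : j ∈ centralizer {j} := mem_centralizer_singleton_iff.2 rfl
    obtain ⟨Y, _, f, hf, h1, h2⟩ := Dg.out_of (inf_lt_left.2 hj)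
      (fun x hx k => H4.sq_of_ord2 (o2 x hx fun e => k ⟨hx, e⟩))
      (h4.card ▸ card_dvd_of_le ((closure_le _).2 (by rintro _ (rfl | rfl); exacts [jC, hx])))
      (fun i _ oi hi => by
        have le : centralizer {j} ≤ centralizer {i} := fun g hg =>
          mem_centralizer_singleton_iff.2 (hi g hg)
        obtain ⟨B, hB, iB⟩ := h.ex' (H6.ord2_ne_one oi)
        exact (eq_of_le_of_card_ge le (mx i ⟨oi, B, hB, iB, fun e =>
          hj (h.uniq B hB A hA j (e (le jC)) jA j1 ▸ le.trans e)⟩)).symm) ns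
    obtain ⟨T, hT⟩ := exists_isSylowIn 2 f.ker
    obtain ⟨n, hn⟩ := hT.isPGroup.exists_card_eq
    have h3 := hs f.ker inferInstance (solv_of_card_le_two hT (by
      rw [hn]
      refine Nat.pow_le_pow_right two_pos (show n ≤ 1 from ?_)
      by_contra! k
      exact h1 ((pow_dvd_pow 2 k).trans (hn ▸ card_dvd_of_le hT.le))))
    exact Or.inr (h2.of_equiv (MulEquiv.ofBijective f ⟨(MonoidHom.ker_eq_bot_iff f).1 h3, hf⟩))
  obtain ⟨s, t, os, ot, ne, c⟩ : H1.CIT.Four G := by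
    by_contra h4
    obtain ⟨t, ot⟩ := exists_prime_orderOf_dvd_card' (G := G) 2 (by
      by_contra e
      exact ns (H17.odd_solvable (Nat.not_even_iff_odd.1 fun k => e k.two_dvd)))
    have c : ∀ g, Commute t g := fun g => commutatorElement_eq_one_iff_commute.1
      (mem_bot.1 (hO ▸ H1.CIT.cm_mem_O h4 ot g))
    exact H6.ord2_ne_one ot (mem_bot.1 ((hs (zpowers t) ⟨by
      rintro _ ⟨i, rfl⟩ g
      rw [conj_of_comm ((c g).zpow_left i).symm]; exact ⟨i, rfl⟩⟩ (Dg.solv_zpowers t)).le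
        (mem_zpowers t)))
  have s1 := H6.ord2_ne_one os
  obtain ⟨A, hA, sA⟩ := h.ex' s1
  have k' : ∀ j ∈ A, orderOf j = 2 → ∀ c, Commute c j → c ∈ A := fun j hj oj c hc =>
    k j oj A hA hj (mem_centralizer_singleton_iff.2 hc)
  obtain ⟨P, hP, sP⟩ := exists_isSylowIn_ge (isPGroup_zpowers_of_orderOf_eq os) le_top
  have PA : P ≤ A := by
    obtain ⟨z, -, oz, hz⟩ := GW.Q8.exists_central_inv hP.isPGroup
      fun e => s1 (mem_bot.1 (e.le (sP (mem_zpowers s))))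
    exact fun x hx => k' z (k' s sA os z (hz s (sP (mem_zpowers s))).symm) oz x (hz x hx)
  have two : ∀ X : Subgroup G, IsPGroup 2 X → X ≤ NN(A) → X ≤ A := fun X hX h1 x hx => by
    obtain ⟨g, hg, e⟩ := (hP.of_le (PA.trans (le_NN_self A)) le_top).exists_cj_le hX h1
    simpa [mul_assoc] using conj_mem_of_mem_NN' hg (PA (e (conj_mem_cj hx)))
  have inv : ∀ i ∈ NN(A), orderOf i = 2 → i ∈ A := fun i hi oi =>
    two _ (isPGroup_zpowers_of_orderOf_eq oi) (zpowers_le.2 hi) (mem_zpowers i)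
  have se : IsStronglyEmbedded NN(A) := by
    refine ⟨fun e => s1 (mem_bot.1 ((hn A hA (normal_of_top_le_NN e.ge)).le sA)),
      even_iff_two_dvd.2 (os ▸ NN(A).orderOf_dvd_natCard (le_NN_self A sA)), fun g hg => ?_⟩
    by_contra e
    obtain ⟨i, hi, oi⟩ := exists_orderOf_eq_of_dvd (Nat.not_odd_iff_even.1 e).two_dvd
    refine hg (inv_mem_iff.1 (h.norm hA (inv i hi.1 oi) (H6.ord2_ne_one oi) ?_))
    rw [inv_inv]
    exact inv _ (mem_cj.1 hi.2) (by simpa [oi] using H5.Gd.ord_conj g⁻¹ i)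
  obtain ⟨-, -, u, Q, r, hQ⟩ := H17.Be.se_hom se ⟨s, mem_top s, t, mem_top t, os, ot, ne, c⟩
    (f := MonoidHom.id G) Function.surjective_id (by rw [MonoidHom.ker_id, hO])
  have st : ∀ x : G, x • ((1 : G) : G ⧸ NN(A).map (MonoidHom.id G)) = (1 : G) ↔ x ∈ NN(A) := fun x => by
    rw [← MulAction.mem_stabilizer_iff, MulAction.stabilizer_quotient, map_id]
  have fx : ∀ x ∈ A, x • ((1 : G) : G ⧸ NN(A).map (MonoidHom.id G)) = (1 : G) := fun x hx =>
    (st x).2 (le_NN_self A hx)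
  have QA : Q ≤ A := two Q hQ fun x hx => (st x).1 (r.r1.fix hx)
  have sQ := r.r1.mem_Q_of_sq (fx s sA) (H4.sq_of_ord2 os)
  have Q0 : Q ≠ ⊥ := fun e => s1 (mem_bot.1 (e.le sQ))
  obtain ⟨z, hz, oz, cz⟩ := GW.Q8.exists_central_inv hQ Q0
  refine Or.inl ⟨A, hA, Q, QA, ⟨z, hz, H6.ord2_ne_one oz, cz⟩,
    fun x hx x1 c hc => h.cch r.r1 hQ hA QA fx k' hx x1 hc, fun e => Q0 (hs Q e ?_), s, sQ, t,
    r.r1.mem_Q_of_sq (fx t (k' s sA os t c.symm)) (H4.sq_of_ord2 ot), os, ot, ne⟩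
  have := hQ.isNilpotent
  infer_instance

/-- classification of the finite groups with a partition -/
theorem main [Nontrivial G] : Nonempty (G ≃* Equiv.Perm (Fin 4)) ∨ Hu G ∨ Fk G ∨
    (∃ A ∈ S, ∃ T ≤ A, H8.CCH T) ∨ Dg.Res G := by
  by_cases hn : ∀ A ∈ S, A.Normal → A = ⊥
  swap
  · push Not at hn
    obtain ⟨A, hA, _, h0⟩ := hn
    exact Or.inr ((h.caseA hA h0).imp_right Or.inl)
  by_cases hs : ∀ N : Subgroup G, N.Normal → Group.IsSolvable N → N = ⊥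
  · exact Or.inr (Or.inr (Or.inr (h.caseF hn hs)))
  push Not at hs
  obtain ⟨N, _, h1, h2⟩ := hs
  obtain ⟨V, p, _, h0, -, hp, hc, hV, -, hm⟩ := H1.exists_minimal_normal_elementary N h1 h2
  exact (h.caseB hn hp h0 (isMulCommutative_iff_le_CC.1 hc) hV hm).imp_right (Or.imp_right Or.inl)

end Pf

/-- the largest subgroup all of whose conjugates follow those of `x` through the members of `S` -/
def rf (S : Set (Subgroup G)) (x : G) : Subgroup G where
  carrier := {y | ∀ g, ∀ A ∈ S, g * x * g⁻¹ ∈ A → g * y * g⁻¹ ∈ A}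
  one_mem' := fun g A _ _ => by simp
  mul_mem' := fun ha hb g A hA hx => by simpa [mul_assoc] using A.mul_mem (ha g A hA hx) (hb g A hA hx)
  inv_mem' := fun ha g A hA hx => by simpa [mul_assoc] using A.inv_mem (ha g A hA hx)

theorem pf_of (hS2 : ∃ H ∈ S, ∃ K ∈ S, H ≠ K) (hS1 : ∀ H ∈ S, H ≠ ⊥)
    (h : ∀ g : G, g ≠ 1 → ∃! H : Subgroup G, H ∈ S ∧ g ∈ H) :
    Pf {A | ∃ x, x ≠ 1 ∧ rf S x = A} := by
  have k : ∀ x y, x ≠ 1 → y ≠ 1 → y ∈ rf S x → rf S x = rf S y := fun x y x1 y1 hy => by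
    have : ∀ g, ∀ A ∈ S, g * x * g⁻¹ ∈ A ↔ g * y * g⁻¹ ∈ A := fun g A hA => ⟨hy g A hA, fun e => by
      obtain ⟨B, hB, -⟩ := h (g * x * g⁻¹) (by simpa using x1)
      exact (h (g * y * g⁻¹) (by simpa using y1)).unique ⟨hB.1, hy g B hB.1 hB.2⟩ ⟨hA, e⟩ ▸ hB.2⟩
    exact ext fun z => forall₃_congr fun g A hA => by rw [this g A hA]
  refine ⟨⟨fun x x1 _ => ⟨_, ⟨x, x1, rfl⟩, fun _ _ _ e => e⟩, ?_, ?_⟩, ?_⟩
  · rintro _ ⟨x, x1, rfl⟩ _ ⟨y, y1, rfl⟩ z h1 h2 z1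
    exact (k x z x1 z1 h1).trans (k y z y1 z1 h2).symm
  · rintro _ ⟨x, x1, rfl⟩ g
    refine ⟨g * x * g⁻¹, by simpa using x1, ext fun y => ?_⟩
    rw [mem_cj]
    exact ⟨fun e a A hA hx => by simpa [mul_assoc] using e (a * g⁻¹) A hA (by simpa [mul_assoc] using hx),
      fun e a A hA hx => by simpa [mul_assoc] using e (a * g) A hA (by simpa [mul_assoc] using hx)⟩
  · rintro _ ⟨x, x1, rfl⟩ e
    obtain ⟨B, hB, -⟩ := h x x1
    have t : ∀ A ∈ S, A = B := fun A hA => by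
      obtain ⟨a, ha, a1⟩ := (bot_or_exists_ne_one A).resolve_left (hS1 A hA)
      exact (h a a1).unique ⟨hA, ha⟩
        ⟨hB.1, by simpa using e.ge (mem_top a) 1 B hB.1 (by simpa using hB.2)⟩
    obtain ⟨H, hH, K, hK, ne⟩ := hS2
    exact ne ((t H hH).trans (t K hK).symm)

end H3.Pt
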