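import Cfsg.Agent.H3.R4e
import Cfsg.Agent.S3157

/-! Extensions of 2-groups by `A₅` with sectional 2-rank at most 4. -/

set_option autoImplicit false
set_option linter.unusedSectionVars false
open Subgroup
open scoped IsMulCommutative

namespace Cfsg.Agent.H3.R4

universe u

variable {Y : Type u} {K : Type*} [Group Y] [Finite Y] [Group K] {π : Y →* K}

theorem Hy.exists_ord (h : Hy π) {p : ℕ} (hp : p.Coprime 2) {κ : K} (h1 : κ ^ p = 1) (h2 : κ ≠ 1) :
    ∃ g : Y, g ^ p = 1 ∧ π g ≠ 1 := by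
  obtain ⟨w, rfl⟩ := h.surj κ
  obtain ⟨k, hk⟩ := h.two ⟨w ^ p, by rw [MonoidHom.mem_ker, map_pow, h1]⟩
  refine ⟨w ^ 2 ^ k, by rw [← pow_mul, mul_comm, pow_mul]; exact congrArg Subtype.val hk, fun e => h2 ?_⟩
  rw [map_pow] at e
  exact orderOf_eq_one_iff.1 (Nat.eq_one_of_dvd_coprimes (hp.pow_right k)
    (orderOf_dvd_of_pow_eq_one h1) (orderOf_dvd_of_pow_eq_one e))

/-- the facts used about `A₅` -/
structure K5 (K : Type*) [Group K] : Prop where
  ex2 : ∃ τ u : K, τ * τ = 1 ∧ (τ * (u * τ * u⁻¹)) ^ 5 = 1 ∧ τ * (u * τ * u⁻¹) ≠ 1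
  ex3 : ∃ η : K, η ^ 3 = 1 ∧ η ≠ 1

theorem K5.ex5 (k : K5 K) : ∃ η : K, η ^ 5 = 1 ∧ η ≠ 1 :=
  let ⟨_, _, _, h⟩ := k.ex2; ⟨_, h⟩

theorem fx_small {V : Type*} [CommGroup V] [Finite V] (h2 : ∀ v : V, v * v = 1)
    (hc : Nat.card V ≤ 16) (ρ : Y →* MulAut V) (hρ : ∀ w, ρ w = 1 ↔ π w = 1) {t u : Y}
    (h5 : (π t * (π u * π t * (π u)⁻¹)) ^ 5 = 1) (h1 : π t * (π u * π t * (π u)⁻¹) ≠ 1) :
    Nat.card V = 16 ∧ Nat.card (Fx (ρ t)) ≤ 4 := by
  have := five h2 hc (α := ρ (t * (u * t * u⁻¹))) (by rw [← map_pow, hρ]; simpa using h5)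
    (by rw [Ne, hρ]; simpa using h1)
  refine ⟨this.1, rank_two hc (g := ρ u) ?_⟩
  simpa using this.2

variable [IsSimpleGroup K]

theorem Hy.lemB (h : Hy π) (k : K5 K) (h2F : ∀ x ∈ Sq π.ker, x * x = 1)
    (hcF : centralizer (Sq π.ker : Set Y) = π.ker) : False := by
  obtain ⟨V, _, _, φ, ρ, hφ, hk, h2, hc, hρ, hρ1⟩ := h.frame
  obtain ⟨τ, υ, a1, a2, a3⟩ := k.ex2
  obtain ⟨t0, rfl⟩ := h.surj τ
  obtain ⟨u, rfl⟩ := h.surj υ
  set F := Sq π.ker with hF
  have cz : ∀ x ∈ π.ker, ∀ n ∈ F, n * x = x * n := fun x hx n hn => (hcF.ge hx) n hn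
  have : IsMulCommutative F := ⟨⟨fun a b => Subtype.ext (cz _ (Sq_le _ b.2) _ a.2)⟩⟩
  have h2F' : ∀ v : F, v * v = 1 := fun v => Subtype.ext (h2F _ v.2)
  have hcF' : Nat.card F ≤ 16 := by
    simpa using h.sc.card_le F ⊥ fun y hy => by rw [pow_two]; exact h2F y hy
  obtain ⟨c16, c4⟩ := fx_small h2 hc ρ hρ1 a2 a3
  have ht0 : ρ t0 * ρ t0 = 1 := by rw [← map_mul, hρ1, map_mul, a1]
  have hm : t0 * t0 ∈ π.ker := by rw [MonoidHom.mem_ker, map_mul, a1]
  obtain ⟨t, ht, ht2⟩ : ∃ t, π t = π t0 ∧ t * t ∈ F := by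
    have h6 : (dl (ρ t0)).range = Fx (ρ t0) := by
      apply eq_of_le_of_card_ge (dl_range ht0)
      have := dl_card h2 (ρ t0)
      have h4 := four_le h2 c16 ht0
      rw [le_antisymm c4 h4, c16] at this
      omega
    have : φ ⟨_, hm⟩ ∈ (dl (ρ t0)).range := by
      rw [h6, mem_Fx, ← hρ]
      congr 1
      ext
      simp [mul_assoc]
    obtain ⟨v, hv⟩ := this
    obtain ⟨x, rfl⟩ := hφ v
    refine ⟨x * t0, by rw [map_mul, show π x = 1 from x.2, one_mul], ?_⟩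
    have : φ (x * MulAut.conjNormal t0 x * ⟨_, hm⟩) = 1 := by
      rw [map_mul, map_mul, hρ, ← hv, mul_comm (φ x)]; exact h2 _
    rw [hk] at this
    simpa [mul_assoc] using this
  rw [← ht] at a1 a2 a3
  obtain ⟨d16, d4⟩ := fx_small h2F' hcF' MulAut.conjNormal
    (fun w => by rw [conjNormal_eq_one, hcF]; rfl) a2 a3
  have ht1 : π t ≠ 1 := fun e => a3 (by simp [e])
  let H : Subgroup Y := (centralizer {QuotientGroup.mk' F t}).comap (QuotientGroup.mk' F) ⊓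
    (zpowers (π t)).comap π
  have mH : ∀ y, y ∈ H ↔ y * t * y⁻¹ * t⁻¹ ∈ F ∧ π y ∈ zpowers (π t) := fun y => by
    refine and_congr_left fun _ => ?_
    change QuotientGroup.mk' F y ∈ centralizer _ ↔ _
    rw [mem_centralizer_singleton_iff, ← QuotientGroup.eq_one_iff, ← QuotientGroup.mk'_apply,
      map_mul, map_mul, map_mul, map_inv, map_inv, mul_inv_eq_one, mul_inv_eq_iff_eq_mul]
  have fx : ∀ x : π.ker, ρ t (φ x) = φ x ↔ x * t * (x : Y)⁻¹ * t⁻¹ ∈ F := fun x => by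
    rw [← hρ, eq_comm, ← mul_inv_eq_one, ← map_inv, ← map_mul, hk]
    simp [mul_assoc]
  let W : Subgroup Y := ((Fx (ρ t)).comap φ).map π.ker.subtype
  have c1 : 64 ≤ Nat.card W := by
    rw [card_map_of_injective (subtype_injective _), card_comap_ker φ hφ, card_ker_phi hk, d16]
    have := four_le h2 c16 (t := ρ t) (by rw [← map_mul, hρ1, map_mul, a1])
    omega
  have c2 : W < H := by
    refine lt_of_le_of_ne ?_ fun e => ?_
    · rintro _ ⟨x, hx, rfl⟩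
      exact (mH _).2 ⟨(fx x).1 hx, by
        rw [show π (π.ker.subtype x) = 1 from x.2]; exact one_mem _⟩
    · have : t ∈ W := e ▸ (mH t).2 ⟨by simp, mem_zpowers _⟩
      obtain ⟨x, -, rfl⟩ := this
      exact ht1 x.2
  have c3 := H12.SR.two_le c2
  have c4 := h.sc.card_le H ((Fx (MulAut.conjNormal (H := F) t)).map F.subtype) (by
    intro y hy
    obtain ⟨y1, j, y2⟩ := (mH y).1 hy
    have key : ∀ hy2 : y ^ 2 ∈ F, t * y ^ 2 * t⁻¹ = y ^ 2 →
        y ^ 2 ∈ (Fx (MulAut.conjNormal (H := F) t)).map F.subtype := fun hy2 e =>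
      ⟨⟨_, hy2⟩, Subtype.ext e, rfl⟩
    have : π y = 1 ∨ π y = π t := by
      rw [← y2]
      simp only
      rw [zpow_eq_zpow_emod' j (n := 2) (by rw [pow_two, a1])]
      rcases Int.emod_two_eq_zero_or_one j with e | e
      · left; simp [e]
      · right; simp [e]
    rcases this with e | e
    · refine key (sq_mem e) ?_
      have e1 : t * y * t⁻¹ = (y * t * y⁻¹ * t⁻¹)⁻¹ * y := by group
      rw [← conj_pow, e1, inv_eq_of_mul_eq_one_right (h2F _ y1), pow_two, mul_assoc, ← mul_assoc y,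
        ← cz y e _ y1, mul_assoc _ y y, ← mul_assoc, h2F _ y1, one_mul, pow_two]
    · have hx : y * t⁻¹ ∈ π.ker := by rw [MonoidHom.mem_ker]; simp [e]
      have hy2 : y ^ 2 ∈ F := by
        have e1 := (fx ⟨_, hx⟩).2 (by simpa [mul_assoc] using y1)
        have : φ (⟨_, hx⟩ * MulAut.conjNormal t ⟨_, hx⟩) = 1 := by rw [map_mul, hρ, e1, h2]
        rw [hk] at this
        have := mul_mem this ht2
        simpa [mul_assoc, pow_two] using this
      refine key hy2 ?_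
      have := cz _ hx _ hy2
      calc _ = (y * t⁻¹)⁻¹ * (y ^ 2 * (y * t⁻¹)) := by group
        _ = _ := by rw [this]; group)
  rw [card_map_of_injective (subtype_injective _)] at c4
  omega

theorem Hy.lemC (h : Hy π) (k : K5 K) {N : Subgroup Y} [N.Normal] (hN : N < Sq π.ker)
    (h2N : ∀ x ∈ N, x * x = 1) (hcN : centralizer (N : Set Y) = π.ker)
    (hi : N.relIndex (Sq π.ker) ≤ 2) : False := by
  set F := Sq π.ker with hF
  have cz : ∀ x ∈ π.ker, ∀ n ∈ N, n * x = x * n := fun x hx n hn => (hcN.ge hx) n hn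
  have : IsMulCommutative N := ⟨⟨fun a b => Subtype.ext (cz _ (Sq_le _ (hN.le b.2)) _ a.2)⟩⟩
  have h2N' : ∀ v : N, v * v = 1 := fun v => Subtype.ext (h2N _ v.2)
  have hcN' : Nat.card N ≤ 16 := by
    simpa using h.sc.card_le N ⊥ fun y hy => by rw [pow_two]; exact h2N y hy
  obtain ⟨κ, k1, k2⟩ := k.ex5
  obtain ⟨g, rfl⟩ := h.surj κ
  obtain ⟨c16, hf⟩ := five h2N' hcN' (α := MulAut.conjNormal g)
    (by rw [← map_pow, conjNormal_eq_one, hcN, MonoidHom.mem_ker, map_pow, k1])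
    (by rw [Ne, conjNormal_eq_one, hcN]; exact k2)
  have hi2 : (N.subgroupOf F).index = 2 := by
    have h1 : (N.subgroupOf F).index ≠ 1 := fun e => hN.not_ge (relIndex_eq_one.1 e)
    have h0 : (N.subgroupOf F).index ≠ 0 := index_ne_zero_of_finite
    change (N.subgroupOf F).index ≤ 2 at hi
    omega
  have c1 := h.sc.card_le F ⊥ fun y hy => by
    by_cases hyN : y ∈ N
    · rw [pow_two]; exact h2N y hyN
    have hy' : g * y * g⁻¹ ∈ F := (Sq_normal _).conj_mem y hy g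
    have hy'N : g * y * g⁻¹ ∉ N := fun e => hyN (by
      simpa [mul_assoc] using Normal.conj_mem inferInstance _ e g⁻¹)
    have m1 : y * y ∈ N := (mul_mem_iff_of_index_two hi2 (a := ⟨y, hy⟩) (b := ⟨y, hy⟩)).2 Iff.rfl
    have m2 : y⁻¹ * (g * y * g⁻¹) ∈ N :=
      (mul_mem_iff_of_index_two hi2 (a := ⟨y, hy⟩⁻¹) (b := ⟨_, hy'⟩)).2
        ⟨fun e => absurd (inv_mem_iff.1 e) hyN, fun e => absurd e hy'N⟩
    have : (⟨_, m1⟩ : N) ∈ Fx (MulAut.conjNormal g) := by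
      apply Subtype.ext
      obtain ⟨n, hn⟩ : ∃ n, n = y⁻¹ * (g * y * g⁻¹) := ⟨_, rfl⟩
      have e : g * y * g⁻¹ = y * n := by rw [hn]; group
      rw [← hn] at m2
      change g * (y * y) * g⁻¹ = y * y
      rw [← conj_mul, e, mul_assoc, ← mul_assoc n, cz y (Sq_le _ hy) n m2, mul_assoc, h2N n m2,
        mul_one]
    rw [hf, mem_bot] at this
    rw [pow_two]; exact congrArg Subtype.val this
  have c2 := H12.SR.two_le hN
  simp at c1
  omega

theorem Hy.central (h : Hy π) (k : K5 K) (h4 : Nat.card (Sq π.ker) ≤ 4) :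
    centralizer (Sq π.ker : Set Y) = ⊤ := by
  obtain ⟨V, _, _, φ, ρ, hφ, hk, h2, hc, hρ, hρ1⟩ := h.frame
  set F := Sq π.ker with hF
  obtain ⟨κ, k1, k2⟩ := k.ex5
  obtain ⟨g, g1, g2⟩ := h.exists_ord (by norm_num) k1 k2
  have hg : g ∈ centralizer (F : Set Y) := by
    rw [← conjNormal_eq_one]
    apply Fx_eq_top
    have h1 := modEq_Fx (by norm_num) (α := MulAut.conjNormal (H := F) g) (p := 5)
      (by rw [← map_pow, g1, map_one]) ⊤ fun _ _ => trivial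
    rw [top_inf_eq, card_top] at h1
    rw [← card_eq_iff_eq_top]
    have h3 := card_le_card_group (Fx (MulAut.conjNormal (H := F) g))
    exact (Nat.ModEq.eq_of_lt_of_lt h1 (by omega) (by omega)).symm
  have hFF : F ≤ centralizer (F : Set Y) := by
    obtain ⟨j, hj⟩ := (h.two.to_le (Sq_le _) : IsPGroup 2 F).exists_card_eq
    have : IsMulCommutative F := by
      have hj2 : j ≤ 2 := (Nat.pow_le_pow_iff_right (a := 2) (by norm_num)).1 (hj ▸ h4)
      interval_cases j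
      · rw [pow_zero, card_eq_one] at hj
        rw [hj]; infer_instance
      · have := isCyclic_of_prime_card (p := 2) (hj.trans (pow_one 2))
        infer_instance
      · exact IsPGroup.isMulCommutative_of_card_eq_prime_sq hj
    exact fun x hx y hy => congrArg Subtype.val (mul_comm (⟨y, hy⟩ : F) ⟨x, hx⟩)
  have hf := (five h2 hc (α := ρ g) (by rw [← map_pow, g1, map_one]) (by rwa [Ne, hρ1])).2
  have hs : Function.Surjective (dl (ρ g)) := by
    rw [← Finite.injective_iff_surjective, ← MonoidHom.ker_eq_bot_iff, dl_ker h2, hf]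
  refine (dichot h.surj _ fun x hx => ?_).resolve_right fun e => g2 (e ▸ hg : g ∈ π.ker)
  obtain ⟨v, hv⟩ := hs (φ ⟨x, hx⟩)
  obtain ⟨y, rfl⟩ := hφ v
  have : φ ((MulAut.conjNormal g y * y)⁻¹ * ⟨x, hx⟩) = 1 := by
    rw [map_mul, map_inv, map_mul, hρ, ← hv]; exact inv_mul_cancel _
  rw [hk] at this
  have e : x = g * (y * g⁻¹ * (y : Y)⁻¹) * (y : Y) ^ 2 *
      ((MulAut.conjNormal g y * y)⁻¹ * ⟨x, hx⟩ : π.ker) := by
    simp [pow_two, mul_assoc]
  rw [e]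
  exact mul_mem (mul_mem (mul_mem hg (Normal.conj_mem inferInstance _ (inv_mem hg) _))
    (hFF (sq_mem y.2))) (hFF this)

theorem pow_four_mul {G : Type*} [Group G] {x y : G} (hx : x ^ 2 ∈ center G) (hy : y ^ 2 ∈ center G)
    (hc : y⁻¹ * x⁻¹ * y * x ∈ center G) : (x * y) ^ 4 = x ^ 4 * y ^ 4 := by
  obtain ⟨c, hc'⟩ : ∃ c, c = y⁻¹ * x⁻¹ * y * x := ⟨_, rfl⟩
  rw [← hc'] at hc
  have e : y * x = x * y * c := by rw [hc']; group
  have cc := fun w => mem_center_iff.1 hc w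
  have c2 : c * c = 1 := by
    have h1 := mem_center_iff.1 hx y
    rw [pow_two, ← mul_assoc, e, mul_assoc, ← cc, ← mul_assoc, mul_assoc x y, e] at h1
    have : x * x * y * (c * c) = x * x * y := by
      simp only [mul_assoc] at h1 ⊢
      exact h1
    exact mul_eq_left.1 this
  have e2 : (x * y) ^ 2 = x ^ 2 * y ^ 2 * c := by
    calc _ = x * (y * x) * y := by rw [pow_two]; group
      _ = x * x * y * (c * y) := by rw [e]; group
      _ = _ := by rw [← cc]; simp [pow_two, mul_assoc]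
  have : (x * y) ^ 4 = ((x * y) ^ 2) ^ 2 := by rw [← pow_mul]
  rw [this, e2, (show Commute (x ^ 2 * y ^ 2) c from cc _).mul_pow, pow_two c, c2, mul_one,
    (show Commute (x ^ 2) (y ^ 2) from mem_center_iff.1 hy _).mul_pow, ← pow_mul, ← pow_mul]

theorem Hy.exp_two (h : Hy π) (k : K5 K) (h4 : Nat.card (Sq π.ker) ≤ 4) :
    ∀ x ∈ Sq π.ker, x * x = 1 := by
  have hz := h.central k h4
  obtain ⟨V, _, _, φ, ρ, hφ, hk, h2, hc, hρ, hρ1⟩ := h.frame
  have zc : ∀ x ∈ Sq π.ker, x ∈ center Y := fun x hx => mem_center_iff.2 fun g =>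
    ((hz.ge (mem_top g)) x hx).symm
  have cm : ∀ x ∈ π.ker, ∀ y ∈ π.ker, (x * y) ^ 4 = x ^ 4 * y ^ 4 := fun x hx y hy =>
    pow_four_mul (zc _ (sq_mem hx)) (zc _ (sq_mem hy)) (zc _ (by
      have : φ ((⟨y, hy⟩ : π.ker)⁻¹ * (⟨x, hx⟩ : π.ker)⁻¹ * ⟨y, hy⟩ * ⟨x, hx⟩) = 1 := by simp
      exact (hk _).1 this))
  have p4 : ∀ x ∈ Sq π.ker, x ^ 4 = 1 := fun x hx => by
    obtain ⟨j, hj⟩ := (h.two.to_le (Sq_le _) : IsPGroup 2 (Sq π.ker)).exists_card_eq
    have hj2 : j ≤ 2 := (Nat.pow_le_pow_iff_right (a := 2) (by norm_num)).1 (hj ▸ h4)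
    have h1 : (⟨x, hx⟩ : Sq π.ker) ^ 4 = 1 := orderOf_dvd_iff_pow_eq_one.1
      ((_root_.orderOf_dvd_natCard _).trans (hj ▸ pow_dvd_pow 2 hj2))
    exact congrArg Subtype.val h1
  obtain ⟨κ, k1, k2⟩ := k.ex5
  obtain ⟨g, g1, g2⟩ := h.exists_ord (by norm_num) k1 k2
  have hf := (five h2 hc (α := ρ g) (by rw [← map_pow, g1, map_one]) (by rwa [Ne, hρ1])).2
  have hs : Function.Surjective (dl (ρ g)) := by
    rw [← Finite.injective_iff_surjective, ← MonoidHom.ker_eq_bot_iff, dl_ker h2, hf]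
  have q4 : ∀ x ∈ π.ker, x ^ 4 = 1 := by
    intro x hx
    obtain ⟨v, hv⟩ := hs (φ ⟨x, hx⟩)
    obtain ⟨y, rfl⟩ := hφ v
    have : φ ((MulAut.conjNormal g y * y)⁻¹ * ⟨x, hx⟩) = 1 := by
      rw [map_mul, map_inv, map_mul, hρ, ← hv]; exact inv_mul_cancel _
    rw [hk] at this
    have e : x = g * y * g⁻¹ * y * ((MulAut.conjNormal g y * y)⁻¹ * ⟨x, hx⟩ : π.ker) := by
      simp [mul_assoc]
    have m1 := (MonoidHom.normal_ker π).conj_mem _ y.2 g
    have e4 : (y : Y) ^ 4 = (y ^ 2) ^ 2 := by rw [← pow_mul]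
    rw [e, cm _ (mul_mem m1 y.2) _ (Sq_le _ this), p4 _ this, mul_one, cm _ m1 _ y.2, conj_pow, e4,
      mem_center_iff.1 (pow_mem (zc _ (sq_mem y.2)) 2) g, mul_inv_cancel_right, ← pow_add]
    exact p4 _ (sq_mem y.2)
  intro x hx
  induction hx using closure_induction with
  | mem x hx =>
    obtain ⟨y, hy, rfl⟩ := hx
    rw [← pow_add]; exact q4 y hy
  | one => simp
  | mul x y hx hy ihx ihy =>
    rw [mul_assoc, ← mul_assoc y, mem_center_iff.1 (zc x hx) y, mul_assoc, ihy, mul_one, ihx]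
  | inv x _ ih => rw [← mul_inv_rev, ih, inv_one]

theorem Hy.qm (h : Hy π) (k : K5 K) (h4 : Nat.card (Sq π.ker) ≤ 4) {V : Type*} [CommGroup V]
    [Finite V] {φ : π.ker →* V} {ρ : Y →* MulAut V} (hφ : Function.Surjective φ)
    (hk : ∀ x, φ x = 1 ↔ x.1 ∈ Sq π.ker) (h2 : ∀ v : V, v * v = 1)
    (hρ : ∀ y x, φ (MulAut.conjNormal y x) = ρ y (φ x)) :
    ∃ (s : V → center π.ker) (B : V → V → center π.ker), QM s B ∧ (∀ x, (s (φ x) : π.ker) = x * x) ∧
      (∀ x y, (B (φ x) (φ y) : π.ker) = x * y * x⁻¹ * y⁻¹) ∧ ∀ y v, s (ρ y v) = s v := by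
  have hz := h.central k h4
  obtain ⟨s, B, q, e1, e2⟩ := exists_qm φ hφ h2 (fun x hx => mem_center_iff.2 fun g =>
    Subtype.ext ((hz.ge (mem_top g.1)) x.1 ((hk x).1 hx)).symm)
    fun x hx => Subtype.ext (h.exp_two k h4 _ ((hk x).1 hx))
  refine ⟨s, B, q, e1, e2, fun y v => ?_⟩
  obtain ⟨x, rfl⟩ := hφ v
  apply Subtype.ext
  rw [← hρ, e1, e1, ← map_mul]
  apply Subtype.ext
  have := (hz.ge (mem_top y)) _ (sq_mem x.2)
  simp [← pow_two, ← this]

theorem Hy.lemD (h : Hy π) (k : K5 K) (h4 : Nat.card (Sq π.ker) ≤ 4) :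
    Nat.card (Sq π.ker) ≤ 2 := by
  obtain ⟨V, _, _, φ, ρ, hφ, hk, h2, hc, hρ, hρ1⟩ := h.frame
  obtain ⟨s, B, q, e1, e2, e3⟩ := h.qm k h4 hφ hk h2 hρ
  obtain ⟨κ, k1, k2⟩ := k.ex5
  obtain ⟨g, rfl⟩ := h.surj κ
  obtain ⟨η, n1, n2⟩ := k.ex3
  obtain ⟨y, rfl⟩ := h.surj η
  obtain ⟨c, hc'⟩ := q.sing h2 hc (γ := ρ g) (by rw [← map_pow, hρ1, map_pow, k1]) (by rwa [Ne, hρ1])
    (e3 g) (η := ρ y) (by rw [← map_pow, hρ1, map_pow, n1]) (by rwa [Ne, hρ1]) (e3 y)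
  by_cases h0 : ∃ v, s v = c
  · obtain ⟨v, hv⟩ := h0
    have c2 : c.1.1 ^ 2 = 1 := by
      rw [pow_two, ← hv]; exact congrArg (fun x : center π.ker => x.1.1) (q.s2 v)
    refine le_trans (card_le_of_le (K := zpowers c.1.1) (Sq_le_iff.2 fun x hx => ?_)) ?_
    · have e := congrArg Subtype.val (e1 ⟨x, hx⟩)
      rw [pow_two]
      rcases hc' (φ ⟨x, hx⟩) with e' | e' <;> rw [e'] at e
      · exact (show x * x = 1 from e.symm) ▸ one_mem _
      · exact (show x * x = c.1.1 from e.symm) ▸ mem_zpowers _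
    · rw [Nat.card_zpowers]; exact Nat.le_of_dvd two_pos (orderOf_dvd_of_pow_eq_one c2)
  · have : Sq π.ker ≤ ⊥ := Sq_le_iff.2 fun x hx => by
      have e := congrArg Subtype.val (e1 ⟨x, hx⟩)
      rw [(hc' _).resolve_right fun e => h0 ⟨_, e⟩] at e
      rw [pow_two]; exact e.symm
    rw [le_bot_iff.1 this, card_bot]; omega

theorem sq_le_two (k : K5 K) (n : ℕ) : ∀ (Y : Type u) [Group Y] [Finite Y] (π : Y →* K),
    Nat.card Y = n → Hy π → Nat.card (Sq π.ker) ≤ 2 := by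
  induction n using Nat.strong_induction_on with
  | _ n ih =>
  intro Y _ _ π hn h
  by_cases h0 : Sq π.ker = ⊥
  · rw [h0, card_bot]; omega
  obtain ⟨N, _, n1, n2, n3, n4, n5⟩ := exists_min h.two (Sq_le _) h0
  have h1 := ih _ (by
    rw [← hn, ← N.card_mul_index, ← index_eq_card]
    exact lt_mul_of_one_lt_left (Nat.pos_of_ne_zero index_ne_zero_of_finite)
      (one_lt_card_iff_ne_bot _ |>.2 n1)) _ _ rfl (h.quot N n2)
  rw [ker_lift, ← map_Sq, ← relIndex_ker, QuotientGroup.ker_mk'] at h1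
  rcases dichot h.surj _ n4 with e | e
  · refine h.lemD k ?_
    rw [← (N.subgroupOf (Sq π.ker)).card_mul_index,
      Nat.card_congr (subgroupOfEquivOfLe n2).toEquiv, card_two_of_central n1 n3 e n5]
    change (N.subgroupOf (Sq π.ker)).index ≤ 2 at h1
    omega
  · exfalso
    rcases n2.eq_or_lt with e' | e'
    · subst e'
      exact h.lemB k n3 e
    · exact h.lemC k e' n3 e h1

end Cfsg.Agent.H3.R4
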