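import Cfsg.Agent.H3.R4f

/-! Extensions of 2-groups by `A₅` with sectional 2-rank at most 4: the structure of the kernel. -/

set_option autoImplicit false
set_option linter.unusedSectionVars false
open Subgroup
open scoped IsMulCommutative

namespace Cfsg.Agent.H3.R4

universe u

/-- `E₁₆` or `Q₈ ∗ D₈` -/
def Res (Q : Type*) [Group Q] : Prop :=
  ((∀ a b : Q, a * b = b * a) ∧ (∀ a : Q, a ^ 2 = 1) ∧ Nat.card Q = 16) ∨
  (Nat.card Q = 32 ∧ ∃ A B : Subgroup Q, Nonempty (A ≃* QuaternionGroup 2) ∧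
    Nonempty (B ≃* DihedralGroup 4) ∧ (∀ a ∈ A, ∀ b ∈ B, a * b = b * a) ∧ A ⊔ B = ⊤ ∧
    A ⊓ B = center Q)

theorem Res.equiv {Q Q' : Type*} [Group Q] [Group Q'] (h : Res Q) (e : Q ≃* Q') : Res Q' := by
  rcases h with ⟨h1, h2, h3⟩ | ⟨h1, A, B, ⟨a⟩, ⟨b⟩, h2, h3, h4⟩
  · refine Or.inl ⟨fun a b => e.symm.injective (by rw [map_mul, map_mul, h1]),
      fun a => e.symm.injective (by rw [map_pow, h2, map_one]), by rw [← Nat.card_congr e.toEquiv, h3]⟩
  · refine Or.inr ⟨by rw [← Nat.card_congr e.toEquiv, h1], A.map e.toMonoidHom, B.map e.toMonoidHom,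
      ⟨(e.subgroupMap A).symm.trans a⟩, ⟨(e.subgroupMap B).symm.trans b⟩, ?_, ?_, ?_⟩
    · rintro _ ⟨x, hx, rfl⟩ _ ⟨y, hy, rfl⟩
      rw [← map_mul, h2 x hx y hy, map_mul]
    · rw [← Subgroup.map_sup, h3, map_top_of_surjective _ e.surjective]
    · rw [← map_inf _ _ _ e.injective, h4]
      ext x
      rw [mem_map_equiv, mem_center_iff, mem_center_iff]
      exact ⟨fun h g => e.symm.injective (by rw [map_mul, map_mul, h]),
        fun h g => e.injective (by simpa using h (e g))⟩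

/-- four-group generated by two elements -/
def U4 {V : Type*} [CommGroup V] (h2 : ∀ v : V, v * v = 1) (a b : V) : Subgroup V where
  carrier := {1, a, b, a * b}
  one_mem' := Or.inl rfl
  mul_mem' := by
    have e1 : a * (a * b) = b := by rw [← mul_assoc, h2, one_mul]
    have e2 : b * (a * b) = a := by rw [mul_left_comm, h2, mul_one]
    have e3 : a * b * a = b := by rw [mul_comm, e1]
    have e4 : a * b * b = a := by rw [mul_comm, e2]
    rintro x y (h | h | h | h) (h' | h' | h' | h') <;> rw [h, h'] <;>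
      simp [h2, e1, e2, e3, e4, mul_comm b a]
  inv_mem' := fun {x} hx => by rwa [inv_eq_of_mul_eq_one_right (h2 x)]

theorem card_U4 {V : Type*} [CommGroup V] (h2 : ∀ v : V, v * v = 1) (a b : V) :
    Nat.card (U4 h2 a b) ≤ 4 := by
  classical
  have : Nat.card (U4 h2 a b) = ({1, a, b, a * b} : Finset V).card := by
    rw [← Nat.card_eq_finsetCard]
    exact Nat.card_congr (Equiv.subtypeEquivRight fun x => by
      rw [Finset.mem_insert, Finset.mem_insert, Finset.mem_insert, Finset.mem_singleton]; rfl)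
  rw [this]; exact Finset.card_le_four

variable {Y : Type u} {K : Type*} [Group Y] [Finite Y] [Group K] {π : Y →* K} [IsSimpleGroup K]

theorem Hy.res (h : Hy π) (k : K5 K) : Res π.ker := by
  have hF := sq_le_two k _ Y π rfl h
  obtain ⟨V, _, _, φ, ρ, hφ, hk, h2, hc, hρ, hρ1⟩ := h.frame
  obtain ⟨κ, k1, k2⟩ := k.ex5
  obtain ⟨g, rfl⟩ := h.surj κ
  have g5 : ρ g ^ 5 = 1 := by rw [← map_pow, hρ1, map_pow, k1]
  have g1 : ρ g ≠ 1 := by rwa [Ne, hρ1]
  have c16 := (five h2 hc g5 g1).1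
  have cQ : Nat.card π.ker = Nat.card (Sq π.ker) * 16 := by
    rw [← card_ker_phi hk, ← c16, ← card_top (G := V), ← card_comap_ker φ hφ, comap_top, card_top]
  by_cases h0 : Sq π.ker = ⊥
  · have q2 : ∀ t ∈ π.ker, t ^ 2 = 1 := fun t ht => by rw [← mem_bot, ← h0]; exact sq_mem ht
    exact Or.inl ⟨fun a b => Subtype.ext (H12.SR.comm_of_sq q2 b.2 a a.2),
      fun a => Subtype.ext (q2 _ a.2), by rw [cQ, h0, card_bot]⟩
  have hF2 : Nat.card (Sq π.ker) = 2 := by
    have := (one_lt_card_iff_ne_bot _).2 h0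
    omega
  obtain ⟨s, B, q, e1, e2, e3⟩ := h.qm k (by omega) hφ hk h2 hρ
  have hn : ∃ v, s v ≠ 1 := by
    by_contra hh
    push Not at hh
    refine h0 (le_bot_iff.1 (Sq_le_iff.2 fun x hx => ?_))
    have e := congrArg Subtype.val (e1 ⟨x, hx⟩)
    rw [hh] at e
    rw [pow_two]; exact e.symm
  obtain ⟨v0, hv0⟩ := hn
  have sm : ∀ v, (s v).1.1 ∈ Sq π.ker := fun v => by
    obtain ⟨x, rfl⟩ := hφ v
    rw [e1, coe_mul, ← pow_two]; exact sq_mem x.2
  have hs : ∀ v, s v = 1 ∨ s v = s v0 := fun v => by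
    obtain ⟨w, -, hw⟩ := (Nat.card_eq_two_iff' (1 : Sq π.ker)).1 hF2
    by_cases e : s v = 1
    · exact Or.inl e
    · right
      have a1 := hw ⟨_, sm v⟩ fun e' => e (Subtype.ext (Subtype.ext (Subtype.mk.inj e')))
      have a2 := hw ⟨_, sm v0⟩ fun e' => hv0 (Subtype.ext (Subtype.ext (Subtype.mk.inj e')))
      exact Subtype.ext (Subtype.ext (Subtype.mk.inj (a1.trans a2.symm)))
  obtain ⟨x, x1, s0, b1, b2, b3⟩ := q.exists_sing h2 hc g5 g1 (e3 g) hs ⟨v0, hv0⟩
  have c2 := q.s2 v0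
  generalize s v0 = c at *
  have bs : ∀ v, B v v = 1 := fun v => by
    obtain ⟨y, rfl⟩ := hφ v
    exact Subtype.ext (by rw [e2]; simp)
  have b1' : ∀ v, B 1 v = 1 := fun v => by
    have h1 := q.lin 1 1 v
    rwa [mul_one, left_eq_mul] at h1
  have lin' : ∀ u v w, B u (v * w) = B u v * B u w := fun u v w => by
    rw [q.symm, q.lin, q.symm v, q.symm w]
  have cm : ∀ a b, a * b = b * a ↔ B (φ a) (φ b) = 1 := fun a b => by
    rw [Subtype.ext_iff (a1 := B _ _), e2, coe_one, mul_inv_eq_one, mul_inv_eq_iff_eq_mul]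
  have b12 : B (ρ g x) (ρ g (ρ g x)) = c := by rw [q.inv (e3 g), b1]
  have b13 : B (ρ g x) (ρ g (ρ g (ρ g x))) = c := by rw [q.inv (e3 g), b2]
  have b23 : B (ρ g (ρ g x)) (ρ g (ρ g (ρ g x))) = c := by rw [q.inv (e3 g), b12]
  have s1 : s (ρ g x) = 1 := by rw [e3, s0]
  have s2 : s (ρ g (ρ g x)) = 1 := by rw [e3, s1]
  have s3 : s (ρ g (ρ g (ρ g x))) = 1 := by rw [e3, s2]
  have sp := span4 h2 hc g5 g1 x1
  generalize ρ g (ρ g (ρ g x)) = x3 at *
  generalize ρ g (ρ g x) = x2 at *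
  generalize hx1 : ρ g x = x1 at *
  have b10 := q.symm x1 x ▸ b1
  have b20 := q.symm x2 x ▸ b2
  have b30 := q.symm x3 x ▸ b3
  have b21 := q.symm x2 x1 ▸ b12
  have b31 := q.symm x3 x1 ▸ b13
  have b32 := q.symm x3 x2 ▸ b23
  have hAB : ∀ a ∈ (U4 h2 (x * x1 * x2) (x * x1 * x3)).comap φ, ∀ b ∈ (U4 h2 x x1).comap φ,
      a * b = b * a := by
    intro a ha b hb
    rw [cm]
    rcases ha with e | e | e | e <;> rcases hb with e' | e' | e' | e' <;> rw [e, e'] <;>
      simp [q.lin, lin', b1', q.symm _ 1, bs, b1, b10, b20, b30, b21, b31, c2]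
  have hsup : (U4 h2 (x * x1 * x2) (x * x1 * x3)).comap φ ⊔ (U4 h2 x x1).comap φ = ⊤ := by
    rw [comap_sup_eq _ _ _ hφ, eq_top_iff]
    intro y _
    obtain ⟨a, b, c, d, -, -, -, -, e⟩ := sp (φ y)
    have m0 : x ∈ U4 h2 (x * x1 * x2) (x * x1 * x3) ⊔ U4 h2 x x1 := mem_sup_right (Or.inr (Or.inl rfl))
    have m1 : x1 ∈ U4 h2 (x * x1 * x2) (x * x1 * x3) ⊔ U4 h2 x x1 := 
      mem_sup_right (Or.inr (Or.inr (Or.inl rfl)))
    have m2 : x * x1 * x2 ∈ U4 h2 (x * x1 * x2) (x * x1 * x3) ⊔ U4 h2 x x1 :=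
      mem_sup_left (Or.inr (Or.inl rfl))
    have m3 : x * x1 * x3 ∈ U4 h2 (x * x1 * x2) (x * x1 * x3) ⊔ U4 h2 x x1 :=
      mem_sup_left (Or.inr (Or.inr (Or.inl rfl)))
    rw [mul_mem_cancel_left (mul_mem m0 m1)] at m2 m3
    rw [mem_comap, e]
    exact mul_mem (mul_mem (mul_mem (pow_mem m0 _) (pow_mem m1 _)) (pow_mem m2 _)) (pow_mem m3 _)
  have c8 : ∀ a b, Nat.card ((U4 h2 a b).comap φ) ≤ 8 := fun a b => by
    rw [card_comap_ker φ hφ, card_ker_phi hk, hF2]
    have := card_U4 h2 a b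
    omega
  have sq1 : ∀ a, a * a = 1 ↔ s (φ a) = 1 := fun a => by
    rw [Subtype.ext_iff (a1 := s _), e1, coe_one]
  refine Or.inr ⟨by rw [cQ, hF2], _, _, ?_, ?_, hAB, hsup, le_antisymm ?_ ?_⟩
  · obtain ⟨a, ha⟩ := hφ (x * x1 * x2)
    obtain ⟨b, hb⟩ := hφ (x * x1 * x3)
    refine (S3157.ord8 (h.two.to_subgroup _) (c8 _ _) fun hh => ?_).resolve_left ?_
    · have := congrArg Subtype.val (hh ⟨a, Or.inr (Or.inl ha)⟩ ⟨b, Or.inr (Or.inr (Or.inl hb))⟩)
      simp only [coe_mul] at this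
      rw [cm, ha, hb] at this
      simp [q.lin, lin', bs, b1, b3, b10, b13, b20, b21, b23, c2] at this
      exact hv0 this
    · rintro ⟨e⟩
      have a1 : (e.symm (DihedralGroup.sr 0)).1 * (e.symm (DihedralGroup.sr 0)).1 = 1 := by
        rw [← coe_mul, ← map_mul, show DihedralGroup.sr (0 : ZMod 4) * DihedralGroup.sr 0 = 1 by decide,
          map_one, coe_one]
      have a2 : φ (e.symm (DihedralGroup.sr 0)).1 = 1 := by
        rw [sq1] at a1
        rcases (e.symm (DihedralGroup.sr 0)).2 with e' | e' | e' | e'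
        · exact e'
        all_goals
          rw [e'] at a1
          simp [q.mul, q.lin, lin', bs, s0, s1, s2, s3, b1, b2, b3, b10, b12, b13, b20, b21, b23, c2] at a1
          exact absurd a1 hv0
      have a3 := (cm (e.symm (DihedralGroup.sr 0)).1 (e.symm (DihedralGroup.sr 1)).1).2
        (by rw [a2, b1'])
      rw [← coe_mul, ← coe_mul, ← map_mul, ← map_mul] at a3
      exact absurd (e.symm.injective (Subtype.ext a3)) (by decide)
  · obtain ⟨a, ha⟩ := hφ x
    obtain ⟨b, hb⟩ := hφ x1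
    have nc : (⟨a, Or.inr (Or.inl ha)⟩ : (U4 h2 x x1).comap φ) * ⟨b, Or.inr (Or.inr (Or.inl hb))⟩ ≠
        ⟨b, Or.inr (Or.inr (Or.inl hb))⟩ * ⟨a, Or.inr (Or.inl ha)⟩ := fun hh => by
      have := congrArg Subtype.val hh
      simp only [coe_mul] at this
      rw [cm, ha, hb, b1] at this
      exact hv0 this
    refine (S3157.ord8 (h.two.to_subgroup _) (c8 _ _) fun hh => nc (hh _ _)).resolve_right ?_
    rintro ⟨e⟩
    have : ∀ a b : QuaternionGroup 2, a * a = 1 → a * b = b * a := by decide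
    refine nc (e.injective ?_)
    rw [map_mul, map_mul, this]
    rw [← map_mul, map_eq_one_iff _ e.injective]
    exact Subtype.ext ((sq1 a).2 (by rw [ha, s0]))
  · intro y hy
    rw [mem_center_iff]
    intro w
    have : w ∈ centralizer {y} := by
      refine (sup_le (fun a ha => ?_) fun b hb => ?_ : _ ≤ centralizer {y}) (hsup ▸ mem_top w)
      · rw [mem_centralizer_singleton_iff]; exact hAB a ha y hy.2
      · rw [mem_centralizer_singleton_iff]; exact (hAB y hy.1 b hb).symm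
    exact mem_centralizer_singleton_iff.1 this
  · have := (irr5 h2 hc g5 g1 ((center π.ker).map φ) (by
      rintro _ ⟨z, hz, rfl⟩
      refine ⟨_, mem_center_iff.2 fun w => ?_, hρ g z⟩
      obtain ⟨w, rfl⟩ := (MulAut.conjNormal g).surjective w
      rw [← map_mul, mem_center_iff.1 hz, map_mul])).resolve_right fun e => by
        obtain ⟨z, hz, e'⟩ : x ∈ (center π.ker).map φ := e ▸ mem_top x
        obtain ⟨b, hb⟩ := hφ x1
        have := (cm z b).1 (mem_center_iff.1 hz b).symm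
        rw [e', hb, b1] at this
        exact hv0 this
    intro z hz
    have h1 : φ z = 1 := by rw [← mem_bot, ← this]; exact ⟨z, hz, rfl⟩
    exact ⟨Or.inl h1, Or.inl h1⟩

end Cfsg.Agent.H3.R4
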