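import Cfsg.Agent.H3.R7a
import Cfsg.Agent.H3.R4f

/-! Commutator calculus over a four-group permuted by an element of order three. -/

set_option autoImplicit false
set_option linter.unusedSectionVars false
open Subgroup
open scoped IsMulCommutative

namespace Cfsg.Agent.H3.R4

universe u

section Calc

variable {G : Type*} [Group G]

theorem one_of_three_four {c : G} (h3 : c * c * c = 1) (h4 : c ^ 4 = 1) : c = 1 := by
  rw [pow_succ, pow_three', h3, one_mul] at h4; exact h4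

theorem T3 {u1 u2 u3 x c : G} (h1 : u1 * x * u1⁻¹ = c * x) (h2 : u2 * x * u2⁻¹ = c * x)
    (h3 : u3 * x * u3⁻¹ = c * x) (c1 : u1 * c = c * u1) (c2 : u2 * c = c * u2)
    (hp : u1 * u2 * u3 * x = x * (u1 * u2 * u3)) (h4 : c ^ 4 = 1) : c = 1 := by
  refine one_of_three_four ?_ h4
  have e : u1 * u2 * u3 * x * (u1 * u2 * u3)⁻¹ = c * c * c * x := by
    calc _ = u1 * (u2 * (u3 * x * u3⁻¹) * u2⁻¹) * u1⁻¹ := by group
      _ = u1 * (u2 * c * u2⁻¹ * (u2 * x * u2⁻¹)) * u1⁻¹ := by rw [h3]; group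
      _ = u1 * c * u1⁻¹ * (u1 * c * u1⁻¹) * (u1 * x * u1⁻¹) := by rw [h2, c2]; group
      _ = _ := by rw [h1, c1]; group
  rw [hp, mul_inv_cancel_right] at e
  exact mul_eq_right.1 e.symm

theorem HF {h x c : G} (h3 : h ^ 3 = 1) (h1 : h * x * h⁻¹ = c * x) (c1 : h * c = c * h)
    (h4 : c ^ 4 = 1) : c = 1 :=
  T3 h1 h1 h1 c1 c1 (by rw [← pow_three', h3]; simp) h4

theorem comm_of_conj {a x : G} (h : a * x * a⁻¹ = x) : a * x = x * a := mul_inv_eq_iff_eq_mul.1 h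

theorem sq_closure {M : Subgroup G} {S : Set G} (h1 : ∀ s ∈ S, s ∈ normalizer (M : Set G))
    (h2 : ∀ s ∈ S, s * s ∈ M) (h3 : ∀ s ∈ S, ∀ s' ∈ S, s * s' * s⁻¹ * s'⁻¹ ∈ M) :
    ∀ y ∈ closure S, y ^ 2 ∈ M := by
  let L := normalizer (M : Set G)
  have : (M.subgroupOf L).Normal := normal_in_normalizer
  let q := QuotientGroup.mk' (M.subgroupOf L)
  have key : ∀ x : L, (x : G) ∈ M ↔ q x = 1 := fun x => by
    rw [QuotientGroup.mk'_apply, QuotientGroup.eq_one_iff, mem_subgroupOf]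
  have hle : closure S ≤ L := (closure_le _).2 h1
  have c1 : ∀ s (hs : s ∈ S), ∀ y (hy : y ∈ closure S), Commute (q ⟨s, h1 s hs⟩) (q ⟨y, hle hy⟩) := by
    intro s hs y hy
    induction hy using closure_induction with
    | mem x hx =>
      have := (key (⟨s, h1 s hs⟩ * ⟨x, h1 x hx⟩ * (⟨s, h1 s hs⟩ : L)⁻¹ * (⟨x, h1 x hx⟩ : L)⁻¹)).1
        (h3 s hs x hx)
      rwa [map_mul, map_mul, map_mul, map_inv, map_inv, mul_inv_eq_one, mul_inv_eq_iff_eq_mul] at this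
    | one => exact (map_one q).symm ▸ Commute.one_right _
    | mul x y hx hy ihx ihy => exact (map_mul q ⟨x, hle hx⟩ ⟨y, hle hy⟩).symm ▸ ihx.mul_right ihy
    | inv x hx ih => exact (map_inv q ⟨x, hle hx⟩).symm ▸ ih.inv_right
  have c2 : ∀ x (hx : x ∈ closure S), ∀ y (hy : y ∈ closure S),
      Commute (q ⟨x, hle hx⟩) (q ⟨y, hle hy⟩) := by
    intro x hx y hy
    induction hx using closure_induction with
    | mem x hx => exact c1 x hx y hy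
    | one => exact (map_one q).symm ▸ Commute.one_left _
    | mul x z hx hz ihx ihz => exact (map_mul q ⟨x, hle hx⟩ ⟨z, hle hz⟩).symm ▸ ihx.mul_left ihz
    | inv x hx ih => exact (map_inv q ⟨x, hle hx⟩).symm ▸ ih.inv_left
  intro y hy
  refine (key (⟨y, hle hy⟩ ^ 2)).2 ?_
  rw [map_pow]
  induction hy using closure_induction with
  | mem x hx => rw [pow_two, ← map_mul]; exact (key _).1 (h2 x hx)
  | one => exact (map_one q).symm ▸ one_pow 2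
  | mul x z hx hz ihx ihz =>
    have := (c2 x hx z hz).mul_pow 2
    rw [ihx, ihz, mul_one, ← map_mul] at this
    exact this
  | inv x hx ih =>
    have := map_inv q ⟨x, hle hx⟩
    rw [show (⟨x⁻¹, hle (inv_mem hx)⟩ : L) = (⟨x, hle hx⟩ : L)⁻¹ from rfl, this, inv_pow, ih, inv_one]

theorem card4 [Finite G] {K : Type*} [Group K] (f : G →* K) {A : Subgroup G} (hA : A ≤ f.ker)
    {t1 t2 : G} (h1 : f t1 ≠ 1) (h2 : f t2 ≠ 1) (h3 : f t2 ≠ f t1) (h4 : f t1 * f t1 = 1) :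
    4 * Nat.card A ≤ Nat.card (closure ((A : Set G) ∪ {t1, t2})) := by
  have a1 : A < A ⊔ zpowers t1 := lt_of_le_of_ne le_sup_left fun e =>
    h1 (hA (e ▸ mem_sup_right (mem_zpowers t1)))
  have a2 : A ⊔ zpowers t1 < closure ((A : Set G) ∪ {t1, t2}) := by
    refine lt_of_le_of_ne (sup_le (fun x hx => subset_closure (Or.inl hx))
      (zpowers_le_of_mem (subset_closure (Or.inr (Or.inl rfl))))) fun e => ?_
    have : t2 ∈ A ⊔ zpowers t1 := e ▸ subset_closure (Or.inr (Or.inr rfl))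
    have h5 : A ⊔ zpowers t1 ≤ (zpowers (f t1)).comap f :=
      sup_le (hA.trans (ker_le_comap _ _)) (zpowers_le_of_mem (mem_zpowers _))
    obtain ⟨j, hj⟩ := h5 this
    simp only at hj
    rw [zpow_eq_zpow_emod' j (n := 2) (by rw [pow_two, h4])] at hj
    rcases Int.emod_two_eq_zero_or_one j with e | e
    · exact h2 (by simpa [e] using hj.symm)
    · exact h3 (by simpa [e] using hj.symm)
  have b1 := H12.SR.two_le a1
  have b2 := H12.SR.two_le a2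
  omega

theorem comm_sq_left {a b c : G} (hc : a * b * a⁻¹ * b⁻¹ = c) (h : a * c = c * a) :
    a * a * b * (a * a)⁻¹ * b⁻¹ = c * c := by
  calc _ = a * (a * b * a⁻¹ * b⁻¹) * (b * a⁻¹ * b⁻¹) := by group
    _ = c * (a * b * a⁻¹ * b⁻¹) := by
      nth_rewrite 1 [hc]
      rw [h]; group
    _ = _ := by rw [hc]

theorem ab_mod {N0 Q : Subgroup G} {h t1 t2 t3 : G} (e2 : t2 = h * t1 * h⁻¹) (e3 : t3 = h * t2 * h⁻¹)
    (h3 : h ^ 3 = 1) (z1 : ∀ n ∈ N0, t1 * n = n * t1)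
    (c1 : ∀ x ∈ Q, t1 * x * t1⁻¹ * x⁻¹ ∈ N0) (c2 : ∀ x ∈ Q, t2 * x * t2⁻¹ * x⁻¹ ∈ N0)
    (z2 : ∀ n ∈ N0, t2 * n = n * t2)
    (fpf : ∀ x ∈ Q, h * x * h⁻¹ * x⁻¹ ∈ N0 → x ∈ N0)
    (hp : t1 * t2 * t3 ∈ Q) (hc : t1 * t2 * t1⁻¹ * t2⁻¹ ∈ Q) :
    t1 * t2 * t1⁻¹ * t2⁻¹ ∈ N0 ∧ t1 * t2 * t3 ∈ N0 := by
  have e1 : h * t3 * h⁻¹ = t1 := by
    rw [e3, e2]
    calc _ = h ^ 3 * t1 * (h ^ 3)⁻¹ := by simp only [pow_three]; group
      _ = _ := by rw [h3]; simp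
  have cj : ∀ (t x : G), (∀ n ∈ N0, t * n = n * t) → t * x * t⁻¹ * x⁻¹ ∈ N0 →
      ∃ d ∈ N0, t⁻¹ * x * t = d * x := fun t x z hx => by
    refine ⟨(t * x * t⁻¹ * x⁻¹)⁻¹, inv_mem hx, ?_⟩
    have := z _ (inv_mem hx)
    calc _ = t⁻¹ * ((t * x * t⁻¹ * x⁻¹)⁻¹ * t) * (x * t⁻¹ * t) := by group
      _ = _ := by rw [← this]; group
  obtain ⟨p, hp'⟩ : ∃ p, p = t1 * t2 * t3 := ⟨_, rfl⟩
  obtain ⟨c, hc'⟩ : ∃ c, c = t1 * t2 * t1⁻¹ * t2⁻¹ := ⟨_, rfl⟩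
  rw [← hp'] at hp ⊢
  rw [← hc'] at hc ⊢
  constructor
  · apply fpf c hc
    obtain ⟨d, hd⟩ : ∃ d, d = t2 * p * t2⁻¹ * p⁻¹ := ⟨_, rfl⟩
    have hdN : d ∈ N0 := hd ▸ c2 p hp
    obtain ⟨d1, hd1, ed1⟩ := cj t2 c z2 (c2 c hc)
    obtain ⟨d2, hd2, ed2⟩ := cj t1 c z1 (c1 c hc)
    have a : h * c * h⁻¹ = t2 * t3 * t2⁻¹ * t3⁻¹ := by rw [hc', e3, e2]; group
    have b : t3 = t2⁻¹ * t1⁻¹ * p := by rw [hp']; group
    have : h * c * h⁻¹ * c⁻¹ = d * d1 * d2 := by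
      have m : ∀ {t n : G}, t * n = n * t → t⁻¹ * n = n * t⁻¹ := fun h =>
        (show Commute _ _ from h).inv_left.eq
      calc _ = t1⁻¹ * (t2⁻¹ * d) * t1 * t2 * c⁻¹ := by rw [a, b, hd]; group
        _ = (t1⁻¹ * d) * t2⁻¹ * t1 * t2 * c⁻¹ := by rw [m (z2 d hdN)]; group
        _ = d * t1⁻¹ * (t2⁻¹ * c * t2) * t1 * c⁻¹ := by rw [m (z1 d hdN), hc']; group
        _ = d * (t1⁻¹ * d1) * c * t1 * c⁻¹ := by rw [ed1]; group
        _ = d * d1 * (t1⁻¹ * c * t1) * c⁻¹ := by rw [m (z1 d1 hd1)]; group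
        _ = _ := by rw [ed2]; group
    rw [this]; exact mul_mem (mul_mem hdN hd1) hd2
  · apply fpf p hp
    obtain ⟨d, hd, ed⟩ := cj t1 p z1 (c1 p hp)
    have : h * p * h⁻¹ = t1⁻¹ * p * t1 := by
      rw [hp']
      calc _ = (h * t1 * h⁻¹) * (h * t2 * h⁻¹) * (h * t3 * h⁻¹) := by group
        _ = _ := by rw [← e2, ← e3, e1]; group
    rw [this, ed]; simpa using hd

theorem ZZ {h t1 t2 t3 : G} (e2 : t2 = h * t1 * h⁻¹) (e3 : t3 = h * t2 * h⁻¹) {N0 : Subgroup G}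
    (z0 : ∀ n ∈ N0, h * n = n * h) (z1 : ∀ n ∈ N0, t1 * n = n * t1)
    (za : ∀ n ∈ N0, ∀ m ∈ N0, n * m = m * n)
    (x4 : ∀ n ∈ N0, n ^ 4 = 1) (hu : t1 * t1 ∈ N0) (hc : t1 * t2 * t1⁻¹ * t2⁻¹ ∈ N0)
    (hp : t1 * t2 * t3 ∈ N0) :
    t1 ^ 4 = 1 ∧ (t1 * t2 * t1⁻¹ * t2⁻¹) * (t1 * t2 * t1⁻¹ * t2⁻¹) = 1 := by
  have cj : ∀ t, (∀ n ∈ N0, t * n = n * t) → ∀ n ∈ N0, h * t * h⁻¹ * n = n * (h * t * h⁻¹) :=
    fun t z n hn => ((show Commute h n from z0 n hn).mul_left (z n hn)).mul_left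
      (show Commute h n from z0 n hn).inv_left
  have z2 : ∀ n ∈ N0, t2 * n = n * t2 := e2 ▸ cj t1 z1
  have z3 : ∀ n ∈ N0, t3 * n = n * t3 := e3 ▸ cj t2 z2
  obtain ⟨u, hu'⟩ : ∃ u, u = t1 * t1 := ⟨_, rfl⟩
  obtain ⟨p, hp'⟩ : ∃ p, p = t1 * t2 * t3 := ⟨_, rfl⟩
  obtain ⟨c, hc'⟩ : ∃ c, c = t1 * t2 * t1⁻¹ * t2⁻¹ := ⟨_, rfl⟩
  rw [← hp'] at hp
  rw [← hc'] at hc ⊢
  rw [← hu'] at hu
  have u2 : t2 * t2 = u := by rw [e2, conj_mul, ← hu', z0 u hu]; group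
  have u3 : t3 * t3 = u := by rw [e3, conj_mul, u2, z0 u hu]; group
  have c2 : c * c = 1 := by
    rw [← comm_sq_left hc'.symm (z1 c hc), ← hu', ← z2 u hu]; group
  refine ⟨?_, c2⟩
  have a1 : t1 * t2 * (t1 * t2) = c * u * u := by
    calc _ = c * (t2 * (t1 * t1)) * t2 := by rw [hc']; group
      _ = c * u * (t2 * t2) := by rw [← hu', z2 u hu]; group
      _ = _ := by rw [u2]
  have a2 : t1 * t2 * (t1 * t2) = p * p * u⁻¹ := by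
    have : t1 * t2 = p * t3⁻¹ := by rw [hp']; group
    rw [this, ← u3, mul_assoc, ← mul_assoc t3⁻¹, (show Commute t3 p from z3 p hp).inv_left.eq]
    group
  have a3 : c * (u * u * u) = p * p := by
    rw [← mul_assoc, ← mul_assoc, ← a1, a2]; group
  have a4 : (u * u * u) ^ 2 = 1 := by
    have : (c * (u * u * u)) ^ 2 = 1 := by rw [a3, ← pow_two, ← pow_mul]; exact x4 p hp
    rwa [(show Commute c (u * u * u) from za c hc _ (mul_mem (mul_mem hu hu) hu)).mul_pow, pow_two c,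
      c2, one_mul] at this
  have a5 : u ^ 2 = 1 := by
    have := x4 u hu
    rw [← pow_three', ← pow_mul, show 3 * 2 = 4 + 2 from rfl, pow_add, this, one_mul] at a4
    exact a4
  rw [show 4 = 2 * 2 from rfl, pow_mul, pow_two t1, ← hu', a5]

theorem DZa {h t : G} {Q : Subgroup G} (h3 : h ^ 3 = 1)
    (ab : ∀ x ∈ Q, ∀ y ∈ Q, x * y = y * x) (x4 : ∀ x ∈ Q, x ^ 4 = 1)
    (b : ∀ x ∈ Q, t * x * t⁻¹ * x⁻¹ ∈ Q ∧ h * (t * x * t⁻¹ * x⁻¹) = t * x * t⁻¹ * x⁻¹ * h)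
    (hu : t * t ∈ Q) (hp : t * (h * t * h⁻¹) * (h * (h * t * h⁻¹) * h⁻¹) ∈ Q) :
    ∀ x ∈ Q, h * x = x * h → t * x = x * t := by
  have cj : ∀ t x c : G, h * x = x * h → h * c = c * h → t * x * t⁻¹ = c * x →
      h * t * h⁻¹ * x * (h * t * h⁻¹)⁻¹ = c * x := fun t x c hx hc e => by
    calc _ = h * (t * (h⁻¹ * x * h) * t⁻¹) * h⁻¹ := by group
      _ = h * c * x * h⁻¹ := by rw [mul_assoc h⁻¹, ← hx, inv_mul_cancel_left, e]; group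
      _ = _ := by rw [hc, mul_assoc c, hx]; group
  -- `t` acts on the centralizer of `h` as an automorphism of order dividing 2 and 3
  have st : ∀ x ∈ Q, h * x = x * h → t * x * t⁻¹ ∈ Q ∧ h * (t * x * t⁻¹) = t * x * t⁻¹ * h ∧
      h * t * h⁻¹ * x * (h * t * h⁻¹)⁻¹ = t * x * t⁻¹ ∧
      h * (h * t * h⁻¹) * h⁻¹ * x * (h * (h * t * h⁻¹) * h⁻¹)⁻¹ = t * x * t⁻¹ := fun x hx hh => by
    obtain ⟨b1, b2⟩ := b x hx
    have e : t * x * t⁻¹ = t * x * t⁻¹ * x⁻¹ * x := by group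
    refine ⟨e ▸ mul_mem b1 hx, ?_, ?_, ?_⟩
    · rw [e]; exact (show Commute h _ from b2).mul_right hh
    · exact (cj t x _ hh b2 e).trans e.symm
    · exact (cj _ x _ hh b2 (cj t x _ hh b2 e)).trans e.symm
  intro x hx hh
  obtain ⟨a1, a2, -, a4⟩ := st x hx hh
  obtain ⟨-, -, b3, -⟩ := st _ a1 a2
  have e1 : t * (t * x * t⁻¹) * t⁻¹ = x := by
    calc _ = t * t * x * (t * t)⁻¹ := by group
      _ = _ := by rw [ab _ hu x hx]; group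
  have e2 := ab _ hp x hx
  apply comm_of_conj
  calc t * x * t⁻¹ = t * (h * t * h⁻¹ * (h * (h * t * h⁻¹) * h⁻¹ * x * (h * (h * t * h⁻¹) * h⁻¹)⁻¹) *
      (h * t * h⁻¹)⁻¹) * t⁻¹ := by rw [a4, b3, e1]
    _ = t * (h * t * h⁻¹) * (h * (h * t * h⁻¹) * h⁻¹) * x *
      (t * (h * t * h⁻¹) * (h * (h * t * h⁻¹) * h⁻¹))⁻¹ := by group
    _ = _ := by rw [e2]; group

theorem DZ {h t : G} {Q : Subgroup G} (h3 : h ^ 3 = 1)
    (ab : ∀ x ∈ Q, ∀ y ∈ Q, x * y = y * x) (x4 : ∀ x ∈ Q, x ^ 4 = 1)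
    (nh : ∀ x ∈ Q, h * x * h⁻¹ ∈ Q)
    (b : ∀ x ∈ Q, t * x * t⁻¹ * x⁻¹ ∈ Q ∧ h * (t * x * t⁻¹ * x⁻¹) = t * x * t⁻¹ * x⁻¹ * h)
    (hu : t * t ∈ Q) (hp : t * (h * t * h⁻¹) * (h * (h * t * h⁻¹) * h⁻¹) ∈ Q)
    (hc : t * (h * t * h⁻¹) * t⁻¹ * (h * t * h⁻¹)⁻¹ ∈ Q)
    (d : ∀ x ∈ Q, h * x ≠ x * h → t * x = x * t → ∀ z ∈ Q,
      h * t * h⁻¹ * x * (h * t * h⁻¹)⁻¹ * x⁻¹ ≠ z * z) :
    h * (t * t) = t * t * h ∧ t ^ 4 = 1 ∧
    h * (t * (h * t * h⁻¹) * t⁻¹ * (h * t * h⁻¹)⁻¹) = t * (h * t * h⁻¹) * t⁻¹ * (h * t * h⁻¹)⁻¹ * h ∧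
    (t * (h * t * h⁻¹) * t⁻¹ * (h * t * h⁻¹)⁻¹) * (t * (h * t * h⁻¹) * t⁻¹ * (h * t * h⁻¹)⁻¹) = 1 := by
  let N0 : Subgroup G := Q ⊓ centralizer {h}
  have mN : ∀ x, x ∈ N0 ↔ x ∈ Q ∧ h * x = x * h := fun x =>
    and_congr_right fun _ => mem_centralizer_singleton_iff.trans eq_comm
  have z1 : ∀ n ∈ N0, t * n = n * t := fun n hn =>
    DZa h3 ab x4 b hu hp n ((mN n).1 hn).1 ((mN n).1 hn).2
  have z2 : ∀ n ∈ N0, h * t * h⁻¹ * n = n * (h * t * h⁻¹) := fun n hn =>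
    ((show Commute h n from ((mN n).1 hn).2).mul_left (z1 n hn)).mul_left
      (show Commute h n from ((mN n).1 hn).2).inv_left
  have nh' : ∀ x ∈ Q, h⁻¹ * x * h ∈ Q := fun x hx => by
    have : h⁻¹ = h * h := by rw [inv_eq_iff_mul_eq_one, ← pow_three, h3]
    have e : h⁻¹ * x * h = h * (h * x * h⁻¹) * h⁻¹ := by
      have e2 : h = h⁻¹ * h⁻¹ := by rw [← mul_inv_rev, ← this, inv_inv]
      calc _ = (h * h) * x * (h⁻¹ * h⁻¹) := by rw [← this, ← e2]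
        _ = _ := by group
    rw [e]; exact nh _ (nh x hx)
  obtain ⟨k1, k2⟩ := ab_mod (N0 := N0) (Q := Q) rfl rfl h3 z1 (fun x hx => (mN _).2 (b x hx))
    (fun x hx => by
      obtain ⟨b1, b2⟩ := b _ (nh' x hx)
      have : h * t * h⁻¹ * x * (h * t * h⁻¹)⁻¹ * x⁻¹ =
          t * (h⁻¹ * x * h) * t⁻¹ * (h⁻¹ * x * h)⁻¹ := by
        rw [← mul_inv_eq_iff_eq_mul] at b2
        rw [← b2]; group
      rw [this]; exact (mN _).2 ⟨b1, b2⟩) z2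
    (fun x hx hd => (mN x).2 ⟨hx, by
      have := HF h3 (x := x) (c := h * x * h⁻¹ * x⁻¹) (by group) ((mN _).1 hd).2 (x4 _ hd.1)
      rwa [mul_inv_eq_one, mul_inv_eq_iff_eq_mul] at this⟩) hp hc
  have k3 : t * t ∈ N0 := (mN _).2 ⟨hu, by
    by_contra hh
    refine d _ hu hh (mul_assoc _ _ _).symm _ (inv_mem k1.1) ?_
    have e := comm_sq_left rfl (z1 _ k1)
    rw [← mul_inv_rev, ← e]; simp [mul_assoc]⟩
  obtain ⟨k4, k5⟩ := ZZ (N0 := N0) rfl rfl (fun n hn => ((mN n).1 hn).2) z1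
    (fun n hn m hm => ab n hn.1 m hm.1) (fun n hn => x4 n hn.1) k3 k1 k2
  exact ⟨((mN _).1 k3).2, k4, ((mN _).1 k1).2, k5⟩

end Calc

variable {Y : Type u} {K : Type*} [Group Y] [Finite Y] [Group K] {π : Y →* K}

theorem section_frame [IsSimpleGroup K] (hπ : Function.Surjective π) {A Ω : Subgroup Y} [A.Normal]
    [Ω.Normal] (h2 : ∀ a ∈ A, a * a ∈ Ω) (hQ : ∀ q ∈ π.ker, ∀ a ∈ A, q * a * q⁻¹ * a⁻¹ ∈ Ω)
    (hA : A ≤ π.ker) (nc : ¬ ∀ y, ∀ a ∈ A, y * a * y⁻¹ * a⁻¹ ∈ Ω) :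
    ∃ (W : Type u) (_ : CommGroup W) (_ : Finite W) (φ : A →* W) (ρ : Y →* MulAut W),
      Function.Surjective φ ∧ (∀ x, φ x = 1 ↔ x.1 ∈ Ω) ∧ (∀ v : W, v * v = 1) ∧
      Nat.card W = Ω.relIndex A ∧ (∀ y x, φ (MulAut.conjNormal y x) = ρ y (φ x)) ∧
      ∀ w, ρ w = 1 ↔ π w = 1 := by
  let q := QuotientGroup.mk' Ω
  have : (A.map q).Normal := Normal.map inferInstance q (QuotientGroup.mk'_surjective Ω)
  have key : ∀ y, q y ∈ centralizer (A.map q : Set (Y ⧸ Ω)) ↔ ∀ a ∈ A, y * a * y⁻¹ * a⁻¹ ∈ Ω := by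
    intro y
    have e : ∀ a, y * a * y⁻¹ * a⁻¹ ∈ Ω ↔ q a * q y = q y * q a := fun a => by
      rw [← QuotientGroup.eq_one_iff, ← QuotientGroup.mk'_apply, map_mul, map_mul, map_mul, map_inv,
        map_inv, mul_inv_eq_one, mul_inv_eq_iff_eq_mul, eq_comm]
    exact ⟨fun h a ha => (e a).2 (h _ ⟨a, ha, rfl⟩), by rintro h _ ⟨a, ha, rfl⟩; exact (e a).1 (h a ha)⟩
  have : IsMulCommutative (A.map q) := ⟨⟨by
    rintro ⟨a, ha⟩ ⟨_, b, hb, rfl⟩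
    exact Subtype.ext ((key b).2 (hQ b (hA hb)) a ha)⟩⟩
  let φ : A →* A.map q := (q.comp A.subtype).codRestrict _ fun x => ⟨x, x.2, rfl⟩
  refine ⟨A.map q, inferInstance, inferInstance, φ, MulAut.conjNormal.comp q,
    ?_, fun x => ?_, ?_, ?_, fun y x => rfl, fun w => ?_⟩
  · rintro ⟨_, x, hx, rfl⟩
    exact ⟨⟨x, hx⟩, rfl⟩
  · rw [← QuotientGroup.eq_one_iff, Subtype.ext_iff]; rfl
  · rintro ⟨_, x, hx, rfl⟩
    exact Subtype.ext ((QuotientGroup.eq_one_iff (x * x)).2 (h2 x hx))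
  · rw [← relIndex_ker, QuotientGroup.ker_mk']
  · rw [MonoidHom.comp_apply, conjNormal_eq_one]
    rcases dichot hπ ((centralizer (A.map q : Set (Y ⧸ Ω))).comap q)
      (fun y hy => (key y).2 (hQ y hy)) with e1 | e1
    · exact absurd (fun y => (key y).1 (e1.ge (mem_top y))) nc
    · rw [← mem_comap, e1]; rfl

end Cfsg.Agent.H3.R4
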