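import Cfsg.Agent.H3.R7b

/-! Frames for three-dimensional sections of extensions by `L₃(2)`. -/

set_option autoImplicit false
set_option linter.unusedSectionVars false
open Subgroup
open scoped IsMulCommutative

namespace Cfsg.Agent.H3.R4

universe u

/-- the standard elementary abelian group of order 8 -/
abbrev C3 := Fin 3 → Multiplicative (ZMod 2)

theorem c3_two : ∀ v : C3, v * v = 1 := by decide

theorem c3_inv (v : C3) : v⁻¹ = v := inv_eq_of_mul_eq_one_right (c3_two v)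

variable {Y : Type u} {K : Type*} [Group Y] [Finite Y] [Group K] {π : Y →* K}

/-- coordinates on the section `A/Ω` -/
structure Fr (π : Y →* K) (A Ω : Subgroup Y) (ψ : Y → C3) (ρ : Y →* MulAut C3) : Prop where
  mul : ∀ x ∈ A, ∀ y ∈ A, ψ (x * y) = ψ x * ψ y
  inv : ∀ x ∈ A, ψ x⁻¹ = ψ x
  cj : ∀ y, ∀ x ∈ A, ψ (y * x * y⁻¹) = ρ y (ψ x)
  ker : ∀ x ∈ A, ψ x = 1 ↔ x ∈ Ω
  surj : ∀ v, ∃ x ∈ A, ψ x = v
  rk : ∀ w, ρ w = 1 ↔ π w = 1
  rs : Function.Surjective ρ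

theorem exists_fr [IsSimpleGroup K] (hπ : Function.Surjective π) (hK : Nat.card K = 168)
    {A Ω : Subgroup Y} [A.Normal] [Ω.Normal] (h2 : ∀ a ∈ A, a * a ∈ Ω)
    (hQ : ∀ q ∈ π.ker, ∀ a ∈ A, q * a * q⁻¹ * a⁻¹ ∈ Ω)
    (hA : A ≤ π.ker) (nc : ¬ ∀ y, ∀ a ∈ A, y * a * y⁻¹ * a⁻¹ ∈ Ω) (h8 : Ω.relIndex A = 8) :
    ∃ ψ ρ, Fr π A Ω ψ ρ := by
  classical
  obtain ⟨W, _, _, φ, ρ, a1, a2, a3, a4, a5, a6⟩ := section_frame hπ h2 hQ hA nc
  obtain ⟨e⟩ := coord3 a3 (a4.trans h8)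
  let ψ : Y → C3 := fun y => if h : y ∈ A then e (φ ⟨y, h⟩) else 1
  have hψ : ∀ y (h : y ∈ A), ψ y = e (φ ⟨y, h⟩) := fun y h => dif_pos h
  let ρ' : Y →* MulAut C3 := (MulAut.congr e).toMonoidHom.comp ρ
  have rk : ∀ w, ρ' w = 1 ↔ π w = 1 := fun w => by
    rw [← a6]; exact map_eq_one_iff _ (MulAut.congr e).injective
  refine ⟨ψ, ρ', fun x hx y hy => ?_, fun x hx => ?_, fun y x hx => ?_, fun x hx => ?_, fun v => ?_,
    rk, ?_⟩
  · rw [hψ _ (mul_mem hx hy), hψ x hx, hψ y hy, ← map_mul, ← map_mul]; rfl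
  · rw [hψ _ (inv_mem hx), hψ x hx, ← c3_inv (e (φ ⟨x, hx⟩)), ← map_inv, ← map_inv]; rfl
  · rw [hψ _ (Normal.conj_mem inferInstance x hx y), hψ x hx]
    have := congrArg e (a5 y ⟨x, hx⟩)
    refine this.trans ?_
    simp [ρ']
  · rw [hψ x hx, map_eq_one_iff _ e.injective, a2]
  · obtain ⟨x, hx⟩ := a1 (e.symm v)
    exact ⟨x, x.2, by rw [hψ _ x.2, hx]; simp⟩
  · rw [← MonoidHom.range_eq_top, ← card_eq_iff_eq_top]
    have h1 : ρ'.ker = π.ker := by ext w; exact rk w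
    have h3 : Nat.card ρ'.range = 168 := by
      rw [← index_ker, h1, index_ker, MonoidHom.range_eq_top.2 hπ, card_top, hK]
    have : Nat.card (MulAut C3) ≤ 168 := card_aut3
    have h4 := card_le_card_group ρ'.range
    omega

/-- the three relations of a lifted four-group modulo `A` -/
def Tr (A : Subgroup Y) (h t : Y) : Prop :=
  t * t ∈ A ∧ t * (h * t * h⁻¹) * (h * (h * t * h⁻¹) * h⁻¹) ∈ A ∧
    t * (h * t * h⁻¹) * t⁻¹ * (h * t * h⁻¹)⁻¹ ∈ A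

theorem tr_iff {G : Type*} [Group G] (q : Y →* G) {h t : Y} : Tr q.ker h t ↔
    q t * q t = 1 ∧ q t * (q h * q t * (q h)⁻¹) * (q h * (q h * q t * (q h)⁻¹) * (q h)⁻¹) = 1 ∧
      q t * (q h * q t * (q h)⁻¹) * (q t)⁻¹ * (q h * q t * (q h)⁻¹)⁻¹ = 1 := by
  simp only [Tr, MonoidHom.mem_ker, map_mul, map_inv]

theorem Tr.mul {A : Subgroup Y} [A.Normal] {h t a : Y} (H : Tr A h t) (ha : a ∈ A) : Tr A h (a * t) := by
  rw [← QuotientGroup.ker_mk' A, tr_iff] at H ⊢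
  rwa [map_mul, show QuotientGroup.mk' A a = 1 from (QuotientGroup.eq_one_iff a).2 ha, one_mul]

theorem Tr.adjust {A Q : Subgroup Y} [A.Normal] [Q.Normal] {h t : Y} (H : Tr Q h t)
    (hi : ∀ x ∈ Q, ∀ y ∈ Q, x ∉ A → y ∉ A → x * y ∈ A) (ht : t * t ∈ A) :
    ∃ y ∈ Q, Tr A h (y * t) := by
  let q := QuotientGroup.mk' A
  have m : ∀ x, q x = 1 ↔ x ∈ A := fun x => QuotientGroup.eq_one_iff x
  have s2 : ∀ y ∈ Q, q y * q y = 1 := fun y hy => by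
    rw [← map_mul, m]
    by_cases e : y ∈ A
    · exact mul_mem e e
    · exact hi y hy y hy e e
  have cz : ∀ y ∈ Q, ∀ u, q u * q y * (q u)⁻¹ = q y := fun y hy u => by
    rw [← mul_inv_eq_one, ← map_inv, ← map_inv, ← map_mul, ← map_mul, ← map_mul, m]
    by_cases e : y ∈ A
    · exact mul_mem (Normal.conj_mem inferInstance y e u) (inv_mem e)
    · refine hi _ (Normal.conj_mem inferInstance y hy u) _ (inv_mem hy) (fun e' => e ?_)
        (by rwa [inv_mem_iff])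
      simpa [mul_assoc] using Normal.conj_mem inferInstance _ e' u⁻¹
  have sq : ∀ y ∈ Q, ∀ u, q u * q u = 1 → q y * q u * (q y * q u) = 1 := fun y hy u hu => by
    calc _ = q y * (q u * q y * (q u)⁻¹) * (q u * q u) := by group
      _ = _ := by rw [cz y hy, s2 y hy, hu, mul_one]
  have a1 : q t * q t = 1 := by rw [← map_mul, m]; exact ht
  obtain ⟨p, hp⟩ : ∃ p, p = t * (h * t * h⁻¹) * (h * (h * t * h⁻¹) * h⁻¹) := ⟨_, rfl⟩
  have hpQ : p ∈ Q := hp ▸ H.2.1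
  have a2 : (q h * q t * (q h)⁻¹) * (q h * q t * (q h)⁻¹) = 1 := by rw [conj_mul, a1]; simp
  have a3 := sq p hpQ (h * (h * t * h⁻¹) * h⁻¹)⁻¹ (by
    simp only [map_inv, map_mul]
    rw [← mul_inv_rev, conj_mul, a2]; simp)
  have a4 : q p * q (h * (h * t * h⁻¹) * h⁻¹)⁻¹ = q t * (q h * q t * (q h)⁻¹) := by
    rw [hp]; simp only [map_inv, map_mul]; group
  rw [a4] at a3
  have a5 : q t * (q h * q t * (q h)⁻¹) * (q t)⁻¹ * (q h * q t * (q h)⁻¹)⁻¹ = 1 := by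
    rw [inv_eq_of_mul_eq_one_right a1, inv_eq_of_mul_eq_one_right a2, mul_assoc, a3]
  have a6 : q p = q t * (q h * q t * (q h)⁻¹) * (q h * (q h * q t * (q h)⁻¹) * (q h)⁻¹) := by
    rw [hp]; simp only [map_inv, map_mul]
  by_cases e : p ∈ A
  · refine ⟨1, one_mem _, ?_⟩
    rw [one_mul, ← QuotientGroup.ker_mk' A, tr_iff]
    exact ⟨a1, a6 ▸ (m p).2 e, a5⟩
  · refine ⟨p, hpQ, ?_⟩
    rw [← QuotientGroup.ker_mk' A, tr_iff, map_mul]
    change _ ∧ q p * q t * (q h * (q p * q t) * (q h)⁻¹) * (q h * (q h * (q p * q t) * (q h)⁻¹) * (q h)⁻¹)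
      = 1 ∧ q p * q t * (q h * (q p * q t) * (q h)⁻¹) * (q p * q t)⁻¹ *
        (q h * (q p * q t) * (q h)⁻¹)⁻¹ = 1
    have cm : ∀ u, Commute (q p) (q u) := fun u => (comm_of_conj (cz p hpQ u)).symm
    have b1 : q h * (q p * q t) * (q h)⁻¹ = q p * (q h * q t * (q h)⁻¹) := by
      rw [← mul_assoc, ← (cm h).eq]; group
    have b2 : q h * (q p * (q h * q t * (q h)⁻¹)) * (q h)⁻¹ =
        q p * (q h * (q h * q t * (q h)⁻¹) * (q h)⁻¹) := by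
      rw [← mul_assoc (q h) (q p), ← (cm h).eq]; group
    have c2 : Commute (q p) (q h * q t * (q h)⁻¹) := ((cm h).mul_right (cm t)).mul_right (cm h).inv_right
    refine ⟨sq p hpQ t a1, ?_, ?_⟩
    · rw [b1, b2, (cm t).symm.mul_mul_mul_comm, s2 p hpQ, one_mul, ← mul_assoc,
        ← ((cm t).mul_right c2).eq, mul_assoc, ← a6, s2 p hpQ]
    · rw [b1, mul_inv_eq_one, mul_inv_eq_iff_eq_mul]
      rw [mul_inv_eq_one, mul_inv_eq_iff_eq_mul] at a5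
      exact (((Commute.refl _).mul_right c2).mul_left ((cm t).symm.mul_right a5)).eq

theorem Fr.lift {A Ω : Subgroup Y} {ψ : Y → C3} {ρ : Y →* MulAut C3} (F : Fr π A Ω ψ ρ)
    (hQ : IsPGroup 2 π.ker) : ∃ (w k : C3) (t h : Y), Co w k (ρ t) (ρ h) ∧ h ^ 3 = 1 ∧ Tr π.ker h t := by
  obtain ⟨t, ht⟩ := F.rs tau0
  obtain ⟨y, hy⟩ := F.rs eta0
  obtain ⟨k, hk⟩ := hQ ⟨y ^ 3, by rw [MonoidHom.mem_ker, ← F.rk, map_pow, hy, co0.h3]⟩
  have hk' : (y ^ 3) ^ 2 ^ k = 1 := congrArg Subtype.val hk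
  have e : ρ (y ^ 4 ^ k) = eta0 := by
    rw [map_pow, hy, pow_eq_pow_mod _ co0.h3, Nat.pow_mod]; simp
  have co : Co _ _ (ρ t) (ρ (y ^ 4 ^ k)) := ht.symm ▸ e.symm ▸ co0
  refine ⟨_, _, t, y ^ 4 ^ k, co, ?_, ?_⟩
  · rw [← pow_mul, mul_comm, pow_mul, show 4 ^ k = 2 ^ k * 2 ^ k from mul_pow 2 2 k, pow_mul, hk', one_pow]
  · have : π.ker = ρ.ker := by ext w; exact (F.rk w).symm
    rw [this, tr_iff]
    exact ⟨co.t2, co.pr, by rw [co.cm]; group⟩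

theorem Fr.card4 {A Ω : Subgroup Y} {ψ : Y → C3} {ρ : Y →* MulAut C3} (F : Fr π A Ω ψ ρ)
    {w k : C3} {t h : Y} (co : Co w k (ρ t) (ρ h)) {L : Subgroup Y} (hL : L ≤ π.ker) :
    4 * Nat.card L ≤ Nat.card (closure ((L : Set Y) ∪ {t, h * t * h⁻¹})) :=
  R4.card4 ρ (fun x hx => (F.rk x).2 (hL hx)) co.n1 (by simpa using co.n2) (by simpa using co.n3) co.t2

theorem Fr.comm {A Ω : Subgroup Y} [A.Normal] {ψ : Y → C3} {ρ : Y →* MulAut C3} (F : Fr π A Ω ψ ρ)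
    (y : Y) {x : Y} (hx : x ∈ A) : ψ (y * x * y⁻¹ * x⁻¹) = ρ y (ψ x) * ψ x := by
  rw [F.mul _ (Normal.conj_mem inferInstance x hx y) _ (inv_mem hx), F.cj y x hx, F.inv x hx]

theorem Co.tv' {w k : C3} {τ η : MulAut C3} (co : Co w k τ η) (v : C3) :
    τ v * v = 1 ∨ τ v * v = w := by
  rcases co.tv v with e | e
  · left; rw [e, c3_two]
  · right; rw [e, mul_comm, ← mul_assoc, c3_two, one_mul]

theorem Co.fix {w k : C3} {τ η : MulAut C3} (co : Co w k τ η) {v : C3} (h : v = 1 ∨ v = w) :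
    η v = v := by
  rcases h with rfl | rfl
  · exact map_one _
  · exact co.hw

theorem Co.of_fix {w k : C3} {τ η : MulAut C3} (co : Co w k τ η) {v : C3} (h : η v = v) :
    v = 1 ∨ v = w := co.fpf v (Or.inl (by rw [h, mul_inv_cancel]))

theorem Co.tv2 {w k : C3} {τ η : MulAut C3} (co : Co w k τ η) (v : C3) :
    (η * τ * η⁻¹) v * v = 1 ∨ (η * τ * η⁻¹) v * v = w := by
  have e : (η * τ * η⁻¹) v * v = η (τ (η⁻¹ v) * η⁻¹ v) := by simp
  rw [e, co.fix (co.tv' _)]; exact co.tv' _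

theorem five_sec (hS : Sc 4 Y) {L M : Subgroup Y} {t1 t2 : Y}
    (n0 : ∀ a ∈ L, a ∈ normalizer (M : Set Y)) (n1 : t1 ∈ normalizer (M : Set Y))
    (n2 : t2 ∈ normalizer (M : Set Y)) (s0 : ∀ a ∈ L, a * a ∈ M) (s1 : t1 * t1 ∈ M) (s2 : t2 * t2 ∈ M)
    (c0 : ∀ a ∈ L, ∀ b ∈ L, a * b = b * a) (c1 : ∀ a ∈ L, t1 * a * t1⁻¹ * a⁻¹ ∈ M)
    (c2 : ∀ a ∈ L, t2 * a * t2⁻¹ * a⁻¹ ∈ M) (c12 : t1 * t2 * t1⁻¹ * t2⁻¹ ∈ M) :
    Nat.card (closure ((L : Set Y) ∪ {t1, t2})) ≤ Nat.card M * 16 := by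
  have fl : ∀ a b : Y, a * b * a⁻¹ * b⁻¹ ∈ M → b * a * b⁻¹ * a⁻¹ ∈ M := fun a b h => by
    simpa [mul_assoc] using inv_mem h
  refine hS.card_le _ M (sq_closure ?_ ?_ ?_)
  · rintro s (h | rfl | rfl)
    exacts [n0 s h, n1, n2]
  · rintro s (h | rfl | rfl)
    exacts [s0 s h, s1, s2]
  · rintro s (h | rfl | rfl) s' (h' | rfl | rfl)
    · rw [c0 s h s' h']; simp
    · exact fl _ _ (c1 s h)
    · exact fl _ _ (c2 s h)
    · exact c1 _ h'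
    · simp
    · exact c12
    · exact c2 _ h'
    · exact fl _ _ c12
    · simp

theorem norm_of_comm {M : Subgroup Y} {a : Y} (h : ∀ m ∈ M, a * m = m * a) :
    a ∈ normalizer (M : Set Y) := centralizer_le_normalizer _ fun m hm => (h m hm).symm

theorem comm_conj {G : Type*} [Group G] {h t n : G} (h1 : h * n = n * h) (h2 : t * n = n * t) :
    h * t * h⁻¹ * n = n * (h * t * h⁻¹) :=
  ((show Commute h n from h1).mul_left h2).mul_left (show Commute h n from h1).inv_left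

theorem Hy.lemDp [IsSimpleGroup K] (H : Hy π) (hK : Nat.card K = 168)
    (ab : ∀ x ∈ π.ker, ∀ y ∈ π.ker, x * y = y * x) {F A : Subgroup Y} [F.Normal] [A.Normal]
    (hFA : F ≤ A) (hA : A ≤ π.ker) (zF : ∀ y, ∀ f ∈ F, y * f = f * y) (sq : ∀ x ∈ π.ker, x * x ∈ F)
    (mA : ∀ x ∈ π.ker, x ∈ A ↔ x ^ 4 = 1) (x8 : ∀ x ∈ π.ker, x ^ 8 = 1)
    (hi : ∀ x ∈ π.ker, ∀ y ∈ π.ker, x ∉ A → y ∉ A → x * y ∈ A) (h8 : F.relIndex A = 8)
    (c32 : 32 ≤ Nat.card A) {N : Subgroup Y} (cN : Nat.card N ≤ 2) (hN : ∀ f ∈ F, f * f = 1 → f ∈ N)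
    (nc : ¬ ∀ y, ∀ a ∈ A, y * a * y⁻¹ * a⁻¹ ∈ F) : False := by
  obtain ⟨ψ, ρ, Fr⟩ := exists_fr H.surj hK (fun a ha => sq a (hA ha))
    (fun q hq a ha => by rw [ab q hq a (hA ha)]; simp) hA nc h8
  obtain ⟨w, k, t0, h, co, h3, T0⟩ := Fr.lift H.two
  have cj : ∀ y, ∀ x ∈ π.ker, y * x * y⁻¹ ∈ π.ker := fun y x hx => Normal.conj_mem inferInstance x hx y
  have cΩ : ∀ y, ∀ x ∈ π.ker, y * x * y⁻¹ * x⁻¹ * (y * x * y⁻¹ * x⁻¹) = 1 := fun y x hx => by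
    rw [(show Commute x⁻¹ (y * x * y⁻¹) from ab _ (inv_mem hx) _ (cj y x hx)).mul_mul_mul_comm,
      conj_mul, zF y _ (sq x hx)]
    group
  let Ω : Subgroup Y :=
    { carrier := {x | x ∈ π.ker ∧ x * x = 1}
      one_mem' := ⟨one_mem _, by simp⟩
      mul_mem' := by
        rintro a b ⟨a1, a2⟩ ⟨b1, b2⟩
        exact ⟨mul_mem a1 b1, by
          rw [(show Commute b a from ab b b1 a a1).mul_mul_mul_comm, a2, b2, mul_one]⟩
      inv_mem' := by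
        rintro a ⟨a1, a2⟩
        exact ⟨inv_mem a1, by rw [← mul_inv_rev, a2, inv_one]⟩ }
  have : Ω.Normal := ⟨fun x hx y => ⟨cj y x hx.1, by rw [conj_mul, hx.2]; simp⟩⟩
  have t2A : t0 * t0 ∈ A := by
    let q := QuotientGroup.mk' Ω
    have z : ∀ y, ∀ n ∈ π.ker.map q, q y * n = n * q y := by
      rintro y _ ⟨x, hx, rfl⟩
      rw [← mul_inv_eq_iff_eq_mul, ← mul_inv_eq_one, ← map_inv, ← map_inv, ← map_mul, ← map_mul,
        ← map_mul]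
      exact (QuotientGroup.eq_one_iff _).2 ⟨mul_mem (cj y x hx) (inv_mem hx), cΩ y x hx⟩
    have := (ZZ (h := q h) (t1 := q t0) rfl rfl (N0 := π.ker.map q) (z h) (z t0)
      (by rintro _ ⟨x, -, rfl⟩; exact z x)
      (by
        rintro _ ⟨x, hx, rfl⟩
        rw [← map_pow]
        exact (QuotientGroup.eq_one_iff _).2 ⟨pow_mem hx 4, by rw [← pow_add, x8 x hx]⟩)
      ⟨_, T0.1, by simp⟩ ⟨_, T0.2.2, by simp⟩ ⟨_, T0.2.1, by simp⟩).1
    rw [← map_pow] at this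
    have h1 := ((QuotientGroup.eq_one_iff _).1 this).2
    rw [mA _ T0.1, ← pow_two, ← pow_mul, ← h1, ← pow_add]
  obtain ⟨y, hy, T⟩ := T0.adjust hi t2A
  have et : ρ (y * t0) = ρ t0 := by rw [map_mul, (Fr.rk y).2 hy, one_mul]
  rw [← et] at co
  generalize y * t0 = t at *
  have x4 : ∀ x ∈ A, x ^ 4 = 1 := fun x hx => (mA x (hA hx)).1 hx
  have cA : ∀ y, ∀ x ∈ A, y * x * y⁻¹ * x⁻¹ ∈ A := fun y x hx =>
    mul_mem (Normal.conj_mem inferInstance x hx y) (inv_mem hx)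
  have hfix : ∀ d ∈ A, ψ d = 1 ∨ ψ d = w → h * d = d * h := fun d hd e => by
    have h1 : h * d * h⁻¹ * d⁻¹ ∈ F := by
      rw [← Fr.ker _ (cA h d hd), Fr.comm h hd, co.fix e, c3_two]
    have := HF h3 (x := d) (c := h * d * h⁻¹ * d⁻¹) (by group) (zF h _ h1) (x4 _ (hFA h1))
    rwa [mul_inv_eq_one, mul_inv_eq_iff_eq_mul] at this
  have b : ∀ x ∈ A, t * x * t⁻¹ * x⁻¹ ∈ A ∧ h * (t * x * t⁻¹ * x⁻¹) = t * x * t⁻¹ * x⁻¹ * h :=
    fun x hx => ⟨cA t x hx, hfix _ (cA t x hx) (by rw [Fr.comm t hx]; exact co.tv' _)⟩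
  have abA : ∀ x ∈ A, ∀ y ∈ A, x * y = y * x := fun x hx y hy => ab x (hA hx) y (hA hy)
  obtain ⟨k1, k2, k3, k4⟩ := DZ h3 abA x4 (fun x hx => Normal.conj_mem inferInstance x hx h) b
    T.1 T.2.1 T.2.2 (fun x hx e1 e2 z hz e3 => by
      have a1 := congrArg ψ e3
      rw [Fr.comm _ hx, Fr.mul z hz z hz, c3_two, mul_eq_one_iff_eq_inv, c3_inv] at a1
      have a2 := Fr.cj t x hx
      rw [e2, mul_inv_cancel_right] at a2
      rcases co.mv (ψ x) with e | e | e | e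
      · exact e1 (hfix x hx (Or.inl e))
      · exact e1 (hfix x hx (Or.inr e))
      · exact e a2.symm
      · exact e (by simpa using a1))
  have zt := DZa h3 abA x4 b T.1 T.2.1
  let M : Subgroup Y := A ⊓ Ω ⊓ centralizer {h}
  have mM : ∀ d, d ∈ M ↔ d ∈ A ∧ d * d = 1 ∧ h * d = d * h := fun d =>
    ⟨fun hd => ⟨hd.1.1, hd.1.2.2, (mem_centralizer_singleton_iff.1 hd.2).symm⟩,
      fun hd => ⟨⟨hd.1, hA hd.1, hd.2.1⟩, mem_centralizer_singleton_iff.2 hd.2.2.symm⟩⟩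
  have cM : Nat.card M ≤ 4 := by
    have a1 : F.relIndex M ≤ 2 := H12.SR.idx_two fun a ha b hb a1 b1 => by
      obtain ⟨a2, -, a3⟩ := (mM a).1 ha
      obtain ⟨b2, -, b3⟩ := (mM b).1 hb
      have f : ∀ a ∈ A, h * a = a * h → a ∉ F → ψ a = w := fun a a2 a3 a1 => by
        have := Fr.cj h a a2
        rw [a3, mul_inv_cancel_right] at this
        exact (co.of_fix this.symm).resolve_left fun e => a1 ((Fr.ker a a2).1 e)
      rw [← Fr.ker _ (mul_mem (inv_mem a2) b2), Fr.mul _ (inv_mem a2) _ b2, Fr.inv a a2,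
        f a a2 a3 a1, f b b2 b3 b1, c3_two]
    have a2 := H12.SR.card_le_idx M le_rfl a1
    have a3 : Nat.card ↥(F ⊓ M) ≤ Nat.card N := card_le_of_le fun x hx => hN x hx.1 ((mM x).1 hx.2).2.1
    omega
  have u1 : t * t ∈ M := (mM _).2 ⟨T.1, by rw [← k2]; simp [pow_succ, mul_assoc], k1⟩
  have a1 := five_sec H.sc (L := A) (M := M) (t1 := t) (t2 := h * t * h⁻¹)
    (fun a ha => norm_of_comm fun m hm => abA a ha m ((mM m).1 hm).1)
    (norm_of_comm fun m hm => zt m ((mM m).1 hm).1 ((mM m).1 hm).2.2)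
    (norm_of_comm fun m hm => comm_conj ((mM m).1 hm).2.2 (zt m ((mM m).1 hm).1 ((mM m).1 hm).2.2))
    (fun a ha => (mM _).2 ⟨mul_mem ha ha, by rw [← x4 a ha]; simp [pow_succ, mul_assoc],
      zF h _ (sq a (hA ha))⟩) u1
    (by rw [conj_mul, k1, mul_inv_cancel_right]; exact u1) abA
    (fun a ha => (mM _).2 ⟨cA t a ha, cΩ t a (hA ha), (b a ha).2⟩)
    (fun a ha => (mM _).2 ⟨cA _ a ha, cΩ _ a (hA ha), hfix _ (cA _ a ha) (by
      rw [Fr.comm _ ha, map_mul, map_mul, map_inv]; exact co.tv2 _)⟩)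
    ((mM _).2 ⟨T.2.2, k4, k3⟩)
  have a2 := Fr.card4 co hA
  omega

end Cfsg.Agent.H3.R4
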