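import Cfsg.Agent.H3.R7d

/-! The inductive step for extensions by `L₃(2)`. -/

set_option autoImplicit false
set_option linter.unusedSectionVars false
open Subgroup
open scoped IsMulCommutative

namespace Cfsg.Agent.H3.R4

universe u

theorem two_el {G : Type*} [Group G] {L : Subgroup G} (h : L = ⊥ ∨ Nat.card L = 2) :
    ∃ v ∈ L, ∀ z ∈ L, z = 1 ∨ z = v := by
  rcases h with rfl | h
  · exact ⟨1, one_mem _, fun z hz => Or.inl hz⟩
  obtain ⟨⟨v, hv⟩, -, hu⟩ := (Nat.card_eq_two_iff' (1 : L)).1 h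
  exact ⟨v, hv, fun z hz => or_iff_not_imp_left.2 fun e =>
    Subtype.mk.inj (hu ⟨z, hz⟩ fun h => e (congrArg Subtype.val h))⟩

theorem alt7 {V Z : Type*} [CommGroup V] [Finite V] [CommGroup Z] {B : V → V → Z}
    (lin : ∀ u v w, B (u * v) w = B u w * B v w) (sym : ∀ u v, B u v = B v u) (self : ∀ v, B v v = 1)
    (h2 : ∀ v : V, v * v = 1) (hc : Nat.card V ≤ 16) {γ : MulAut V} (h7 : γ ^ 7 = 1) (h : γ ≠ 1)
    (inv : ∀ u v, B (γ u) (γ v) = B u v) : ∀ u v, B u v = 1 := by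
  have one : ∀ v, B 1 v = 1 := fun v => by
    have h1 := lin 1 1 v
    rwa [mul_one, left_eq_mul] at h1
  have b2 : ∀ u v, B u v * B u v = 1 := fun u v => by rw [← lin, h2, one]
  have lin' : ∀ u v w, B u (v * w) = B u v * B u w := fun u v w => by rw [sym, lin, sym v, sym w]
  obtain ⟨v0, -, hv⟩ := two_el (L := Fx γ) ((seven h2 hc h7 h).imp (·.2) (·.2))
  obtain ⟨-, -, -, dec⟩ := dl_facts h2 hc h7 h
  have fx : ∀ z ∈ Fx γ, ∀ v, B v z = 1 := fun z hz v => by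
    obtain ⟨_, ⟨x, rfl⟩, z', hz', rfl⟩ := dec v
    rw [lin, show dl γ x = γ x * x from rfl, lin, ← inv x z, show γ z = z from hz, b2, mul_one]
    rcases hv z hz with rfl | rfl
    · rw [sym, one]
    rcases hv z' hz' with rfl | rfl
    exacts [one _, self _]
  have p7 : ∀ v, γ (γ (γ (γ (γ (γ (γ v)))))) = v := fun v => by
    have := congrArg (fun σ : MulAut V => σ v) h7
    simpa [pow_succ] using this
  have q : QM (fun v => B v (γ v) * B v (γ (γ v)) * B v (γ (γ (γ v)))) B := by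
    refine ⟨fun v w => ?_, lin, fun v => ?_, b2⟩
    · have a := fx (w * γ w * γ (γ w) * γ (γ (γ w)) * γ (γ (γ (γ w))) * γ (γ (γ (γ (γ w)))) *
        γ (γ (γ (γ (γ (γ w)))))) (by
          change γ _ = _
          simp only [map_mul, p7]
          ac_rfl) v
      have a1 : B w (γ v) = B v (γ (γ (γ (γ (γ (γ w)))))) := by rw [← inv v, p7, sym]
      have a2 : B w (γ (γ v)) = B v (γ (γ (γ (γ (γ w))))) := by rw [← inv v, ← inv (γ v), p7, sym]
      have a3 : B w (γ (γ (γ v))) = B v (γ (γ (γ (γ w)))) := by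
        rw [← inv v, ← inv (γ v), ← inv (γ (γ v)), p7, sym]
      simp only [lin'] at a
      simp only [map_mul, lin, lin', a1, a2, a3]
      rw [← mul_one (_ * B v w), ← a, ← mul_one (_ * _ * (_ * _)), ← b2 v w]
      ac_rfl
    · rw [mul_mul_mul_comm, b2, mul_mul_mul_comm, b2, b2, mul_one, mul_one]
  exact (q.sev h2 hc h7 h fun v => by simp only [inv]).1

theorem exists_alt {V Q : Type*} [CommGroup V] [Group Q] (φ : Q →* V) (hφ : Function.Surjective φ)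
    (hz : φ.ker ≤ center Q) (hk : ∀ x y : Q, x * y * x⁻¹ * y⁻¹ * (x * y * x⁻¹ * y⁻¹) = 1) :
    ∃ B : V → V → center Q, (∀ u v w, B (u * v) w = B u w * B v w) ∧ (∀ u v, B u v = B v u) ∧
      (∀ v, B v v = 1) ∧ ∀ x y, (B (φ x) (φ y) : Q) = x * y * x⁻¹ * y⁻¹ := by
  choose σ hσ using hφ
  have m2 : ∀ x y, x * y * x⁻¹ * y⁻¹ ∈ φ.ker := fun x y => by
    rw [MonoidHom.mem_ker]; simp
  have cz : ∀ k ∈ φ.ker, ∀ x, x * k = k * x := fun k hk x => mem_center_iff.1 (hz hk) x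
  have dec : ∀ x, ∃ k ∈ φ.ker, σ (φ x) = x * k := fun x =>
    ⟨x⁻¹ * σ (φ x), by rw [MonoidHom.mem_ker]; simp [hσ], by simp⟩
  have e2 : ∀ x y, σ (φ x) * σ (φ y) * (σ (φ x))⁻¹ * (σ (φ y))⁻¹ = x * y * x⁻¹ * y⁻¹ := fun x y => by
    obtain ⟨k, h, e⟩ := dec x
    obtain ⟨l, h', e'⟩ := dec y
    rw [e, e', mul_inv_rev, mul_inv_rev]
    calc _ = x * (k * (y * l)) * k⁻¹ * x⁻¹ * l⁻¹ * y⁻¹ := by group
      _ = x * y * (l * x⁻¹) * l⁻¹ * y⁻¹ := by rw [← cz k h]; group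
      _ = _ := by rw [← cz l h']; group
  have bl : ∀ x y w : Q, x * y * w * (x * y)⁻¹ * w⁻¹ = x * w * x⁻¹ * w⁻¹ * (y * w * y⁻¹ * w⁻¹) :=
    fun x y w => by
      calc _ = x * (y * w * y⁻¹ * w⁻¹) * (w * x⁻¹ * w⁻¹) := by simp [mul_assoc]
        _ = _ := by rw [cz _ (m2 y w) x, cz _ (m2 y w)]; simp only [mul_assoc]
  refine ⟨fun v w => ⟨σ v * σ w * (σ v)⁻¹ * (σ w)⁻¹, hz (m2 _ _)⟩,
    fun u v w => Subtype.ext ?_, fun u v => Subtype.ext ?_, fun v => Subtype.ext (by simp), e2⟩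
  · have := e2 (σ u * σ v) (σ w)
    rw [map_mul, hσ, hσ, hσ] at this
    simp only [coe_mul]
    rw [this, bl]
  · simp only
    rw [eq_inv_of_mul_eq_one_left (hk _ _)]; group

variable {Y : Type u} {K : Type*} [Group Y] [Finite Y] [Group K] {π : Y →* K}

theorem sq_central {Q N : Subgroup Y} (h2N : ∀ x ∈ N, x * x = 1)
    (zN : Q ≤ centralizer (N : Set Y)) (cm : ∀ x ∈ Q, ∀ y ∈ Q, x * y * x⁻¹ * y⁻¹ ∈ N) :
    ∀ f ∈ Sq Q, ∀ q ∈ Q, q * f = f * q := fun f hf q hq => by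
  refine (Sq_le_iff (N := centralizer (Q : Set Y))).2 (fun x hx y hy => ?_) hf q hq
  have := comm_sq_left rfl (zN hx _ (cm x hx y hy)).symm
  rw [h2N _ (cm x hx y hy), mul_inv_eq_one, mul_inv_eq_iff_eq_mul] at this
  rw [pow_two, this]

theorem idx2 {N F : Subgroup Y} (hNF : N ≤ F) (hi : N.relIndex F ≤ 2) (hne : N ≠ F) :
    N.relIndex F = 2 ∧ ∀ a ∈ F, ∀ b ∈ F, a ∉ N → b ∉ N → a * b ∈ N := by
  have h1 : N.relIndex F ≠ 0 := index_ne_zero_of_finite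
  have h2 : N.relIndex F ≠ 1 := fun e => hne (le_antisymm hNF (relIndex_eq_one.1 e))
  have h3 : N.relIndex F = 2 := by omega
  exact ⟨h3, fun a ha b hb a1 b1 => (mul_mem_iff_of_index_two (a := ⟨a, ha⟩) (b := ⟨b, hb⟩) h3).2
    (iff_of_false a1 b1)⟩

theorem exA {Q N : Subgroup Y} [Q.Normal] [N.Normal] (cm : ∀ x ∈ Q, ∀ y ∈ Q, x * y * x⁻¹ * y⁻¹ ∈ N)
    (hNF : N ≤ Sq Q) (hi : N.relIndex (Sq Q) ≤ 2) (hne : N ≠ Sq Q) (i16 : (Sq Q).relIndex Q = 16) :
    ∃ (A : Subgroup Y) (_ : A.Normal), (∀ x, x ∈ A ↔ x ∈ Q ∧ x * x ∈ N) ∧ Sq Q ≤ A ∧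
      (∀ x ∈ Q, ∀ y ∈ Q, x ∉ A → y ∉ A → x * y ∈ A) ∧ (Sq Q).relIndex A = 8 := by
  obtain ⟨-, two⟩ := idx2 hNF hi hne
  have key : ∀ x ∈ Q, ∀ y ∈ Q, x * x * (y * y) ∈ N → x * y * (x * y) ∈ N := fun x hx y hy h => by
    have e : x * y * (x * y) = x * x * (y * y) *
      ((y * y)⁻¹ * (x⁻¹ * y * x⁻¹⁻¹ * y⁻¹) * (y * y)⁻¹⁻¹) := by group
    rw [e]
    exact mul_mem h (Normal.conj_mem inferInstance _ (cm _ (inv_mem hx) y hy) _)
  let A : Subgroup Y :=
    { carrier := {x | x ∈ Q ∧ x * x ∈ N}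
      one_mem' := ⟨one_mem _, by simp⟩
      mul_mem' := fun {a b} ha hb => ⟨mul_mem ha.1 hb.1, key a ha.1 b hb.1 (mul_mem ha.2 hb.2)⟩
      inv_mem' := fun {a} ha => ⟨inv_mem ha.1, by rw [← mul_inv_rev]; exact inv_mem ha.2⟩ }
  have sq : ∀ x ∈ Q, x * x ∈ Sq Q := fun x hx => pow_two x ▸ sq_mem hx
  have hi' : ∀ x ∈ Q, ∀ y ∈ Q, x ∉ A → y ∉ A → x * y ∈ A := fun x hx y hy x1 y1 =>
    ⟨mul_mem hx hy, key x hx y hy (two _ (sq x hx) _ (sq y hy) (fun e => x1 ⟨hx, e⟩)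
      fun e => y1 ⟨hy, e⟩)⟩
  have hFA : Sq Q ≤ A := fun f hf => ⟨Sq_le _ hf, by
    by_cases e : f ∈ N
    exacts [mul_mem e e, two f hf f hf e e]⟩
  have hAQ : A ≤ Q := fun _ h => h.1
  refine ⟨A, ⟨fun x hx y => ⟨Normal.conj_mem inferInstance x hx.1 y, by
    rw [conj_mul]; exact Normal.conj_mem inferInstance _ hx.2 y⟩⟩, fun _ => Iff.rfl, hFA, hi', ?_⟩
  have h1 := (idx2 hAQ (H12.SR.idx_two fun a ha b hb a1 b1 =>
    hi' _ (inv_mem ha) b hb (by rwa [inv_mem_iff]) b1) fun e => hne (le_antisymm hNF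
      (Sq_le_iff.2 fun x hx => pow_two x ▸ (e.ge hx).2))).1
  have h2 := relIndex_mul_relIndex (Sq Q) A Q hFA hAQ
  rw [h1, i16] at h2
  omega

theorem relIndex_phi {V : Type*} [Group V] {φ : π.ker →* V} (hk : ∀ x, φ x = 1 ↔ x.1 ∈ Sq π.ker)
    {A : Subgroup Y} (hA : A ≤ π.ker) :
    (Sq π.ker).relIndex A = Nat.card (φ.comp (inclusion hA)).range := by
  rw [← index_ker, relIndex]
  congr 1
  ext x
  exact (hk (inclusion hA x)).symm

theorem Hy.cent [IsSimpleGroup K] (H : Hy π) (hK : Nat.card K = 168) {N : Subgroup Y} [N.Normal]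
    (hNF : N ≤ Sq π.ker) (h2N : ∀ x ∈ N, x * x = 1) (zN : centralizer (N : Set Y) = ⊤)
    (cN : Nat.card N = 2) (cm : ∀ x ∈ π.ker, ∀ y ∈ π.ker, x * y * x⁻¹ * y⁻¹ ∈ N)
    (hi : N.relIndex (Sq π.ker) ≤ 2) (i16 : N ≠ Sq π.ker → (Sq π.ker).relIndex π.ker = 16) :
    (∀ x ∈ π.ker, ∀ y ∈ π.ker, x * y = y * x) ∧ Nat.card (Sq π.ker) ≤ 2 ∧
      (Sq π.ker ≠ ⊥ → (Sq π.ker).relIndex π.ker = 16) := by
  obtain ⟨V, _, _, φ, ρ, hφ, hk, h2, hc, hρ, hρ1⟩ := H.frame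
  obtain ⟨g0, g7, g1⟩ := exists_seven H.surj hK
  obtain ⟨g, g7, g1⟩ := H.exists_ord (by norm_num) g7 g1
  have r7 : ρ g ^ 7 = 1 := by rw [← map_pow, g7, map_one]
  have r1 : ρ g ≠ 1 := by rwa [Ne, hρ1]
  have zQ := sq_central h2N (le_top.trans zN.ge) cm
  have cF : Nat.card (Sq π.ker) = 2 * N.relIndex (Sq π.ker) := by
    rw [← cN, relIndex, ← Nat.card_congr (subgroupOfEquivOfLe hNF).toEquiv, card_mul_index]
  have zF : ∀ y, ∀ f ∈ Sq π.ker, y * f = f * y := by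
    have hg : g ∈ centralizer (Sq π.ker : Set Y) := by
      rw [← conjNormal_eq_one]
      apply Fx_eq_top
      have h1 := modEq_Fx (by norm_num) (α := MulAut.conjNormal (H := Sq π.ker) g) (p := 7)
        (by rw [← map_pow, g7, map_one]) ⊤ fun _ _ => trivial
      rw [top_inf_eq, card_top] at h1
      rw [← card_eq_iff_eq_top]
      have h3 := card_le_card_group (Fx (MulAut.conjNormal (H := Sq π.ker) g))
      exact (Nat.ModEq.eq_of_lt_of_lt h1 (by omega) (by omega)).symm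
    rcases dichot H.surj (centralizer (Sq π.ker : Set Y)) (fun q hq f hf => (zQ f hf q hq).symm)
      with e | e
    · exact fun y f hf => (e.ge (mem_top y) f hf).symm
    · exact absurd (e.le hg) g1
  have ab : ∀ x ∈ π.ker, ∀ y ∈ π.ker, x * y = y * x := by
    obtain ⟨B, b1, b2, b3, b4⟩ := exists_alt φ hφ
      (fun x hx => mem_center_iff.2 fun q => Subtype.ext (zQ _ ((hk x).1 hx) _ q.2))
      fun x y => Subtype.ext (h2N _ (cm _ x.2 _ y.2))
    have := alt7 b1 b2 b3 h2 hc r7 r1 fun u v => by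
      obtain ⟨x, rfl⟩ := hφ u
      obtain ⟨y, rfl⟩ := hφ v
      rw [← hρ, ← hρ]
      ext1
      rw [b4, b4, ← map_inv, ← map_inv, ← map_mul, ← map_mul, ← map_mul]
      ext1
      exact mul_inv_eq_iff_eq_mul.2 (zF g _ (hNF (cm _ x.2 _ y.2)))
    intro x hx y hy
    have h1 := b4 ⟨x, hx⟩ ⟨y, hy⟩
    rw [this, eq_comm, coe_one, mul_inv_eq_one, mul_inv_eq_iff_eq_mul] at h1
    exact congrArg Subtype.val h1
  have sq : ∀ x ∈ π.ker, x * x ∈ Sq π.ker := fun x hx => pow_two x ▸ sq_mem hx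
  have sm : ∀ x ∈ π.ker, ∀ y ∈ π.ker, x * y * (x * y) = x * x * (y * y) := fun x hx y hy =>
    (show Commute y x from ab y hy x hx).mul_mul_mul_comm _ _
  refine ⟨ab, ?_⟩
  by_cases e2 : ∀ f ∈ Sq π.ker, f * f = 1
  · obtain ⟨-, -, -, dec⟩ := dl_facts h2 hc r7 r1
    have key : ∀ x : π.ker, ∃ z : π.ker, φ z ∈ Fx (ρ g) ∧ x.1 * x = z * z := fun x => by
      obtain ⟨_, ⟨v, rfl⟩, z, hz, e⟩ := dec (φ x)
      obtain ⟨y, rfl⟩ := hφ v
      refine ⟨x * (MulAut.conjNormal g y * y), ?_, ?_⟩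
      · rwa [map_mul, map_mul, hρ, e, show dl (ρ g) (φ y) = ρ g (φ y) * φ y from rfl, mul_assoc, h2,
          mul_one]
      · rw [coe_mul, sm _ x.2 _ (MulAut.conjNormal g y * y).2, coe_mul, sm _ (Subtype.prop _) _ y.2,
          MulAut.conjNormal_apply, conj_mul, zF g _ (sq _ y.2), mul_inv_cancel_right,
          e2 _ (sq _ y.2), mul_one]
    obtain ⟨v0, -, hv⟩ := two_el (L := Fx (ρ g)) ((seven h2 hc r7 r1).imp (·.2) (·.2))
    obtain ⟨x0, rfl⟩ := hφ v0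
    constructor
    · have : Sq π.ker ≤ zpowers (x0.1 * x0) := Sq_le_iff.2 fun x hx => by
        obtain ⟨z, hz, e⟩ := key ⟨x, hx⟩
        rw [pow_two, e]
        rcases hv _ hz with h | h
        · rw [e2 _ ((hk z).1 h)]; exact one_mem _
        · have := (hk (z * x0⁻¹)).1 (by rw [map_mul, h, map_inv, mul_inv_cancel])
          have h3 := sm _ (z * x0⁻¹).2 _ x0.2
          rw [e2 _ this, one_mul, coe_mul, coe_inv, inv_mul_cancel_right] at h3
          rw [h3]; exact mem_zpowers _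
      refine (card_le_of_le this).trans ?_
      rw [Nat.card_zpowers]
      exact orderOf_le_of_pow_eq_one (by norm_num) (by rw [pow_two, e2 _ (sq _ x0.2)])
    · intro h0
      rw [relIndex_phi hk le_rfl, (MonoidHom.range_eq_top (f := φ.comp (inclusion le_rfl))).2 hφ,
        card_top]
      refine ((seven h2 hc r7 r1).resolve_left fun h => h0 (eq_bot_iff.2 (Sq_le_iff.2 fun x hx => ?_))).1
      obtain ⟨z, hz, e⟩ := key ⟨x, hx⟩
      rw [h.2, mem_bot, hk] at hz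
      rw [pow_two, e, e2 _ hz]; exact one_mem _
  exfalso
  have hne : N ≠ Sq π.ker := fun e => e2 (e ▸ h2N)
  obtain ⟨A, _, mA, hFA, hi', h8⟩ := exA cm hNF hi hne (i16 hne)
  obtain ⟨i2, two⟩ := idx2 hNF hi hne
  have hA : A ≤ π.ker := fun x hx => ((mA x).1 hx).1
  have hN : ∀ f ∈ Sq π.ker, f * f = 1 → f ∈ N := fun f hf e => by
    by_contra hh
    refine e2 fun f' hf' => ?_
    by_cases h' : f' ∈ N
    · exact h2N _ h'
    have := h2N _ (two f' hf' f hf h' hh)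
    rwa [sm _ (Sq_le _ hf') _ (Sq_le _ hf), e, mul_one] at this
  have p4 : ∀ x : Y, x ^ 4 = x * x * (x * x) := fun x => by simp [pow_succ, mul_assoc]
  refine H.lemDp hK ab hFA hA zF sq (fun x hx => ?_) (fun x hx => ?_) hi' h8 ?_ cN.le hN fun hh => ?_
  · rw [mA, p4]
    exact ⟨fun h => h2N _ h.2, fun h => ⟨hx, hN _ (sq x hx) h⟩⟩
  · rw [show 8 = 4 + 4 from rfl, pow_add, p4]
    exact h2N _ ((mA _).1 (hFA (sq x hx))).2
  · rw [← card_mul_index ((Sq π.ker).subgroupOf A), Nat.card_congr (subgroupOfEquivOfLe hFA).toEquiv,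
      cF, i2]
    change _ ≤ _ * (Sq π.ker).relIndex A
    omega
  · rw [relIndex_phi hk hA] at h8
    have h1 : (φ.comp (inclusion hA)).range ≤ Fx (ρ g) := by
      rintro _ ⟨a, rfl⟩
      change ρ g (φ _) = φ _
      rw [← hρ, ← mul_inv_eq_one, ← map_inv, ← map_mul, hk]
      exact hh g a a.2
    have h3 := card_le_of_le h1
    rcases seven h2 hc r7 r1 with h | h
    · rw [h.2, card_bot] at h3; omega
    · omega

theorem Hy.eight [IsSimpleGroup K] (H : Hy π) (hK : Nat.card K = 168) {N : Subgroup Y} [N.Normal]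
    (h2N : ∀ x ∈ N, x * x = 1) (fN : centralizer (N : Set Y) = π.ker)
    (hm : ∀ L : Subgroup Y, L.Normal → L ≤ N → L = ⊥ ∨ L = N) : Nat.card N = 8 := by
  obtain ⟨g, g7, g1⟩ := exists_seven H.surj hK
  have hc := H12.SR.comm_of_sq (T := N) fun t ht => by rw [pow_two, h2N t ht]
  have : IsMulCommutative N := ⟨⟨fun a b => Subtype.ext (hc b.2 a a.2)⟩⟩
  have h2 : ∀ v : N, v * v = 1 := fun v => Subtype.ext (h2N _ v.2)
  have c16 := H.sc.card_le N ⊥ fun y hy => by rw [pow_two]; exact h2N y hy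
  rw [card_bot] at c16
  have r7 : MulAut.conjNormal (H := N) g ^ 7 = 1 := by
    rw [← map_pow, conjNormal_eq_one, fN, MonoidHom.mem_ker, map_pow, g7]
  have r1 : MulAut.conjNormal (H := N) g ≠ 1 := by rw [Ne, conjNormal_eq_one, fN]; exact g1
  have key : ∀ U : Subgroup N, (∀ y, ∀ u ∈ U, MulAut.conjNormal y u ∈ U) →
      Nat.card U = 1 ∨ Nat.card U = Nat.card N := fun U hU => by
    rw [Nat.card_congr (equivMapOfInjective U N.subtype N.subtype_injective).toEquiv]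
    rcases hm (U.map N.subtype) ⟨by rintro _ ⟨u, hu, rfl⟩ y; exact ⟨_, hU y u hu, rfl⟩⟩
      (map_subtype_le U) with e | e
    · left; rw [e, card_bot]
    · right; rw [e]
  rcases seven h2 (by omega) r7 r1 with h | h
  · exact h.1
  exfalso
  rcases red16 h2 h.1 MulAut.conjNormal r7 r1 (by
    rw [← index_ker, show (MulAut.conjNormal (H := N)).ker = π.ker from
      fN ▸ Subgroup.ext fun _ => conjNormal_eq_one, index_ker, MonoidHom.range_eq_top.2 H.surj,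
      card_top, hK]
    norm_num) with e | e
  · have := key (Fx (MulAut.conjNormal g)) fun y u hu => by rwa [e y u hu]
    omega
  · have := key _ e
    have := (dl_facts h2 h.1.le r7 r1).1
    omega

theorem Hy.faith [IsSimpleGroup K] (H : Hy π) (hK : Nat.card K = 168) {N : Subgroup Y} [N.Normal]
    (hNF : N ≤ Sq π.ker) (h2N : ∀ x ∈ N, x * x = 1) (fN : centralizer (N : Set Y) = π.ker)
    (cN : Nat.card N = 8) (cm : ∀ x ∈ π.ker, ∀ y ∈ π.ker, x * y * x⁻¹ * y⁻¹ ∈ N)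
    (hi : N.relIndex (Sq π.ker) ≤ 2) (i16 : N ≠ Sq π.ker → (Sq π.ker).relIndex π.ker = 16) :
    (Sq π.ker = N ∧ N.relIndex π.ker = 16) ∨
      ∃ (Ω A : Subgroup Y) (_ : Ω.Normal) (_ : A.Normal), CH π N Ω A := by
  obtain ⟨g, g7, g1⟩ := exists_seven H.surj hK
  have zQ := sq_central h2N fN.ge cm
  have sq : ∀ x ∈ π.ker, x * x ∈ Sq π.ker := fun x hx => pow_two x ▸ sq_mem hx
  by_cases hne : N = Sq π.ker
  · obtain ⟨V, _, _, φ, ρ, hφ, hk, h2, hc, hρ, hρ1⟩ := H.frame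
    have e := relIndex_phi hk le_rfl
    rw [(MonoidHom.range_eq_top (f := φ.comp (inclusion le_rfl))).2 hφ, card_top, ← hne] at e
    rcases seven h2 hc (α := ρ g) (by rw [← map_pow, hρ1, map_pow, g7]) (by rwa [Ne, hρ1]) with h | h
    · refine Or.inr ⟨N, π.ker, inferInstance, inferInstance, H, le_rfl, hNF.trans (Sq_le _), le_rfl, cN,
        fN, h2N, hne ▸ zQ, cm, hne ▸ sq, hne ▸ sq, e.trans h.1, fun y x hx =>
          mul_mem (Normal.conj_mem inferInstance x hx y) (inv_mem hx), fun x hx _ _ h => absurd hx h,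
        fun x hx h => absurd hx h⟩
    · exact Or.inl ⟨hne.symm, e.trans h.1⟩
  obtain ⟨A, _, mA, hFA, hi', h8⟩ := exA cm hNF hi hne (i16 hne)
  obtain ⟨-, two⟩ := idx2 hNF hi hne
  have tΩ : ∀ y, ∀ x ∈ Sq π.ker, y * x * y⁻¹ * x⁻¹ ∈ N := fun y x hx => by
    by_cases e : x ∈ N
    · exact mul_mem (Normal.conj_mem inferInstance x e y) (inv_mem e)
    · refine two _ (Normal.conj_mem inferInstance x hx y) _ (inv_mem hx) (fun e' => e ?_)
        (by rwa [inv_mem_iff])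
      simpa [mul_assoc] using Normal.conj_mem inferInstance _ e' y⁻¹
  refine Or.inr ⟨Sq π.ker, A, inferInstance, inferInstance, H, hNF, hFA, fun x hx => ((mA x).1 hx).1,
    cN, fN, fun x hx => ?_, zQ, cm, fun a ha => ((mA a).1 ha).2, sq, h8, tΩ, hi', fun y hy y1 => ?_⟩
  · refine fpf_N h2N cN fN g7 g1 ((mA x).1 (hFA hx)).2 ?_
    have e : g * x * g⁻¹ = g * x * g⁻¹ * x⁻¹ * x := by group
    rw [← conj_mul, e, (show Commute x _ from zQ _ (hNF (tΩ g x hx)) x (Sq_le _ hx)).mul_mul_mul_comm,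
      h2N _ (tΩ g x hx), one_mul]
  · have : y * y ∉ N := fun e => y1 ((mA y).2 ⟨hy, e⟩)
    exact ⟨fun x hx => or_iff_not_imp_left.2 fun e => two x hx _ (sq y hy) e this, Or.inl this⟩

theorem induct [IsSimpleGroup K] (hK : Nat.card K = 168)
    (noCH : ∀ (Y : Type u) [Group Y] [Finite Y] (π : Y →* K) (N Ω A : Subgroup Y) [N.Normal] [Ω.Normal]
      [A.Normal], ¬ CH π N Ω A)
    (b2 : ∀ (Y : Type u) [Group Y] [Finite Y] (π : Y →* K), Hy π → ∀ (N : Subgroup Y) [N.Normal],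
      Sq π.ker = N → Nat.card N = 8 → centralizer (N : Set Y) = π.ker → (∀ x ∈ N, x * x = 1) →
      (∀ x ∈ π.ker, ∀ y ∈ π.ker, x * y * x⁻¹ * y⁻¹ ∈ N) → N.relIndex π.ker = 16 →
      ∃ (Ω A : Subgroup Y) (_ : Ω.Normal) (_ : A.Normal), CH π N Ω A) (n : ℕ) :
    ∀ (Y : Type u) [Group Y] [Finite Y] (π : Y →* K), Nat.card Y = n → Hy π →
      (∀ x ∈ π.ker, ∀ y ∈ π.ker, x * y = y * x) ∧ Nat.card (Sq π.ker) ≤ 2 ∧
        (Sq π.ker ≠ ⊥ → (Sq π.ker).relIndex π.ker = 16) := by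
  induction n using Nat.strong_induction_on with
  | _ n ih =>
  intro Y _ _ π hn h
  by_cases h0 : Sq π.ker = ⊥
  · refine ⟨fun x hx y hy => H12.SR.comm_of_sq (T := π.ker) (fun t ht => ?_) hy x hx, ?_,
      fun e => absurd h0 e⟩
    · rw [← mem_bot, ← h0]; exact sq_mem ht
    · rw [h0, card_bot]; omega
  obtain ⟨N, _, n1, n2, n3, n4, n5⟩ := exists_min h.two (Sq_le _) h0
  obtain ⟨h1, h2, h3⟩ := ih _ (by
    rw [← hn, ← N.card_mul_index, ← index_eq_card]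
    exact lt_mul_of_one_lt_left (Nat.pos_of_ne_zero index_ne_zero_of_finite)
      (one_lt_card_iff_ne_bot _ |>.2 n1)) _ _ rfl (h.quot N n2)
  rw [ker_lift] at h1 h2 h3
  rw [← map_Sq] at h2 h3
  rw [← relIndex_ker, QuotientGroup.ker_mk'] at h2
  have cm : ∀ x ∈ π.ker, ∀ y ∈ π.ker, x * y * x⁻¹ * y⁻¹ ∈ N := fun x hx y hy => by
    have := h1 _ ⟨x, hx, rfl⟩ _ ⟨y, hy, rfl⟩
    rw [← mul_inv_eq_iff_eq_mul, ← mul_inv_eq_one, ← map_inv, ← map_inv, ← map_mul, ← map_mul,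
      ← map_mul] at this
    exact (QuotientGroup.eq_one_iff _).1 this
  have i16 : N ≠ Sq π.ker → (Sq π.ker).relIndex π.ker = 16 := fun e => by
    have := h3 fun e' => e (le_antisymm n2 (by rwa [Subgroup.map_eq_bot_iff, QuotientGroup.ker_mk'] at e'))
    rwa [← relIndex_comap, comap_map_eq_self (by rwa [QuotientGroup.ker_mk'])] at this
  rcases dichot h.surj _ n4 with e | e
  · exact h.cent hK n2 n3 e (card_two_of_central n1 n3 e n5) cm h2 i16
  exfalso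
  have c8 := h.eight hK n3 e n5
  obtain ⟨Ω, A, _, _, H⟩ := (h.faith hK n2 n3 e c8 cm h2 i16).elim
    (fun a => b2 Y π h N a.1 c8 e n3 cm a.2) id
  exact noCH Y π N Ω A H

end Cfsg.Agent.H3.R4
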