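import Cfsg.Agent.H3.R7e

/-! Two noncentral chief factors: the square of a lifted transvection. -/

set_option autoImplicit false
set_option linter.unusedSectionVars false
open Subgroup
open scoped IsMulCommutative

namespace Cfsg.Agent.H3.R4

universe u

variable {Y : Type u} {K : Type*} [Group Y] [Finite Y] [Group K] {π : Y →* K}
variable {N Ω A : Subgroup Y} [N.Normal] [Ω.Normal] [A.Normal] {ψ : Y → C3} {ρ : Y →* MulAut C3}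
variable {w k : C3} {t h a0 : Y}

theorem ncj {A : Subgroup Y} [A.Normal] (y : Y) {x : Y} (hx : x ∈ A) : y * x * y⁻¹ ∈ A :=
  Normal.conj_mem inferInstance x hx y

theorem ncm {A : Subgroup Y} [A.Normal] (y : Y) {x : Y} (hx : x ∈ A) : y * x * y⁻¹ * x⁻¹ ∈ A :=
  mul_mem (ncj y hx) (inv_mem hx)

theorem cq_iff (N : Subgroup Y) [N.Normal] (u x : Y) :
    QuotientGroup.mk' N u * QuotientGroup.mk' N x = QuotientGroup.mk' N x * QuotientGroup.mk' N u ↔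
      u * x * u⁻¹ * x⁻¹ ∈ N := by
  rw [← QuotientGroup.eq_one_iff, ← QuotientGroup.mk'_apply, map_mul, map_mul, map_mul, map_inv,
    map_inv, mul_inv_eq_one, mul_inv_eq_iff_eq_mul]

theorem cyc3 {G : Type*} [Group G] {h y : G} (h3 : h ^ 3 = 1)
    (c1 : y * (h * y * h⁻¹) = h * y * h⁻¹ * y)
    (c2 : y * (h * (h * y * h⁻¹) * h⁻¹) = h * (h * y * h⁻¹) * h⁻¹ * y) :
    h * (y * (h * y * h⁻¹) * (h * (h * y * h⁻¹) * h⁻¹)) =
      y * (h * y * h⁻¹) * (h * (h * y * h⁻¹) * h⁻¹) * h := by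
  apply comm_of_conj
  calc _ = h * y * h⁻¹ * (h * (h * y * h⁻¹) * h⁻¹) * (h ^ 3 * y * (h ^ 3)⁻¹) := by
        simp only [pow_three]; group
    _ = _ := by rw [h3, one_mul, inv_one, mul_one, mul_assoc, ← c2, ← mul_assoc, ← c1]

theorem CX.sqm (H : CX π N Ω A ψ ρ) {a b : Y} (ha : a ∈ A) (hb : b ∈ A) :
    a * b * (a * b) = a * a * (b * b) := (show Commute b a from H.ab b hb a ha).mul_mul_mul_comm _ _

theorem CX.sq1 (H : CX π N Ω A ψ ρ) (ha0 : a0 ∈ A) (e0 : ψ a0 = w) {x : Y} (hx : x ∈ A)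
    (e : ψ x = 1 ∨ ψ x = w) : x * x = 1 ∨ x * x = a0 * a0 :=
  e.imp (fun e => H.e2 x ((H.ker x hx).1 e)) fun e => (H.sqi x hx a0 ha0).2 (e.trans e0.symm)

theorem CX.sq2 (H : CX π N Ω A ψ ρ) (ha0 : a0 ∈ A) (e0 : ψ a0 = w) {x : Y} (hx : x ∈ A)
    (e : x * x = 1 ∨ x * x = a0 * a0) : ψ x = 1 ∨ ψ x = w :=
  e.imp (fun e => ((H.sqi x hx 1 (one_mem _)).1 (by rw [e, mul_one])).trans
    ((H.ker 1 (one_mem _)).2 (one_mem _))) fun e => ((H.sqi x hx a0 ha0).1 e).trans e0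

theorem CX.act (H : CX π N Ω A ψ ρ) (ha0 : a0 ∈ A) (e0 : ψ a0 = w) {y : Y}
    (hy : ∀ v, ρ y v * v = 1 ∨ ρ y v * v = w) {m : Y} (hm : m ∈ N) :
    y * m * y⁻¹ = m ∨ y * m * y⁻¹ = a0 * a0 * m := by
  obtain ⟨a, ha, rfl⟩ := H.sur m hm
  have e : y * (a * a) * y⁻¹ = y * a * y⁻¹ * a⁻¹ * (y * a * y⁻¹ * a⁻¹) * (a * a) := by
    rw [← H.sqm (ncm y ha) ha]; group
  rcases H.sq1 ha0 e0 (ncm y ha) (by rw [H.toFr.comm y ha]; exact hy _) with e' | e'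
  · left; rw [e, e', one_mul]
  · right; rw [e, e']

theorem CX.hN (H : CX π N Ω A ψ ρ) (co : Co w k (ρ t) (ρ h)) (ha0 : a0 ∈ A) (e0 : ψ a0 = w) {m : Y}
    (hm : m ∈ N) (e : h * m * h⁻¹ = m) : m = 1 ∨ m = a0 * a0 := by
  obtain ⟨a, ha, rfl⟩ := H.sur m hm
  refine H.sq1 ha0 e0 ha (co.of_fix ?_)
  rw [← H.cj h a ha, ← H.sqi _ (ncj h ha) a ha, conj_mul, e]

theorem CX.hfix (H : CX π N Ω A ψ ρ) (co : Co w k (ρ t) (ρ h)) (h3 : h ^ 3 = 1) {c : Y} (hc : c ∈ A)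
    (e : ψ c = 1 ∨ ψ c = w) : h * c * h⁻¹ * c⁻¹ ∈ N := by
  let q := QuotientGroup.mk' N
  have hd : h * c * h⁻¹ * c⁻¹ ∈ Ω := by
    rw [← H.ker _ (ncm h hc), H.toFr.comm h hc, co.fix e, c3_two]
  refine (QuotientGroup.eq_one_iff _).1 (HF (h := q h) (x := q c) (c := q (h * c * h⁻¹ * c⁻¹))
    (by rw [← map_pow, h3, map_one]) (by simp) ((cq_iff N _ _).2 (H.tΩ h _ hd)) ?_)
  rw [← map_pow, show 4 = 2 * 2 from rfl, pow_mul, pow_two (_ * _), H.e2 _ hd, one_pow, map_one]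

theorem CX.p3 (H : CX π N Ω A ψ ρ) (co : Co w k (ρ t) (ρ h)) (h3 : h ^ 3 = 1) (T : Tr π.ker h t) :
    t * t ∈ A := by
  by_contra hy
  obtain ⟨a0, ha0, e0⟩ := H.surj w
  obtain ⟨b, hb, eb⟩ := H.surj k
  have yQ := T.1
  obtain ⟨y, ey⟩ : ∃ y, y = t * t := ⟨_, rfl⟩
  rw [← ey] at hy yQ
  have nA : ∀ g, ∀ x, x ∉ A → g * x * g⁻¹ ∉ A := fun g x hx e => hx (by
    simpa [mul_assoc] using ncj g⁻¹ e)
  have dec : ∀ y ∈ π.ker, y ∉ A → ∀ x ∈ π.ker, x ∉ A → ∃ a ∈ A, x = a * y := fun y yQ hy x hx e =>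
    ⟨x * y⁻¹, H.hi x hx _ (inv_mem yQ) e (by rwa [inv_mem_iff]), by simp⟩
  by_cases c : ∀ a ∈ A, y * a = a * y
  · have ab : ∀ x ∈ π.ker, ∀ z ∈ π.ker, x * z = z * x := by
      have c1 : ∀ x ∈ π.ker, Commute y x ∧ ∀ a ∈ A, Commute a x := fun x hx => by
        by_cases e : x ∈ A
        · exact ⟨c x e, fun a ha => H.ab a ha x e⟩
        obtain ⟨a, ha, rfl⟩ := dec y yQ hy x hx e
        exact ⟨(show Commute y a from c a ha).mul_right (Commute.refl y), fun a' ha' =>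
          (show Commute a' a from H.ab a' ha' a ha).mul_right (c a' ha').symm⟩
      intro x hx z hz
      by_cases e : x ∈ A
      · exact (c1 z hz).2 x e
      obtain ⟨a, ha, rfl⟩ := dec y yQ hy x hx e
      exact ((c1 z hz).2 a ha).mul_left (c1 z hz).1
    let q := QuotientGroup.mk' N
    have h3' : q h ^ 3 = 1 := by rw [← map_pow, h3, map_one]
    have ab' : ∀ x ∈ π.ker.map q, ∀ z ∈ π.ker.map q, x * z = z * x := by
      rintro _ ⟨x, hx, rfl⟩ _ ⟨z, hz, rfl⟩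
      rw [← map_mul, ab x hx z hz, map_mul]
    have x4 : ∀ x ∈ π.ker.map q, x ^ 4 = 1 := by
      rintro _ ⟨x, hx, rfl⟩
      rw [← map_pow, show 4 = 2 * 2 from rfl, pow_mul, pow_two x, pow_two, H.e2 _ (H.sqQ x hx), map_one]
    have b' : ∀ x ∈ π.ker.map q, q t * x * (q t)⁻¹ * x⁻¹ ∈ π.ker.map q ∧
        q h * (q t * x * (q t)⁻¹ * x⁻¹) = q t * x * (q t)⁻¹ * x⁻¹ * q h := by
      rintro _ ⟨x, hx, rfl⟩
      rw [← map_inv, ← map_inv, ← map_mul, ← map_mul, ← map_mul]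
      refine ⟨⟨_, ncm t hx, rfl⟩, (cq_iff N _ _).2 ?_⟩
      obtain ⟨a, ha, e⟩ : ∃ a ∈ A, t * x * t⁻¹ * x⁻¹ = t * a * t⁻¹ * a⁻¹ := by
        by_cases e : x ∈ A
        · exact ⟨x, e, rfl⟩
        obtain ⟨a, ha, rfl⟩ := dec y yQ hy x hx e
        exact ⟨a, ha, by rw [ey]; group⟩
      rw [e]
      exact H.hfix co h3 (ncm t ha) (by rw [H.toFr.comm t ha]; exact co.tv' _)
    have hu : q t * q t ∈ π.ker.map q := ⟨_, T.1, by simp⟩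
    have hp : q t * (q h * q t * (q h)⁻¹) * (q h * (q h * q t * (q h)⁻¹) * (q h)⁻¹) ∈ π.ker.map q :=
      ⟨_, T.2.1, by simp⟩
    obtain ⟨y0, y0Q, y0A, y0h⟩ : ∃ y0 ∈ π.ker, y0 ∉ A ∧ h * y0 = y0 * h :=
      ⟨_, mul_mem (mul_mem yQ (ncj h yQ)) (ncj h (ncj h yQ)), fun e => nA h _ (nA h y hy)
        ((mul_mem_cancel_left (H.hi y yQ _ (ncj h yQ) hy (nA h y hy))).1 e),
        cyc3 h3 (ab _ yQ _ (ncj h yQ)) (ab _ yQ _ (ncj h (ncj h yQ)))⟩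
    have f0 : q h * q y0 = q y0 * q h := by rw [← map_mul, y0h, map_mul]
    have f1 := DZa h3' ab' x4 b' hu hp _ ⟨y0, y0Q, rfl⟩ f0
    obtain ⟨-, k2, -⟩ := DZ h3' ab' x4 (by
      rintro _ ⟨x, hx, rfl⟩
      exact ⟨_, ncj h hx, by simp⟩) b' hu hp ⟨_, T.2.2, by simp⟩ (by
      rintro _ ⟨x, hx, rfl⟩ e1 e2 _ ⟨z, hz, rfl⟩ e3
      obtain ⟨a, ha, u, rfl, u1, u2⟩ : ∃ a ∈ A, ∃ u, x = a * u ∧ Commute (q h) (q u) ∧
          Commute (q t) (q u) := by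
        by_cases e : x ∈ A
        · exact ⟨x, e, 1, by simp, by simp, by simp⟩
        obtain ⟨a, ha, rfl⟩ := dec y0 y0Q y0A x hx e
        exact ⟨a, ha, y0, rfl, f0, f1⟩
      rw [map_mul] at e1 e2 e3
      have g1 : t * a * t⁻¹ * a⁻¹ ∈ N := (cq_iff N _ _).1 (by
        have := (show Commute (q t) _ from e2).mul_right u2.inv_right
        rwa [mul_inv_cancel_right] at this)
      have g2 : h * t * h⁻¹ * a * (h * t * h⁻¹)⁻¹ * a⁻¹ ∈ Ω := by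
        rw [← mul_assoc _ (q a), mul_assoc _ (q u), (show Commute _ _ from comm_conj u1 u2).inv_left.symm.eq]
          at e3
        have : q (h * t * h⁻¹ * a * (h * t * h⁻¹)⁻¹ * a⁻¹ * (z * z)⁻¹) = 1 := by
          simp only [map_mul, map_inv]
          rw [← e3]; group
        exact (mul_mem_cancel_right (inv_mem (H.sqQ z hz))).1 (H.NΩ ((QuotientGroup.eq_one_iff _).1 this))
      have g3 := (H.ker _ (ncm t ha)).2 (H.NΩ g1)
      have g4 := (H.ker _ (ncm _ ha)).2 g2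
      rw [H.toFr.comm _ ha, mul_eq_one_iff_eq_inv, c3_inv] at g3 g4
      have g5 : ψ a = 1 ∨ ψ a = w := by
        rcases co.mv (ψ a) with e | e | e | e
        exacts [Or.inl e, Or.inr e, absurd g3 e, absurd (by simpa using g4) e]
      exact e1 ((show Commute (q h) (q a) from (cq_iff N _ _).2 (H.hfix co h3 ha g5)).mul_right u1))
    rw [← map_pow, show 4 = 2 * 2 from rfl, pow_mul, pow_two t, ← ey, pow_two] at k2
    rcases (H.out y yQ hy).2 with e | ⟨a, ha, e⟩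
    exacts [e ((QuotientGroup.eq_one_iff _).1 k2), e (c a ha)]
  have b2 : ∀ g, ∀ a ∈ A, g * (y * a * y⁻¹ * a⁻¹) * g⁻¹ =
      y * (g * a * g⁻¹) * y⁻¹ * (g * a * g⁻¹)⁻¹ := fun g a ha => by
    obtain ⟨d, hd, e⟩ := dec y yQ hy _ (ncj g yQ) (nA g y hy)
    calc _ = g * y * g⁻¹ * (g * a * g⁻¹) * (g * y * g⁻¹)⁻¹ * (g * a * g⁻¹)⁻¹ := by group
      _ = d * (y * (g * a * g⁻¹) * y⁻¹) * d⁻¹ * (g * a * g⁻¹)⁻¹ := by rw [e]; group
      _ = _ := by rw [H.ab d hd _ (ncj y (ncj g ha)), mul_inv_cancel_right]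
  have b3 : ∀ a ∈ A, ∀ a' ∈ A, ψ a = ψ a' → y * a * y⁻¹ * a⁻¹ = y * a' * y⁻¹ * a'⁻¹ := by
    intro a ha a' ha' e
    have hd : a * a'⁻¹ ∈ Ω := by
      rw [← H.ker _ (mul_mem ha (inv_mem ha')), H.mul a ha _ (inv_mem ha'), H.inv a' ha', e, c3_two]
    calc _ = y * (a * a'⁻¹) * (a' * y⁻¹ * a'⁻¹) * (a * a'⁻¹)⁻¹ := by group
      _ = a * a'⁻¹ * (y * a' * y⁻¹ * a'⁻¹) * (a * a'⁻¹)⁻¹ := by rw [H.zΩ _ hd y yQ]; group
      _ = _ := by rw [← H.zΩ _ hd _ (H.AQ (ncm y ha')), mul_inv_cancel_right]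
  have b5 : ∀ a ∈ A, ψ a ≠ 1 → ∃ g, y * a * y⁻¹ * a⁻¹ = g * (y * a0 * y⁻¹ * a0⁻¹) * g⁻¹ ∧
      a * a = g * (a0 * a0) * g⁻¹ := fun a ha e => by
    obtain ⟨g, hg⟩ := H.tr w (ψ a) co.w1 e
    rw [← e0, ← H.cj g a0 ha0] at hg
    exact ⟨g, by rw [b2 g a0 ha0, b3 _ (ncj g ha0) a ha hg], by
      rw [← conj_mul, (H.sqi _ (ncj g ha0) a ha).2 hg]⟩
  rcases H.hN co ha0 e0 (H.cm y yQ a0 (H.AQ ha0)) (by
    rw [b2 h a0 ha0, b3 _ (ncj h ha0) a0 ha0 (by rw [H.cj h a0 ha0, e0, co.hw])]) with e | e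
  · refine c fun a ha => ?_
    by_cases e' : ψ a = 1
    · exact H.zΩ a ((H.ker a ha).1 e') y yQ
    obtain ⟨g, g1, -⟩ := b5 a ha e'
    rwa [e, mul_one, mul_inv_cancel, mul_inv_eq_one, mul_inv_eq_iff_eq_mul] at g1
  obtain ⟨g, g1, g2⟩ := b5 b hb (eb ▸ co.k1)
  rw [e, ← g2] at g1
  obtain ⟨d, ed⟩ : ∃ d, d = t * b * t⁻¹ * b⁻¹ := ⟨_, rfl⟩
  have hd : d ∈ Ω := by rw [ed, ← H.ker _ (ncm t hb), H.toFr.comm t hb, eb, co.tk, c3_two]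
  have e1 : b * b = t * d * t⁻¹ * d := by rw [← g1, ey, ed]; group
  have e2 : t * d * t⁻¹ = d ∨ t * d * t⁻¹ = a0 * a0 * d := by
    rcases (H.out y yQ hy).1 d hd with e | e
    · exact H.act ha0 e0 co.tv' e
    have e3 : t * (d * (y * y)) * t⁻¹ = t * d * t⁻¹ * (y * y) := by rw [ey]; group
    have := H.act ha0 e0 co.tv' e
    rwa [e3, ← mul_assoc (a0 * a0), mul_left_inj, mul_left_inj] at this
  rcases H.sq2 ha0 e0 hb (e2.imp (fun e => by rw [e1, e, H.e2 d hd])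
    fun e => by rw [e1, e, mul_assoc, H.e2 d hd, mul_one]) with e | e
  exacts [co.k1 (eb ▸ e), co.k2 (eb ▸ e)]

end Cfsg.Agent.H3.R4
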