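import Cfsg.Agent.H3.R7f

/-! Two noncentral chief factors: the contradiction. -/

set_option autoImplicit false
set_option linter.unusedSectionVars false
open Subgroup
open scoped IsMulCommutative

namespace Cfsg.Agent.H3.R4

universe u

variable {Y : Type u} {K : Type*} [Group Y] [Finite Y] [Group K] {π : Y →* K}
variable {N Ω A : Subgroup Y} [N.Normal] [Ω.Normal] [A.Normal] {ψ : Y → C3} {ρ : Y →* MulAut C3}
variable {w k : C3} {t h a0 : Y}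

theorem conj_h {G : Type*} [Group G] {h t x c : G} (hx : h * x = x * h) (hc : h * c = c * h)
    (e : t * x * t⁻¹ = c * x) : h * t * h⁻¹ * x * (h * t * h⁻¹)⁻¹ = c * x := by
  calc _ = h * (t * (h⁻¹ * x * h) * t⁻¹) * h⁻¹ := by group
    _ = h * c * x * h⁻¹ := by rw [mul_assoc h⁻¹, ← hx, inv_mul_cancel_left, e]; group
    _ = _ := by rw [hc, mul_assoc c, hx]; group

/-- common fixed points -/
def ZS (A : Subgroup Y) (h t : Y) : Subgroup Y := A ⊓ (centralizer {h} ⊓ centralizer {t})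

theorem mZ {x : Y} : x ∈ ZS A h t ↔ x ∈ A ∧ h * x = x * h ∧ t * x = x * t :=
  and_congr_right fun _ => and_congr (mem_centralizer_singleton_iff.trans eq_comm)
    (mem_centralizer_singleton_iff.trans eq_comm)

theorem mE' {x : Y} : x ∈ N ⊓ centralizer {h} ↔ x ∈ N ∧ h * x = x * h :=
  and_congr_right fun _ => mem_centralizer_singleton_iff.trans eq_comm

theorem norm_sup {Z : Subgroup Y} {u : Y} (hu : ∀ z ∈ Z, u * z = z * u) :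
    u ∈ normalizer ((Z ⊔ N : Subgroup Y) : Set Y) := by
  refine mem_normalizer_fintype fun x hx => ?_
  obtain ⟨z, hz, m, hm, rfl⟩ := mem_sup_of_normal_right.1 hx
  rw [← conj_mul, hu z hz, mul_inv_cancel_right]
  exact mul_mem_sup hz (ncj u hm)

theorem CX.cmul (H : CX π N Ω A ψ ρ) (y : Y) {a b : Y} (ha : a ∈ A) (hb : b ∈ A) :
    y * (a * b) * y⁻¹ * (a * b)⁻¹ = y * a * y⁻¹ * a⁻¹ * (y * b * y⁻¹ * b⁻¹) := by
  rw [mul_assoc _ a⁻¹, H.ab _ (inv_mem ha) _ (ncm y hb)]; group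

theorem CX.fixn (H : CX π N Ω A ψ ρ) (ha0 : a0 ∈ A) (e0 : ψ a0 = w) {y : Y} (hy : ρ y w = w) :
    y * (a0 * a0) = a0 * a0 * y := comm_of_conj (by
  rw [← conj_mul, H.sqi _ (ncj y ha0) a0 ha0, H.cj y a0 ha0, e0, hy])

theorem CX.mE (H : CX π N Ω A ψ ρ) (co : Co w k (ρ t) (ρ h)) (ha0 : a0 ∈ A) (e0 : ψ a0 = w) {m : Y} :
    m ∈ N ⊓ centralizer {h} ↔ m = 1 ∨ m = a0 * a0 := by
  refine ⟨fun hm => H.hN co ha0 e0 hm.1 (mul_inv_eq_iff_eq_mul.2 (mE'.1 hm).2), ?_⟩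
  rintro (rfl | rfl)
  exacts [one_mem _, mE'.2 ⟨H.sqA _ ha0, H.fixn ha0 e0 co.hw⟩]

theorem CX.E1 (H : CX π N Ω A ψ ρ) (co : Co w k (ρ t) (ρ h)) {y : Y}
    (hy : ∀ v, ρ y v * v = 1 ∨ ρ y v * v = w) {m : Y} (hm : m ∈ N) :
    y * m * y⁻¹ * m⁻¹ ∈ N ⊓ centralizer {h} := by
  obtain ⟨a0, ha0, e0⟩ := H.surj w
  rw [H.mE co ha0 e0]
  exact (H.act ha0 e0 hy hm).imp (fun e => by rw [e, mul_inv_cancel])
    fun e => by rw [e, mul_inv_cancel_right]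

theorem CX.E2 (H : CX π N Ω A ψ ρ) (co : Co w k (ρ t) (ρ h)) {x : Y} (hx : x ∈ A) :
    x * x ∈ N ⊓ centralizer {h} ↔ ψ x = 1 ∨ ψ x = w := by
  obtain ⟨a0, ha0, e0⟩ := H.surj w
  rw [H.mE co ha0 e0]
  exact ⟨H.sq2 ha0 e0 hx, H.sq1 ha0 e0 hx⟩

theorem CX.E3 (H : CX π N Ω A ψ ρ) (co : Co w k (ρ t) (ρ h)) : N ⊓ centralizer {h} ≤ ZS A h t := by
  obtain ⟨a0, ha0, e0⟩ := H.surj w
  intro m hm
  refine mZ.2 ⟨H.ΩA (H.NΩ hm.1), (mE'.1 hm).2, ?_⟩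
  rcases (H.mE co ha0 e0).1 hm with rfl | rfl
  exacts [by simp, H.fixn ha0 e0 co.tw]

theorem CX.tv2 (co : Co w k (ρ t) (ρ h)) (v : C3) :
    ρ (h * t * h⁻¹) v * v = 1 ∨ ρ (h * t * h⁻¹) v * v = w := by
  rw [map_mul, map_mul, map_inv]; exact co.tv2 v

theorem CX.fixq (H : CX π N Ω A ψ ρ) (co : Co w k (ρ t) (ρ h)) {x : Y} (hx : x ∈ A) :
    QuotientGroup.mk' Ω h * QuotientGroup.mk' Ω x = QuotientGroup.mk' Ω x * QuotientGroup.mk' Ω h ↔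
      ψ x = 1 ∨ ψ x = w := by
  rw [cq_iff, ← H.ker _ (ncm h hx), H.toFr.comm h hx, mul_eq_one_iff_eq_inv, c3_inv]
  exact ⟨co.of_fix, co.fix⟩

theorem CX.x4 (H : CX π N Ω A ψ ρ) {x : Y} (hx : x ∈ A) : x ^ 4 = 1 := by
  rw [show 4 = 2 * 2 from rfl, pow_mul, pow_two x, pow_two, H.e2 _ (H.NΩ (H.sqA x hx))]

theorem CX.la (H : CX π N Ω A ψ ρ) (co : Co w k (ρ t) (ρ h)) (h3 : h ^ 3 = 1) (T : Tr A h t) :
    (ψ (t * t) = 1 ∨ ψ (t * t) = w) ∧ (ψ (t * (h * t * h⁻¹) * t⁻¹ * (h * t * h⁻¹)⁻¹) = 1 ∨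
      ψ (t * (h * t * h⁻¹) * t⁻¹ * (h * t * h⁻¹)⁻¹) = w) := by
  let q := QuotientGroup.mk' Ω
  obtain ⟨k1, -, k3, -⟩ := DZ (h := q h) (t := q t) (Q := A.map q) (by rw [← map_pow, h3, map_one])
    (by
      rintro _ ⟨x, hx, rfl⟩ _ ⟨z, hz, rfl⟩
      rw [← map_mul, H.ab x hx z hz, map_mul])
    (by
      rintro _ ⟨x, hx, rfl⟩
      rw [← map_pow, H.x4 hx, map_one])
    (by
      rintro _ ⟨x, hx, rfl⟩
      exact ⟨_, ncj h hx, by simp⟩)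
    (by
      rintro _ ⟨x, hx, rfl⟩
      rw [← map_inv, ← map_inv, ← map_mul, ← map_mul, ← map_mul]
      exact ⟨⟨_, ncm t hx, rfl⟩, (H.fixq co (ncm t hx)).2 (by rw [H.toFr.comm t hx]; exact co.tv' _)⟩)
    ⟨_, T.1, by simp⟩ ⟨_, T.2.1, by simp⟩ ⟨_, T.2.2, by simp⟩ (by
      rintro _ ⟨a, ha, rfl⟩ e1 e2 _ ⟨z, hz, rfl⟩ e3
      have g3 := (H.ker _ (ncm t ha)).2 ((cq_iff Ω _ _).1 e2)
      have g4 := (H.ker _ (ncm (h * t * h⁻¹) ha)).2 ((QuotientGroup.eq_one_iff _).1 (by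
        rw [← map_mul q z, show q (z * z) = 1 from (QuotientGroup.eq_one_iff _).2 (H.NΩ (H.sqA z hz))] at e3
        exact e3))
      rw [H.toFr.comm _ ha, mul_eq_one_iff_eq_inv, c3_inv] at g3 g4
      refine e1 ((H.fixq co ha).2 ?_)
      rcases co.mv (ψ a) with e | e | e | e
      exacts [Or.inl e, Or.inr e, absurd g3 e, absurd (by simpa using g4) e])
  exact ⟨(H.fixq co T.1).1 k1, (H.fixq co T.2.2).1 k3⟩

theorem CX.lK (H : CX π N Ω A ψ ρ) (co : Co w k (ρ t) (ρ h)) (h3 : h ^ 3 = 1) (T : Tr A h t) {x : Y}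
    (hx : x ∈ A) (e : ψ x = 1 ∨ ψ x = w) (ht : t * x * t⁻¹ * x⁻¹ ∈ N ⊓ centralizer {h}) :
    x ∈ ZS A h t ⊔ N := by
  obtain ⟨x0, e0⟩ : ∃ x0, x0 = x * (h * x * h⁻¹) * (h * (h * x * h⁻¹) * h⁻¹) := ⟨_, rfl⟩
  have a1 : x0 ∈ A := e0 ▸ mul_mem (mul_mem hx (ncj h hx)) (ncj h (ncj h hx))
  have a2 : h * x0 = x0 * h := e0 ▸ cyc3 h3 (H.ab _ hx _ (ncj h hx)) (H.ab _ hx _ (ncj h (ncj h hx)))
  have a3 : x⁻¹ * x0 ∈ N := by
    have b := H.hfix co h3 hx e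
    have : x⁻¹ * x0 = h * x * h⁻¹ * x⁻¹ * (x * (h * (h * x * h⁻¹ * x⁻¹) * h⁻¹) * x⁻¹) *
      (x * (h * x * h⁻¹ * x⁻¹) * x⁻¹) * (x * x) := by rw [e0]; group
    rw [this]
    exact mul_mem (mul_mem (mul_mem b (ncj x (ncj h b))) (ncj x b)) (H.sqA x hx)
  have a4 : t * x0 * t⁻¹ * x0⁻¹ ∈ N ⊓ centralizer {h} := by
    have := mul_mem ht (H.E1 co co.tv' a3)
    rwa [← H.cmul t hx (H.ΩA (H.NΩ a3)), mul_inv_cancel_left] at this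
  obtain ⟨b1, b2, b3⟩ := mZ.1 (H.E3 co a4)
  have b4 : t * x0 * t⁻¹ = t * x0 * t⁻¹ * x0⁻¹ * x0 := by group
  have a5 := T3 b4 (conj_h a2 b2 b4) (conj_h a2 b2 (conj_h a2 b2 b4)) b3 (comm_conj b2 b3)
    (H.ab _ T.2.1 _ a1) (H.x4 b1)
  rw [mul_inv_eq_one, mul_inv_eq_iff_eq_mul] at a5
  have := mul_mem_sup (mZ.2 ⟨a1, a2, a5⟩) (inv_mem a3)
  simpa using this

theorem ZS_le : ZS A h t ≤ A := inf_le_left

theorem CX.A2 (H : CX π N Ω A ψ ρ) : ZS A h t ⊔ N ≤ A := sup_le ZS_le (H.NΩ.trans H.ΩA)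

theorem CX.cE (H : CX π N Ω A ψ ρ) (co : Co w k (ρ t) (ρ h)) {y : Y}
    (hy : ∀ v, ρ y v * v = 1 ∨ ρ y v * v = w) (z : ∀ z ∈ ZS A h t, y * z = z * y) {x : Y}
    (hx : x ∈ ZS A h t ⊔ N) : y * x * y⁻¹ * x⁻¹ ∈ N ⊓ centralizer {h} := by
  obtain ⟨a, ha, m, hm, rfl⟩ := mem_sup_of_normal_right.1 hx
  rw [H.cmul y (ZS_le ha) (H.ΩA (H.NΩ hm)), z a ha]
  simpa using H.E1 co hy hm

theorem z2 : ∀ z ∈ ZS A h t, h * t * h⁻¹ * z = z * (h * t * h⁻¹) := fun _ hz =>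
  comm_conj (mZ.1 hz).2.1 (mZ.1 hz).2.2

theorem CX.ld (H : CX π N Ω A ψ ρ) (co : Co w k (ρ t) (ρ h)) (h3 : h ^ 3 = 1) (T : Tr A h t) :
    Nat.card Ω * 2 ≤ Nat.card ↥(ZS A h t ⊔ N) ∧ ∀ x ∈ A, ψ x = 1 ∨ ψ x = w → x ∈ ZS A h t ⊔ N := by
  obtain ⟨l1, l2⟩ := H.la co h3 T
  have nh : ∀ x ∈ ZS A h t ⊔ N, h * x * h⁻¹ ∈ ZS A h t ⊔ N := fun x hx =>
    (mem_normalizer_iff.1 (norm_sup fun z hz => (mZ.1 hz).2.1) x).1 hx
  have u1 : t * t ∈ ZS A h t ⊔ N := H.lK co h3 T T.1 l1 (by simp [mul_assoc, one_mem])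
  have iv : ∀ x ∈ A, ψ x = 1 ∨ ψ x = w → t * x * t⁻¹ * x ∈ N ⊓ centralizer {h} → x ∈ ZS A h t ⊔ N :=
    fun x hx e1 e2 => H.lK co h3 T hx e1 (by
      simpa [mul_assoc] using mul_mem e2 (inv_mem ((H.E2 co hx).2 e1)))
  have c1 : ∀ a ∈ A, t * a * t⁻¹ * a⁻¹ ∈ ZS A h t ⊔ N := fun a ha =>
    iv _ (ncm t ha) (by rw [H.toFr.comm t ha]; exact co.tv' _) (by
      have : t * (t * a * t⁻¹ * a⁻¹) * t⁻¹ * (t * a * t⁻¹ * a⁻¹) = t * t * a * (t * t)⁻¹ * a⁻¹ := by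
        group
      rw [this, H.ab _ T.1 a ha, mul_inv_cancel_right, mul_inv_cancel]; exact one_mem _)
  have a1 := five_sec H.hy.sc (L := A) (M := ZS A h t ⊔ N) (t1 := t) (t2 := h * t * h⁻¹)
    (fun a ha => norm_sup fun z hz => H.ab a ha z (ZS_le hz)) (norm_sup fun z hz => (mZ.1 hz).2.2)
    (norm_sup z2) (fun a ha => mem_sup_right (H.sqA a ha)) u1 (by rw [conj_mul]; exact nh _ u1) H.ab c1
    (fun a ha => by
      have := nh _ (c1 _ (ncj h⁻¹ ha))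
      convert this using 1; group)
    (iv _ T.2.2 l2 (by
      have := inv_mem (H.cE co (CX.tv2 co) z2 u1)
      convert this using 1; simp [mul_assoc]))
  have a2 := H.toFr.card4 co H.AQ
  have a3 := H.toCH.cardA
  have a4 : Nat.card Ω * 2 ≤ Nat.card ↥(ZS A h t ⊔ N) := by omega
  refine ⟨a4, ?_⟩
  let q := QuotientGroup.mk' Ω
  let A1 := A ⊓ (centralizer {q h}).comap q
  have m1 : ∀ x, x ∈ A1 ↔ x ∈ A ∧ (ψ x = 1 ∨ ψ x = w) := fun x => and_congr_right fun hx =>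
    (mem_centralizer_singleton_iff.trans eq_comm).trans (H.fixq co hx)
  have b1 : Ω.relIndex A1 ≤ 2 := H12.SR.idx_two fun a ha b hb a1 b1 => by
    obtain ⟨a2, a3⟩ := (m1 a).1 ha
    obtain ⟨b2, b3⟩ := (m1 b).1 hb
    rw [← H.ker _ (mul_mem (inv_mem a2) b2), H.mul _ (inv_mem a2) _ b2, H.inv a a2,
      a3.resolve_left fun e => a1 ((H.ker a a2).1 e), b3.resolve_left fun e => b1 ((H.ker b b2).1 e),
      c3_two]
  have b2 := H12.SR.card_le_idx A1 le_rfl b1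
  have b3 : Nat.card ↥(Ω ⊓ A1) ≤ Nat.card Ω := card_le_of_le inf_le_left
  have b4 : ZS A h t ⊔ N = A1 := eq_of_le_of_card_ge (sup_le (fun z hz => (m1 z).2 ⟨ZS_le hz,
    (H.fixq co (ZS_le hz)).1 (by rw [← map_mul, (mZ.1 hz).2.1, map_mul])⟩) fun m hm => (m1 m).2
      ⟨H.ΩA (H.NΩ hm), Or.inl ((H.ker m (H.ΩA (H.NΩ hm))).2 (H.NΩ hm))⟩) (by omega)
  exact fun x hx e => b4 ▸ (m1 x).2 ⟨hx, e⟩

theorem CX.le (H : CX π N Ω A ψ ρ) (co : Co w k (ρ t) (ρ h)) (h3 : h ^ 3 = 1) (T : Tr A h t) :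
    ∃ a ∈ A, h * (a * t * (a * t)) = a * t * (a * t) * h := by
  have key : ∀ x ∈ A, ψ x = 1 ∨ ψ x = w → t * x = x * t → h * x ≠ x * h →
      ∃ z ∈ ZS A h t, ∃ b ∈ A, x = z * (b * b) ∧ ρ t (ψ b) = ψ b ∧ ¬ (ψ b = 1 ∨ ψ b = w) := by
    intro x hx e1 e2 e3
    obtain ⟨z, hz, m, hm, rfl⟩ := mem_sup_of_normal_right.1 ((H.ld co h3 T).2 x hx e1)
    obtain ⟨b, hb, rfl⟩ := H.sur m hm
    refine ⟨z, hz, b, hb, rfl, ?_, fun e => e3 ((show Commute h z from (mZ.1 hz).2.1).mul_right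
      (mE'.1 ((H.E2 co hb).2 e)).2)⟩
    have := (show Commute t z from (mZ.1 hz).2.2).inv_right.mul_right e2
    rw [inv_mul_cancel_left] at this
    rw [← H.cj t b hb, ← H.sqi _ (ncj t hb) b hb, conj_mul, this.eq, mul_inv_cancel_right]
  by_cases c : h * (t * t) = t * t * h
  · exact ⟨1, one_mem _, by rwa [one_mul]⟩
  obtain ⟨z, hz, b, hb, e1, e2, e3⟩ := key _ T.1 (H.la co h3 T).1 (mul_assoc _ _ _).symm c
  have ts : ∀ a ∈ A, t * (a * (t * a * t⁻¹)) = a * (t * a * t⁻¹) * t := fun a ha => comm_of_conj (by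
    calc _ = t * a * t⁻¹ * (t * t * a * (t * t)⁻¹) := by group
      _ = _ := by rw [H.ab _ T.1 a ha, mul_inv_cancel_right, H.ab _ (ncj t ha) a ha])
  by_cases c' : ∀ a ∈ A, h * (a * (t * a * t⁻¹)) = a * (t * a * t⁻¹) * h
  · exfalso
    have st : ∀ u, (∀ a ∈ A, a * (u * a * u⁻¹) ∈ ZS A h t) →
        ∀ a ∈ A, a * (h * u * h⁻¹ * a * (h * u * h⁻¹)⁻¹) ∈ ZS A h t := fun u hu a ha => by
      have := hu _ (ncj h⁻¹ ha)
      rw [← mul_inv_eq_iff_eq_mul.2 (mZ.1 this).2.1] at this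
      convert this using 1; group
    have p1 : ∀ a ∈ A, a * (t * a * t⁻¹) ∈ ZS A h t := fun a ha =>
      mZ.2 ⟨mul_mem ha (ncj t ha), c' a ha, ts a ha⟩
    have p2 := st _ p1
    have p3 := st _ p2
    obtain ⟨d, hd, ed⟩ := H.surj k
    have q1 := p1 d hd
    have q2 := p2 _ (inv_mem hd)
    have q3 := p3 d hd
    have q4 := z2 _ q3
    have q5 := (mZ.1 (mul_mem q2 q3)).2.2
    have q6 := H.ab _ T.2.1 d hd
    have q7 := mul_mem q1 (mul_mem q2 q3)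
    generalize h * t * h⁻¹ = t2 at *
    generalize h * t2 * h⁻¹ = t3 at *
    have : d * d = d * (t * d * t⁻¹) * (d⁻¹ * (t2 * d⁻¹ * t2⁻¹) * (d * (t3 * d * t3⁻¹))) := by
      calc _ = d * (t * t2 * t3 * d * (t * t2 * t3)⁻¹) := by rw [q6, mul_inv_cancel_right]
        _ = d * t * (t2 * d⁻¹ * t2⁻¹) * (t2 * (d * (t3 * d * t3⁻¹))) * t2⁻¹ * t⁻¹ := by group
        _ = d * (t * d * t⁻¹) * (t * (d⁻¹ * (t2 * d⁻¹ * t2⁻¹) * (d * (t3 * d * t3⁻¹)))) * t⁻¹ := by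
          rw [q4]; group
        _ = _ := by rw [q5]; group
    rw [← this] at q7
    rcases (H.E2 co hd).1 (mE'.2 ⟨H.sqA d hd, (mZ.1 q7).2.1⟩) with e | e
    exacts [co.k1 (ed ▸ e), co.k2 (ed ▸ e)]
  push Not at c'
  obtain ⟨a, ha, c'⟩ := c'
  obtain ⟨z', hz', b', hb', f1, f2, f3⟩ := key _ (mul_mem ha (ncj t ha)) (by
    rw [H.mul a ha _ (ncj t ha), H.cj t a ha, mul_comm]; exact co.tv' _) (ts a ha) c'
  have g1 : ψ (b' * b) = 1 ∨ ψ (b' * b) = w := by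
    rw [H.mul _ hb' _ hb]
    have := co.fx _ _ f2 e2
    tauto
  have g2 : a * t * (a * t) = z' * z * (b' * b * (b' * b)) := by
    rw [H.sqm hb' hb, ← (show Commute (b' * b') z from H.ab _ (mul_mem hb' hb') _
      (ZS_le hz)).mul_mul_mul_comm, ← f1, ← e1]
    group
  refine ⟨a, ha, ?_⟩
  rw [g2]
  exact (mZ.1 (mul_mem (mul_mem hz' hz) (H.E3 co ((H.E2 co (mul_mem hb' hb)).2 g1)))).2.1

theorem CX.lf (H : CX π N Ω A ψ ρ) (co : Co w k (ρ t) (ρ h)) (h3 : h ^ 3 = 1) (T : Tr A h t)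
    (hu : h * (t * t) = t * t * h) : False := by
  obtain ⟨d1, d2⟩ := H.ld co h3 T
  have z1 : ∀ z ∈ ZS A h t, t * z = z * t := fun z hz => (mZ.1 hz).2.2
  have uZ : t * t ∈ ZS A h t := mZ.2 ⟨T.1, hu, (mul_assoc _ _ _).symm⟩
  obtain ⟨k1, k2⟩ := ab_mod (N0 := ZS A h t) (Q := ZS A h t ⊔ N) rfl rfl h3 z1
    (fun x hx => H.E3 co (H.cE co co.tv' z1 hx)) (fun x hx => H.E3 co (H.cE co (CX.tv2 co) z2 hx)) z2
    (fun x hx hd => mZ.2 ⟨H.A2 hx, by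
      have := HF h3 (x := x) (c := h * x * h⁻¹ * x⁻¹) (by group) (mZ.1 hd).2.1 (H.x4 (ZS_le hd))
      rwa [mul_inv_eq_one, mul_inv_eq_iff_eq_mul] at this, by
      have := HF h3 (x := x) (c := h * x * h⁻¹ * x⁻¹) (by group) (mZ.1 hd).2.1 (H.x4 (ZS_le hd))
      rw [mul_inv_eq_one, mul_inv_eq_iff_eq_mul] at this
      obtain ⟨z, hz, m, hm, rfl⟩ := mem_sup_of_normal_right.1 hx
      have h1 := (show Commute h z from (mZ.1 hz).2.1).inv_right.mul_right this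
      rw [inv_mul_cancel_left] at h1
      exact z1 _ (mul_mem hz (H.E3 co (mE'.2 ⟨hm, h1⟩)))⟩)
    (d2 _ T.2.1 (co.fpf _ (by
      obtain ⟨p, ep⟩ : ∃ p, p = t * (h * t * h⁻¹) * (h * (h * t * h⁻¹) * h⁻¹) := ⟨_, rfl⟩
      have hp : p ∈ A := ep ▸ T.2.1
      have : h * p * h⁻¹ = t * p * t⁻¹ := by
        calc _ = t⁻¹ * p * (h ^ 3 * t * (h ^ 3)⁻¹) := by rw [ep]; simp only [pow_three]; group
          _ = t⁻¹ * (p * (t * t)) * t⁻¹ := by rw [h3]; simp [mul_assoc]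
          _ = _ := by rw [← H.ab _ T.1 p hp]; group
      rw [← ep, ← H.cj h p hp, this, H.cj t p hp, c3_inv]
      exact co.tv' _))) (d2 _ T.2.2 (H.la co h3 T).2)
  obtain ⟨k3, k4⟩ := ZZ (N0 := ZS A h t) rfl rfl (fun n hn => (mZ.1 hn).2.1) z1
    (fun n hn m hm => H.ab n (ZS_le hn) m (ZS_le hm)) (fun n hn => H.x4 (ZS_le hn)) uZ k1 k2
  have mΩ : ∀ x ∈ A, x * x = 1 → x ∈ Ω := fun x hx e => by
    rw [← H.ker x hx, (H.sqi x hx 1 (one_mem _)).1 (by rw [e, mul_one]), H.ker 1 (one_mem _)]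
    exact one_mem _
  have EM : N ⊓ centralizer {h} ≤ ZS A h t ⊓ Ω := le_inf (H.E3 co) (inf_le_left.trans H.NΩ)
  have u1 : t * t ∈ ZS A h t ⊓ Ω := ⟨uZ, mΩ _ T.1 (by rw [← k3]; simp [pow_succ, mul_assoc])⟩
  have a1 := five_sec H.hy.sc (L := ZS A h t ⊔ N) (M := ZS A h t ⊓ Ω) (t1 := t) (t2 := h * t * h⁻¹)
    (fun a ha => norm_of_comm fun m hm => H.ab a (H.A2 ha) m (ZS_le hm.1))
    (norm_of_comm fun m hm => z1 m hm.1) (norm_of_comm fun m hm => z2 m hm.1)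
    (fun a ha => by
      obtain ⟨z, hz, m, hm, rfl⟩ := mem_sup_of_normal_right.1 ha
      rw [H.sqm (ZS_le hz) (H.ΩA (H.NΩ hm)), H.e2 m (H.NΩ hm), mul_one]
      exact ⟨mul_mem hz hz, H.NΩ (H.sqA z (ZS_le hz))⟩) u1
    (by rw [conj_mul, hu, mul_inv_cancel_right]; exact u1)
    (fun a ha b hb => H.ab a (H.A2 ha) b (H.A2 hb)) (fun a ha => EM (H.cE co co.tv' z1 ha))
    (fun a ha => EM (H.cE co (CX.tv2 co) z2 ha)) ⟨k1, mΩ _ T.2.2 k4⟩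
  have a2 := H.toFr.card4 co (H.A2.trans H.AQ : ZS A h t ⊔ N ≤ _)
  have a3 := H12.SR.card_le_idx (T := N) (ZS A h t ⊓ Ω) inf_le_right le_rfl
  obtain ⟨a0, ha0, e0⟩ := H.surj w
  have a4 : Nat.card ↥(N ⊓ (ZS A h t ⊓ Ω)) ≤ 2 := by
    refine (card_le_of_le (K := zpowers (a0 * a0)) fun m hm => ?_).trans ?_
    · rcases (H.mE co ha0 e0).1 (mE'.2 ⟨hm.1, (mZ.1 hm.2.1).2.1⟩) with rfl | rfl
      exacts [one_mem _, mem_zpowers _]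
    · rw [Nat.card_zpowers]
      exact orderOf_le_of_pow_eq_one (by norm_num) (by rw [pow_two, H.e2 _ (H.NΩ (H.sqA _ ha0))])
  have a5 : Nat.card Ω = 8 * N.relIndex Ω := by
    rw [← H.cN, relIndex, ← Nat.card_congr (subgroupOfEquivOfLe H.NΩ).toEquiv, card_mul_index]
  have a6 := a3.trans (Nat.mul_le_mul_right _ a4)
  have a7 : 0 < Nat.card Ω := Nat.card_pos
  omega

theorem noCH [IsSimpleGroup K] (hK : Nat.card K = 168) : ¬ CH π N Ω A := fun H => by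
  obtain ⟨ψ, ρ, X⟩ := H.cx hK
  obtain ⟨w, k, t, h, co, h3, T⟩ := X.toFr.lift H.hy.two
  obtain ⟨y, hy, T'⟩ := T.adjust H.hi (X.p3 co h3 T)
  have e : ∀ y ∈ π.ker, ∀ t, ρ (y * t) = ρ t := fun y hy t => by
    rw [map_mul, (X.rk y).2 hy, one_mul]
  rw [← e y hy] at co
  obtain ⟨a, ha, e'⟩ := X.le co h3 T'
  rw [← e a (H.AQ ha)] at co
  exact X.lf co h3 (T'.mul ha) e'

end Cfsg.Agent.H3.R4
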