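import Cfsg.Agent.H3.R7g

/-! Frattini quotient of order sixteen over a faithful chief factor. -/

set_option autoImplicit false
set_option linter.unusedSectionVars false
open Subgroup
open scoped IsMulCommutative

namespace Cfsg.Agent.H3.R4

universe u

variable {Y : Type u} {K : Type*} [Group Y] [Finite Y] [Group K] {π : Y →* K}

/-- full preimage in `Y` -/
def pre {V : Type*} [Group V] (φ : π.ker →* V) (W : Subgroup V) : Subgroup Y :=
  (W.comap φ).map π.ker.subtype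

theorem mem_pre {V : Type*} [Group V] {φ : π.ker →* V} {W : Subgroup V} {x : Y} :
    x ∈ pre φ W ↔ ∃ hx : x ∈ π.ker, φ ⟨x, hx⟩ ∈ W :=
  ⟨by rintro ⟨x, h, rfl⟩; exact ⟨x.2, h⟩, fun ⟨hx, h⟩ => ⟨⟨x, hx⟩, h, rfl⟩⟩

theorem relIndex_pre {V : Type*} [Group V] {φ : π.ker →* V} (hφ : Function.Surjective φ)
    (W W' : Subgroup V) : (pre φ W).relIndex (pre φ W') = W.relIndex W' := by
  rw [pre, pre, relIndex_map_map_of_injective _ _ π.ker.subtype_injective, relIndex_comap,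
    map_comap_eq_self_of_surjective hφ]

theorem pre_normal {V : Type*} [Group V] {φ : π.ker →* V} {ρ : Y →* MulAut V}
    (hρ : ∀ y x, φ (MulAut.conjNormal y x) = ρ y (φ x)) {W : Subgroup V}
    (hW : ∀ y, ∀ v ∈ W, ρ y v ∈ W) : (pre φ W).Normal := ⟨by
  rintro _ ⟨x, h, rfl⟩ y
  exact ⟨MulAut.conjNormal y x, show φ _ ∈ W from hρ y x ▸ hW y _ h, rfl⟩⟩

theorem Hy.b2 [IsSimpleGroup K] (H : Hy π) (hK : Nat.card K = 168) {N : Subgroup Y} [N.Normal]
    (hN : Sq π.ker = N) (cN : Nat.card N = 8) (fN : centralizer (N : Set Y) = π.ker)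
    (h2N : ∀ x ∈ N, x * x = 1) (cm : ∀ x ∈ π.ker, ∀ y ∈ π.ker, x * y * x⁻¹ * y⁻¹ ∈ N)
    (i16 : N.relIndex π.ker = 16) : ∃ (Ω A : Subgroup Y) (_ : Ω.Normal) (_ : A.Normal), CH π N Ω A := by
  obtain ⟨V, _, _, φ, ρ, hφ, hk, h2, hc, hρ, hρ1⟩ := H.frame
  have c16 : Nat.card V = 16 := by
    rw [← i16, ← hN, relIndex_phi hk le_rfl,
      (MonoidHom.range_eq_top (f := φ.comp (inclusion le_rfl))).2 hφ, card_top]
  have hNQ : N ≤ π.ker := hN ▸ Sq_le _
  have sq : ∀ x ∈ π.ker, x * x ∈ N := fun x hx => hN ▸ pow_two x ▸ sq_mem hx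
  rw [hN] at hk
  have zN : ∀ m ∈ N, ∀ q ∈ π.ker, q * m = m * q := fun m hm q hq => (fN.ge hq m hm).symm
  obtain ⟨g, g7, g1⟩ := exists_seven H.surj hK
  have r7 : ρ g ^ 7 = 1 := by rw [← map_pow, hρ1, map_pow, g7]
  have r1 : ρ g ≠ 1 := by rwa [Ne, hρ1]
  obtain ⟨c8, inv, fp, dec⟩ := dl_facts h2 hc r7 r1
  have c2 := ((seven h2 hc r7 r1).resolve_left (by omega)).2
  obtain ⟨v0, hv0, hv⟩ := two_el (Or.inr c2)
  obtain ⟨s, B, q, s1, B1⟩ := exists_qm φ hφ h2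
    (fun x hx => mem_center_iff.2 fun y => Subtype.ext (zN _ ((hk x).1 hx) _ y.2))
    fun x hx => Subtype.ext (h2N _ ((hk x).1 hx))
  have sN : ∀ v, (s v).1.1 ∈ N := fun v => by
    obtain ⟨x, rfl⟩ := hφ v
    rw [s1]; exact sq _ x.2
  have BN : ∀ u v, (B u v).1.1 ∈ N := fun u v => by
    obtain ⟨x, rfl⟩ := hφ u
    obtain ⟨y, rfl⟩ := hφ v
    rw [B1]; exact cm _ x.2 _ y.2
  have es : ∀ y v, (s (ρ y v)).1.1 = y * (s v).1.1 * y⁻¹ := fun y v => by
    obtain ⟨x, rfl⟩ := hφ v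
    rw [← hρ, s1, s1, ← map_mul]; rfl
  have eB : ∀ y u v, (B (ρ y u) (ρ y v)).1.1 = y * (B u v).1.1 * y⁻¹ := fun y u v => by
    obtain ⟨x, rfl⟩ := hφ u
    obtain ⟨z, rfl⟩ := hφ v
    rw [← hρ, ← hρ, B1, B1, ← map_inv, ← map_inv, ← map_mul, ← map_mul, ← map_mul]; rfl
  have co1 : ∀ z : center π.ker, z.1.1 = 1 ↔ z = 1 := fun z => by simp
  have es1 : ∀ y v, s (ρ y v) = 1 ↔ s v = 1 := fun y v => by rw [← co1, ← co1, es]; simp
  have eB1 : ∀ y u v, B (ρ y u) (ρ y v) = 1 ↔ B u v = 1 := fun y u v => by rw [← co1, ← co1, eB]; simp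
  have s0 : s v0 = 1 := (co1 _).1 (fpf_N h2N cN fN g7 g1 (sN v0) (by
    rw [← es, show ρ g v0 = v0 from hv0]))
  have vinv : ∀ v : V, v⁻¹ = v := fun v => inv_eq_of_mul_eq_one_right (h2 v)
  have allU : ∀ R : Subgroup V, (∀ v ∈ R, ρ g v ∈ R) → ∀ u ∈ (dl (ρ g)).range, u ≠ 1 → u ∈ R →
      ∀ u ∈ (dl (ρ g)).range, u ∈ R := fun R hR u hu u1 uR u' hu' => by
    by_cases e : u' = 1
    · rw [e]; exact one_mem _
    obtain ⟨i, -, rfl⟩ := trans7 r7 inv c8 fp hu u1 hu' e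
    clear hu' e
    induction i with
    | zero => exact uR
    | succ i ih => rw [pow_succ', MulAut.mul_apply]; exact hR _ ih
  have sub : ∀ R : Subgroup V, (∀ v ∈ R, ρ g v ∈ R) → v0 ∈ R → R ≤ Fx (ρ g) ∨ ∀ v, v ∈ R := by
    intro R hR h0
    have fR : Fx (ρ g) ≤ R := fun z hz => by
      rcases hv z hz with rfl | rfl
      exacts [one_mem _, h0]
    refine or_iff_not_imp_left.2 fun hh v => ?_
    obtain ⟨x, x1, x2⟩ := SetLike.not_le_iff_exists.1 hh
    obtain ⟨u, hu, z, hz, rfl⟩ := dec x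
    obtain ⟨u', hu', z', hz', rfl⟩ := dec v
    exact mul_mem (fR hz') (allU R hR u hu (fun e => x2 (by rwa [e, mul_one]))
      ((mul_mem_cancel_left (fR hz)).1 x1) u' hu')
  have pb : pre φ ⊥ = N := by
    ext x
    rw [mem_pre]
    exact ⟨fun ⟨hx, h⟩ => (hk _).1 h, fun h => ⟨hNQ h, (hk _).2 h⟩⟩
  have pt : pre φ ⊤ = π.ker := by
    ext x
    rw [mem_pre]
    exact ⟨fun ⟨hx, _⟩ => hx, fun h => ⟨h, trivial⟩⟩
  let Rd : Subgroup V :=
    { carrier := {v | ∀ u, B v u = 1}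
      one_mem' := q.one.2
      mul_mem' := fun {a b} ha hb u => by rw [q.lin, ha u, hb u, mul_one]
      inv_mem' := fun {a} ha => by rwa [vinv] }
  have Rdi : ∀ y, ∀ v ∈ Rd, ρ y v ∈ Rd := fun y v hv u => by
    have := (eB1 y v (ρ y⁻¹ u)).2 (hv _)
    simpa using this
  have cB : ∀ x y : π.ker, B (φ x) (φ y) = 1 ↔ x.1 * y = y * x := fun x y => by
    rw [← co1, B1, ← mul_inv_eq_iff_eq_mul (a := x.1 * y.1), ← mul_inv_eq_one (a := x.1 * y.1 * _)]; rfl
  by_cases c : v0 ∈ Rd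
  · let R0 : Subgroup V :=
      { carrier := {v | v ∈ Rd ∧ s v = 1}
        one_mem' := ⟨one_mem _, q.one.1⟩
        mul_mem' := fun {a b} ha hb => ⟨mul_mem ha.1 hb.1, by rw [q.mul, ha.2, hb.2, ha.1 b]; simp⟩
        inv_mem' := fun {a} ha => by rwa [vinv] }
    have R0i : ∀ y, ∀ v ∈ R0, ρ y v ∈ R0 := fun y v hv => ⟨Rdi y v hv.1, (es1 y v).2 hv.2⟩
    have e0 : R0 = Fx (ρ g) := le_antisymm ((sub R0 (R0i g) ⟨c, s0⟩).resolve_right fun hh => by
      have : N ≤ ⊥ := hN ▸ Sq_le_iff.2 fun x hx => by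
        have := (co1 _).2 (hh (φ ⟨x, hx⟩)).2
        rw [s1] at this
        rw [pow_two]; exact this
      have := card_le_of_le this
      rw [card_bot] at this
      omega) fun z hz => by
        rcases hv z hz with rfl | rfl
        exacts [one_mem _, ⟨c, s0⟩]
    have hNΩ : N ≤ pre φ R0 := pb ▸ map_mono (comap_mono bot_le)
    refine ⟨pre φ R0, π.ker, pre_normal hρ R0i, inferInstance, H, hNΩ, map_subtype_le _, le_rfl, cN, fN,
      ?_, ?_, cm, sq, fun x hx => hNΩ (sq x hx), ?_, ?_, fun x hx _ _ h => absurd hx h,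
        fun x hx h => absurd hx h⟩
    · rintro _ ⟨x, hx, rfl⟩
      have := (co1 _).2 hx.2
      rwa [s1] at this
    · rintro _ ⟨x, hx, rfl⟩ y hy
      exact ((cB x ⟨y, hy⟩).1 (hx.1 _)).symm
    · conv_lhs => rw [← pt, relIndex_pre hφ, relIndex_top_right]
      have := R0.card_mul_index
      rw [e0, c2, c16] at this
      rw [e0]; omega
    · rintro y _ ⟨x, hx, rfl⟩
      refine (hk (MulAut.conjNormal y x * x⁻¹)).1 ?_
      rw [map_mul, map_inv, hρ, mul_inv_eq_one]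
      have a1 := hv _ (e0.le (R0i y _ hx))
      rcases hv _ (e0.le hx) with e | e
      · rw [e, map_one]
      · rw [e] at a1 ⊢
        exact a1.elim (fun e => by rw [(map_eq_one_iff _ (ρ y).injective).1 e, map_one]) id
  have v01 : v0 ∉ (dl (ρ g)).range := fun e => c (fp v0 e hv0 ▸ one_mem _)
  have nU : ∀ v, v ∉ (dl (ρ g)).range → v0 * v ∈ (dl (ρ g)).range := fun v h => by
    obtain ⟨u, hu, z, hz, rfl⟩ := dec v
    rcases hv z hz with rfl | rfl
    · exact absurd (by rwa [one_mul]) h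
    · rwa [← mul_assoc, h2, one_mul]
  have Ui : ∀ y, ∀ u ∈ (dl (ρ g)).range, ρ y u ∈ (dl (ρ g)).range := by
    refine (red16 h2 c16 ρ r7 r1 (by
      rw [← index_ker, show ρ.ker = π.ker from Subgroup.ext hρ1, index_ker,
        MonoidHom.range_eq_top.2 H.surj, card_top, hK]
      norm_num)).elim (fun fx => ?_) id
    have bz : ∀ z ∈ Fx (ρ g), B v0 z = 1 := fun z hz => by
      rcases hv z hz with rfl | rfl
      exacts [(q.symm _ _).trans (q.one.2 _), q.self h2 _]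
    have eβ : ∀ y v, (B v0 (ρ y v)).1.1 = y * (B v0 v).1.1 * y⁻¹ := fun y v => by
      rw [← eB, fx y v0 hv0]
    let R1 : Subgroup V :=
      { carrier := {v | B v0 v = 1}
        one_mem' := bz 1 (one_mem _)
        mul_mem' := fun {a b} ha hb => (q.lin' _ _ _).trans (by
          rw [show B v0 a = 1 from ha, show B v0 b = 1 from hb, mul_one])
        inv_mem' := fun {a} ha => by rwa [vinv] }
    have k1 : R1 ≤ Fx (ρ g) := (sub R1 (fun v hv => (co1 _).1 (by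
      rw [eβ, show B v0 v = 1 from hv]; simp)) (bz v0 hv0)).resolve_right c
    obtain ⟨ψ, ρ', F⟩ := exists_fr H.surj hK (A := N) (Ω := ⊥) h2N
      (fun q hq a ha => by rw [zN a ha q hq]; simp) hNQ (fun hh => g1 (fN.le fun m hm => by
        have := hh g m hm
        rw [mem_bot, mul_inv_eq_one, mul_inv_eq_iff_eq_mul] at this
        exact this.symm)) (by rw [relIndex_bot_left, cN])
    obtain ⟨w, k, t, h, co, -, -⟩ := F.lift H.two
    have inj : ∀ a ∈ N, ∀ b ∈ N, ψ a = ψ b → a = b := fun a ha b hb e => by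
      rw [← mul_inv_eq_one, ← mem_bot, ← F.ker _ (mul_mem ha (inv_mem hb)), F.mul a ha _ (inv_mem hb),
        F.inv b hb, e, c3_two]
    have q7 : ρ' g ^ 7 = 1 := by rw [← map_pow, F.rk, map_pow, g7]
    have fp' := ((seven c3_two (by simp) q7 (by rwa [Ne, F.rk])).resolve_right (by simp)).2
    obtain ⟨v, ev⟩ : ∃ v, ψ (B v0 v).1.1 = w := by
      obtain ⟨v1, h1⟩ := not_forall.1 c
      obtain ⟨i, -, e⟩ := trans7 q7 (U := ⊤) (fun _ _ => trivial) (by simp)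
        (fun u _ e => by rw [← mem_bot, ← fp']; exact e) (x := ψ (B v0 v1).1.1) trivial
        (fun e => h1 ((co1 _).1 ((F.ker _ (BN _ _)).1 e))) trivial co.w1
      exact ⟨ρ (g ^ i) v1, by rw [eβ, F.cj _ _ (BN _ _), map_pow, e]⟩
    have b1 : B v0 v ≠ 1 := fun e => co.w1 (by
      rw [← ev, F.ker _ (BN _ _), e]; exact one_mem _)
    have sv : s (v0 * v) = s v * B v0 v := by rw [q.mul, s0, one_mul]
    have a1 : B v0 (ρ h v) = B v0 v := Subtype.ext (Subtype.ext (inj _ (BN _ _) _ (BN _ _) (by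
      rw [eβ, F.cj _ _ (BN _ _), ev, co.hw])))
    have a2 := hv _ (k1 (show B v0 (ρ h v * v) = 1 by rw [q.lin', a1, q.b2]))
    have a3 := co.fpf (ψ (s v).1.1) (by
      rw [← F.cj _ _ (sN v), ← es]
      rcases a2 with e | e
      · left; rw [mul_eq_one_iff_eq_inv, vinv] at e; rw [e, mul_inv_cancel]
      · right
        rw [← eq_mul_inv_iff_mul_eq, vinv] at e
        rw [e, sv, coe_mul, coe_mul, F.mul _ (sN v) _ (BN _ _), ev, mul_inv_cancel_comm])
    obtain ⟨v', a4, a5, a6⟩ : ∃ v', B v0 v' ≠ 1 ∧ s v' = 1 ∧ s (v0 * v') ≠ 1 := by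
      rcases a3 with e | e
      · have := (co1 _).1 ((F.ker _ (sN v)).1 e)
        exact ⟨v, b1, this, by rwa [sv, this, one_mul]⟩
      · have : s v = B v0 v := Subtype.ext (Subtype.ext (inj _ (sN v) _ (BN _ _) (e.trans ev.symm)))
        exact ⟨v0 * v, by rwa [q.lin', q.self h2, one_mul], by rw [sv, this, q.b2], by
          rwa [← mul_assoc, h2, one_mul, this]⟩
    obtain ⟨u1, hu1, ε, hε, rfl⟩ := dec v'
    have a7 : ∀ u ∈ (dl (ρ g)).range, u ≠ 1 → s (ε * u) = 1 ∧ s (v0 * (ε * u)) ≠ 1 := fun u hu e => by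
      obtain ⟨i, -, rfl⟩ := trans7 r7 inv c8 fp hu1 (fun e => a4 (by rw [e, mul_one, bz ε hε])) hu e
      rw [← map_pow, ← fx (g ^ i) ε hε, ← fx (g ^ i) v0 hv0, ← map_mul, ← map_mul, Ne, es1, es1]
      exact ⟨a5, a6⟩
    intro y u hu
    by_contra hh
    have u1 : u ≠ 1 := fun e => hh (by rw [e, map_one]; exact one_mem _)
    refine (a7 _ (nU _ hh) fun e => v01 ?_).2 ?_
    · rw [← fx y v0 hv0, ← map_mul, map_eq_one_iff _ (ρ y).injective, mul_eq_one_iff_eq_inv, vinv] at e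
      rwa [e]
    · rw [mul_left_comm, ← mul_assoc v0, h2, one_mul, ← fx y ε hε, ← map_mul, es1]
      exact (a7 u hu u1).1
  refine ⟨N, pre φ (dl (ρ g)).range, inferInstance, pre_normal hρ Ui, H, le_rfl,
    pb ▸ map_mono (comap_mono bot_le), map_subtype_le _, cN, fN, h2N, zN, cm,
    fun a ha => sq a (map_subtype_le _ ha), sq, ?_, fun y x hx => ncm y hx, fun x hx y hy x1 y1 => ?_,
    fun y hy y1 => ⟨fun x hx => Or.inl hx, Or.inr ?_⟩⟩
  · conv_lhs => rw [← pb, relIndex_pre hφ, relIndex_bot_left, c8]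
  · refine mem_pre.2 ⟨mul_mem hx hy, ?_⟩
    have := mul_mem (nU _ fun e => x1 (mem_pre.2 ⟨hx, e⟩)) (nU _ fun e => y1 (mem_pre.2 ⟨hy, e⟩))
    rwa [mul_mul_mul_comm, h2, one_mul, ← map_mul] at this
  · by_contra hh
    push Not at hh
    have yU := nU _ fun e => y1 (mem_pre.2 ⟨hy, e⟩)
    have a1 : ∀ u ∈ (dl (ρ g)).range, B (φ ⟨y, hy⟩) u = 1 := fun u hu => by
      obtain ⟨a, rfl⟩ := hφ u
      exact (cB _ _).2 (hh a ⟨a, hu, rfl⟩)
    have a2 : φ ⟨y, hy⟩ ∈ Rd := fun u => by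
      by_cases e : u ∈ (dl (ρ g)).range
      · exact a1 u e
      have := a1 _ (mul_mem yU (nU u e))
      rwa [mul_mul_mul_comm, h2, one_mul, q.lin', q.self h2, one_mul] at this
    generalize φ ⟨y, hy⟩ = v at yU a2
    refine c ((mul_mem_cancel_right a2).1 ?_)
    by_cases e : v0 * v = 1
    · rw [e]; exact one_mem _
    refine allU Rd (Rdi g) (ρ g v * v) ⟨v, rfl⟩ (fun e' => e (fp _ yU ?_)) (mul_mem (Rdi g v a2) a2) _ yU
    rw [mul_eq_one_iff_eq_inv, vinv] at e'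
    rw [map_mul, e', show ρ g v0 = v0 from hv0]

theorem main7 [IsSimpleGroup K] (hK : Nat.card K = 168) (H : Hy π) :
    (∀ x ∈ π.ker, ∀ y ∈ π.ker, x * y = y * x) ∧ Nat.card (Sq π.ker) ≤ 2 ∧
      (Sq π.ker ≠ ⊥ → (Sq π.ker).relIndex π.ker = 16) :=
  induct hK (fun _ _ _ _ _ _ _ _ _ _ => noCH hK) (fun _ _ _ _ H _ _ => H.b2 hK) _ Y π rfl H

end Cfsg.Agent.H3.R4
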