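import Mathlib

/-! The wreath product `C_p ≀ C_p` inside `GL(p, F)`, and redundancy of this Sylow subgroup. -/

set_option autoImplicit false

namespace Cfsg.Agent.H3.RedSyl

open Matrix

variable {F : Type*} [Field F] {p : ℕ} [hp : Fact p.Prime]

/-- A monomial matrix whose permutation is a translation of `ZMod p`. -/
def mono (k : ZMod p) (d : ZMod p → F) : Matrix (ZMod p) (ZMod p) F :=
  of fun i j => if i = j + k then d j else 0

theorem mono_apply (k : ZMod p) (d : ZMod p → F) (i j : ZMod p) :
    mono k d i j = if i = j + k then d j else 0 := rfl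

theorem mul_mono (g : Matrix (ZMod p) (ZMod p) F) (k : ZMod p) (d : ZMod p → F) (i j : ZMod p) :
    (g * mono k d) i j = g i (j + k) * d j := by
  simp [mul_apply, mono_apply]

theorem mono_mul (g : Matrix (ZMod p) (ZMod p) F) (k : ZMod p) (d : ZMod p → F) (i j : ZMod p) :
    (mono k d * g) i j = d (i - k) * g (i - k) j := by
  rw [mul_apply, Finset.sum_eq_single (i - k)]
  · simp [mono_apply]
  · intro b _ hb
    rw [mono_apply, if_neg, zero_mul]
    rintro rfl
    simp at hb
  · simp

theorem mono_mul_mono (k l : ZMod p) (d e : ZMod p → F) :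
    mono k d * mono l e = mono (l + k) fun j => d (j + l) * e j := by
  ext i j
  rw [mul_mono, mono_apply, mono_apply, add_assoc]
  split_ifs <;> simp

theorem mono_one : mono (0 : ZMod p) (fun _ => (1 : F)) = 1 := by
  ext i j
  simp [mono_apply, one_apply]

theorem mono_const (c : F) : mono (0 : ZMod p) (fun _ => c) = c • 1 := by
  ext i j
  simp [mono_apply, one_apply]

theorem ne_zero_of_pow {c : F} (h : c ^ p = 1) : c ≠ 0 := by
  rintro rfl
  rw [zero_pow hp.out.ne_zero] at h
  exact zero_ne_one h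

theorem mono_pow (k : ZMod p) {d : ZMod p → F} (hd : ∀ j, d j ≠ 0) (n : ℕ) :
    ∃ e : ZMod p → F, (∀ j, e j ≠ 0) ∧ mono k d ^ n = mono ((n : ZMod p) * k) e := by
  induction n with
  | zero => exact ⟨fun _ => 1, fun _ => one_ne_zero, by simp [mono_one]⟩
  | succ n ih =>
    obtain ⟨e, he, h⟩ := ih
    refine ⟨fun j => d (j + n * k) * e j, fun j => mul_ne_zero (hd _) (he _), ?_⟩
    rw [pow_succ', h, mono_mul_mono]
    congr 1
    push_cast
    ring

/-- The unit given by a monomial matrix. -/
def monoU (k : ZMod p) (d : ZMod p → F) (hd : ∀ j, d j ≠ 0) : GL (ZMod p) F where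
  val := mono k d
  inv := mono (-k) fun j => (d (j - k))⁻¹
  val_inv := by
    rw [mono_mul_mono, ← mono_one]
    congr 1
    · simp
    · ext j; rw [← sub_eq_add_neg, mul_inv_cancel₀ (hd _)]
  inv_val := by
    rw [mono_mul_mono, ← mono_one]
    congr 1
    · simp
    · ext j; rw [add_sub_cancel_right, inv_mul_cancel₀ (hd _)]

variable (F p) in
/-- The wreath product. -/
def W : Subgroup (GL (ZMod p) F) where
  carrier := {g | ∃ (k : ZMod p) (d : ZMod p → F), (∀ j, d j ^ p = 1) ∧ g.val = mono k d}
  one_mem' := ⟨0, fun _ => 1, fun _ => one_pow _, mono_one.symm⟩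
  mul_mem' := by
    rintro a b ⟨k, d, hd, ha⟩ ⟨l, e, he, hb⟩
    exact ⟨l + k, fun j => d (j + l) * e j, fun j => by rw [mul_pow, hd, he, one_mul],
      by rw [Units.val_mul, ha, hb, mono_mul_mono]⟩
  inv_mem' := by
    rintro a ⟨k, d, hd, ha⟩
    have : a = monoU k d fun j => ne_zero_of_pow (hd j) := Units.ext ha
    refine ⟨-k, fun j => (d (j - k))⁻¹, fun j => by rw [inv_pow, hd, inv_one], ?_⟩
    rw [this]; rfl

theorem mem_W {g : GL (ZMod p) F} :
    g ∈ W F p ↔ ∃ (k : ZMod p) (d : ZMod p → F), (∀ j, d j ^ p = 1) ∧ g.val = mono k d := Iff.rfl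

theorem card_W {ω : F} (hω : IsPrimitiveRoot ω p) : Nat.card (W F p) = p ^ (p + 1) := by
  let f : ZMod p × (ZMod p → rootsOfUnity p F) → W F p := fun x =>
    ⟨monoU x.1 (fun j => ((x.2 j : Fˣ) : F)) fun j => Units.ne_zero _,
      x.1, _, fun j => (mem_rootsOfUnity' _ _).1 (x.2 j).2, rfl⟩
  have hf : Function.Bijective f := by
    constructor
    · rintro ⟨k, d⟩ ⟨l, e⟩ h
      have h1 : mono k (fun j => ((d j : Fˣ) : F)) = mono l fun j => ((e j : Fˣ) : F) :=
        congrArg (fun x : W F p => (x : GL (ZMod p) F).val) h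
      have h2 : k = l := by
        by_contra hne
        have := congrFun (congrFun h1 k) 0
        simp [mono_apply, hne] at this
      subst h2
      refine Prod.ext rfl (funext fun j => Subtype.ext (Units.ext ?_))
      have := congrFun (congrFun h1 (j + k)) j
      simpa [mono_apply] using this
    · rintro ⟨g, k, d, hd, hg⟩
      refine ⟨(k, fun j => ⟨Units.mk0 (d j) (ne_zero_of_pow (hd j)),
        (mem_rootsOfUnity' _ _).2 (hd j)⟩), Subtype.ext (Units.ext hg.symm)⟩
  rw [← Nat.card_eq_of_bijective f hf, Nat.card_prod, Nat.card_fun, Nat.card_zmod,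
    hω.card_rootsOfUnity, pow_succ']

theorem two_ne (h2 : p ≠ 2) : (2 : ZMod p) ≠ 0 := by
  intro h
  have : ((2 : ℕ) : ZMod p) = 0 := by exact_mod_cast h
  rw [ZMod.natCast_eq_zero_iff] at this
  exact h2 ((Nat.prime_dvd_prime_iff_eq hp.out Nat.prime_two).1 this)

/-- An element normalising the wreath product has monomial columns. -/
theorem col_of_conj (h2 : p ≠ 2) {ω : F} (hω : IsPrimitiveRoot ω p) (g : GL (ZMod p) F)
    (hg : ∀ y ∈ W F p, g * y * g⁻¹ ∈ W F p) (j a b : ZMod p) (hab : a ≠ b) :
    g.val a j = 0 ∨ g.val b j = 0 := by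
  have hω1 : ω - 1 ≠ 0 := sub_ne_zero.2 (hω.ne_one hp.out.one_lt)
  let d : ZMod p → F := fun i => if i = j then ω else 1
  have hd : ∀ i, d i ^ p = 1 := fun i => by
    by_cases h : i = j <;> simp [d, h, hω.pow_eq_one]
  obtain ⟨k, e, he, hy⟩ := hg (monoU 0 d fun i => ne_zero_of_pow (hd i)) ⟨0, d, hd, rfl⟩
  have hinv : g.val * (g⁻¹).val = 1 := by rw [← Units.val_mul, mul_inv_cancel, Units.val_one]
  have hinv' : (g⁻¹).val * g.val = 1 := by rw [← Units.val_mul, inv_mul_cancel, Units.val_one]
  have key : ∀ s t, mono k e s t - (1 : Matrix (ZMod p) (ZMod p) F) s t =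
      (ω - 1) * g.val s j * (g⁻¹).val j t := by
    intro s t
    rw [← hy, ← hinv, Units.val_mul, Units.val_mul, mul_apply, mul_apply (M := g.val),
      ← Finset.sum_sub_distrib, Finset.sum_eq_single j]
    · change (g.val * mono 0 d) s j * _ - _ = _
      rw [mul_mono]; simp only [add_zero, d, if_true]; ring
    · intro i _ hi
      change (g.val * mono 0 d) s i * _ - _ = _
      rw [mul_mono]; simp [d, hi]
    · simp
  by_cases hk : k = 0
  · subst hk
    obtain ⟨c, hc⟩ : ∃ c, (g⁻¹).val j c ≠ 0 := by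
      by_contra hall
      push Not at hall
      have := congrFun (congrFun hinv' j) j
      rw [mul_apply] at this
      simp only [hall, zero_mul, Finset.sum_const_zero, one_apply_eq] at this
      exact zero_ne_one this
    have h0 : ∀ s, s ≠ c → g.val s j = 0 := by
      intro s hs
      have := key s c
      rw [mono_apply, add_zero, if_neg hs, one_apply_ne hs, sub_zero] at this
      rcases mul_eq_zero.1 this.symm with h | h
      · exact (mul_eq_zero.1 h).resolve_left hω1
      · exact absurd h hc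
    by_cases ha : a = c
    · exact Or.inr (h0 b fun h => hab (ha.trans h.symm))
    · exact Or.inl (h0 a ha)
  · exfalso
    have h1 := key 0 0
    have h3 := key k k
    have h4 := key 0 k
    have hkk : (0 : ZMod p) ≠ k + k := by
      rw [← two_mul]; exact (mul_ne_zero (two_ne h2) hk).symm
    rw [mono_apply, if_neg (by simpa using Ne.symm hk), one_apply_eq] at h1
    rw [mono_apply, if_neg (by simpa using hk), one_apply_eq] at h3
    rw [mono_apply, if_neg hkk, one_apply_ne (Ne.symm hk), sub_zero] at h4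
    rcases mul_eq_zero.1 h4.symm with h | h
    · rw [h] at h1; simp at h1
    · rw [h] at h3; simp at h3

theorem vand {n : ℕ} [Fact n.Prime] (d : ZMod n → F) (hd : Function.Injective d) :
    (of fun a j : ZMod n => d j ^ a.val).det ≠ 0 := by
  cases n with
  | zero => exact absurd (Fact.out : Nat.Prime 0) Nat.not_prime_zero
  | succ n =>
    have := (det_vandermonde_ne_zero_iff (n := n + 1) (v := d)).2 hd
    rw [← det_transpose] at this
    exact this

/-- Every element of the wreath product is conjugated into it by a non-monomial matrix. -/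
theorem exists_conj (h2 : p ≠ 2) {ω : F} (hω : IsPrimitiveRoot ω p) {x : GL (ZMod p) F}
    (hx : x ∈ W F p) : ∃ g : GL (ZMod p) F, g * x * g⁻¹ ∈ W F p ∧
      ∃ j a b : ZMod p, a ≠ b ∧ g.val a j ≠ 0 ∧ g.val b j ≠ 0 := by
  obtain ⟨k, d, hd, hxv⟩ := id hx
  have comm : ∀ g : GL (ZMod p) F, g.val * x.val = x.val * g.val → g * x * g⁻¹ ∈ W F p := by
    intro g hg
    have : g * x = x * g := Units.ext hg
    rw [this, mul_inv_cancel_right]; exact hx
  by_cases hk : k = 0
  · subst hk
    by_cases hinj : Function.Injective d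
    · let g : GL (ZMod p) F := GeneralLinearGroup.mkOfDetNeZero _ (vand d hinj)
      have hg : ∀ a j, g.val a j = d j ^ a.val := fun _ _ => rfl
      refine ⟨g, ⟨-1, fun _ => 1, fun _ => one_pow _, ?_⟩, 0, 0, 1, zero_ne_one, ?_, ?_⟩
      · have : g * x = monoU (-1) (fun _ => 1) (fun _ => one_ne_zero) * g := by
          refine Units.ext ?_
          ext a j
          rw [Units.val_mul, Units.val_mul, hxv, mul_mono]
          change _ = (mono (-1 : ZMod p) (fun _ => (1 : F)) * g.val : Matrix _ _ F) a j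
          rw [mono_mul, add_zero, hg, hg, one_mul, sub_neg_eq_add, ZMod.val_add,
            ← pow_eq_pow_mod _ (hd j), ZMod.val_one, pow_succ]
        rw [this, mul_inv_cancel_right]; rfl
      · rw [hg]; exact pow_ne_zero _ (ne_zero_of_pow (hd _))
      · rw [hg]; exact pow_ne_zero _ (ne_zero_of_pow (hd _))
    · simp only [Function.Injective, not_forall] at hinj
      obtain ⟨a, b, hab, hne⟩ := hinj
      let g : GL (ZMod p) F := GeneralLinearGroup.mkOfDetNeZero (transvection a b 1)
        (by rw [det_transvection_of_ne _ _ hne]; exact one_ne_zero)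
      have hg : g.val = transvection a b 1 := rfl
      refine ⟨g, comm g ?_, b, a, b, hne, ?_, ?_⟩
      · ext s t
        rw [hxv, mul_mono, mono_mul, hg, add_zero, sub_zero, transvection, Matrix.add_apply, one_apply,
          single_apply]
        by_cases h1 : s = t
        · subst h1; ring
        · by_cases h3 : a = s ∧ b = t
          · obtain ⟨rfl, rfl⟩ := h3
            rw [hab]; ring
          · simp [h1, h3]
      · simp [hg, transvection, hne]
      · simp [hg, transvection, hne]
  · have hd0 : ∀ j, d j ≠ 0 := fun j => ne_zero_of_pow (hd j)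
    obtain ⟨c, hc⟩ : ∃ c : F, x.val ^ p = c • 1 := by
      obtain ⟨e, -, he⟩ := mono_pow k hd0 p
      rw [ZMod.natCast_self, zero_mul] at he
      have h1 : ∀ j, e (j + k) = e j := by
        intro j
        have h3 : mono k d ^ p * mono k d = mono k d * mono k d ^ p :=
          ((Commute.refl _).pow_left p).eq
        rw [he, mono_mul_mono, mono_mul_mono] at h3
        have h4 := congrFun (congrFun h3 (j + k)) j
        simp only [mono_apply, add_zero, zero_add, if_true] at h4
        rw [mul_comm] at h4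
        exact mul_left_cancel₀ (hd0 j) h4
      have h3 : ∀ n : ℕ, e (n * k) = e 0 := by
        intro n
        induction n with
        | zero => simp
        | succ n ih => rw [← ih, ← h1 (n * k)]; congr 1; push_cast; ring
      refine ⟨e 0, ?_⟩
      rw [hxv, he, ← mono_const]
      congr 1
      ext j
      rw [← h3 (j / k).val, ZMod.natCast_zmod_val, div_mul_cancel₀ _ hk]
    set N : Matrix (ZMod p) (ZMod p) F := ∑ i ∈ Finset.range p, x.val ^ i with hN
    have hNx : N * (x.val - 1) = (c - 1) • 1 := by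
      rw [hN, geom_sum_mul, hc, sub_smul, one_smul]
    have hcomm : N * x.val = x.val * N := by
      rw [hN, Finset.sum_mul, Finset.mul_sum]
      exact Finset.sum_congr rfl fun i _ => ((Commute.refl _).pow_left i).eq
    have hent : ∀ a, N a 0 ≠ 0 := by
      intro a
      rw [hN, Matrix.sum_apply, Finset.sum_eq_single (a / k).val]
      · obtain ⟨e, he0, he⟩ := mono_pow k hd0 (a / k).val
        rw [hxv, he, mono_apply, ZMod.natCast_zmod_val, div_mul_cancel₀ _ hk, zero_add, if_pos rfl]
        exact he0 0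
      · intro i hi hne
        obtain ⟨e, -, he⟩ := mono_pow k hd0 i
        rw [hxv, he, mono_apply, if_neg]
        rintro rfl
        apply hne
        rw [zero_add, mul_div_cancel_right₀ _ hk, ZMod.val_natCast,
          Nat.mod_eq_of_lt (Finset.mem_range.1 hi)]
      · intro h
        exact absurd (Finset.mem_range.2 (ZMod.val_lt _)) h
    obtain ⟨t, ht⟩ : ∃ t : F, IsUnit (N + t • (1 : Matrix (ZMod p) (ZMod p) F)) := by
      by_cases h1 : c = 1
      · have hpF : (p : F) ≠ 0 := (hω.neZero' (n := p)).out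
        have hω0 : ω ≠ 0 := ne_zero_of_pow hω.pow_eq_one
        have hω1 : ω - 1 ≠ 0 := sub_ne_zero.2 (hω.ne_one hp.out.one_lt)
        rw [h1, sub_self, zero_smul, mul_sub, mul_one, sub_eq_zero] at hNx
        have h3 : ∀ i : ℕ, N * x.val ^ i = N := by
          intro i
          induction i with
          | zero => simp
          | succ i ih => rw [pow_succ, ← mul_assoc, ih, hNx]
        have h4 : N * N = (p : F) • N := by
          conv_lhs => rw [hN]
          rw [← hN]
          conv_lhs => arg 2; rw [hN]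
          rw [Finset.mul_sum]
          simp only [h3, Finset.sum_const, Finset.card_range]
          rw [Nat.cast_smul_eq_nsmul]
        refine ⟨-(p * ω), IsUnit.of_mul_eq_one
          ((-(p * ω) * (p * (ω - 1)))⁻¹ • (N + (p * (ω - 1)) • 1)) ?_⟩
        have h5 : -((p : F) * ω) * (p * (ω - 1)) ≠ 0 := by simp [hpF, hω0, hω1]
        rw [mul_smul_comm, inv_smul_eq_iff₀ h5, add_mul, mul_add, mul_add, h4]
        simp only [mul_smul_comm, smul_mul_assoc, mul_one, one_mul, smul_smul]
        module
      · refine ⟨0, IsUnit.of_mul_eq_one ((c - 1)⁻¹ • (x.val - 1)) ?_⟩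
        rw [zero_smul, add_zero, mul_smul_comm, hNx, smul_smul,
          inv_mul_cancel₀ (sub_ne_zero.2 h1), one_smul]
    refine ⟨ht.unit, comm _ ?_, 0, 1, 2, ?_, ?_, ?_⟩
    · rw [IsUnit.unit_spec, add_mul, mul_add, hcomm]; simp
    · intro h
      have : (2 : ZMod p) - 1 = 0 := by rw [← h]; simp
      norm_num at this
    · rw [IsUnit.unit_spec, Matrix.add_apply, Matrix.smul_apply, one_apply_ne one_ne_zero, smul_zero, add_zero]
      exact hent _
    · rw [IsUnit.unit_spec, Matrix.add_apply, Matrix.smul_apply, one_apply_ne (two_ne h2), smul_zero, add_zero]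
      exact hent _

theorem fact_prod (h2 : p ≠ 2) {q : ℕ} (hq : 1 < q) (h1 : p ∣ q - 1) (h3 : ¬ p ^ 2 ∣ q - 1) :
    (∏ i : Fin p, (q ^ p - q ^ (i : ℕ))).factorization p = p + 1 := by
  have hpq : ¬ p ∣ q := fun h => by
    have : p ∣ q - (q - 1) := Nat.dvd_sub h h1
    rw [Nat.sub_sub_self hq.le] at this
    exact hp.out.one_lt.ne' (Nat.dvd_one.1 this)
  have hv : padicValNat p (q - 1) = 1 := by
    have h4 : q - 1 ≠ 0 := by omega
    have h5 := (padicValNat_dvd_iff_le h4 (n := 1)).1 (by simpa using h1)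
    have h6 := (padicValNat_dvd_iff_le h4 (n := 2)).not.1 h3
    omega
  have hne : ∀ i : Fin p, q ^ p - q ^ (i : ℕ) ≠ 0 := fun i =>
    Nat.sub_ne_zero_of_lt (Nat.pow_lt_pow_right hq i.2)
  rw [Nat.factorization_prod fun i _ => hne i, Finsupp.finsetSum_apply]
  have hterm : ∀ i : Fin p, (q ^ p - q ^ (i : ℕ)).factorization p =
      1 + if (i : ℕ) = 0 then 1 else 0 := by
    intro i
    have h4 : q ^ p - q ^ (i : ℕ) = q ^ (i : ℕ) * (q ^ (p - i) - 1 ^ (p - i)) := by
      rw [one_pow, Nat.mul_sub, mul_one, ← pow_add, Nat.add_sub_cancel' i.2.le]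
    have h5 : p - (i : ℕ) ≠ 0 := Nat.sub_ne_zero_of_lt i.2
    have h6 : q ^ (p - i) - 1 ^ (p - i) ≠ 0 := fun h => hne i (by rw [h4, h, mul_zero])
    rw [Nat.factorization_def _ hp.out, h4, padicValNat.mul (by positivity) h6,
      padicValNat.pow_sub_pow (hp.out.odd_of_ne_two h2) hq h1 hpq h5, hv,
      padicValNat.eq_zero_of_not_dvd fun h => hpq (hp.out.dvd_of_dvd_pow h), zero_add]
    congr 1
    split_ifs with h
    · rw [h, Nat.sub_zero, padicValNat_self]
    · exact padicValNat.eq_zero_of_not_dvd fun h' => by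
        have := Nat.le_of_dvd (Nat.pos_of_ne_zero h5) h'
        omega
  simp only [hterm, Finset.sum_add_distrib, Finset.sum_const, Finset.card_univ, Fintype.card_fin,
    smul_eq_mul, mul_one]
  congr 1
  rw [Finset.sum_eq_single (⟨0, hp.out.pos⟩ : Fin p)]
  · simp
  · intro b _ hb
    exact if_neg fun h => hb (Fin.ext h)
  · simp

theorem card_GL [Fintype F] {n : ℕ} [Fact n.Prime] : Nat.card (GL (ZMod n) F) =
    ∏ i : Fin n, (Fintype.card F ^ n - Fintype.card F ^ (i : ℕ)) := by
  cases n with
  | zero => exact absurd (Fact.out : Nat.Prime 0) Nat.not_prime_zero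
  | succ n => exact card_GL_field (n + 1)

theorem main [Fintype F] (h2 : p ≠ 2) (h1 : p ∣ Fintype.card F - 1)
    (h3 : ¬ p ^ 2 ∣ Fintype.card F - 1) :
    ∃ Q : Sylow p (GL (ZMod p) F), ∀ x : GL (ZMod p) F,
      (∃ k : ℕ, orderOf x = p ^ k) → ∃ P : Sylow p (GL (ZMod p) F), P ≠ Q ∧ x ∈ P := by
  classical
  obtain ⟨u, hu⟩ := exists_prime_orderOf_dvd_card' (G := Fˣ) p (by
    rwa [Nat.card_units, Nat.card_eq_fintype_card])
  have hω : IsPrimitiveRoot (u : F) p := IsPrimitiveRoot.coe_units_iff.2 (hu ▸ .orderOf u)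
  let Q : Sylow p (GL (ZMod p) F) := Sylow.ofCard (W F p) (by
    rw [card_W hω, card_GL, fact_prod h2 Fintype.one_lt_card h1 h3])
  have hQ : (Q : Subgroup (GL (ZMod p) F)) = W F p := rfl
  refine ⟨Q, fun x ⟨k, hk⟩ => ?_⟩
  by_cases hx : x ∈ W F p
  · obtain ⟨g, hg, j, a, b, hab, ha, hb⟩ := exists_conj h2 hω hx
    refine ⟨g⁻¹ • Q, fun h => ?_, ?_⟩
    · have hn : g⁻¹ ∈ Subgroup.normalizer ((Q : Subgroup (GL (ZMod p) F)) : Set _) :=
        Sylow.smul_eq_iff_mem_normalizer.1 h
      rw [inv_mem_iff, hQ] at hn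
      rcases col_of_conj h2 hω g (fun y hy => (Subgroup.mem_normalizer_iff.1 hn y).1 hy) j a b hab
        with h | h
      · exact ha h
      · exact hb h
    · change x ∈ ((g⁻¹ • Q : Sylow p _) : Subgroup (GL (ZMod p) F))
      rw [Sylow.coe_subgroup_smul, Subgroup.mem_pointwise_smul_iff_inv_smul_mem, hQ]
      simpa using hg
  · obtain ⟨P, hP⟩ := (IsPGroup.of_card (G := Subgroup.zpowers x)
      (by rw [Nat.card_zpowers, hk])).exists_le_sylow
    refine ⟨P, fun h => hx ?_, hP (Subgroup.mem_zpowers x)⟩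
    rw [← hQ, ← h]
    exact hP (Subgroup.mem_zpowers x)

end Cfsg.Agent.H3.RedSyl
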