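import Cfsg.Agent.H3.Transfer2
import Cfsg.Agent.H7.MinAct

/-! Field-theoretic lemmas for minimal non-`p`-nilpotent groups. -/

set_option autoImplicit false
set_option linter.unusedSectionVars false

namespace Cfsg.Agent.H3.Sch

open Polynomial

variable {F : Type*} [Field F] [Fintype F] {p q a : ℕ} [hp : Fact p.Prime] [hq : Fact q.Prime] [CharP F p]
  (hF : Fintype.card F = p ^ a) (ha : a = orderOf (p : ZMod q))

theorem card_subring (R : Subring F) : ∃ d n, 1 ≤ d ∧ Nat.card R = p ^ d ∧ (∀ x ∈ R, x ^ p ^ d = x) ∧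
    Fintype.card F = p ^ (d * n) := by
  classical
  letI : Field R := (Finite.isField_of_domain R).toField
  haveI : CharP R p := (RingHom.charP_iff_charP R.subtype p).2 inferInstance
  obtain ⟨d, -, hd⟩ := FiniteField.card R p
  refine ⟨d, Module.finrank R F, d.pos, by rw [Nat.card_eq_fintype_card, hd], fun x hx => ?_, ?_⟩
  · have := congrArg Subtype.val (FiniteField.pow_card (⟨x, hx⟩ : R))
    rw [hd] at this
    exact this
  · rw [Module.card_eq_pow_finrank (K := R) (V := F), hd, pow_mul]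

include hF ha in
theorem subring_top {η : F} (h1 : η ^ q = 1) (h2 : η ≠ 1) {R : Subring F} (hR : η ∈ R) : R = ⊤ := by
  obtain ⟨d, n, hd, hc, hx, -⟩ := card_subring (p := p) R
  have h0 : η ≠ 0 := by rintro rfl; rw [zero_pow hq.out.ne_zero] at h1; exact zero_ne_one h1
  have ho : orderOf η = q := orderOf_eq_prime h1 h2
  have h3 : η ^ (p ^ d - 1) = 1 := by
    have := hx η hR
    rw [← Nat.sub_add_cancel (Nat.one_le_pow d p hp.out.pos), pow_succ] at this
    exact mul_right_cancel₀ h0 (by rw [this, one_mul])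
  have h4 : q ∣ p ^ d - 1 := ho ▸ orderOf_dvd_of_pow_eq_one h3
  have h5 : (p : ZMod q) ^ d = 1 := by
    have := (ZMod.natCast_eq_zero_iff _ _).2 h4
    rw [Nat.cast_sub (Nat.one_le_pow d p hp.out.pos), Nat.cast_pow, Nat.cast_one, sub_eq_zero] at this
    exact this
  have h6 : a ≤ d := Nat.le_of_dvd hd (ha ▸ orderOf_dvd_of_pow_eq_one h5)
  have h7 : R.toAddSubgroup = ⊤ := AddSubgroup.eq_top_of_le_card _ (by
    rw [Nat.card_eq_fintype_card, hF]
    exact (Nat.pow_le_pow_right hp.out.pos h6).trans hc.ge)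
  exact eq_top_iff.2 fun x _ => h7.ge (AddSubgroup.mem_top x)

include hF ha in
theorem addSubgroup_cases {η : F} (h1 : η ^ q = 1) (h2 : η ≠ 1) (W : AddSubgroup F)
    (hW : ∀ w ∈ W, η * w ∈ W) : W = ⊥ ∨ W = ⊤ := by
  let R : Subring F :=
    { carrier := {c | ∀ w ∈ W, c * w ∈ W}
      mul_mem' := fun {b c} hb hc w hw => by rw [mul_assoc]; exact hb _ (hc w hw)
      one_mem' := fun w hw => by rwa [one_mul]
      add_mem' := fun {b c} hb hc w hw => by rw [add_mul]; exact add_mem (hb w hw) (hc w hw)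
      zero_mem' := fun w _ => by rw [zero_mul]; exact zero_mem _
      neg_mem' := fun {b} hb w hw => by rw [neg_mul]; exact neg_mem (hb w hw) }
  have hR : R = ⊤ := subring_top hF ha h1 h2 (R := R) hW
  rcases W.bot_or_exists_ne_zero with h | ⟨w, hw, h0⟩
  · exact Or.inl h
  · refine Or.inr (eq_top_iff.2 fun x _ => ?_)
    have := (hR.ge (Subring.mem_top (x * w⁻¹))) w hw
    rwa [inv_mul_cancel_right₀ h0] at this

include hF ha in
theorem bilin {G : Type*} [Group G] {ζ : F} (h1 : ζ ^ q = 1) (h2 : ζ ≠ 1) (β : F → F → G)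
    (hl : ∀ u u' v, β (u + u') v = β u v * β u' v) (hr : ∀ u v v', β u (v + v') = β u v * β u v')
    (h0 : ∀ u, β u u = 1) (hi : ∀ u v, β (ζ * u) (ζ * v) = β u v) :
    ∃ R : Subgroup G, (∀ u v, β u v ∈ R) ∧ Nat.card R ≤ p ^ (if a % 2 = 1 then 0 else a / 2) := by
  have hz : ζ ≠ 0 := by rintro rfl; rw [zero_pow hq.out.ne_zero] at h1; exact zero_ne_one h1
  have l0 : ∀ v, β 0 v = 1 := fun v => by simpa using hl 0 0 v
  have r0 : ∀ u, β u 0 = 1 := fun u => by simpa using hr u 0 0
  have ln : ∀ u v, β (-u) v = (β u v)⁻¹ := fun u v =>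
    eq_inv_of_mul_eq_one_left (by rw [← hl, neg_add_cancel, l0])
  have rn : ∀ u v, β u (-v) = (β u v)⁻¹ := fun u v =>
    eq_inv_of_mul_eq_one_left (by rw [← hr, neg_add_cancel, r0])
  have sk : ∀ u v, β u v * β v u = 1 := fun u v => by
    have := h0 (u + v)
    rwa [hl, hr, hr, h0, h0, one_mul, mul_one] at this
  have i1 : ∀ u v, β (ζ * u) v = β u (ζ⁻¹ * v) := fun u v => by
    rw [← hi u, mul_inv_cancel_left₀ hz]
  have i2 : ∀ u v, β u (ζ * v) = β (ζ⁻¹ * u) v := fun u v => by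
    rw [← hi (ζ⁻¹ * u), mul_inv_cancel_left₀ hz]
  let f : Multiplicative F →* G := MonoidHom.mk' (fun v => β 1 v.toAdd) fun v w => hr _ _ _
  let W : AddSubgroup F :=
    { carrier := {u | ∀ v, β u v ∈ f.range}
      add_mem' := fun {b c} hb hc v => by rw [hl]; exact mul_mem (hb v) (hc v)
      zero_mem' := fun v => by rw [l0]; exact one_mem _
      neg_mem' := fun {b} hb v => by rw [ln]; exact inv_mem (hb v) }
  have hW : W = ⊤ := (addSubgroup_cases hF ha h1 h2 W fun w hw v => by rw [i1]; exact hw _).resolve_left fun e => by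
    have : (1 : F) ∈ W := fun v => ⟨Multiplicative.ofAdd v, rfl⟩
    rw [e, AddSubgroup.mem_bot] at this
    exact one_ne_zero this
  refine ⟨f.range, fun u => hW.ge (AddSubgroup.mem_top u), ?_⟩
  let S : Subring F :=
    { carrier := {c | ∀ u v, β u (c * v) = β (c * u) v}
      mul_mem' := fun {b c} hb hc u v => by rw [mul_assoc, hb, hc, mul_left_comm, mul_assoc]
      one_mem' := fun u v => by rw [one_mul, one_mul]
      add_mem' := fun {b c} hb hc u v => by rw [add_mul, add_mul, hl, hr, hb, hc]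
      zero_mem' := fun u v => by rw [zero_mul, zero_mul, l0, r0]
      neg_mem' := fun {b} hb u v => by rw [neg_mul, neg_mul, ln, rn, hb] }
  have hT : ζ + ζ⁻¹ ∈ S := fun u v => by rw [add_mul, hr, i2, ← i1, ← hl, add_mul, add_comm]
  obtain ⟨d, n, hd, hc, hx, hn⟩ := card_subring (p := p) S
  have hker : ∀ c ∈ S, β 1 c = 1 := by
    intro c hcS
    by_cases h : p = 2
    · have e : c ^ p ^ (d - 1) * c ^ p ^ (d - 1) = c := by
        rw [← pow_two, ← pow_mul, ← h, ← pow_succ, Nat.sub_add_cancel hd, hx c hcS]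
      rw [← e, (pow_mem hcS _ : c ^ p ^ (d - 1) ∈ S), mul_one, h0]
    · have e1 : β 1 c ^ 2 = 1 := by
        have := hcS 1 1
        rw [mul_one] at this
        rw [pow_two]; nth_rewrite 2 [this]; exact sk _ _
      have e2 : β 1 c ^ p = 1 := by
        have := map_pow f (Multiplicative.ofAdd c) p
        rw [← ofAdd_nsmul, nsmul_eq_mul, CharP.cast_eq_zero, zero_mul, ofAdd_zero, map_one] at this
        exact this.symm
      exact (pow_eq_one_iff_of_coprime ((Nat.coprime_primes Nat.prime_two hp.out).2 (Ne.symm h))).1 ⟨e1, e2⟩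
  have hk : p ^ d ≤ Nat.card f.ker := by
    rw [← hc]
    exact Nat.card_le_card_of_injective (fun c : S => (⟨Multiplicative.ofAdd c.1, hker c.1 c.2⟩ : f.ker))
      fun b c e => Subtype.ext (Multiplicative.ofAdd.injective (Subtype.mk.inj e))
  have hm := f.ker.card_mul_index
  rw [Subgroup.index_ker, Nat.card_eq_fintype_card (α := Multiplicative F), Fintype.card_multiplicative, hF] at hm
  let W2 : AddSubgroup F :=
    { carrier := {u | ∃ x ∈ S, ∃ y ∈ S, u = x + y * ζ}
      add_mem' := by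
        rintro _ _ ⟨x, hx, y, hy, rfl⟩ ⟨x', hx', y', hy', rfl⟩
        exact ⟨_, add_mem hx hx', _, add_mem hy hy', by ring⟩
      zero_mem' := ⟨0, zero_mem _, 0, zero_mem _, by ring⟩
      neg_mem' := by
        rintro _ ⟨x, hx, y, hy, rfl⟩
        exact ⟨_, neg_mem hx, _, neg_mem hy, by ring⟩ }
  have hW2 : W2 = ⊤ := (addSubgroup_cases hF ha h1 h2 W2 (by
    rintro _ ⟨x, hx, y, hy, rfl⟩
    exact ⟨-y, neg_mem hy, x + y * (ζ + ζ⁻¹), add_mem hx (mul_mem hy hT), by field_simp; ring⟩)).resolve_left fun e => by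
    have : (1 : F) ∈ W2 := ⟨1, one_mem _, 0, zero_mem _, by ring⟩
    rw [e, AddSubgroup.mem_bot] at this
    exact one_ne_zero this
  have hsq : p ^ a ≤ p ^ (d * 2) := by
    rw [← hF, ← Nat.card_eq_fintype_card, pow_mul, ← hc, pow_two, ← Nat.card_prod]
    refine Nat.card_le_card_of_surjective (fun v : S × S => v.1.1 + v.2.1 * ζ) fun u => ?_
    obtain ⟨x, hx, y, hy, e⟩ := hW2.ge (AddSubgroup.mem_top u)
    exact ⟨(⟨x, hx⟩, ⟨y, hy⟩), e.symm⟩
  rw [Nat.pow_le_pow_iff_right hp.out.one_lt] at hsq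
  have han : a = d * n := Nat.pow_right_injective hp.out.two_le (hF.symm.trans hn)
  have hn2 : n ≤ 2 := Nat.le_of_mul_le_mul_left (han ▸ hsq) hd
  have hle : p ^ d * Nat.card f.range ≤ p ^ d * p ^ (a - d) := by
    have hda : d ≤ a := by
      rcases n with _ | n
      · have := Fintype.one_lt_card (α := F)
        rw [hn] at this; simp at this
      · rw [han]; exact Nat.le_mul_of_pos_right _ (by omega)
    rw [← pow_add, Nat.add_sub_cancel' hda, ← hm]
    exact Nat.mul_le_mul_right _ hk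
  refine (Nat.le_of_mul_le_mul_left hle (pow_pos hp.out.pos _)).trans (Nat.pow_le_pow_right hp.out.pos ?_)
  interval_cases n <;> split_ifs <;> omega

include hF ha in
theorem exists_psi {V : Type*} [AddCommGroup V] [Module (ZMod p) V] [Nontrivial V] {ζ : F}
    (hζ : IsPrimitiveRoot ζ q) (T : Module.End (ZMod p) V) (hT : T ^ q = 1) (hT1 : T ≠ 1)
    (hirr : ∀ W : Submodule (ZMod p) V, (∀ w ∈ W, T w ∈ W) → W = ⊥ ∨ W = ⊤) :
    ∃ μ : F, μ ^ q = 1 ∧ μ ≠ 1 ∧ ∃ ψ : F →+ V, Function.Bijective ψ ∧ ∀ c, ψ (μ * c) = T (ψ c) := by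
  classical
  letI : Algebra (ZMod p) F := ZMod.algebra F p
  let I : Ideal (ZMod p)[X] := RingHom.ker (aeval T).toRingHom
  have hI : ∀ f, f ∈ I ↔ aeval T f = 0 := fun f => Iff.rfl
  haveI : I.IsPrime := by
    refine ⟨fun e => ?_, fun {f h} hfh => ?_⟩
    · have : (1 : (ZMod p)[X]) ∈ I := e ▸ Submodule.mem_top
      rw [hI, map_one] at this
      exact one_ne_zero this
    · rw [hI, map_mul] at hfh
      rcases hirr (LinearMap.ker (aeval T f)) (fun w hw => by
        have c : aeval T f * T = T * aeval T f := by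
          nth_rewrite 2 [← aeval_X (R := ZMod p) T]
          nth_rewrite 3 [← aeval_X (R := ZMod p) T]
          rw [← map_mul, ← map_mul, mul_comm]
        rw [LinearMap.mem_ker] at hw ⊢
        rw [← Module.End.mul_apply, c, Module.End.mul_apply, hw, map_zero]) with e | e
      · refine Or.inr ((hI _).2 (LinearMap.ext fun v => ?_))
        have : aeval T h v ∈ LinearMap.ker (aeval T f) := by
          rw [LinearMap.mem_ker, ← Module.End.mul_apply, hfh]; rfl
        rwa [e, Submodule.mem_bot] at this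
      · exact Or.inl ((hI _).2 (LinearMap.ker_eq_top.1 e))
  have hdvd : (X ^ q - 1 : (ZMod p)[X]) ∣ ∏ μ ∈ nthRootsFinset q (1 : F), minpoly (ZMod p) μ := by
    rw [← map_dvd_map' (algebraMap (ZMod p) F), Polynomial.map_sub, Polynomial.map_pow, map_X, Polynomial.map_one,
      X_pow_sub_one_eq_prod hq.out.pos hζ, Polynomial.map_prod]
    refine Finset.prod_dvd_prod_of_dvd _ _ fun μ _ => dvd_iff_isRoot.2 ?_
    rw [IsRoot.def, eval_map_algebraMap, minpoly.aeval]
  have hmem : ∏ μ ∈ nthRootsFinset q (1 : F), minpoly (ZMod p) μ ∈ I :=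
    Ideal.mem_of_dvd _ hdvd ((hI _).2 (by rw [map_sub, map_pow, aeval_X, hT, map_one, sub_self]))
  obtain ⟨μ, hμ, hμI⟩ := Ideal.IsPrime.prod_mem_iff.1 hmem
  have hμ1 : μ ^ q = 1 := (mem_nthRootsFinset hq.out.pos 1).1 hμ
  have hμ2 : μ ≠ 1 := by
    rintro rfl
    rw [hI, minpoly.one, map_sub, aeval_X, map_one, sub_eq_zero] at hμI
    exact hT1 hμI
  have hs : Function.Surjective (aeval (R := ZMod p) μ).toRingHom := by
    rw [← RingHom.range_eq_top]
    exact subring_top hF ha hμ1 hμ2 ⟨X, aeval_X μ⟩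
  have hk : RingHom.ker (aeval (R := ZMod p) μ).toRingHom ≤ I := fun f hf =>
    Ideal.mem_of_dvd _ (minpoly.dvd (ZMod p) μ hf) hμI
  let ρ : F →+* Module.End (ZMod p) V := RingHom.liftOfSurjective _ hs ⟨(aeval T).toRingHom, hk⟩
  have hρ : ρ μ = T := by
    have := RingHom.liftOfRightInverse_comp_apply _ _ (Function.rightInverse_surjInv hs) ⟨(aeval T).toRingHom, hk⟩ X
    simp only [AlgHom.toRingHom_eq_coe, RingHom.coe_coe, aeval_X] at this
    exact this
  obtain ⟨v0, hv0⟩ := exists_ne (0 : V)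
  let ψ : F →+ V := AddMonoidHom.mk' (fun c => ρ c v0) fun b c => by rw [map_add]; rfl
  have hψ : ∀ c, ψ (μ * c) = T (ψ c) := fun c => by
    show ρ (μ * c) v0 = _
    rw [map_mul, hρ]; rfl
  refine ⟨μ, hμ1, hμ2, ψ, ⟨(injective_iff_map_eq_zero _).2 fun c hc => by_contra fun h0 => hv0 ?_, fun v => ?_⟩, hψ⟩
  · have : ρ (c⁻¹ * c) v0 = 0 := by
      rw [map_mul, Module.End.mul_apply, show ρ c v0 = 0 from hc, map_zero]
    rwa [inv_mul_cancel₀ h0, map_one] at this
  · rcases hirr (AddSubgroup.toZModSubmodule p ψ.range) (by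
      rintro _ ⟨c, rfl⟩; exact ⟨_, hψ c⟩) with e | e
    · have : v0 ∈ AddSubgroup.toZModSubmodule p ψ.range := ⟨1, by show ρ 1 v0 = v0; rw [map_one]; rfl⟩
      rw [e, Submodule.mem_bot] at this
      exact absurd this hv0
    · have : v ∈ AddSubgroup.toZModSubmodule p ψ.range := e ▸ Submodule.mem_top
      exact this

theorem card_fix {n : ℕ} (hn : 1 < n) (K : AddSubgroup F) (hK : ∀ x ∈ K, x ^ n = x) : Nat.card K ≤ n := by
  classical
  have h0 : (X ^ n - X : F[X]) ≠ 0 := FiniteField.X_pow_card_sub_X_ne_zero F hn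
  have h1 := (Multiset.toFinset_card_le _).trans (card_roots' (X ^ n - X : F[X]))
  rw [FiniteField.X_pow_card_sub_X_natDegree_eq F hn] at h1
  refine le_trans ?_ h1
  rw [← Fintype.card_coe, ← Nat.card_eq_fintype_card]
  exact Nat.card_le_card_of_injective (fun x : K => (⟨x.1, by
    rw [Multiset.mem_toFinset, mem_roots h0, IsRoot.def, eval_sub, eval_pow, eval_X, hK x.1 x.2, sub_self]⟩ :
      (X ^ n - X : F[X]).roots.toFinset)) fun x y e => Subtype.ext (Subtype.mk.inj e)

end Cfsg.Agent.H3.Sch
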