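import Cfsg.Agent.H3.Sch1

/-! Central covers of the basic minimal non-`p`-nilpotent group. -/

set_option autoImplicit false
set_option linter.unusedSectionVars false

namespace Cfsg.Agent.H3.Sch

open Subgroup _root_.H3
open scoped commutatorElement IsMulCommutative

variable {F C : Type*} [Field F] [CommGroup C]

/-- the split extension of the additive group by `C` -/
@[ext] structure MM (χ : C →* F) where
  /-- translation part -/
  v : F
  /-- rotation part -/
  c : C

variable {χ : C →* F}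

instance : Mul (MM χ) := ⟨fun x y => ⟨x.v + χ x.c * y.v, x.c * y.c⟩⟩
instance : One (MM χ) := ⟨⟨0, 1⟩⟩
instance : Inv (MM χ) := ⟨fun x => ⟨-(χ x.c⁻¹ * x.v), x.c⁻¹⟩⟩
@[simp] theorem MM.mul_v (x y : MM χ) : (x * y).v = x.v + χ x.c * y.v := rfl
@[simp] theorem MM.mul_c (x y : MM χ) : (x * y).c = x.c * y.c := rfl
@[simp] theorem MM.one_v : (1 : MM χ).v = 0 := rfl
@[simp] theorem MM.one_c : (1 : MM χ).c = 1 := rfl
@[simp] theorem MM.inv_v (x : MM χ) : (x⁻¹).v = -(χ x.c⁻¹ * x.v) := rfl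
@[simp] theorem MM.inv_c (x : MM χ) : (x⁻¹).c = x.c⁻¹ := rfl

instance : Group (MM χ) := Group.ofLeftAxioms
  (fun x y z => MM.ext (by simp only [MM.mul_v, MM.mul_c, map_mul]; ring) (mul_assoc _ _ _))
  (fun x => MM.ext (by simp) (one_mul _))
  (fun x => MM.ext (by simp only [MM.mul_v, MM.inv_v, MM.inv_c, MM.one_v]; ring) (inv_mul_cancel _))

theorem chi_ne (c : C) : χ c ≠ 0 := fun e => by
  have := map_mul χ c c⁻¹
  rw [e, zero_mul, mul_inv_cancel, map_one] at this
  exact one_ne_zero this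

/-- underlying pairs -/
def MM.equiv : MM χ ≃ F × C := ⟨fun x => (x.v, x.c), fun x => ⟨x.1, x.2⟩, fun _ => rfl, fun _ => rfl⟩

instance [Finite F] [Finite C] : Finite (MM χ) := Finite.of_equiv _ MM.equiv.symm

/-- the rotation part -/
def pc : MM χ →* C := MonoidHom.mk' MM.c fun _ _ => rfl

/-- translations -/
def tr : Multiplicative F →* MM χ := MonoidHom.mk' (fun v => ⟨v.toAdd, 1⟩) fun _ _ => MM.ext (by simp) (by simp)

/-- rotations -/
def ro : C →* MM χ := MonoidHom.mk' (fun c => ⟨0, c⟩) fun _ _ => MM.ext (by simp) rfl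

theorem conj_tr (x : MM χ) (v : F) : x * ⟨v, 1⟩ * x⁻¹ = ⟨χ x.c * v, 1⟩ := by
  rw [mul_inv_eq_iff_eq_mul]
  exact MM.ext (by simp [add_comm]) (by simp)

/-- minimal central covers -/
structure Cov (p : ℕ) {G : Type*} [Group G] (θ : G →* MM χ) : Prop where
  surj : Function.Surjective θ
  cen : θ.ker ≤ center G
  pg : IsPGroup p θ.ker
  min : ∀ H : Subgroup G, H.map θ = ⊤ → H = ⊤

theorem exists_cov {p : ℕ} {G : Type*} [Group G] [Finite G] {θ : G →* MM χ} (h1 : Function.Surjective θ)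
    (h2 : θ.ker ≤ center G) (h3 : IsPGroup p θ.ker) : ∃ H : Subgroup G, Cov p (θ.comp H.subtype) := by
  obtain ⟨H, hH⟩ := exists_minimal_of_wellFoundedLT (fun H : Subgroup G => H.map θ = ⊤)
    ⟨⊤, map_top_of_surjective _ h1⟩
  refine ⟨H, fun y => ?_, fun x hx => mem_center_iff.2 fun g => Subtype.ext (mem_center_iff.1 (h2 hx) g), ?_,
    fun K hK => ?_⟩
  · obtain ⟨x, hx, e⟩ := hH.prop.ge (mem_top y)
    exact ⟨⟨x, hx⟩, e⟩
  · intro x
    obtain ⟨k, hk⟩ := h3 ⟨x.1.1, x.2⟩
    have := congrArg Subtype.val hk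
    exact ⟨k, Subtype.ext (Subtype.ext this)⟩
  · rw [← Subgroup.map_map] at hK
    have := hH.eq_of_le hK (map_subtype_le K)
    refine eq_top_iff.2 fun x _ => ?_
    obtain ⟨y, hy, e⟩ := this.ge x.2
    rwa [← show y = x from Subtype.ext e]

theorem Cov.congr {p : ℕ} {G G' : Type*} [Group G] [Group G'] {θ : G →* MM χ} (h : Cov p θ) (e : G' ≃* G) :
    Cov p (θ.comp e.toMonoidHom) where
  surj := h.surj.comp e.surjective
  cen := fun x hx => mem_center_iff.2 fun g => e.injective (by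
    rw [map_mul, map_mul]; exact mem_center_iff.1 (h.cen hx) _)
  pg := fun x => by
    obtain ⟨k, hk⟩ := h.pg ⟨e x.1, x.2⟩
    exact ⟨k, Subtype.ext (e.injective (by
      rw [Subgroup.coe_pow, map_pow, OneMemClass.coe_one, map_one]; exact congrArg Subtype.val hk))⟩
  min := fun H hH => by
    rw [← Subgroup.map_map] at hH
    exact map_injective e.injective ((h.min _ hH).trans (map_top_of_surjective _ e.surjective).symm)

variable [Fintype F] [Finite C] {p q a r : ℕ} [hp : Fact p.Prime] [hq : Fact q.Prime] [CharP F p]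

/-- the data -/
structure Dat (χ : C →* F) (c0 : C) (p q a r : ℕ) : Prop where
  pq : p ≠ q
  hF : Fintype.card F = p ^ a
  ha : a = orderOf (p : ZMod q)
  gen : ∀ c, c ∈ zpowers c0
  ord : orderOf c0 = q ^ r
  prim : IsPrimitiveRoot (χ c0) q

theorem pow_tr {x : MM χ} (hx : x.c = 1) : x ^ p = 1 := by
  have : x = tr (Multiplicative.ofAdd x.v) := MM.ext rfl hx
  rw [this, ← map_pow, ← ofAdd_nsmul, nsmul_eq_mul, CharP.cast_eq_zero, zero_mul, ofAdd_zero, map_one]

namespace Dat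

variable {c0 : C} (D : Dat χ c0 p q a r)
include D

theorem cardC : Nat.card C = q ^ r := by rw [← D.ord, orderOf_eq_card_of_forall_mem_zpowers D.gen]

theorem cop : (q ^ r).Coprime p := ((Nat.coprime_primes hq.out hp.out).2 D.pq.symm).pow_left r

theorem cardM : Nat.card (MM χ) = p ^ a * q ^ r := by
  rw [Nat.card_congr MM.equiv, Nat.card_prod, D.cardC, Nat.card_eq_fintype_card, D.hF]

theorem ne_one : χ c0 ≠ 1 := D.prim.ne_one hq.out.one_lt

theorem chi_pow (c : C) : χ c ^ q = 1 := by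
  obtain ⟨i, rfl⟩ := (mem_powers_iff_mem_zpowers).2 (D.gen c)
  rw [map_pow, ← pow_mul, mul_comm, pow_mul, D.prim.pow_eq_one, one_pow]

theorem not_npc : ¬ HasNormalPComplement p (MM χ) := fun h => by
  have h1 := mem_centralizer_of_hasNormalPComplement h (Q := (pc (χ := χ)).ker) (g := ro c0)
    (fun x => ⟨1, Subtype.ext (by rw [pow_one]; exact pow_tr x.2)⟩) (by rw [normalizer_eq_top]; trivial)
    (Nat.Coprime.coprime_dvd_left ((orderOf_map_dvd _ _).trans D.ord.dvd) D.cop)
  have h2 := congrArg MM.v (h1 ⟨1, 1⟩ rfl)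
  simp [ro] at h2
  exact D.ne_one h2.symm

theorem gen_of {c : C} (h : χ c ≠ 1) : c0 ∈ zpowers c := by
  obtain ⟨i, rfl⟩ := (mem_powers_iff_mem_zpowers).2 (D.gen c)
  rw [mem_zpowers_pow_iff, D.ord]
  refine Nat.Coprime.pow_right _ (((Nat.Prime.coprime_iff_not_dvd hq.out).2 ?_).symm)
  rintro ⟨j, rfl⟩
  exact h (by rw [map_pow, pow_mul, D.prim.pow_eq_one, one_pow])

theorem npc {K : Subgroup (MM χ)} (hK : K ≠ ⊤) : HasNormalPComplement p K := by
  by_cases h : ∀ x ∈ K, χ x.c = 1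
  · haveI : IsMulCommutative K := ⟨⟨fun x y => Subtype.ext (MM.ext (by
      simp [h _ x.2, h _ y.2, add_comm]) (mul_comm _ _))⟩⟩
    exact hasNormalPComplement_of_isNilpotent K
  push Not at h
  obtain ⟨x, hx, h⟩ := h
  let W : AddSubgroup F := (K.comap (tr (χ := χ))).toAddSubgroup'
  have hW : ∀ v, v ∈ W ↔ (⟨v, 1⟩ : MM χ) ∈ K := fun v => Iff.rfl
  rcases addSubgroup_cases D.hF D.ha (D.chi_pow x.c) h W (fun w hw => by
    rw [hW, ← conj_tr]; exact mul_mem (mul_mem hx hw) (inv_mem hx)) with e | e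
  · refine hasNormalPComplement_of_coprime (Nat.Coprime.coprime_dvd_left ?_ D.cop)
    rw [← D.cardC]
    refine card_dvd_of_injective (pc.comp K.subtype) ((injective_iff_map_eq_one _).2 fun y hy => ?_)
    have h1 : y.1.c = 1 := hy
    have h2 : y.1.v ∈ W := by rw [hW, ← h1]; exact y.2
    rw [e, AddSubgroup.mem_bot] at h2
    exact Subtype.ext (MM.ext h2 h1)
  · refine absurd (eq_top_iff.2 fun y _ => ?_) hK
    have h1 : y.c ∈ (zpowers x).map pc := by
      rw [MonoidHom.map_zpowers]; exact zpowers_le.2 (D.gen_of h) (D.gen y.c)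
    obtain ⟨t, ht, e1⟩ := h1
    have h2 : y = ⟨y.v - t.v, 1⟩ * t := MM.ext (by simp) (by simpa [pc] using e1.symm)
    rw [h2]
    exact mul_mem ((hW _).1 (e.ge (AddSubgroup.mem_top _))) (zpowers_le.2 hx ht)

variable {G : Type*} [Group G] [Finite G] {θ : G →* MM χ}

theorem minnon (h : Cov p θ) : ¬ HasNormalPComplement p G ∧ ∀ K : Subgroup G, K ≠ ⊤ → HasNormalPComplement p K := by
  refine ⟨fun h1 => D.not_npc (hasNormalPComplement_of_surjective θ h.surj h1), fun K hK => ?_⟩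
  refine hasNormalPComplement_of_quotient_central (θ.comp K.subtype).ker
    (fun x hx => mem_center_iff.2 fun g => Subtype.ext (mem_center_iff.1 (h.cen hx) g)) ?_
  rw [hasNormalPComplement_congr (QuotientGroup.quotientKerEquivRange _), MonoidHom.range_comp, range_subtype]
  exact D.npc fun e => hK (h.min K e)

theorem card_eq (h : Cov p θ) : Nat.card G = Nat.card θ.ker * (p ^ a * q ^ r) := by
  rw [← θ.ker.card_mul_index, index_ker, MonoidHom.range_eq_top.2 h.surj, card_top, D.cardM]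

theorem ker_le (h : Cov p θ) : Nat.card θ.ker ≤ p ^ (if a % 2 = 1 then 0 else a / 2) := by
  obtain ⟨y0, hy0⟩ := h.surj (ro c0)
  obtain ⟨i, j, ⟨k, hk⟩, hj, hij⟩ := exists_pPart_mul_pPrimePart (p := p) y0 (orderOf_pos y0).ne'
  have hy1 : θ (y0 ^ i) = 1 := by
    refine eq_one_of_pow_of_coprime (p := p) (k := k) (by rw [← map_pow, ← hk, pow_orderOf_eq_one, map_one]) ?_
    rw [map_pow, hy0]
    exact Nat.Coprime.coprime_dvd_left ((orderOf_pow_dvd _).trans ((orderOf_map_dvd _ _).trans D.ord.dvd)) D.cop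
  set y := y0 ^ j with hyd
  have hy : θ y = ro c0 := by rw [← hy0, ← hij, map_mul, hy1, one_mul]
  choose s hs using fun v : F => h.surj ⟨v, 1⟩
  have h1z : 1 - χ c0 ≠ 0 := sub_ne_zero.2 D.ne_one.symm
  have htop : commutator G ⊔ zpowers y = ⊤ := h.min _ (eq_top_iff.2 fun x _ => by
    obtain ⟨n, hn⟩ := D.gen x.c
    refine ⟨⁅s (x.v / (1 - χ c0)), y⁆ * y ^ n, mul_mem (mem_sup_left (commutator_mem_commutator trivial trivial))
      (mem_sup_right (zpow_mem_zpowers _ _)), ?_⟩
    rw [map_mul, map_zpow, map_commutatorElement, hs, hy, ← map_zpow, show c0 ^ n = x.c from hn, commutatorElement_def]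
    refine MM.ext ?_ (by simp [ro])
    simp [ro]
    field_simp
    ring)
  have hZ : θ.ker ≤ commutator G := by
    intro z hz
    obtain ⟨n, hn, w, hw, e⟩ := exists_mul_of_sup_eq_top htop z
    obtain ⟨l, hl⟩ := h.pg ⟨z, hz⟩
    have h1 : (w : G ⧸ commutator G) = z := by
      rw [← e, QuotientGroup.mk_mul, (QuotientGroup.eq_one_iff n).2 hn, one_mul]
    rw [← QuotientGroup.eq_one_iff]
    refine eq_one_of_pow_of_coprime (p := p) (k := l) ?_ ?_
    · rw [← QuotientGroup.mk_pow, show z ^ p ^ l = 1 from congrArg Subtype.val hl]; rfl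
    · rw [← h1]
      exact Nat.Coprime.coprime_dvd_left ((orderOf_map_dvd (QuotientGroup.mk' _) w).trans
        (orderOf_dvd_of_mem_zpowers hw)) hj
  have hP : IsPGroup p (pc.comp θ).ker := fun x => by
    obtain ⟨l, hl⟩ := h.pg ⟨x.1 ^ p, by rw [MonoidHom.mem_ker, map_pow]; exact pow_tr x.2⟩
    have := congrArg Subtype.val hl
    exact ⟨l + 1, Subtype.ext (by rw [pow_succ', pow_mul]; exact this)⟩
  have hi : ¬ p ∣ (pc.comp θ).ker.index := by
    rw [index_ker]
    exact (Nat.Prime.coprime_iff_not_dvd hp.out).1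
      (Nat.Coprime.coprime_dvd_left (D.cardC ▸ card_subgroup_dvd_card _) D.cop).symm
  have cc : ∀ x x' w w' : G, θ x = θ x' → θ w = θ w' → ⁅x, w⁆ = ⁅x', w'⁆ := by
    intro x x' w w' e1 e2
    have z1 := mem_center_iff.1 (h.cen (show x'⁻¹ * x ∈ θ.ker by simp [e1]))
    have z2 := mem_center_iff.1 (h.cen (show w'⁻¹ * w ∈ θ.ker by simp [e2]))
    set z := x'⁻¹ * x with hz
    set t := w'⁻¹ * w with ht
    have a1 : x = x' * z := by rw [hz]; group
    have a2 : w = w' * t := by rw [ht]; group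
    rw [a1, a2, commutatorElement_def, commutatorElement_def]
    calc x' * z * (w' * t) * (x' * z)⁻¹ * (w' * t)⁻¹ = x' * (z * (w' * t)) * z⁻¹ * x'⁻¹ * t⁻¹ * w'⁻¹ := by group
      _ = x' * w' * (t * x'⁻¹) * t⁻¹ * w'⁻¹ := by rw [← z1]; group
      _ = _ := by rw [← z2]; group
  have cz : ∀ u v g, g * ⁅s u, s v⁆ = ⁅s u, s v⁆ * g := fun u v => mem_center_iff.1 (h.cen (by
    rw [MonoidHom.mem_ker, map_commutatorElement, hs, hs, commutatorElement_eq_one_iff_mul_comm]
    exact MM.ext (by simp [add_comm]) rfl))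
  have sa : ∀ u v, θ (s (u + v)) = θ (s u * s v) := fun u v => by
    rw [map_mul, hs, hs, hs]; exact MM.ext (by simp) (by simp)
  have sy : ∀ u, θ (s (χ c0 * u)) = θ (y * s u * y⁻¹) := fun u => by
    rw [map_mul, map_mul, map_inv, hs, hs, conj_tr, hy]; rfl
  obtain ⟨R, hR, hRc⟩ := bilin D.hF D.ha D.prim.pow_eq_one D.ne_one (fun u v => ⁅s u, s v⁆)
    (fun u u' v => by
      rw [cc _ _ _ _ (sa u u') rfl, commutatorElement_mul_left_eq_conj_mul, cz u' v (s u), mul_inv_cancel_right, cz])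
    (fun u v v' => by
      rw [cc _ _ _ _ rfl (sa v v'), commutatorElement_mul_right_eq_mul_conj, mul_assoc _ (s v), cz, mul_assoc,
        mul_inv_cancel_right])
    (fun u => commutatorElement_self _)
    (fun u v => by rw [cc _ _ _ _ (sy u) (sy v), ← conjugate_commutatorElement, cz, mul_inv_cancel_right])
  refine (card_le_of_le fun z hz => ?_).trans hRc
  have h1 := mem_commutator_sylow_of_central (hP.toSylow hi) (x := z)
    (show pc (θ z) = 1 by rw [show θ z = 1 from hz, map_one]) (hZ hz) (h.cen hz)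
  refine commutator_le.2 (fun x hx w hw => ?_) h1
  rw [cc x (s (θ x).v) w (s (θ w).v) (by rw [hs]; exact MM.ext rfl hx) (by rw [hs]; exact MM.ext rfl hw)]
  exact hR _ _

end Dat

end Cfsg.Agent.H3.Sch
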