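import Cfsg.Agent.H3.Sch2

/-! Minimal non-`p`-nilpotent groups as central covers. -/

set_option autoImplicit false
set_option linter.unusedSectionVars false

namespace Cfsg.Agent.H3.Sch

open Subgroup _root_.H3
open scoped commutatorElement IsMulCommutative

variable {F C : Type*} [Field F] [CommGroup C] {χ : C →* F}
variable [Fintype F] [Finite C] {p q a r : ℕ} [hp : Fact p.Prime] [hq : Fact q.Prime] [CharP F p]

theorem exists_psi_grp (hF : Fintype.card F = p ^ a) (ha : a = orderOf (p : ZMod q)) {ζ : F}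
    (hζ : IsPrimitiveRoot ζ q) {V : Type*} [CommGroup V] [Nontrivial V] (hV : ∀ v : V, v ^ p = 1) (τ : V →* V)
    (h1 : ∀ v, τ^[q] v = v) (h2 : ∃ v, τ v ≠ v) (h3 : ∀ W : Subgroup V, (∀ w ∈ W, τ w ∈ W) → W = ⊥ ∨ W = ⊤) :
    ∃ μ : F, μ ^ q = 1 ∧ μ ≠ 1 ∧ ∃ e : V ≃* Multiplicative F, ∀ v, (e (τ v)).toAdd = μ * (e v).toAdd := by
  letI : Module (ZMod p) (Additive V) := AddCommGroup.zmodModule fun x => hV x.toMul
  let T : Module.End (ZMod p) (Additive V) := (MonoidHom.toAdditive τ).toZModLinearMap p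
  obtain ⟨μ, a1, a2, ψ, a3, a4⟩ := exists_psi hF ha hζ T (LinearMap.ext fun v => by
    rw [Module.End.pow_apply]; exact h1 v.toMul) (fun e => by
      obtain ⟨v, hv⟩ := h2
      exact hv (LinearMap.congr_fun e (Additive.ofMul v))) fun W hW => by
    rcases h3 (AddSubgroup.toSubgroup' W.toAddSubgroup) hW with e | e
    · exact Or.inl (eq_bot_iff.2 fun w hw => e.le hw)
    · exact Or.inr (eq_top_iff.2 fun w _ => e.ge (mem_top w.toMul))
  let E := AddEquiv.ofBijective ψ a3
  refine ⟨μ, a1, a2, AddEquiv.toMultiplicativeRight E.symm, fun v => ?_⟩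
  show E.symm (Additive.ofMul (τ v)) = μ * E.symm (Additive.ofMul v)
  apply E.injective
  rw [E.apply_symm_apply]
  show _ = ψ _
  rw [a4, show ψ (E.symm (Additive.ofMul v)) = Additive.ofMul v from E.apply_symm_apply _]
  rfl

theorem cent_of {X : Type*} [Group X] [Finite X] (h2 : ∀ K : Subgroup X, K ≠ ⊤ → HasNormalPComplement p K)
    {Q : Subgroup X} (hQ : IsPGroup p Q) {g : X} (hg : g ∈ normalizer (Q : Set X)) (hc : (orderOf g).Coprime p)
    (hne : Q ⊔ zpowers g ≠ ⊤) : g ∈ centralizer (Q : Set X) := by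
  have hgm : g ∈ Q ⊔ zpowers g := mem_sup_right (mem_zpowers g)
  have h3 := mem_centralizer_of_hasNormalPComplement (h2 _ hne)
    (Q := Q.subgroupOf (Q ⊔ zpowers g)) hQ.comap_subtype (g := ⟨g, hgm⟩)
    (le_normalizer_comap _ hg) (by rw [← orderOf_coe]; exact hc)
  exact fun x hx => congrArg Subtype.val (h3 ⟨x, mem_sup_left hx⟩ hx)

theorem Dat.cov_of {c0 : C} (D : Dat χ c0 p q a r) {X : Type*} [Group X] [Finite X]
    (h1 : ¬ HasNormalPComplement p X) (h2 : ∀ K : Subgroup X, K ≠ ⊤ → HasNormalPComplement p K) {t : ℕ}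
    (hc : Nat.card X = p ^ t * q ^ r) : ∃ θ : X →* MM χ, Cov p θ := by
  obtain ⟨P⟩ : Nonempty (Sylow p X) := inferInstance
  obtain ⟨hPn, q', hq', hqp, hd, g, k, hk, htop, hg⟩ := ito_structure h1 h2 P
  obtain rfl : q' = q := by
    rw [hc] at hd
    rcases (Nat.Prime.dvd_mul hq').1 hd with h | h
    · exact absurd ((Nat.prime_dvd_prime_iff_eq hq' hp.out).1 (hq'.dvd_of_dvd_pow h)) hqp
    · exact (Nat.prime_dvd_prime_iff_eq hq' hq.out).1 (hq'.dvd_of_dvd_pow h)
  have cpq : p.Coprime q' := (Nat.coprime_primes hp.out hq').2 hqp.symm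
  obtain ⟨j, hj⟩ := P.isPGroup'.exists_card_eq
  have hgc : (orderOf g).Coprime p := by rw [hk]; exact cpq.symm.pow_left k
  have hdis : Disjoint (P : Subgroup X) (zpowers g) :=
    disjoint_of_coprime_card (by rw [hj, Nat.card_zpowers]; exact hgc.symm.pow_left j)
  have hcomp := isComplement'_of_normal hdis htop
  have hord : orderOf g = q' ^ r := by
    have e := hcomp.card_mul_card
    rw [hj, Nat.card_zpowers, hc, hk] at e
    rw [hk]
    exact Nat.dvd_antisymm ((cpq.symm.pow k t).dvd_of_dvd_mul_left (e ▸ Dvd.intro_left _ rfl))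
      ((cpq.symm.pow r j).dvd_of_dvd_mul_left (e ▸ Dvd.intro_left _ rfl))
  have hgq : g ^ q' ∈ centralizer (P : Set X) := by
    refine cent_of h2 P.isPGroup' (by rw [normalizer_eq_top]; trivial)
      (Nat.Coprime.coprime_dvd_left (orderOf_pow_dvd _) hgc) fun e => hg ?_
    obtain ⟨n, hn, w, hw, e1⟩ := exists_mul_of_sup_eq_top e g
    have h3 : n = 1 := disjoint_def.1 hdis hn (by
      rw [eq_mul_inv_of_mul_eq e1]
      exact mul_mem (mem_zpowers g) (inv_mem (zpowers_le.2 (pow_mem (mem_zpowers g) _) hw)))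
    rw [h3, one_mul] at e1
    rw [e1, mem_zpowers_pow_iff, hk] at hw
    have h4 : orderOf g = 1 := by
      rcases k with _ | k
      · simpa using hk
      · exact absurd (Nat.dvd_one.1 (hw ▸ Nat.dvd_gcd dvd_rfl (dvd_pow_self q' k.succ_ne_zero))) hq'.ne_one
    rw [orderOf_eq_one_iff.1 h4]; exact one_mem _
  have hmin : ∀ U : Subgroup X, U < P → zpowers g ≤ normalizer (U : Set X) → ⁅U, zpowers g⁆ = ⊥ := by
    intro U hU hn
    rw [commutator_comm, commutator_eq_bot_iff_le_centralizer, zpowers_le]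
    refine cent_of h2 (P.isPGroup'.to_le hU.le) (zpowers_le.1 hn) hgc fun e => hU.not_ge fun x hx => ?_
    haveI : U.Normal := by
      rw [← normalizer_eq_top_iff, eq_top_iff, ← e]; exact sup_le le_normalizer hn
    obtain ⟨n, hn, w, hw, e1⟩ := exists_mul_of_sup_eq_top e x
    have h3 : w = 1 := disjoint_def.1 hdis (by
      rw [eq_inv_mul_of_mul_eq e1]; exact mul_mem (inv_mem (hU.le hn)) hx) hw
    rw [← e1, h3, mul_one]; exact hn
  have hnt : ⁅(P : Subgroup X), zpowers g⁆ ≠ ⊥ := fun e => by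
    rw [commutator_comm, commutator_eq_bot_iff_le_centralizer, zpowers_le] at e
    exact hg e
  obtain ⟨m1, m2, m3, m4, -, -⟩ := H7.minimal_action P.isPGroup' (B := zpowers g) (A := zpowers g)
    (by rw [normalizer_eq_top]; exact le_top) le_rfl le_normalizer (by rwa [Nat.card_zpowers]) hnt hmin
  set Z := ⁅(P : Subgroup X), (P : Subgroup X)⁆ with hZ
  have hZP : Z ≤ P := m2 ▸ inf_le_left
  have hZg : Z ≤ centralizer (zpowers g : Set X) := m2 ▸ inf_le_right
  have hZc : Z ≤ center X := fun z hz => mem_center_iff.2 fun x => by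
    have : (⊤ : Subgroup X) ≤ centralizer {z} := by
      rw [← htop]
      exact sup_le (fun y hy => mem_centralizer_singleton_iff.2 (m4 hz y hy))
        fun y hy => mem_centralizer_singleton_iff.2 (hZg hz y hy)
    exact mem_centralizer_singleton_iff.1 (this trivial)
  let π := QuotientGroup.mk' Z
  let V := (P : Subgroup X).map π
  haveI : V.Normal := hPn.map π (QuotientGroup.mk'_surjective Z)
  haveI : IsMulCommutative V := ⟨⟨by
    rintro ⟨_, x, hx, rfl⟩ ⟨_, y, hy, rfl⟩
    refine Subtype.ext ?_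
    show π x * π y = π y * π x
    rw [← commutatorElement_eq_one_iff_mul_comm, ← map_commutatorElement]
    exact (QuotientGroup.eq_one_iff _).2 (commutator_mem_commutator hx hy)⟩⟩
  let τ : V →* V := (MulAut.conjNormal (π g)).toMonoidHom
  let f : (P : Subgroup X) →* V := π.subgroupMap P
  have hf : Function.Surjective f := π.subgroupMap_surjective _
  have hfk : ∀ x, f x = 1 ↔ x.1 ∈ Z := fun x => Subtype.ext_iff.trans (QuotientGroup.eq_one_iff _)
  have hτ : ∀ (i : ℕ) (x : (P : Subgroup X)), τ^[i] (f x) = f ⟨g ^ i * x * (g ^ i)⁻¹, hPn.conj_mem _ x.2 _⟩ := by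
    intro i x
    induction i with
    | zero => simp
    | succ i ih =>
      rw [Function.iterate_succ_apply', ih]
      refine Subtype.ext ?_
      show π g * π _ * (π g)⁻¹ = π _
      rw [← map_inv, ← map_mul, ← map_mul]
      congr 1
      simp only [pow_succ']; group
  have hne : ∃ v, τ v ≠ v := by
    by_contra hcon
    push Not at hcon
    refine hg fun x hx => ?_
    have h3 : ⁅(P : Subgroup X), zpowers g⁆ ≤ Z := by
      rw [commutator_comm]
      refine commutator_le.2 fun w hw y hy => ?_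
      obtain ⟨i, rfl⟩ := (mem_powers_iff_mem_zpowers).2 hw
      have := hτ i ⟨y, hy⟩
      rw [Function.iterate_fixed (hcon _), eq_comm, ← mul_inv_eq_one, ← map_inv, ← map_mul, hfk] at this
      exact this
    rw [m1] at h3
    exact (hZg (h3 hx) g (mem_zpowers g)).symm
  haveI : Nontrivial V := by
    obtain ⟨v, hv⟩ := hne
    exact ⟨_, _, hv⟩
  obtain ⟨μ, a1, a2, e, a3⟩ := exists_psi_grp D.hF D.ha D.prim (V := V) (fun v => by
      obtain ⟨x, rfl⟩ := hf v
      rw [← map_pow, hfk, ← m3]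
      exact ⟨_, pow_mem_frattini P.isPGroup' x, rfl⟩) τ (fun v => by
      obtain ⟨x, rfl⟩ := hf v
      rw [hτ]
      congr 1
      exact Subtype.ext (by rw [mul_inv_eq_iff_eq_mul]; exact (hgq x x.2).symm)) hne fun W hW => by
    let U := (W.comap f).map (P : Subgroup X).subtype
    rcases (map_subtype_le _ : U ≤ P).eq_or_lt with e | e
    · refine Or.inr (eq_top_iff.2 fun v _ => ?_)
      obtain ⟨x, rfl⟩ := hf v
      obtain ⟨y, hy, e1⟩ := e.ge x.2
      rwa [← show y = x from Subtype.ext e1]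
    · have h3 := hmin U e (zpowers_le.2 (mem_normalizer_fintype (by
        rintro _ ⟨x, hx, rfl⟩
        refine ⟨⟨_, hPn.conj_mem _ x.2 g⟩, ?_, rfl⟩
        have := hτ 1 x
        simp only [pow_one, Function.iterate_one] at this
        exact (this ▸ hW _ hx : f _ ∈ W))))
      rw [commutator_eq_bot_iff_le_centralizer] at h3
      refine Or.inl (eq_bot_iff.2 fun v hv => ?_)
      obtain ⟨x, rfl⟩ := hf v
      rw [mem_bot, hfk, ← m2]
      exact ⟨x.2, h3 ⟨x, hv, rfl⟩⟩
  haveI : NeZero q' := ⟨hq'.ne_zero⟩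
  obtain ⟨l, -, hl⟩ := D.prim.eq_pow_of_pow_eq_one a1
  have hgen : ∀ x : zpowers g, x ∈ zpowers (⟨g, mem_zpowers g⟩ : zpowers g) := by
    rintro ⟨_, i, rfl⟩; exact ⟨i, rfl⟩
  let κ : zpowers g →* C := monoidHomOfForallMemZpowers hgen (g' := c0 ^ l) (by
    rw [← orderOf_coe, hord, ← D.ord]; exact orderOf_pow_dvd _)
  have hκ : κ ⟨g, mem_zpowers g⟩ = c0 ^ l := monoidHomOfForallMemZpowers_apply_gen _ _
  have hκs : Function.Surjective κ := by
    rw [← MonoidHom.range_eq_top, eq_top_iff]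
    have h3 : c0 ^ l ∈ κ.range := ⟨_, hκ⟩
    exact fun c _ => zpowers_le.2 (zpowers_le.2 h3 (D.gen_of (by rw [map_pow, hl]; exact a2))) (D.gen c)
  have hκi : Function.Injective κ :=
    ((Nat.bijective_iff_surjective_and_card _).2 ⟨hκs, by rw [Nat.card_zpowers, hord, D.cardC]⟩).1
  let fn : (P : Subgroup X) →* MM χ := tr.comp (e.toMonoidHom.comp f)
  let fg : zpowers g →* MM χ := ro.comp κ
  have hit : ∀ (i : ℕ) v, (e (τ^[i] v)).toAdd = μ ^ i * (e v).toAdd := by
    intro i v
    induction i with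
    | zero => simp
    | succ i ih => rw [Function.iterate_succ_apply', a3, ih, pow_succ', mul_assoc]
  let θ0 := SemidirectProduct.lift (φ := ((P : Subgroup X).normalizerMonoidHom).comp
      (inclusion ((P : Subgroup X).normalizer_eq_top ▸ le_top))) fn fg (by
    intro w
    obtain ⟨i, rfl⟩ := (mem_powers_iff_mem_zpowers).2 (hgen w)
    refine MonoidHom.ext fun x => ?_
    show fn ⟨g ^ i * x * (g ^ i)⁻¹, hPn.conj_mem _ x.2 _⟩ = fg _ * ⟨(e (f x)).toAdd, 1⟩ * (fg _)⁻¹
    rw [conj_tr]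
    refine MM.ext ?_ rfl
    show (e (f _)).toAdd = χ (κ _) * _
    rw [← hτ, hit, map_pow, hκ, map_pow, map_pow, hl])
  let E := SemidirectProduct.mulEquivSubgroup hcomp
  let θ := θ0.comp E.symm.toMonoidHom
  have hθ : ∀ (n : (P : Subgroup X)) (w : zpowers g), θ (n * w) = ⟨(e (f n)).toAdd, κ w⟩ := by
    intro n w
    have : θ (n * w) = θ0 ⟨n, w⟩ := congrArg θ0 (E.symm_apply_eq.2 rfl)
    rw [this]
    exact MM.ext (by show _ + _ * (0 : F) = _; rw [mul_zero, add_zero]; rfl) (one_mul _)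
  have hker : θ.ker ≤ Z := fun x hx => by
    obtain ⟨⟨n, w⟩, rfl⟩ := hcomp.2 x
    rw [MonoidHom.mem_ker, hθ] at hx
    have e1 : w = 1 := hκi ((congrArg MM.c hx).trans (map_one κ).symm)
    have e2 : f n = 1 := e.injective ((congrArg MM.v hx).trans (map_one e).symm)
    subst e1
    simpa using (hfk n).1 e2
  refine ⟨θ, fun y => ?_, hker.trans hZc, P.isPGroup'.to_le (hker.trans hZP), fun K hK => by_contra fun hne => ?_⟩
  · obtain ⟨w, hw⟩ := hκs y.c
    obtain ⟨n, hn⟩ := hf (e.symm (Multiplicative.ofAdd y.v))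
    exact ⟨n * w, by rw [hθ, hw, hn, e.apply_symm_apply]; rfl⟩
  · have := hasNormalPComplement_map θ (h2 K hne)
    rw [hK, hasNormalPComplement_top] at this
    exact D.not_npc this

end Cfsg.Agent.H3.Sch
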