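import Cfsg.Agent.H10.PU15
import Cfsg.Agent.H10.Kieler
import Cfsg.Agent.H12.FF11
import Cfsg.Agent.H3.Eig2

/-! Rank one subgroups generated by conjugates of the Baumann subgroup. -/

set_option autoImplicit false
set_option linter.unusedSectionVars false

open Cfsg Subgroup H10
open H4 (meas meas_def Hol hV hφ ker_hφ)
open scoped commutatorElement MatrixGroups

namespace H3

universe u

variable {G : Type u} [Group G]

theorem exists_abel_mod {X X₀ : Subgroup G} (h : ⁅X, X⁆ ≤ X₀) :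
    ∃ (Y : Type u) (_ : CommGroup Y) (φ : G → Y), (∀ v ∈ X, ∀ w ∈ X, φ (v * w) = φ v * φ w) ∧
      ∀ v ∈ X, φ v = 1 ↔ v ∈ X₀ := by
  classical
  have hn : (X₀.subgroupOf X).Normal := ⟨fun v hv g => by
    have := X₀.mul_mem (h (commutator_mem_commutator g.2 v.2)) (mem_subgroupOf.1 hv)
    rwa [commutatorElement_def, inv_mul_cancel_right] at this⟩
  let _ : CommGroup (X ⧸ X₀.subgroupOf X) := { QuotientGroup.Quotient.group _ with
    mul_comm := fun a b => by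
      obtain ⟨a, rfl⟩ := QuotientGroup.mk_surjective a
      obtain ⟨b, rfl⟩ := QuotientGroup.mk_surjective b
      refine QuotientGroup.eq.2 ?_
      have := h (commutator_mem_commutator (X.inv_mem b.2) (X.inv_mem a.2))
      simpa [mem_subgroupOf, commutatorElement_def, mul_assoc] using this }
  refine ⟨X ⧸ X₀.subgroupOf X, inferInstance, fun v => if hv : v ∈ X then QuotientGroup.mk ⟨v, hv⟩ else 1,
    fun v hv w hw => ?_, fun v hv => ?_⟩
  · simp only [dif_pos hv, dif_pos hw, dif_pos (X.mul_mem hv hw)]; rfl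
  · simp only [dif_pos hv]; exact QuotientGroup.eq_one_iff _

theorem quad_fix {P M A X X₀ K : Subgroup G} {x t : G} (hP : P ≤ NN(X)) (hX : ⁅X, X⁆ ≤ X₀)
    (h2 : ∀ v ∈ X, v * v ∈ X₀ → v ∈ X₀) (hM : ⁅X, M⁆ ≤ X₀) (hMP : M ≤ P) (hA : A ≤ M)
    (hq : ncl ⁅⁅X, A⁆, A⁆ P ≤ X₀) (hx : x ∈ P) (hK : ∀ g ∈ P, cj g K ≤ M)
    (hgen : P ≤ A ⊔ cj x A ⊔ K) (ht : t ∈ cj x A) (h3 : ∃ a ∈ A, (a * x)⁻¹ * t ∈ M)
    (h4 : ∃ a ∈ A, (a * x)⁻¹ * t⁻¹ ∈ M) : ⁅X, P⁆ ≤ X₀ := by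
  obtain ⟨Y, _, φ, hφ, hk⟩ := exists_abel_mod hX
  have hAP := hA.trans hMP
  have c : ∀ {g v}, g ∈ P → v ∈ X → g⁻¹ * v * g ∈ X := fun hg hv => conj_mem_of_mem_NN' (hP hg) hv
  have φ1 : φ 1 = 1 := (hk 1 X.one_mem).2 X₀.one_mem
  have φi : ∀ v ∈ X, φ v⁻¹ = (φ v)⁻¹ := fun v hv =>
    eq_inv_of_mul_eq_one_left (by rw [← hφ _ (X.inv_mem hv) _ hv, inv_mul_cancel, φ1])
  have φe : ∀ v ∈ X, ∀ w ∈ X, v⁻¹ * w ∈ X₀ ↔ φ w = φ v := fun v hv w hw => by
    rw [← hk _ (X.mul_mem (X.inv_mem hv) hw), hφ _ (X.inv_mem hv) _ hw, φi v hv, inv_mul_eq_one, eq_comm]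
  obtain ⟨U, hU⟩ : ∃ U : G → G → Y, ∀ g v, U g v = φ (g⁻¹ * v * g) := ⟨_, fun _ _ => rfl⟩
  have Um : ∀ g h v, U g (h⁻¹ * v * h) = U (h * g) v := fun g h v => by
    rw [hU, hU]; congr 1; group
  have UM : ∀ g ∈ P, ∀ m ∈ M, ∀ v ∈ X, U (g * m) v = U g v := fun g hg m hm v hv => by
    rw [hU, hU, ← φe _ (c hg hv) _ (c (P.mul_mem hg (hMP hm)) hv)]
    have := hM (commutator_mem_commutator (X.inv_mem (c hg hv)) (M.inv_mem hm))
    convert this using 1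
    rw [commutatorElement_def]; group
  have UQ : ∀ g ∈ P, ∀ y ∈ P, ∀ a ∈ cj y A, ∀ b ∈ cj y A, ∀ v ∈ X,
      U (a * b * g) v * U g v = U (a * g) v * U (b * g) v := fun g hg y hy a ha b hb v hv => by
    have l := cj_le_of_mem hy hAP
    have h5 : ⁅⁅v⁻¹, a⁻¹⁆⁻¹, b⁻¹⁆ ∈ cj y ⁅⁅X, A⁆, A⁆ := by
      rw [cj_commutator, cj_commutator, cj_eq_of_mem_NN (hP hy)]
      exact commutator_mem_commutator (inv_mem (commutator_mem_commutator (inv_mem hv) (inv_mem ha)))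
        (inv_mem hb)
    have h6 := hq (cj_le_ncl _ (P.mul_mem (P.inv_mem hg) hy) (by
      rw [cj_mul]; exact conj_mem_cj (g := g⁻¹) h5))
    have h7 := (φe _ (X.mul_mem (X.inv_mem (c hg hv)) (c (P.mul_mem (l ha) hg) hv)) _
      (X.mul_mem (X.inv_mem (c (P.mul_mem (l hb) hg) hv))
        (c (P.mul_mem (P.mul_mem (l ha) (l hb)) hg) hv))).1 (by
      convert h6 using 1
      simp only [commutatorElement_def]; group)
    rw [hφ _ (X.inv_mem (c hg hv)) _ (c (P.mul_mem (l ha) hg) hv),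
      hφ _ (X.inv_mem (c (P.mul_mem (l hb) hg) hv)) _ (c (P.mul_mem (P.mul_mem (l ha) (l hb)) hg) hv),
      φi _ (c hg hv), φi _ (c (P.mul_mem (l hb) hg) hv), ← hU, ← hU, ← hU, ← hU,
      inv_mul_eq_iff_eq_mul] at h7
    rw [h7, mul_comm, mul_left_comm, mul_inv_cancel_left, mul_comm]
  have key : ∀ s ∈ cj x A, (∃ a ∈ A, (a * x)⁻¹ * s ∈ M) → ∀ g ∈ P, ∀ v ∈ X,
      U g v * U (g * x) v * (U (g * s) v)⁻¹ = U 1 v * U x v * (U s v)⁻¹ := by
    rintro s hs ⟨a₀, ha₀, h5⟩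
    have hsP := cj_le_of_mem hx hAP hs
    let St : Subgroup G :=
      { carrier := {g | g ∈ P ∧ ∀ v ∈ X,
          U g v * U (g * x) v * (U (g * s) v)⁻¹ = U 1 v * U x v * (U s v)⁻¹}
        one_mem' := ⟨P.one_mem, fun v _ => by rw [one_mul, one_mul]⟩
        mul_mem' := fun {g h} hg hh => ⟨P.mul_mem hg.1 hh.1, fun v hv => by
          have := hh.2 _ (c hg.1 hv)
          simp only [Um, mul_one, ← mul_assoc] at this
          rw [this, hg.2 v hv]⟩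
        inv_mem' := fun {g} hg => ⟨P.inv_mem hg.1, fun v hv => by
          have := hg.2 _ (c (P.inv_mem hg.1) hv)
          simp only [Um, mul_one, inv_mul_cancel, inv_mul_cancel_left] at this
          exact this.symm⟩ }
    have h6 : P ≤ St := hgen.trans (sup_le (sup_le (fun a ha => ⟨hAP ha, fun v hv => ?_⟩)
      fun b hb => ⟨cj_le_of_mem hx hAP hb, fun v hv => ?_⟩) fun k hk' => ?_)
    · exact fun g hg => (h6 hg).2
    · have e1 := UQ x hx 1 P.one_mem a (by rwa [cj_one]) a₀ (by rwa [cj_one]) v hv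
      have e2 := UM 1 P.one_mem a (hA ha) v hv
      have e3 := UM _ (P.mul_mem (hAP ha₀) hx) _ h5 v hv
      have e4 := UM _ (P.mul_mem (P.mul_mem (hAP ha) (hAP ha₀)) hx) _ h5 v hv
      rw [mul_inv_cancel_left] at e3
      rw [mul_assoc a, mul_assoc a, mul_inv_cancel_left, ← mul_assoc a] at e4
      rw [one_mul] at e2
      rw [e2, e3, e4, mul_assoc (U 1 v), mul_assoc (U 1 v), mul_right_inj, mul_inv_eq_iff_eq_mul,
        mul_right_comm, mul_comm (U x v), e1, mul_inv_cancel_right]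
    · have e1 := UQ 1 P.one_mem x hx b hb s hs v hv
      have e2 := UM x hx _ (hA (mem_cj.1 hb)) v hv
      rw [← mul_assoc, ← mul_assoc, mul_inv_cancel, one_mul] at e2
      simp only [mul_one] at e1
      rw [e2, mul_inv_eq_iff_eq_mul, mul_right_comm, mul_right_comm (U 1 v), mul_comm (U 1 v), e1,
        mul_right_comm, mul_inv_cancel_right]
    · have hkP : k ∈ P := hMP (hK 1 P.one_mem (by rwa [cj_one]))
      have e : ∀ g ∈ P, ∀ v ∈ X, U (k * g) v = U g v := fun g hg v hv => by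
        have := UM g hg _ (hK _ (P.inv_mem hg) (conj_mem_cj hk')) v hv
        rwa [inv_inv, ← mul_assoc, ← mul_assoc, mul_inv_cancel, one_mul] at this
      refine ⟨hkP, fun v hv => ?_⟩
      rw [e x hx v hv, e s hsP v hv, ← e 1 P.one_mem v hv, mul_one]
  have htP := cj_le_of_mem hx hAP ht
  have sq : ∀ g ∈ P, ∀ v ∈ X, U (g * x) v = U x v := fun g hg v hv => by
    have e : ∀ w ∈ X, (U 1 w * U x w * (U t w)⁻¹) * (U 1 w * U x w * (U t⁻¹ w)⁻¹) = U x w * U x w :=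
      fun w hw => by
        have e1 := UQ 1 P.one_mem x hx t ht _ (inv_mem ht) w hw
        simp only [mul_one, mul_inv_cancel] at e1
        rw [mul_mul_mul_comm, mul_mul_mul_comm (U 1 w), ← mul_inv, ← e1, mul_inv_cancel_comm]
    have e1 := e _ (c hg hv)
    simp only [Um, mul_one] at e1
    rw [key t ht h3 g hg v hv, key _ (inv_mem ht) h4 g hg v hv, e v hv] at e1
    have m1 := c (P.mul_mem hg hx) hv
    have m2 := c hx hv
    have m3 := X.mul_mem (X.inv_mem m2) m1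
    rw [hU, hU, ← φe _ m2 _ m1]
    refine h2 _ m3 ((hk _ (X.mul_mem m3 m3)).1 ?_)
    rw [hφ _ m3 _ m3, hφ _ (X.inv_mem m2) _ m1, φi _ m2, ← hU, ← hU, mul_mul_mul_comm, ← e1, ← mul_inv,
      inv_mul_cancel]
  refine commutator_le.2 fun v hv g hg => ?_
  have e1 := sq _ (P.mul_mem (P.inv_mem hg) (P.inv_mem hx)) _ (X.inv_mem hv)
  have e2 := sq _ (P.inv_mem hx) _ (X.inv_mem hv)
  rw [inv_mul_cancel_right] at e1
  rw [inv_mul_cancel, ← e1, hU, hU, eq_comm,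
    ← φe _ (c P.one_mem (X.inv_mem hv)) _ (c (P.inv_mem hg) (X.inv_mem hv))] at e2
  convert e2 using 1
  rw [commutatorElement_def]; group

variable [Finite G] {p q : ℕ} [hp : Fact p.Prime]

theorem dcoset {U L M A : Subgroup G} (h : H12.R0 U L M A) (hU : ¬ U ≤ CC(L)) {x y : G} (hx : x ∈ L)
    (hn : x ∉ M) (hy : y ∈ L) (hm : y ∉ M) : ∃ a ∈ A, (a * x)⁻¹ * y ∈ M := by
  obtain ⟨f, hf, h1⟩ := h.exists_not_mem hU hy hm
  obtain ⟨a, ha, h2⟩ := h.exists_mem_cj hx hn hf.1 h1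
  exact ⟨a, ha, by_contra fun h3 => h1 (h.Z_le ((h.inf_eq2 (L.mul_mem (h.le ha) hx) hy h3).le
    ⟨⟨hf.1, h2⟩, hf⟩)).2⟩

theorem rk_sub {P N : Subgroup G} (h : RK p q P) (hN : N ≤ P)
    (e : N ⊔ pCoreOf p P = P) : RK p q N := by
  have := normal_subgroupOf (le_NN_pCoreOf (p := p) P)
  let f := QuotientGroup.mk' ((pCoreOf p P).subgroupOf P)
  have hf : Function.Surjective f := QuotientGroup.mk'_surjective _
  have hk : IsPGroup p ((⊤ : Subgroup P) ⊓ f.ker : Subgroup P) := by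
    rw [top_inf_eq, QuotientGroup.ker_mk']; exact isPGroup_subgroupOf (isPGroup_pCoreOf P) P
  have h1 := h.subgroupOf.map f hk
  have h0 := map_pCoreOf f hk
  rw [map_top_of_surjective f hf] at h1 h0
  rw [pCoreOf_top, ← pCoreOf_subgroupOf, QuotientGroup.map_mk'_self] at h0
  let π := f.comp (inclusion hN)
  have hπ : Function.Surjective π := fun y => by
    obtain ⟨⟨y, hy⟩, rfl⟩ := hf y
    obtain ⟨a, ha, b, hb, rfl⟩ := (mem_sup_of_NN (hN.trans (le_NN_pCoreOf P))).1 (e.ge hy)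
    exact ⟨⟨a, ha⟩, QuotientGroup.eq.2 (by simpa [mem_subgroupOf] using hb)⟩
  obtain ⟨S, hS⟩ := exists_isSylowIn p (⊤ : Subgroup N)
  have hk' : π.ker ≤ S := (le_pCoreOf (isPGroup_iff_mem.2 fun x hx => by
    obtain ⟨k, hk⟩ := isPGroup_iff_mem.1 (isPGroup_pCoreOf (p := p) P) x
      ((QuotientGroup.eq_one_iff (inclusion hN x)).1 hx)
    exact ⟨k, Subtype.ext hk⟩) le_top (le_NN_of_normal _ _)).trans hS.pCoreOf_le
  have h2 := ((h1 _ (hS.map_top hπ)).of_surj hπ hS h0.symm fun Y h3 h4 => by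
    rw [← comap_map_eq_self (hk'.trans h3), h4, comap_top]).rk.map N.subtype
    (isPGroup_inf_ker_of_injective _ N.subtype_injective)
  rwa [map_top_subtype] at h2

theorem umax_sub {T M L N S : Subgroup G} (h : UMax T (L ⊓ M) L) (hN : N ≤ L)
    (hS : IsSylowIn p S N) (e : S ⊔ pCoreOf p L = T) (hNM : ¬ N ≤ M) : UMax S (N ⊓ M) N := by
  have l : S ≤ M := (le_sup_left.trans e.le).trans (h.1.trans inf_le_right)
  refine ⟨le_inf hS.le l, lt_of_le_of_ne inf_le_left fun e => hNM (e.ge.trans inf_le_right),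
    fun X h1 h2 => le_inf h2.le (le_sup_left.trans ((h.2.2 (X ⊔ pCoreOf p L)
      (e.ge.trans (sup_le_sup_right h1 _)) (lt_of_le_of_ne (sup_le (h2.le.trans hN) (pCoreOf_le L))
        fun e' => h2.not_ge ?_)).trans inf_le_right))⟩
  refine (le_inf (hN.trans e'.ge) le_rfl).trans ((dedekind_left h2.le ((h2.le.trans hN).trans
    (le_NN_pCoreOf L))).le.trans (sup_le le_rfl ?_))
  exact ((pCoreOf_inf_le hN).trans hS.pCoreOf_le).trans h1

theorem rk_of_r0 {U L M A T : Subgroup G} (h : H12.R0 U L M A) (he : IsElementaryAbelian p U)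
    (hU : ¬ U ≤ CC(L)) (hT : IsSylowIn p T L) (hM : UMax T M L) : ∃ q, RK p q L := by
  obtain ⟨x, hx, hn⟩ := SetLike.exists_of_lt hM.2.1
  obtain ⟨F, _, _, ρ, ψ, h1, h2, -⟩ := h.exists_natAct (isElementaryAbelian_iff.1 he).2 hU hx hn
  have hc : CharP F p := by
    obtain ⟨u, hu⟩ := h1.surj (Multiplicative.ofAdd fun _ => 1)
    have h3 : u ^ p = 1 := Subtype.ext ((isElementaryAbelian_iff.1 he).2 u u.2)
    have h4 := congrFun (congrArg Multiplicative.toAdd (map_pow ψ u p)) 0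
    rw [h3, map_one, hu] at h4
    exact (CharP.charP_iff_prime_eq_zero hp.out).2 (by simpa using h4.symm)
  obtain ⟨n, -, hF⟩ := FiniteField.card F p
  let π := (pmk F).comp ρ
  have hπ : Function.Surjective π :=
    (QuotientGroup.mk'_surjective _).comp (MonoidHom.range_eq_top.1 h2)
  have h3 := (rk_of_psl hT.toSylow ((existsUnique_coatom_iff hT.le).2 ⟨M, hM⟩) π.ker hF
    ⟨QuotientGroup.quotientKerEquivOfSurjective π hπ⟩).2.map L.subtype
    (isPGroup_inf_ker_of_injective _ L.subtype_injective)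
  exact ⟨_, by rwa [map_top_subtype] at h3⟩

theorem hyp_quad (hp2 : p ≠ 2) {V P T M B : Subgroup G} (h : H12.Hyp p V P T M) {S : Set (Subgroup G)}
    (hS : ∀ A ∈ S, A ≤ T ∧ IsElementaryAbelian p A ∧ Nat.card V ≤ meas V A) (h0 : sSup S ≠ ⊥)
    (hB : B ≤ T) (hJ : sSup S ≤ B) (hc : V ⊓ CC(sSup S) ≤ CC(B)) :
    ⁅V, B⁆ ≤ CC(B) ∧ Nat.card V ≤ meas V B := by
  have c := h.ctx
  have hT := h.syl.isPGroup
  have hBP := hB.trans h.syl.le
  obtain ⟨A₀, hA₀, n0⟩ : ∃ A ∈ S, A ≠ ⊥ := by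
    by_contra! e
    exact h0 (eq_bot_iff.2 (sSup_le fun A hA => (e A hA).le))
  obtain ⟨A₁, l1, pt1⟩ := h.exists_pt ((hS _ hA₀).1.trans h.syl.le) (hS _ hA₀).2.1 n0 (hS _ hA₀).2.2
  obtain ⟨X, fam⟩ := h.exists_fam fun e => pt1.ne_bot (eq_bot_iff.2
    ((pt1.le_JD (l1.trans (hS _ hA₀).1)).trans e.le))
  have l : sSup S ≤ H12.JD p V P T := sSup_le fun A hA => fam.le_JD A (hS A hA).1 (hS A hA).2.1
    (hS A hA).2.2
  have k : ∀ A, H12.Pt p V P A → A ≤ T → ⁅V, A⁆ ≤ CC(B) := fun A hA hAT =>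
    (le_inf (comm_le_left (hA.le.trans c.norm)) ((commutator_mono le_rfl (hA.le_JD hAT)).trans
      ((c.JD_quad hT).trans (CC_anti l)))).trans hc
  have k2 : ∀ A, H12.Pt p V P A → A ≤ T → ⁅V, B⁆ ≤ CC(A) := fun A hA hAT => by
    have q2 : ∀ A, H12.Pt p V P A → 2 < Nat.card A := fun A hA =>
      (lt_of_le_of_ne hp.out.two_le hp2.symm).trans_le
        (Nat.le_of_dvd Nat.card_pos (dvd_card_of_isPGroup_ne_bot hA.isPGroup hA.ne_bot))
    have n : B ≤ NN(A) := fun b hb => mem_NN.2 (by_contra fun ne => by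
      have pt := fam.pt_cj hA (hB hb)
      have lt := cj_le_of_mem (hB hb) hAT
      have h1 := (fam.EC_comm hA hAT pt lt fun r => ne (fam.eq_of_rel hA hAT pt lt (q2 A hA) r).symm).2
      rw [fam.EC_eq_line hA hAT (q2 A hA), fam.EC_eq_line pt lt (q2 _ pt)] at h1
      have h2 : ⁅V, cj b A⁆ = ⁅V, A⁆ := by
        rw [← c.cjW (hBP hb), cj_eq_of_mem_NN (CC_le_NN _ (le_CC_symm (k A hA hAT) hb))]
      obtain ⟨a, ha, a1⟩ := pt.exists_ne
      exact a1 ((fam.good _ pt lt).line.eq_one_of_comm ha fun v hv => h1 (commutator_mono le_rfl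
        (fam.good _ hA hAT).line.le (h2 ▸ H12.comm_mem_comm ha hv))))
    obtain ⟨a, ha, a1⟩ := (bot_or_exists_ne_one _).resolve_left
      (inf_CC_ne_bot' hA.isPGroup (hT.to_le hB) n hA.ne_bot)
    have h1 := H12.comm_le_CC_of ((commutator_mono le_rfl (zpowers_le.2 ha.1)).trans (k A hA hAT))
      (zpowers_le.2 ha.2)
    exact ((le_inf (comm_le_left (hBP.trans c.norm)) h1).trans (hA.ti ha.1 a1).le).trans inf_le_right
  have q : ⁅V, B⁆ ≤ CC(B) := (le_inf (comm_le_left (hBP.trans c.norm)) (le_CC_symm (l.trans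
    (sSup_le fun A hA => le_CC_symm (k2 A hA.1 hA.2))))).trans hc
  have he := c.elab_of_quad hBP q
  have h1 := c.meas_sSup (hJ.trans hBP) (elab_of_le he hJ) fun A hA => (hS A hA).2.2
  have h2 := c.le_of_off (hJ.trans hBP) hBP h1 hc (by rwa [sup_eq_right.2 hJ])
  exact ⟨q, le_antisymm hJ h2 ▸ h1⟩

theorem hyp_hol {V T M : Subgroup G} [V.Normal] (hV : IsElementaryAbelian p V) (hT : IsSylowIn p T ⊤)
    (hM : UMax T M ⊤) (hQ : pCoreOf p ⊤ ≤ CC(V)) (hC : CC(V ⊓ CC(T)) ≤ M) (h0 : ¬ T ≤ CC(V)) :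
    H12.Hyp p (H4.hV V) ((⊤ : Subgroup G).map (hφ V)) (T.map (hφ V)) (M.map (hφ V)) := by
  have hCM : CC(V) ≤ M := (CC_anti inf_le_left).trans hC
  have hk : (hφ V).ker ≤ M := (ker_hφ (V := V)).le.trans hCM
  have um : UMax (T.map (hφ V)) (M.map (hφ V)) ((⊤ : Subgroup G).map (hφ V)) :=
    ⟨map_mono hM.1, lt_of_le_of_ne (map_mono le_top) fun e => hM.2.1.not_ge (by
      have := e.ge; rwa [Subgroup.map_le_map_iff, sup_eq_left.2 hk] at this), fun X x1 x2 => by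
      have := hM.2.2 (X.comap (hφ V)) (map_le_iff_le_comap.1 x1) (lt_top_iff_ne_top.2 fun e =>
        x2.not_ge (map_le_iff_le_comap.2 e.ge))
      rw [← map_comap_eq_self (H := X) (x2.le.trans (map_le_range _ _))]
      exact map_mono this⟩
  have syl := hT.map (hφ V)
  have op : pCoreOf p ((⊤ : Subgroup G).map (hφ V)) = ⊥ := by
    set N := (pCoreOf p ((⊤ : Subgroup G).map (hφ V))).comap (hφ V)
    have n1 : ⊤ ≤ NN(N) := (le_normalizer_comap _).trans' (map_le_iff_le_comap.1 (le_NN_pCoreOf _))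
    have n2 : N ≤ T ⊔ (hφ V).ker := Subgroup.map_le_map_iff.1 ((map_comap_le _ _).trans syl.pCoreOf_le)
    have n3 := H12.umax_inf_le hT hM (n2.trans (sup_le hM.1 hk)) n1
    rw [← map_comap_eq_self (H := pCoreOf p _) ((pCoreOf_le _).trans (map_le_range _ _)),
      Subgroup.map_eq_bot_iff]
    intro x hx
    obtain ⟨t, ht, c, hc, rfl⟩ := (mem_sup_of_NN (le_normalizer_of_normal : T ≤ _)).1 (n2 hx)
    exact Subgroup.mul_mem _ ((ker_hφ (V := V)).ge (hQ (n3 ⟨ht, (N.mul_mem_cancel_right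
      (ker_le_comap _ _ hc)).1 hx⟩))) hc
  refine ⟨H4.elemAb_hV hV, fun g _ => H4.hol_mem_norm g, H4.map_hφ_inf_cent _, syl, um, fun h2 =>
    h0 (ker_hφ (V := V) ▸ (Subgroup.map_eq_bot_iff _).1 (eq_bot_iff.2
      ((le_pCoreOf syl.isPGroup syl.le h2).trans op.le))), op, ?_⟩
  rintro _ ⟨⟨g, -, rfl⟩, hg⟩
  refine mem_map_of_mem _ (hC (le_CC_symm ((H12.hl_le_CC inf_le_left).1 ?_) (mem_zpowers g)))
  rw [H12.hl_inf_CC, H12.hl_self, MonoidHom.map_zpowers]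
  exact le_CC_symm (zpowers_le.2 hg)

/-- the Baumann subgroup -/
abbrev Bm (n : ℕ) {G : Type*} [Group G] (S : Subgroup G) : Subgroup G := S ⊓ CC(ZJ n S)

theorem map_Bm {G' : Type*} [Group G'] {f : G →* G'} (hf : Function.Injective f) (n : ℕ)
    (S : Subgroup G) : (Bm n S).map f = Bm n (S.map f) := by
  rw [Bm, H4.map_inf_centralizer S (H4.inf_ker_eq_bot_of_injective _ hf) (ZJ_le S), map_ZJ hf]

theorem J_le_Bm (n : ℕ) (S : Subgroup G) : thompsonSubgroupOf n S ≤ Bm n S :=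
  le_inf (H4.thompsonOf_le S) (J_le_CC_ZJ S)

theorem Bm_eq {n : ℕ} {S T : Subgroup G} (h : Bm n S ≤ T) (hT : T ≤ S) : Bm n T = Bm n S := by
  rw [Bm, ZJ_eq_of_le ((J_le_Bm n S).trans h) hT]
  exact le_antisymm (inf_le_inf_right _ hT) (le_inf h inf_le_right)

theorem ZO_le_Bm (n : ℕ) (S : Subgroup G) : ZO n S ≤ Bm n S :=
  (ZO_le_ZJ S).trans ((ZJ_le_J S).trans (J_le_Bm n S))

theorem Z_le_Bm (n : ℕ) (S : Subgroup G) : S ⊓ CC(S) ≤ Bm n S ⊓ CC(Bm n S) :=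
  le_inf (inf_le_inf_left _ (CC_anti (ZJ_le S))) (inf_le_right.trans (CC_anti inf_le_left))

theorem NN_le_NN_Bm (n : ℕ) (S : Subgroup G) : NN(S) ≤ NN(Bm n S) :=
  le_NN_inf le_rfl (le_NN_CC (NN_le_NN_ZJ S))

theorem cj_Bm_eq {n : ℕ} {S : Subgroup G} {g : G} (h : cj g (Bm n S) ≤ S) : cj g (Bm n S) = Bm n S := by
  have e : cj g (Bm n S) = Bm n (cj g S) := map_Bm (MulAut.conj g).injective n S
  obtain ⟨A, hA⟩ := H4.maxAb_nonempty n S
  have l : thompsonSubgroupOf n (cj g S) ≤ S := (J_le_Bm n _).trans (e.ge.trans h)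
  have k : thompsonSubgroupOf n (cj g S) ≤ thompsonSubgroupOf n S := H4.thompsonOf_le_iff.2 fun B hB =>
    H4.le_thompsonOf (H4.maxAb_of_card_le hA ((H4.le_thompsonOf hB).trans l) hB.2.1
      ((card_cj g A).ge.trans (H4.maxAb_card_eq (cj_maxAb hA g) hB).le))
  have k2 : thompsonSubgroupOf n (cj g S) = thompsonSubgroupOf n S := eq_of_le_of_card_ge k (by
    rw [← cj_def, ← H4.map_thompsonOf_of_injective _ (MulAut.conj g).injective]
    exact (card_cj g _).ge)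
  have k3 : ZJ n (cj g S) = ZJ n S := by rw [ZJ, centerThompsonOf, k2]; rfl
  refine eq_of_le_of_card_ge (le_inf h ?_) (card_cj g _).ge
  rw [e, ← k3]; exact inf_le_right

theorem baum_rk_top (hp2 : p ≠ 2) {T M : Subgroup G} (hT : IsSylowIn p T ⊤) (hM : UMax T M ⊤)
    (hc : CharPIn p (⊤ : Subgroup G)) (hZ : CC(ZO p T) ≤ M)
    (hgen : ∀ x, x ∉ M → ⊤ ≤ Bm p T ⊔ cj x (Bm p T) ⊔ pCoreOf p ⊤) :
    ∃ q, RK p q (⊤ : Subgroup G) := by
  set V := ncl (ZO p T) ⊤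
  have hn := le_NN_ncl (ZO p T) ⊤
  have := normal_of_top_le_NN hn
  have hVZ : V ≤ ZO p (pCoreOf p ⊤) := ncl_le (hc.ZO_le hT) (le_NN_ZO (le_NN_pCoreOf _))
  have hV := elab_of_le (elab_ZO _) hVZ
  have hVT : V ≤ T := (hVZ.trans (ZO_le _)).trans hT.pCoreOf_le
  have hQ := le_CC_symm (hVZ.trans (ZO_le_CC _))
  have hl : ZO p T ≤ V := le_ncl _ _
  have k : ∀ U ≤ V, U ≤ CC(thompsonSubgroupOf p T) → U ≤ CC(Bm p T) := fun U h1 h2 =>
    le_trans (le_omegaOne (K := centerThompsonOf p T) (fun x hx => ⟨H4.mem_thompsonOf_of_centralizes (hVT (h1 hx))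
      ((isElementaryAbelian_iff.1 hV).2 x (h1 hx)) (h2 hx), h2 hx⟩)
      fun x hx => (isElementaryAbelian_iff.1 hV).2 x (h1 hx)) (le_CC_symm inf_le_right)
  obtain ⟨x, -, hx⟩ := SetLike.exists_of_lt hM.2.1
  have hnc : ¬ V ≤ CC((⊤ : Subgroup G)) := fun e =>
    hM.2.1.not_ge ((le_CC_symm (hl.trans e)).trans hZ)
  have hJ : ¬ thompsonSubgroupOf p T ≤ CC(V) := fun e => by
    have h1 := le_CC_symm (k V le_rfl (le_CC_symm e))
    exact hnc (le_CC_symm ((hgen x hx).trans (sup_le (sup_le h1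
      (cj_le_of_mem_NN (le_NN_CC hn trivial) h1)) hQ)))
  have h := hyp_hol hV hT hM hQ ((CC_anti (le_inf hl (ZO_le_CC T))).trans hZ)
    fun e => hJ ((H4.thompsonOf_le T).trans e)
  have e : sSup ((fun A => A.map (hφ V)) '' H4.maxAb p T) = (thompsonSubgroupOf p T).map (hφ V) := by
    rw [H4.thompsonOf_eq, sSup_image, (gc_map_comap _).l_sSup]
  obtain ⟨h1, h2⟩ := hyp_quad hp2 h (S := (fun A => A.map (hφ V)) '' H4.maxAb p T)
    (B := (Bm p T).map (hφ V)) (by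
      rintro _ ⟨A, hA, rfl⟩
      exact ⟨map_mono hA.1, elab_map _ hA.2.1, H12.off_map (H12.off_of_mem_maxAb hA hV hVT)⟩)
    (fun e' => hJ (ker_hφ (V := V) ▸ (Subgroup.map_eq_bot_iff _).1 (e.symm.trans e')))
    (map_mono inf_le_left) (e.le.trans (map_mono (J_le_Bm p T))) (by
      rw [e, ← H12.hl_self, ← H12.hl_inf_CC, H12.hl_le_CC inf_le_left]
      exact k _ inf_le_left inf_le_right)
  rw [← H12.hl_self, ← H12.hl_comm le_rfl, H12.hl_le_CC (commutator_le_left _ _)] at h1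
  refine rk_of_r0 (H12.r0_of_umax hT hM inf_le_left (fun x _ => hgen x) (elab_le_CC hV) hn
    (le_CC_symm hQ) h1 (ncl_mono (le_inf hl ((ZO_le_CC T).trans (CC_anti inf_le_left))) le_rfl) ?_)
    hV hnc hT hM
  rw [← meas_def V, ← H4.meas_map_hφ, ← H4.card_hV (V := V)]
  exact Nat.mul_le_mul_right _ h2

theorem baum_rk (hp2 : p ≠ 2) {T M L : Subgroup G} (hT : IsSylowIn p T L) (hM : UMax T (L ⊓ M) L)
    (hc : CharPIn p L) (hZ : CC(ZO p T) ≤ M)
    (hgen : ∀ x ∈ L, x ∉ M → Bm p T ⊔ cj x (Bm p T) ⊔ pCoreOf p L = L) : ∃ q, RK p q L := by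
  have hf := L.subtype_injective
  have e := map_subgroupOf_of_le hT.le
  obtain ⟨q, h⟩ := baum_rk_top hp2 (isSylowIn_subgroupOf_top hT) (M := M.subgroupOf L)
    ⟨subgroupOf_mono L (hM.1.trans inf_le_right), lt_top_iff_ne_top.2 fun e =>
      hM.2.1.not_ge (le_inf le_rfl (subgroupOf_eq_top.1 e)), fun X h1 h2 => map_subtype_le_iff.1
        ((hM.2.2 _ (e.ge.trans (map_mono h1)) (by
          have := (map_lt_map_iff_of_injective hf).2 h2
          rwa [map_top_subtype] at this)).trans inf_le_right)⟩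
    ((charPIn_map_of_injective hf).1 (by rwa [map_top_subtype])) (map_subtype_le_iff.1 (by
      rw [map_CC_subtype, map_ZO_of_injective hf, e]; exact inf_le_right.trans hZ))
    fun x hx => (map_le_map_iff_of_injective hf).1 (by
      rw [Subgroup.map_sup, Subgroup.map_sup, H10.map_cj, map_Bm hf, map_pCoreOf_of_injective hf, e,
        map_top_subtype]
      exact (hgen x x.2 hx).ge)
  have h1 := h.map L.subtype (isPGroup_inf_ker_of_injective _ hf)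
  exact ⟨q, by rwa [map_top_subtype] at h1⟩

theorem gp_fix (hp2 : p ≠ 2) {P S M X X₀ : Subgroup G} (h : GP p q P S) (hM : UMax S M P)
    (hX : X ≤ ⁅pCoreOf p P, resOf p P⁆) (hn : P ≤ NN(X)) (h2 : ⁅X, M⁆ ≤ X₀) : ⁅X, P⁆ ≤ X₀ := by
  obtain ⟨A, hA, hAQ⟩ := h.ex
  obtain ⟨x, hx, e⟩ := h.exists_opp
  obtain ⟨E, M', Z, pb⟩ := h.pb hA hAQ hx e
  replace hx := resOf_le P hx
  have hQM := h.QS.trans hM.1
  have hxM : x ∉ M := fun hm => hM.2.1.not_ge (e.ge.trans (sup_le hM.1 (cj_le_of_mem hm hM.1)))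
  have r0 := h.nv.r0 h.syl hM
  have nc : ¬ ZQ p P ≤ CC(P) := fun l => h.nv.not_le_CC h.syl (l.trans (CC_anti h.syl.le))
  obtain ⟨t, ht, htQ⟩ := SetLike.not_le_iff_exists.1 pb.n'
  have hK : ∀ g ∈ P, cj g (pCoreOf p P) ≤ M := fun g hg =>
    (cj_eq_of_mem_NN (le_NN_pCoreOf P hg)).le.trans hQM
  have dc : ∀ s ∈ cj x A, s ∉ pCoreOf p P → ∃ a ∈ A, (a * x)⁻¹ * s ∈ M := fun s hs hsQ => by
    obtain ⟨b, hb, h3⟩ := dcoset r0 nc hx hxM (pb.g'.syl.le (pb.a'.1 hs)) fun hm =>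
      hM.2.1.not_ge (((h.nv.rk S h.syl).ti _ pb.g'.syl e s (pb.a'.1 hs) hsQ).ge.trans
        (sup_le hM.1 (zpowers_le.2 hm)))
    obtain ⟨a, ha, k, hk, rfl⟩ := (mem_sup_of_NN ((hA.1.trans h.syl.le).trans
      (le_NN_pCoreOf P))).1 ((h.sup_Q hA hAQ).ge hb)
    refine ⟨a, ha, ?_⟩
    have := M.mul_mem (hK _ (P.inv_mem hx) (conj_mem_cj hk)) h3
    convert this using 1
    group
  have key : ∀ Y ≤ X, P ≤ NN(Y) → ncl ⁅⁅Y, A⁆, A⁆ P ≤ X₀ → ⁅Y, P⁆ ≤ X₀ := fun Y hY hn' hq => by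
    have l := hY.trans (hX.trans T_le_Q)
    refine quad_fix hn' ((commutator_mono hY (l.trans hQM)).trans h2) (fun v hv h3 => ?_)
      ((commutator_mono hY le_rfl).trans h2) hM.2.1.le (hA.1.trans hM.1) hq hx hK pb.gen.ge ht
      (dc t ht htQ) (dc _ (inv_mem ht) fun h3 => htQ (inv_mem_iff.1 h3))
    obtain ⟨k, hk⟩ := orderOf_eq_pow_of_mem (isPGroup_pCoreOf P) (l hv)
    exact mem_of_pow_mem (n := 2) (hk ▸ ((Nat.coprime_primes hp.out Nat.prime_two).2 hp2).pow_left k)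
      (by rwa [pow_two])
  have hAP := hA.1.trans h.syl.le
  have h3 := key (X ⊓ ZQ p P) inf_le_left (le_NN_inf hn h.nv.nn) (by
    rw [comm_eq_bot.2 ((commutator_mono inf_le_right hA.1).trans ((h.nv.quad S h.syl).trans
      (CC_anti hA.1)))]
    exact (ncl_eq_of_le_NN (le_NN_of_normal _ _)).le.trans bot_le)
  have h4 : ⁅X, A⁆ ≤ X := comm_le_left (hAP.trans hn)
  have h5 : ⁅⁅X, A⁆, A⁆ ≤ X ⊓ ZQ p P := le_inf ((commutator_mono h4 le_rfl).trans h4)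
    ((commutator_mono (commutator_le.2 fun v hv a ha => comm_inv_mem
      (pb.MA ha (pb.T_M (hX hv)))) le_rfl).trans ((h.comm_B hA).trans inf_le_left))
  refine key X le_rfl hn ?_
  rw [ncl_eq_comm_sup, commutator_comm]
  exact sup_le ((commutator_mono h5 le_rfl).trans h3)
    ((commutator_mono h4 (hA.1.trans hM.1)).trans h2)

theorem baum_step {n : ℕ} {L T M : Subgroup G} (h : RK p q L) (hc : CharPIn p L)
    (hT : IsSylowIn p T L) (hM : UMax T (L ⊓ M) L) (hZ : ¬ ZO n T ≤ CC(L))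
    (hN : ¬ L ≤ NN(Bm n T)) : RK p q (ncl (Bm n T) L) ∧ CharPIn p (ncl (Bm n T) L) ∧
      IsSylowIn p (Bm n T) (ncl (Bm n T) L) ∧ UMax (Bm n T) (ncl (Bm n T) L ⊓ M) (ncl (Bm n T) L) ∧
      L ≤ ncl (Bm n T) L ⊔ T := by
  have hJ := ((h.zj_cases hT).resolve_left hN).resolve_left fun e =>
    hZ ((le_inf (ZO_le_ZJ T) (ZO_le_CC T)).trans e)
  have e := h.sup_Q hc hT hZ hJ
  have l : ncl (Bm n T) L ≤ L := ncl_le_of_le (inf_le_left.trans hT.le)
  have h1 := h.res_le hT inf_le_left (fun e => hJ ((J_le_Bm n T).trans e)) (le_ncl _ L)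
    (le_NN_ncl _ L)
  have h2 : L ≤ ncl (Bm n T) L ⊔ T := hT.le_of_resOf_le (h1.trans le_sup_left) le_sup_right
  have h3 := h.baum_syl hc hT hZ
  refine ⟨rk_sub h l (le_antisymm (sup_le l (pCoreOf_le L)) (h2.trans (sup_le le_sup_left
    (e.ge.trans (sup_le_sup_right (le_ncl _ L) _))))), hc.subn (subnIn_of_normal l (le_NN_ncl _ L)),
    h3, umax_sub hM l h3 e fun e => hM.2.1.not_ge (le_inf le_rfl (h2.trans
      (sup_le e (hM.1.trans inf_le_right)))), h2⟩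

/-- largest order of `Ω₁ Z(X)` for minimal centrally large `X` -/
noncomputable def mxo (p : ℕ) {G : Type*} [Group G] (S : Subgroup G) : ℕ :=
  sSup {m | ∃ X, MCL S X ∧ Nat.card (ZO p X) = m}

theorem mxo_map {G' : Type*} [Group G'] {f : G →* G'} (hf : Function.Injective f) (S : Subgroup G) :
    mxo p (S.map f) = mxo p S := by
  unfold mxo
  congr 1
  ext m
  refine ⟨fun ⟨X, h1, h2⟩ => ?_, fun ⟨X, h1, h2⟩ => ⟨_, (MCL_map_iff hf).2 h1, ?_⟩⟩
  · obtain ⟨X, rfl⟩ := exists_map_eq h1.1.1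
    exact ⟨X, (MCL_map_iff hf).1 h1, by
      rwa [← map_ZO_of_injective hf, card_map_of_injective hf] at h2⟩
  · rwa [← map_ZO_of_injective hf, card_map_of_injective hf]

theorem mxo_spec (S : Subgroup G) : (∃ X, MCL S X ∧ Nat.card (ZO p X) = mxo p S) ∧
    ∀ X, MCL S X → Nat.card (ZO p X) ≤ mxo p S := by
  have hb : BddAbove {m | ∃ X, MCL S X ∧ Nat.card (ZO p X) = m} :=
    ⟨Nat.card G, fun _ ⟨X, _, e⟩ => e ▸ card_le_card_group _⟩
  obtain ⟨R, hR⟩ := exists_MCL S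
  exact ⟨Nat.sSup_mem (s := {m | ∃ X, MCL S X ∧ Nat.card (ZO p X) = m}) ⟨_, R, hR, rfl⟩ hb, fun X hX => le_csSup hb ⟨X, hX, rfl⟩⟩

theorem g4_top (hS : IsPGroup p G) (hJ : ⊤ ≤ CC(ZJ 0 (⊤ : Subgroup G)))
    (h : SPhi p (mxo p (⊤ : Subgroup G)) (⊤ : Subgroup G) = ⊥) : G4 p (⊤ : Subgroup G) := by
  obtain ⟨R, hR, e'⟩ := (mxo_spec (p := p) (⊤ : Subgroup G)).1
  have h0 : frOf R ≤ ⊥ := h ▸ le_iSup_of_le (f := fun X : {X // MCL (⊤ : Subgroup G) X ∧
    Nat.card (ZO p X) = mxo p (⊤ : Subgroup G)} => frOf X.1) ⟨R, hR, e'⟩ le_rfl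
  have ab := comm_eq_bot.1 (eq_bot_iff.2 ((comm_le_frOf (hS.to_subgroup R)).trans h0))
  have m := H11.mcl_iff_maxAbelian (MCL_top.1 hR) (isMulCommutative_iff_le_CC.2 ab)
  have e : H4.maxAb 0 (⊤ : Subgroup G) = maxAbelianSubgroups G := by
    rw [H4.maxAb_top, H4.maxAbelianSubgroups_eq]
  have J : ⊤ ≤ thompsonSubgroupA G := (ZJ_top (S := G) ▸ hJ).trans ((H11.jtilde_le (CL_top.1 hR.1)).trans
    (sup_le (le_sSup ((m R).1 (MCL_top.1 hR))) le_rfl))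
  exact ⟨DL_top.2 (H11.cl_iff.1 (top_le_iff.1 J ▸ H11.cl_sSup
    (fun A hA => ((m A).2 hA).1) H11.exists_maxAbelian)).1, fun A hA =>
    DL_top.2 (H11.cl_iff.1 ((m A).2 (e ▸ hA)).1).1,
    by rwa [H4.thompsonOf_top, ← H4.thompsonSubgroupA_eq], fun z hz => mem_bot.1 (h0
      (pow_mem_frOf (hS.to_subgroup R) (hR.1.cent ⟨trivial, CC_anti le_top hz.2⟩)))⟩

theorem g4_of {S : Subgroup G} (hS : IsPGroup p S) (hJ : S ≤ CC(ZJ 0 S))
    (h : SPhi p (mxo p S) S = ⊥) : G4 p S := by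
  have hf := S.subtype_injective
  have := (g4_top hS ((le_CC_map_iff hf).1 (by rwa [map_ZJ hf, map_top_subtype])) (by
    rw [← Subgroup.map_eq_bot_iff_of_injective _ hf, map_SPhi hf, ← mxo_map hf, map_top_subtype, h])).map hf
  rwa [map_top_subtype] at this

open scoped Classical in
/-- a characteristic subgroup of the double Baumann subgroup -/
noncomputable def WP (p : ℕ) {G : Type*} [Group G] (S : Subgroup G) : Subgroup G :=
  if SPhi p (mxo p S) S = ⊥ then S else SPhi p (mxo p S) S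

theorem map_WP {G' : Type*} [Group G'] {f : G →* G'} (hf : Function.Injective f) (S : Subgroup G) :
    (WP p S).map f = WP p (S.map f) := by
  rw [WP, WP, mxo_map hf, ← map_SPhi hf, Subgroup.map_eq_bot_iff_of_injective _ hf]
  split_ifs <;> rfl

theorem WP_le (S : Subgroup G) : WP p S ≤ S := by
  rw [WP]; split_ifs
  · exact le_rfl
  · exact iSup_le fun X => (frOf_le _).trans X.2.1.1.1

theorem WP_ne_bot {S : Subgroup G} (h : S ≠ ⊥) : WP p S ≠ ⊥ := by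
  rw [WP]; split_ifs <;> assumption

theorem NN_le_NN_WP (S : Subgroup G) : NN(S) ≤ NN(WP p S) := fun g hg => mem_NN.2 (by
  rw [← cj_def, map_WP (MulAut.conj g).injective, cj_def, mem_NN.1 hg])

theorem pair_rk (hp2 : p ≠ 2) {L T M Q D : Subgroup G} (h : RK p q L) (hc : CharPIn p L)
    (hT : IsSylowIn p T L) (hM : UMax T (L ⊓ M) L) (hZ : ¬ ZO p T ≤ CC(L))
    (hW : NN(WP p (Bm 0 (Bm p T))) ≤ M) (hQ : Q ≤ T) (hn : L ≤ NN(Q)) (hD : ⁅Q, M⁆ ≤ D) :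
    ⁅Q, L⁆ ≤ D := by
  have k0 := (NN_le_NN_WP (p := p) (Bm 0 (Bm p T))).trans hW
  have k1 := (NN_le_NN_Bm 0 _).trans k0
  have hTM := hM.1.trans inf_le_right
  obtain ⟨r1, c1, s1, u1, g1⟩ := baum_step h hc hT hM hZ fun e =>
    hM.2.1.not_ge (le_inf le_rfl (e.trans k1))
  have z1 : ¬ ZO p T ≤ CC(ncl (Bm p T) L) := fun e =>
    hZ (le_CC_symm (g1.trans (sup_le (le_CC_symm e) (le_CC_ZO T))))
  have z2 : ZO p T ≤ Bm p T ⊓ CC(Bm p T) := (le_inf (ZO_le T) (ZO_le_CC T)).trans (Z_le_Bm p T)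
  obtain ⟨r2, c2, s2, u2, g2⟩ := baum_step (n := 0) r1 c1 s1 u1 (fun e => z1 (z2.trans
    ((ZO_zero _).ge.trans e))) fun e => u1.2.1.not_ge (le_inf le_rfl (e.trans k0))
  have n1 : T ≤ NN(Bm p T) := (le_NN_self T).trans (NN_le_NN_Bm p T)
  have n2 : T ≤ NN(ncl (Bm 0 (Bm p T)) (ncl (Bm p T) L)) :=
    le_NN_ncl' (n1.trans (NN_le_NN_Bm 0 _)) (hT.le.trans (le_NN_ncl _ L))
  have l2 : ncl (Bm 0 (Bm p T)) (ncl (Bm p T) L) ≤ L :=
    (ncl_le_of_le (inf_le_left.trans s1.le)).trans (ncl_le_of_le (inf_le_left.trans hT.le))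
  have z3 : ¬ Bm 0 (Bm p T) ⊓ CC(Bm 0 (Bm p T)) ≤ CC(ncl (Bm 0 (Bm p T)) (ncl (Bm p T) L)) := fun e =>
    z1 (le_CC_symm (g2.trans (sup_le (le_CC_symm (z2.trans ((Z_le_Bm 0 _).trans e)))
      (le_CC_symm (z2.trans inf_le_right)))))
  have hJ : Bm 0 (Bm p T) ≤ CC(ZJ 0 (Bm 0 (Bm p T))) := by
    rw [ZJ_eq_of_le (J_le_Bm 0 _) inf_le_left]; exact inf_le_right
  have hS : Bm 0 (Bm p T) ≤ T := inf_le_left.trans inf_le_left
  have g3 : L ≤ ncl (Bm 0 (Bm p T)) (ncl (Bm p T) L) ⊔ T :=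
    g1.trans (sup_le (g2.trans (sup_le_sup_left inf_le_left _)) le_sup_right)
  generalize ncl (Bm 0 (Bm p T)) (ncl (Bm p T) L) = P at *
  generalize Bm 0 (Bm p T) = S at *
  by_cases h0 : SPhi p (mxo p S) S = ⊥
  swap
  · rw [WP, if_neg h0] at hW
    exact absurd (le_inf le_rfl (((r2.nvC c2 s2 hJ z3).phi_normal s2 (ZO_le _)
      (mxo_spec S).2).trans hW)) u2.2.1.not_ge
  have gp := (g4_of s2.isPGroup hJ h0).gp r2 c2 s2 z3
  have hQp := hT.isPGroup.to_le hQ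
  have hR := (resOf_le (p := p) P).trans (l2.trans hn)
  have h1 : ⁅Q, resOf p P⁆ ≤ Q := comm_le_left hR
  have h2 : P ≤ NN(⁅Q, resOf p P⁆) := le_NN_commutator (l2.trans hn) (le_NN_resOf P)
  have h3 : ⁅Q, resOf p P⁆ ≤ pCoreOf p P := le_pCoreOf (hQp.to_le h1)
    ((comm_le_right (le_NN_resOf' (hQ.trans n2))).trans (resOf_le P)) h2
  have h4 := gp_fix hp2 gp u2 ((comm_resOf_comm hQp hR).ge.trans (commutator_mono h3 le_rfl)) h2
    ((commutator_mono h1 inf_le_right).trans hD)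
  have h5 : ⁅Q, resOf p P⁆ ≤ D ⊓ Q := le_inf ((comm_resOf_comm hQp hR).ge.trans
    ((commutator_mono le_rfl (resOf_le P)).trans h4)) h1
  have h6 : ⁅Q, T⁆ ≤ D ⊓ Q := le_inf ((commutator_mono le_rfl hTM).trans hD)
    (comm_le_left (hT.le.trans hn))
  refine (commutator_mono le_rfl (g3.trans (sup_le (s2.resOf_sup.ge.trans
    (sup_le_sup_left hS _)) le_sup_right))).trans ((comm_sup_le' ?_ ?_ h5 h6).trans inf_le_left)
  · exact le_NN_of_comm_le_of_le h5 inf_le_right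
  · exact le_NN_of_comm_le_of_le h6 inf_le_right

theorem pair_group (hp2 : p ≠ 2) {P D : Subgroup G} (hP : IsSylowIn p P ⊤)
    (hc : CharPIn p (⊤ : Subgroup G)) (hD : ∀ K, P ≤ K → K ≠ ⊤ → P ⊓ ⁅K, K⁆ ≤ D)
    (hZ : CC(P ⊓ CC(P)) ≠ ⊤) (hW : NN(WP p (Bm 0 (Bm p P))) ≠ ⊤) :
    ⁅pCoreOf p (⊤ : Subgroup G), (⊤ : Subgroup G)⁆ ≤ D := by
  set Q := pCoreOf p (⊤ : Subgroup G)
  have nQ : ∀ K, K ≤ NN(Q) := fun K => le_top.trans (le_NN_pCoreOf _)
  have k : ∀ K, P ≤ K → K ≠ ⊤ → K ≤ stabMod Q (D ⊓ Q) := fun K h1 h2 => by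
    have h3 : ⁅Q, K⁆ ≤ D ⊓ Q := le_inf ((le_inf ((comm_le_left (nQ K)).trans hP.pCoreOf_le)
      (commutator_mono (hP.pCoreOf_le.trans h1) le_rfl)).trans (hD K h1 h2)) (comm_le_left (nQ K))
    exact le_stabMod.2 ⟨le_NN_of_comm_le_of_le h3 inf_le_right, by rwa [commutator_comm]⟩
  have hDM : ⁅Q, stabMod Q (D ⊓ Q)⁆ ≤ D ⊓ Q := by
    rw [commutator_comm]; exact (le_stabMod.1 le_rfl).2
  by_cases hM : stabMod Q (D ⊓ Q) = ⊤
  · exact (hM ▸ hDM).trans inf_le_left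
  have k1 : NN(Bm p P) ≤ NN(WP p (Bm 0 (Bm p P))) := (NN_le_NN_Bm 0 _).trans (NN_le_NN_WP _)
  have k2 := (NN_le_NN_Bm p P).trans k1
  have um : UMax P (stabMod Q (D ⊓ Q)) ⊤ := ⟨(le_NN_self P).trans (k2.trans (k _
    ((le_NN_self P).trans k2) hW)), lt_top_iff_ne_top.2 hM, fun X h1 h2 => k X h1 h2.ne⟩
  obtain ⟨L, T, g, -, -, hT, hTP, h1, h2, h3, h4⟩ := exists_L (A := Bm p P) hP um
    (fun e => hW (top_le_iff.1 (e.trans k2))) inf_le_left fun e => hW (top_le_iff.1 (le_trans (by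
      rw [← Bm_eq e hP.pCoreOf_le]; exact (nQ _).trans (NN_le_NN_Bm p _)) k1))
  have e0 := cj_Bm_eq (h1.trans hTP)
  rw [e0] at h1 h3 h4
  have e := Bm_eq h1 hTP
  have u := H12.umax_sylow h3 hT h1
  have c := hc.of_pCoreOf_le h2 le_top
  have hQT : Q ≤ T := (pCoreOf_le_of_le le_top h2).trans hT.pCoreOf_le
  have z : CC(ZO p T) ≤ stabMod Q (D ⊓ Q) := (CC_anti (ZO_le_of_le hTP
    (((hc.ZO_le hP).trans (ZO_le _)).trans hQT))).trans (k _ (le_CC_ZO P) fun e => hZ (top_le_iff.1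
      (le_CC_symm (H12.center_le_CC_of_ZO hP hc (le_CC_symm e.ge)))))
  obtain ⟨q, r⟩ := baum_rk hp2 hT u c z (e.symm ▸ h4)
  have h5 := pair_rk hp2 r c hT u (fun l => u.2.1.not_ge (le_inf le_rfl ((le_CC_symm l).trans z)))
    (e.symm ▸ k _ ((le_NN_self P).trans k2) hW) hQT (nQ L) hDM
  exact absurd (le_inf le_rfl (le_stabMod.2 ⟨le_NN_of_comm_le_of_le h5 inf_le_right,
    by rwa [commutator_comm]⟩)) u.2.1.not_ge

theorem pair_group' (hp2 : p ≠ 2) (P : Sylow p G) {D : Subgroup G}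
    (hc : CC(pCore p G) ≤ pCore p G) 
    (hD : ∀ K : Subgroup G, P ≤ K → K ≠ ⊤ → (P : Subgroup G) ⊓ ⁅K, K⁆ ≤ D)
    (hZ : CC((P : Subgroup G) ⊓ CC((P : Subgroup G))) ≠ ⊤)
    (hW : NN(WP p (Bm 0 (Bm p (P : Subgroup G)))) ≠ ⊤) : pCore p G ⊓ ⁅(⊤ : Subgroup G), ⊤⁆ ≤ D := by
  have h1 := pair_group hp2 (isSylowIn_top P) (charPIn_top.2 hc) hD hZ hW
  rw [pCoreOf_top] at h1
  have h2 : ⁅(P : Subgroup G), (P : Subgroup G)⁆ ≤ D := (le_inf (comm_le_of_le le_rfl le_rfl) le_rfl).trans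
    (hD P le_rfl fun e => hW (top_le_iff.1 (e.ge.trans ((le_NN_self _).trans ((NN_le_NN_Bm p _).trans
      ((NN_le_NN_Bm 0 _).trans (NN_le_NN_WP _)))))))
  intro x hx
  let π := QuotientGroup.mk' ⁅pCore p G, (⊤ : Subgroup G)⁆
  have hπ : Function.Surjective π := QuotientGroup.mk'_surjective _
  have h3 := ((H12.sylIn_top P).map_top hπ).mem_commutator_of_central (x := π x)
    (mem_map_of_mem _ (pCore_le_sylow' P hx.1)) (by
      rw [← map_top_of_surjective _ hπ, ← map_commutator]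
      exact mem_map_of_mem _ hx.2) (by
      intro g _
      obtain ⟨g, rfl⟩ := hπ g
      rw [← commutatorElement_eq_one_iff_mul_comm, ← map_commutatorElement]
      exact (QuotientGroup.eq_one_iff _).2 (comm_inv_mem (commutator_mem_commutator hx.1 trivial)))
  rw [← map_commutator, ← mem_comap, comap_map_eq, QuotientGroup.ker_mk'] at h3
  exact sup_le h2 h1 h3

end H3
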