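import Cfsg.Agent.H3.TP1
import Cfsg.Agent.H3.FEig

/-! Control of the focal subgroup by a pair of local subgroups for odd primes. -/

set_option autoImplicit false
set_option linter.unusedSectionVars false

open Cfsg Cfsg.FusionSystem Equiv H13
open H14.Fus (Fac FIso FacW IsInner)
open scoped commutatorElement

namespace H3

universe u

variable {p : ℕ} [hp : Fact p.Prime] {W : ∀ (Q : Type u) [Group Q], Subgroup Q}
  {Ω : Type u} [Group Ω] {S T : Subgroup Ω} [Finite S] {F : FusionSystem S} {E : FusionSystem T}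

theorem foc_le_pair (hW : IsCharPFunctor.{u} p W)
    (hT : ∀ (G : Type u) [Group G] [Finite G] (P : Sylow p G) (D : Subgroup G),
      Subgroup.centralizer ((pCore p G : Subgroup G) : Set G) ≤ pCore p G →
      (∀ K : Subgroup G, P ≤ K → K ≠ ⊤ → (P : Subgroup G) ⊓ ⁅K, K⁆ ≤ D) →
      Subgroup.centralizer ((centralizerIn (P : Subgroup G) P : Subgroup G) : Set G) ≠ ⊤ →
      Subgroup.normalizer ((inducedFunctor W (P : Subgroup G) : Subgroup G) : Set G) ≠ ⊤ →
      pCore p G ⊓ ⁅(⊤ : Subgroup G), ⊤⁆ ≤ D)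
    (hS : IsPGroup p S) (hF : F.IsSaturated p) (hST : S ≤ T) {K : Subgroup Ω} (hK : ⁅S, S⁆ ≤ K)
    (hE : ∀ P f, Mor F P f → (Mor E P f ↔ ∀ x ∈ P, x⁻¹ * f x ∈ K))
    (hZ : FLe F (centralizerIn S S) E) (hN : NLe F (inducedFunctor W S) E) : F.IsSubsystemOf E := by
  refine machineW hW (fun Ω _ S _ F E => FLe F (centralizerIn S S) E ∧ ∃ K : Subgroup Ω, ⁅S, S⁆ ≤ K ∧
      ∀ P f, Mor F P f → (Mor E P f ↔ ∀ x ∈ P, x⁻¹ * f x ∈ K))
    (fun Ω _ S S₀ _ _ F F₀ _ _ _ _ h1 h0 ⟨hz, K, h2, h3⟩ => ⟨?_, K, (Subgroup.commutator_mono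
      (le_of_isSubsystemOf h1) (le_of_isSubsystemOf h1)).trans h2, fun P f hf => h3 P f (hf.of_sub h1)⟩)
    (fun Ω Ω' _ _ S T S' _ F E F' θ hS hF hST ⟨hz, K, h1, h2⟩ hN ih1 hθ hk hU ih hc => ?_) F E hS hF hST
    ⟨hZ, K, hK, hE⟩ hN
  · have l := le_of_isSubsystemOf h1
    have := finite_of_le l
    exact (hz.mono h1).of_le (center_le_center l h0)
      (l.trans ((H10.le_CC_symm inf_le_right).trans (H10.CC_le_NN _)))
  by_cases c1 : F.IsCentral (centralizerIn S S)
  · exact hz.sub c1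
  by_cases c2 : F.IsNormal (inducedFunctor W S)
  · exact hN.sub c2
  have h2' := fun P f hf => (h2 P f hf).1
  have h3 : F.focalSubgroup ⊓ F.core ≤ K := by
    rcases hc with hc | hc
    swap
    · exact (foc_inf_le_commutator hS hF (normal_core F) hc).trans h1
    obtain ⟨G, _, _, P, η, h3, hη⟩ := exists_model_sylow hS hc
    obtain ⟨E', hE'⟩ := exists_qImg hη.fac hST
    have h6 := hT G P (img η (K ⊓ F.focalSubgroup)) h3 (fun K' k1 k2 => by
      have k3 := (sylIn_top P).mono k1 le_top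
      have := hE'.foc_le hη.fac h2' (hE'.ih_of_fIso hη hS ih1 _ (saturated_ofSubgroup k3)
        (ofSubgroup_sub_group k1) (not_sub_ofSubgroup P h3 k1 k2))
      rwa [focal_ofSubgroup k3] at this) (fun e => c1 ((hη.central_iff (centralizerIn_le _ _)).1 (by
        rw [hη.img_centralizerIn le_rfl, hη.img_eq, group_eq_ofSubgroup]
        exact (H14.Fus.central_ofSubgroup_iff (sylIn_top P) (H14.Fus.charP_top_iff.2 h3)).2
          ⟨centralizerIn_le _ _, e.ge⟩))) fun e => c2 ((hη.normal_iff (iF_le W S)).1 (by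
        rw [iF_img hW hS hη.hom hη.inj, hη.img_eq]
        exact normal_group (iF_le W _) (H10.normal_of_top_le_NN e.ge)))
    rintro x ⟨h7, h8⟩
    have h9 := mem_img_of_mem η h7
    have h10 := mem_img_of_mem η h8
    rw [hη.fac.img_foc, group_eq_ofSubgroup, focal_ofSubgroup (sylIn_top P)] at h9
    rw [hη.img_core, core_group P h3] at h10
    exact ((H14.Fus.inj_mem_img hη.hom hη.inj (inf_le_right.trans (H14.Fus.foc_le F))
      (core_le F h8)).1 (h6 ⟨h10, h9.2⟩)).1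
  obtain ⟨E', hE'⟩ := exists_qImg hθ hST
  have := hθ.finite
  have h4 : ⁅S', S'⁆ ≤ img θ (K ⊓ F.focalSubgroup) := by
    rw [← hθ.img_eq, ← hθ.hom.img_commutator le_rfl le_rfl]
    exact img_mono θ (le_inf h1 (H14.Fus.commutator_le_foc F))
  obtain ⟨D, hD⟩ := exists_foc_system F' h4
  have k : ∀ V, NLe F (pre S θ V) E → NLe F' V D := fun V hV P σ h6 h7 h8 h9 =>
    (hD P σ).2 ⟨h8, fun x hx => hE'.foc_le hθ h2' (isSubsystemOf_refl E')
      (H14.Fus.mem_foc (hE'.nLe hθ hV P σ h6 h7 h8 h9) hx)⟩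
  have h0 : F.core ≠ S := fun e => c2 (normal_iF_of_normal hW hS (by
    have := normal_core F
    rwa [e] at this))
  have h5 := ih S' D le_rfl ⟨(k _ (nLe_of_not_normal hS hF ih1 (pre_le _ _ _)
    (Fac.le_normalizer_pre hθ ((H10.le_CC_symm inf_le_right).trans (H10.CC_le_NN _))) fun hn =>
      (Fac.ker_lt_pre hθ (centralizerIn_le _ _) (H10.center_ne_bot (hθ.isPGroup hS)
        (Fac.ne_bot hθ (hk ▸ h0)))).not_ge (hk ▸ le_core hn))).fLe,
    _, h4, fun P f hf => (hD P f).trans (and_iff_right hf)⟩ (k _ hU)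
  have h6 : F'.focalSubgroup ≤ img θ (K ⊓ F.focalSubgroup) :=
    H14.Fus.foc_le_iff.2 fun P f hf => ((hD P f).1 (hf.of_sub h5)).2
  refine isSubsystemOf_iff.2 fun P f hf => (h2 P f hf).2 fun x hx => ?_
  have h7 := H14.Fus.mem_foc hf hx
  obtain ⟨a, ha, k, hk', e⟩ := (H14.Fus.mem_pre_img hθ.hom (inf_le_right.trans (H14.Fus.foc_le F))).1
    (hθ.hom.mem_pre.2 ⟨H14.Fus.foc_le F h7, h6 (hθ.img_foc ▸ mem_img_of_mem θ h7)⟩)
  rw [← e] at h7 ⊢
  exact K.mul_mem ha.1 (h3 ⟨(Subgroup.mul_mem_cancel_left _ ha.2).1 h7, hk ▸ hk'⟩)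

/-- the second member of the pair -/
noncomputable def WT (p : ℕ) (Q : Type u) [Group Q] : Subgroup Q :=
  WP p (Bm 0 (Bm p (⊤ : Subgroup Q)))

theorem map_WT {Q R : Type u} [Group Q] [Group R] [Finite Q] {f : Q →* R} (hf : Function.Injective f) :
    (WT p Q).map f = WP p (Bm 0 (Bm p f.range)) := by
  rw [WT, map_WP hf, map_Bm hf, map_Bm hf, MonoidHom.range_eq_map]

theorem isCharPFunctor_WT : IsCharPFunctor.{u} p (WT p) := by
  refine ⟨fun Q _ _ hQ _ => WP_ne_bot fun e => H10.center_ne_bot (hQ.to_subgroup _) (fun e =>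
    H10.center_ne_bot (hQ.to_subgroup ⊤) top_ne_bot (eq_bot_iff.2 ((Z_le_Bm p _).trans
      (inf_le_left.trans e.le)))) (eq_bot_iff.2 ((Z_le_Bm 0 _).trans (inf_le_left.trans e.le))),
    fun Q R _ _ _ _ φ => ?_⟩
  rw [map_WT φ.injective, MonoidHom.range_eq_top.2 φ.surjective]; rfl

theorem char_WT {Q : Type u} [Group Q] [Finite Q] (hQ : IsPGroup p Q) : (WT p Q).Characteristic :=
  Subgroup.characteristic_iff_map_eq.2 fun φ => isCharPFunctor_WT.2 Q Q hQ φ

theorem foc_le_pair_group (hp2 : p ≠ 2) {G : Type u} [Group G] [Finite G] (P : Sylow p G) :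
    (P : Subgroup G) ⊓ ⁅(⊤ : Subgroup G), ⊤⁆ ≤
      (P : Subgroup G) ⊓ ⁅Subgroup.centralizer ((centralizerIn (P : Subgroup G) P : Subgroup G) : Set G),
        Subgroup.centralizer ((centralizerIn (P : Subgroup G) P : Subgroup G) : Set G)⁆ ⊔
      (P : Subgroup G) ⊓ ⁅Subgroup.normalizer ((inducedFunctor (WT p) (P : Subgroup G) : Subgroup G) : Set G),
        Subgroup.normalizer ((inducedFunctor (WT p) (P : Subgroup G) : Subgroup G) : Set G)⁆ := by
  have hW := isCharPFunctor_WT.{u} (p := p)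
  have h0 := iF_le_normalizer hW P.2
  have h1 : (P : Subgroup G) ≤ Subgroup.centralizer
    ((centralizerIn (P : Subgroup G) P : Subgroup G) : Set G) := H10.le_CC_symm inf_le_right
  refine le_trans ?_ (le_trans ?_ le_rfl : (groupFusionSystem (P : Subgroup G)).focalSubgroup ≤ _)
  · rw [group_eq_ofSubgroup, focal_ofSubgroup (sylIn_top P)]
  have hK := le_sup_of_le_left (b := (P : Subgroup G) ⊓ ⁅Subgroup.normalizer ((inducedFunctor (WT p)
      (P : Subgroup G) : Subgroup G) : Set G), Subgroup.normalizer ((inducedFunctor (WT p)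
      (P : Subgroup G) : Subgroup G) : Set G)⁆)
    (le_inf (H10.comm_le_of_le le_rfl le_rfl) (Subgroup.commutator_mono h1 h1))
  obtain ⟨E, hE⟩ := exists_foc_system (groupFusionSystem (P : Subgroup G)) hK
  have k : ∀ {L Q : Subgroup G} {σ : Perm G}, (P : Subgroup G) ≤ L →
      Mor (groupFusionSystem (P : Subgroup G)) Q σ →
      (∀ g, (∀ x ∈ Q, σ x = g * x * g⁻¹) → g ∈ L) → ∀ x ∈ Q, x⁻¹ * σ x ∈ (P : Subgroup G) ⊓ ⁅L, L⁆ :=
    fun {L Q σ} h2 h3 h4 x hx => Subgroup.mem_inf.2 ⟨Subgroup.mul_mem _ (Subgroup.inv_mem _ (h3.le hx))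
      (h3.mem hx), by
      obtain ⟨-, -, g, e⟩ := mor_group_iff.1 h3
      have := Subgroup.commutator_mem_commutator (L.inv_mem (h2 (h3.le hx))) (h4 g e)
      rw [e x hx]
      convert this using 1
      rw [commutatorElement_def]; group⟩
  have h2 := foc_le_pair hW (fun G _ _ P D h1 h2 h3 h4 => pair_group' hp2 P h1 h2 h3 (by
      rwa [inducedFunctor, map_WT (Subgroup.subtype_injective _), Subgroup.range_subtype] at h4))
    P.2 (group_eq_ofSubgroup (P : Subgroup G) ▸ saturated_ofSubgroup (sylIn_top P)) le_rfl hK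
    (fun Q f hf => (hE Q f).trans (and_iff_right hf))
    (fun Q σ h2 _ h3 h4 => (hE Q σ).2 ⟨h3, fun x hx => Subgroup.mem_sup_left
      (k h1 h3 (fun g e y hy => by
        have := (e y (h2 hy)).symm.trans (h4 y hy)
        rw [mul_inv_eq_iff_eq_mul] at this
        exact this.symm) x hx)⟩)
    fun Q σ h2 _ h3 h4 => (hE Q σ).2 ⟨h3, fun x hx => Subgroup.mem_sup_right
      (k h0 h3 (fun g e => maps_cj_iff.1 (h4.congr fun y hy => e y (h2 hy))) x hx)⟩
  exact H14.Fus.foc_le_iff.2 fun Q f hf => ((hE Q f).1 (hf.of_sub h2)).2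

end H3
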