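import Cfsg.Agent.H3.FSmall
import Cfsg.Agent.H13.Ess5
import Cfsg.Agent.H13.WNMap
import Cfsg.Agent.H6.Q8
import Cfsg.Agent.H6.Dihedral

/-! Transvections in automizers of subgroups radical relative to a strongly closed subgroup. -/

set_option autoImplicit false
set_option linter.unusedSectionVars false

open Cfsg Cfsg.FusionSystem Equiv H13
open Subgroup (zpowers mem_zpowers)
open scoped commutatorElement

namespace H3

variable {Ω : Type*} [Group Ω] {p : ℕ} [hp : Fact p.Prime]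

theorem exists_pow_of_mem_zp {z a b : Ω} (hz : z ^ p = 1) (ha : a ∈ zpowers z) (h1 : a ≠ 1)
    (hb : b ∈ zpowers z) : ∃ k : ℕ, a ^ k = b := by
  have hf : IsOfFinOrder z := isOfFinOrder_iff_pow_eq_one.2 ⟨p, hp.out.pos, hz⟩
  have : Finite (zpowers z) := finite_zpowers.2 hf
  have hap : a ^ p = 1 := by
    obtain ⟨k, rfl⟩ := ha
    simp only
    rw [← zpow_natCast, ← zpow_mul, mul_comm, zpow_mul, zpow_natCast, hz, one_zpow]
  have e : zpowers a = zpowers z := eq_of_le_of_card_le (Subgroup.zpowers_le.2 ha) (by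
    rw [Nat.card_zpowers, Nat.card_zpowers, orderOf_eq_prime hap h1]
    exact orderOf_le_of_pow_eq_one hp.out.pos hz)
  exact ((isOfFinOrder_iff_pow_eq_one.2 ⟨p, hp.out.pos, hap⟩).mem_powers_iff_mem_zpowers.2
    (e.ge hb) : b ∈ Submonoid.powers a)

theorem HomOn.map_zp {Q K : Subgroup Ω} {u : Ω → Ω} (hu : HomOn Q u) {z c : Ω} (hz : z ∈ Q)
    (h : u z ∈ K) (hc : c ∈ zpowers z) : u c ∈ K := by
  obtain ⟨k, rfl⟩ := hc
  exact (hu.map_zpow hz k).symm ▸ K.zpow_mem h k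

theorem HomOn.fix_zp {Q : Subgroup Ω} {u : Ω → Ω} (hu : HomOn Q u) {z c : Ω} (hz : z ∈ Q)
    (h : u z = z) (hc : c ∈ zpowers z) : u c = c := by
  obtain ⟨k, rfl⟩ := hc
  exact (hu.map_zpow hz k).trans (by rw [h])

theorem tv_pow {Q : Subgroup Ω} {u : Perm Ω} (hu : HomOn Q u) {x c : Ω} (hx : x ∈ Q) (hc : c ∈ Q)
    (h1 : u c = c) (h2 : u x = x * c) (k : ℕ) : (u ^ k) x = x * c ^ k := by
  induction k with
  | zero => simp
  | succ k ih =>
    rw [pow_succ', mul_ap, ih, hu.map_mul hx (Q.pow_mem hc k), hu.map_pow hc, h1, h2, pow_succ',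
      mul_assoc]

theorem exists_tv_pow {Q : Subgroup Ω} {u : Perm Ω} (hu : HomOn Q u) {x z c : Ω} (hx : x ∈ Q)
    (hz : z ∈ Q) (hzp : z ^ p = 1) (h1 : u z = z) (h2 : x⁻¹ * u x ∈ zpowers z) (h3 : u x ≠ x)
    (hc : c ∈ zpowers z) : ∃ n : ℕ, (u ^ n) x = x * c := by
  obtain ⟨n, rfl⟩ := exists_pow_of_mem_zp hzp h2 (fun e => h3 (inv_mul_eq_one.1 e).symm) hc
  exact ⟨n, tv_pow hu hx (Subgroup.zpowers_le.2 hz h2) (HomOn.fix_zp hu hz h1 h2)
    (mul_inv_cancel_left _ _).symm n⟩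

theorem tv_weyl {Q : Subgroup Ω} {u v : Perm Ω} (hu : HomOn Q u) (hv : HomOn Q v) {y z : Ω}
    (hy : y ∈ Q) (hz : z ∈ Q) (hc : Commute y z) (h1 : u z = z) (h2 : u y = y * z) (h3 : v y = y)
    (h4 : v z = z * y⁻¹) : (u * v * u) z = y⁻¹ ∧ (u * v * u) y = z := by
  constructor
  · rw [mul_ap, mul_ap, h1, h4, hu.map_mul hz (Q.inv_mem hy), hu.map_inv hy, h1, h2]; group
  · rw [mul_ap, mul_ap, h2, hv.map_mul hy hz, h3, h4, ← mul_assoc, hc.eq, mul_inv_cancel_right, h1]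

variable {S : Subgroup Ω} [Finite S] {F : FusionSystem S} {P Q W : Subgroup Ω} {z y g : Ω}

/-- `Q` is radical relative to the strongly closed subgroup `P` -/
structure RR (p : ℕ) (F : FusionSystem S) (P Q : Subgroup Ω) : Prop where
  pg : IsPGroup p S
  sat : F.IsSaturated p
  sc : F.StronglyClosed P
  lt : Q < P
  fn : F.IsFullyNormalized Q
  rad : ∀ g ∈ P, g ∈ Subgroup.normalizer (Q : Set Ω) → cr Q g ∈ Op p (AutF F Q) → g ∈ Q

theorem exists_rr (hS : IsPGroup p S) (hF : F.IsSaturated p) (hP : F.StronglyClosed P)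
    (hn : ¬ F.IsNormal P) : ∃ Q, RR p F P Q := by
  obtain ⟨Q, h1, h2, h3⟩ := exists_rad_of_not_normal hS hF hP hn
  exact ⟨Q, hS, hF, hP, h1, h2, h3⟩

theorem rr_of_essential (hS : IsPGroup p S) (hF : F.IsSaturated p) (h : F.IsEssential p Q) :
    RR p F S Q := by
  obtain ⟨h1, h2, h3⟩ := centric_radical_of_base hS hF (Or.inr h)
  exact ⟨hS, hF, sc_top F, essential_lt hS hF h, h3, fun g hg => mem_of_cr_mem_op h1 h2 hg⟩

theorem RR.le (h : RR p F P Q) : Q ≤ S := h.lt.le.trans h.sc.1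

theorem RR.cent (h : RR p F P Q) (hg : g ∈ P) (hc : ∀ x ∈ Q, Commute g x) : g ∈ Q := by
  have h1 : g ∈ Subgroup.centralizer (Q : Set Ω) := fun x hx => (hc x hx).eq.symm
  have h2 := Subgroup.centralizer_le_normalizer _ h1
  exact h.rad g hg h2 ((cr_eq_one_iff h2).2 h1 ▸ one_mem _)

theorem RR.ext (h : RR p F P Q) {α : Perm Ω} (hα : α ∈ AutF F Q) {R : Subgroup Ω}
    (hR : R ≤ normalizerIn P Q) (hc : ∀ g ∈ R, α * cr Q g * α⁻¹ ∈ AutBy S Q) :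
    ∃ τ : Perm Ω, Mor F (Q ⊔ R) τ ∧ (∀ x ∈ Q, τ x = α x) ∧
      ∀ g ∈ R, τ g ∈ normalizerIn P Q ∧ α * cr Q g * α⁻¹ = cr Q (τ g) := by
  obtain ⟨τ, h1, h2⟩ := receptive_extend_of_conj (receptive_of_fullyNormalized h.pg h.sat h.fn)
    (iso_of_mem_autF h.le hα) (hR.trans (normalizerIn_mono h.sc.1 Q)) hc
  have hm : Maps Q Q τ := (maps_of_mem_autF hα).congr fun x hx => (h2 x hx).symm
  refine ⟨τ, h1, h2, fun g hg => ⟨sc_mem_normalizerIn h.sc h1 le_sup_left hm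
    (Subgroup.mem_sup_right hg) (hR hg), ?_⟩⟩
  rw [← h1.hom.conj_cr le_sup_left hm (Subgroup.mem_sup_right hg) (hR hg).2]
  exact (conj_congr hm (maps_cr (hR hg).2) (fun x => cr_apply_of_not_mem g) h2).symm

theorem RR.conj_mem (h : RR p F P Q) {α : Perm Ω} (hα : α ∈ AutF F Q) (hg : g ∈ normalizerIn P Q)
    (hc : α * cr Q g * α⁻¹ ∈ AutBy S Q) : α * cr Q g * α⁻¹ ∈ AutBy P Q := by
  obtain ⟨τ, -, -, h3⟩ := h.ext hα (Subgroup.zpowers_le.2 hg) (by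
    rintro _ ⟨k, rfl⟩
    simp only
    rw [(homOn_cr Q).map_zpow hg.2, ← conj_zpow]
    exact Subgroup.zpow_mem _ hc k)
  obtain ⟨h4, h5⟩ := h3 g (mem_zpowers g)
  exact h5 ▸ cr_mem_autBy h4.1 h4.2

theorem RR.mem_of_pgroup (h : RR p F P Q) {T : Subgroup (Perm Ω)} (hT : IsPGroup p T)
    (hTA : T ≤ AutF F Q) (hU : AutBy P Q ≤ T) {α : Perm Ω} (hα : α ∈ AutF F Q)
    (hg : g ∈ normalizerIn P Q) (hc : α * cr Q g * α⁻¹ ∈ T) : α * cr Q g * α⁻¹ ∈ AutBy P Q := by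
  have := finite_autF_of_le F h.le
  have := finite_of_le (hU.trans hTA)
  obtain ⟨χ, hχ, h1⟩ := (sylIn_of_fullyNormalized h.pg h.sat h.fn).exists_conj hT hTA
  have h2 : χ ∈ Subgroup.normalizer ((AutBy P Q : Subgroup (Perm Ω)) : Set (Perm Ω)) :=
    normalizer_of_finite fun t ht => by
      obtain ⟨k, hk, hN, rfl⟩ := mem_autBy.1 ht
      exact h.conj_mem hχ ⟨hk, hN⟩ (h1 _ (hU ht))
  have h3 := conj_mem_of_normalizer' h2 (h.conj_mem (mul_mem hχ hα) hg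
    (by convert h1 _ hc using 1; group))
  convert h3 using 1; group

/-- `P` has commutator subgroup inside the central subgroup generated by `z` of exponent `p` -/
structure C2 (p : ℕ) (P : Subgroup Ω) (z : Ω) : Prop where
  mem : z ∈ P
  ord : z ^ p = 1
  cent : ∀ g ∈ P, Commute g z
  comm : ∀ a ∈ P, ∀ b ∈ P, ⁅a, b⁆ ∈ zpowers z

theorem RR.zmem (h : RR p F P Q) (c : C2 p P z) : z ∈ Q :=
  h.cent c.mem fun x hx => (c.cent x (h.lt.le hx)).symm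

theorem RR.norm (h : RR p F P Q) (c : C2 p P z) (hg : g ∈ P) :
    g ∈ Subgroup.normalizer (Q : Set Ω) := by
  have := finite_of_le h.le
  refine normalizer_of_finite fun x hx => ?_
  have := Q.mul_mem (Subgroup.zpowers_le.2 (h.zmem c) (c.comm g hg x (h.lt.le hx))) hx
  rwa [commutatorElement_def, inv_mul_cancel_right] at this

theorem RR.crA (h : RR p F P Q) (c : C2 p P z) (hg : g ∈ P) : cr Q g ∈ AutF F Q :=
  cr_mem_autF F h.le (h.sc.1 hg) (h.norm c hg)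

/-- conjugates of the automorphisms induced by `P` are transvections -/
theorem RR.tv_conj (h : RR p F P Q) (c : C2 p P z) {β : Perm Ω} (hβ : β ∈ AutF F Q) (hg : g ∈ P) :
    (β * cr Q g * β⁻¹) (β z) = β z ∧ ∀ x ∈ Q, x⁻¹ * (β * cr Q g * β⁻¹) x ∈ zpowers (β z) := by
  have hN := h.norm c hg
  have hb := homOn_of_mem_autF hβ
  refine ⟨by rw [mul_ap, mul_ap, inv_ap, cr_apply hN (h.zmem c), (c.cent g hg).eq,
    mul_inv_cancel_right], fun x hx => ?_⟩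
  have h1 := (maps_of_mem_autF hβ).inv_mem hx
  have h2 := c.comm _ (P.inv_mem (h.lt.le h1)) g hg
  rw [← inv_mul_cr_eq hN h1] at h2
  have h3 := HomOn.map_zp hb (h.zmem c) (mem_zpowers _) h2
  rwa [hb.map_mul (Q.inv_mem h1) ((maps_cr hN).mem h1), hb.map_inv h1, ap_inv] at h3

theorem RR.tv_one (h : RR p F P Q) (c : C2 p P z) (hg : g ∈ P) :
    cr Q g z = z ∧ ∀ x ∈ Q, x⁻¹ * cr Q g x ∈ zpowers z := by
  simpa using h.tv_conj c (one_mem _) hg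

theorem RR.mem_of_tv (h : RR p F P Q) (c : C2 p P z) {β : Perm Ω} (hβ : β ∈ AutF F Q) (hg : g ∈ P)
    (hz : (β * cr Q g * β⁻¹) z = z) : β * cr Q g * β⁻¹ ∈ AutBy P Q := by
  have := finite_of_le h.le
  have hzQ := Subgroup.zpowers_le.2 (h.zmem c)
  have hV : zpowers z ⊔ zpowers (β z) ≤ Q :=
    sup_le hzQ (Subgroup.zpowers_le.2 ((maps_of_mem_autF hβ).mem (h.zmem c)))
  have := finite_of_le hV
  have := finite_of_le hzQ
  have key : ∀ v ∈ AutF F Q, v z = z → (∀ x ∈ zpowers z ⊔ zpowers (β z), x⁻¹ * v x ∈ zpowers z) →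
      (∀ x ∈ Q, x⁻¹ * v x ∈ zpowers z ⊔ zpowers (β z)) →
      v ∈ Op p (AutF F Q ⊓ stab (zpowers z) ⊓ stab (zpowers z ⊔ zpowers (β z)) :
        Subgroup (Perm Ω)) := fun v hv h1 h2 h3 => by
    have hh := homOn_of_mem_autF hv
    refine mem_op_of_chain (h.pg.to_le h.le)
      (inf_le_left.trans (inf_le_left.trans (autF_le_autAll F Q)))
      (fun n => Nat.casesOn n ⊥ (chain3 (zpowers z) (zpowers z ⊔ zpowers (β z)) Q)) rfl ?_ (n := 3)
      rfl ?_ ⟨⟨hv, (hh.mono hzQ).maps_of_mem fun x hx => ?_⟩,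
        (hh.mono hV).maps_of_mem fun x hx => ?_⟩ ?_
    · rintro (_ | _ | _ | i)
      exacts [bot_le, hzQ, hV, le_rfl]
    · rintro γ hγ (_ | _ | _ | i)
      exacts [(homOn_of_mem_autF hγ.1.1).maps_bot, hγ.1.2, hγ.2, maps_of_mem_autF hγ.1.1]
    · exact (HomOn.fix_zp hh (h.zmem c) h1 hx).symm ▸ hx
    · simpa using Subgroup.mul_mem _ hx (h3 x (hV hx))
    · rintro (_ | _ | _ | i) x hx
      · exact Subgroup.mem_bot.2 (by rw [HomOn.fix_zp hh (h.zmem c) h1 hx, inv_mul_cancel])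
      · exact h2 x hx
      · exact h3 x hx
      · exact Q.mul_mem (Q.inv_mem hx) ((maps_of_mem_autF hv).mem hx)
  have hu := mul_mem (mul_mem hβ (h.crA c hg)) (inv_mem hβ)
  obtain ⟨h1, h2⟩ := h.tv_conj c hβ hg
  refine h.mem_of_pgroup (isPGroup_op p _) ((op_le p _).trans (inf_le_left.trans inf_le_left))
    (fun v hv => ?_) hβ ⟨hg, h.norm c hg⟩ (key _ hu hz (fun x hx => ?_)
      fun x hx => Subgroup.mem_sup_right (h2 x hx))
  · obtain ⟨k, hk, -, rfl⟩ := mem_autBy.1 hv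
    obtain ⟨h3, h4⟩ := h.tv_one c hk
    exact key _ (h.crA c hk) h3 (fun x hx => h4 x (hV hx))
      fun x hx => Subgroup.mem_sup_left (h4 x hx)
  · have hh := homOn_of_mem_autF hu
    rw [(hh.mono hV).eqOn_sup (homOn_id _) (fun _ => HomOn.fix_zp hh (h.zmem c) hz)
      (fun _ => HomOn.fix_zp hh ((maps_of_mem_autF hβ).mem (h.zmem c)) h1) x hx, inv_mul_cancel]
    exact one_mem _

/-- only elements of `Q` centralize a conjugate of `z` outside `⟨z⟩` -/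
theorem RR.mem_of_commute (h : RR p F P Q) (c : C2 p P z) {β : Perm Ω} (hβ : β ∈ AutF F Q)
    (hn : β z ∉ zpowers z) (hg : g ∈ P) (hc : Commute g (β z)) : g ∈ Q := by
  have hN := h.norm c hg
  have hb := maps_of_mem_autF hβ
  obtain ⟨k, hk, -, e⟩ := mem_autBy.1 (h.mem_of_tv c (inv_mem hβ) hg (by
    rw [inv_inv, mul_ap, mul_ap, cr_apply hN (hb.mem (h.zmem c)), hc.eq, mul_inv_cancel_right,
      inv_ap]))
  refine h.cent hg fun x hx => ?_
  have h1 := (h.tv_conj c (inv_mem hβ) hg).2 _ (hb.inv_mem hx)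
  have h2 := (h.tv_one c hk).2 _ (hb.inv_mem hx)
  rw [e] at h2
  by_contra h3
  obtain ⟨m, hm⟩ := exists_pow_of_mem_zp c.ord h2 (fun e => h3 (by
    rw [inv_mul_eq_one, inv_inv, mul_ap, mul_ap, ap_inv, EmbeddingLike.apply_eq_iff_eq,
      cr_apply hN hx] at e
    exact (mul_inv_eq_iff_eq_mul.1 e.symm :))) (mem_zpowers z)
  refine hn (HomOn.map_zp (homOn_of_mem_autF hβ) (hb.inv_mem (h.zmem c)) ?_
    (hm ▸ Subgroup.pow_mem _ h1 m))
  rw [ap_inv]; exact mem_zpowers z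

theorem RR.exists_move (h : RR p F P Q) (c : C2 p P z) : ∃ α ∈ AutF F Q, α z ∉ zpowers z := by
  by_contra hh
  push Not at hh
  have := finite_of_le h.le
  have hzQ := Subgroup.zpowers_le.2 (h.zmem c)
  have := finite_of_le hzQ
  refine h.lt.not_ge fun k hk => h.rad k hk (h.norm c hk) (mem_op_of_chain2 (h.pg.to_le h.le) hzQ
    (autF_le_autAll F Q) (fun α hα => ?_) (h.crA c hk) (fun x => HomOn.fix_zp
      (homOn_of_mem_autF (h.crA c hk)) (h.zmem c) (h.tv_one c hk).1) (h.tv_one c hk).2)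
  exact ((homOn_of_mem_autF hα).mono hzQ).maps_of_mem fun x =>
    HomOn.map_zp (homOn_of_mem_autF hα) (h.zmem c) (hh α hα)

theorem RR.inv_move (h : RR p F P Q) (c : C2 p P z) {β : Perm Ω} (hβ : β ∈ AutF F Q)
    (hn : β z ∉ zpowers z) : β⁻¹ z ∉ zpowers z := fun hh => by
  have hb := homOn_of_mem_autF hβ
  obtain ⟨m, hm⟩ := exists_pow_of_mem_zp c.ord hh (fun e => hn (by
    rw [Perm.inv_eq_iff_eq.1 e, hb.map_one, hb.map_one]; exact one_mem _)) (mem_zpowers z)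
  rw [← hm, hb.map_pow ((maps_of_mem_autF hβ).inv_mem (h.zmem c)), ap_inv, hm] at hn
  exact hn (Subgroup.pow_mem _ (mem_zpowers z) m)

theorem RR.ext_of_fix (h : RR p F P Q) (c : C2 p P z) {γ : Perm Ω} (hγ : γ ∈ AutF F Q)
    (hz : γ z ∈ zpowers z) : ∃ τ, Iso F P P τ ∧ ∀ x ∈ Q, τ x = γ x := by
  obtain ⟨τ, h1, h2, h3⟩ := h.ext hγ (R := P) (fun k hk => ⟨hk, h.norm c hk⟩) fun k hk => by
    refine autBy_mono h.sc.1 Q (h.mem_of_tv c hγ hk ?_)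
    have hu := mul_mem (mul_mem hγ (h.crA c hk)) (inv_mem hγ)
    by_cases h0 : γ z = 1
    · rw [(γ.injective (h0.trans (homOn_of_mem_autF hγ).map_one.symm) : z = 1)]
      exact (homOn_of_mem_autF hu).map_one
    obtain ⟨m, hm⟩ := exists_pow_of_mem_zp c.ord hz h0 (mem_zpowers z)
    exact HomOn.fix_zp (homOn_of_mem_autF hu) ((maps_of_mem_autF hγ).mem (h.zmem c))
      (h.tv_conj c hγ hk).1 ⟨m, (zpow_natCast _ _).trans hm⟩
  exact ⟨τ, (h1.restrict le_sup_right).iso_self fun x hx => (h3 x hx).1.1, h2⟩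

/-- the structure of a subgroup radical relative to a group with commutator subgroup of order `p` -/
structure TV (p : ℕ) (F : FusionSystem S) (P Q W : Subgroup Ω) (z y g : Ω) : Prop where
  rr : RR p F P Q
  c2 : C2 p P z
  yQ : y ∈ Q
  yp : y ^ p = 1
  yz : y ∉ zpowers z
  gP : g ∈ P
  gy : g * y * g⁻¹ = y * z
  comm : ∀ a ∈ Q, ∀ b ∈ Q, Commute a b
  cy : ∀ k ∈ P, Commute k y → k ∈ Q
  top : ∀ k ∈ P, ∃ n : ℕ, (g ^ n)⁻¹ * k ∈ Q
  mid : ∀ q ∈ Q, ∃ j : ℕ, q * (y ^ j)⁻¹ ∈ centralizerIn P P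
  wle : W ≤ centralizerIn P P
  low : ∀ x ∈ centralizerIn P P, ∃ i : ℕ, x * (z ^ i)⁻¹ ∈ W
  disj : ∀ w ∈ W, w ∈ zpowers z → w = 1
  invW : ∀ β ∈ AutF F Q, ∀ w ∈ W, β w ∈ W
  invV : ∀ β ∈ AutF F Q, β y ∈ zpowers z ⊔ zpowers y
  dec : ∀ β ∈ AutF F Q, ∃ δ τ : Perm Ω, Iso F P P τ ∧ (∀ w ∈ W, δ w = w) ∧
    (∀ x ∈ Q, x⁻¹ * δ x ∈ zpowers z ⊔ zpowers y) ∧ ∀ x ∈ Q, τ x ∈ Q ∧ β x = δ (τ x)
  tau : ∃ τ, Iso F P P τ ∧ τ z = z⁻¹ ∧ (∀ w ∈ W, τ w = w) ∧ g⁻¹ * τ g ∈ Q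
  elem : (∀ x ∈ Q, x ^ p ∈ zpowers z) → ∀ x ∈ Q, x ^ p = 1

theorem RR.tv (h : RR p F P Q) (c : C2 p P z) : ∃ W y g, TV p F P Q W z y g := by
  obtain ⟨α, hα, hy⟩ := h.exists_move c
  have hzQ := h.zmem c
  have ha := homOn_of_mem_autF hα
  have ham := maps_of_mem_autF hα
  have hyQ := ham.mem hzQ
  have hZQ : centralizerIn P P ≤ Q := fun x hx => h.cent hx.1 fun a ha =>
    (hx.2 a (h.lt.le ha) : Commute a x).symm
  have hyp : α z ^ p = 1 := by rw [← ha.map_pow hzQ, c.ord, ha.map_one]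
  have triv : ∀ a ∈ zpowers z, α a ∈ zpowers z → a = 1 := fun a h1 h2 => by
    by_contra h3
    obtain ⟨m, hm⟩ := exists_pow_of_mem_zp c.ord h1 h3 (mem_zpowers z)
    exact hy (by
      rw [← hm, ha.map_pow (Subgroup.zpowers_le.2 hzQ h1), hm]; exact Subgroup.pow_mem _ h2 m)
  have comm : ∀ a ∈ Q, ∀ b ∈ Q, Commute a b := fun a h1 b h2 =>
    commutatorElement_eq_one_iff_commute.1 (triv _ (c.comm a (h.lt.le h1) b (h.lt.le h2)) (by
      rw [ha.map_commutator h1 h2]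
      exact c.comm _ (h.lt.le (ham.mem h1)) _ (h.lt.le (ham.mem h2))))
  have cy := fun k => h.mem_of_commute c hα hy (g := k)
  have mv : ∀ k ∈ P, k ∉ Q → ∀ β ∈ AutF F Q, β z ∉ zpowers z → cr Q k (β z) ≠ β z :=
    fun k hk hk' β hβ hn e => hk' (h.mem_of_commute c hβ hn hk (mul_inv_eq_iff_eq_mul.1
      ((cr_apply (h.norm c hk) ((maps_of_mem_autF hβ).mem hzQ)).symm.trans e) :))
  have crp : ∀ k ∈ P, ∀ n : ℕ, cr Q (k ^ n) = cr Q k ^ n := fun k hk =>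
    (homOn_cr Q).map_pow (h.norm c hk)
  obtain ⟨k₀, hk₀, hk₀'⟩ := SetLike.exists_of_lt h.lt
  obtain ⟨g, hg, gy⟩ : ∃ g ∈ P, cr Q g (α z) = α z * z := by
    obtain ⟨n, hn⟩ := exists_tv_pow (homOn_of_mem_autF (h.crA c hk₀)) hyQ hzQ c.ord
      (h.tv_one c hk₀).1 ((h.tv_one c hk₀).2 _ hyQ) (mv _ hk₀ hk₀' α hα hy) (mem_zpowers z)
    exact ⟨_, P.pow_mem hk₀ n, crp _ hk₀ n ▸ hn⟩
  obtain ⟨k₁, hk₁, hv⟩ : ∃ k ∈ P, (α * cr Q k * α⁻¹) z = z * (α z)⁻¹ := by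
    obtain ⟨n, hn⟩ := exists_tv_pow (homOn_of_mem_autF (mul_mem (mul_mem hα (h.crA c hk₀))
      (inv_mem hα))) hzQ hyQ hyp (h.tv_conj c hα hk₀).1 ((h.tv_conj c hα hk₀).2 _ hzQ)
      (fun e => mv _ hk₀ hk₀' _ (inv_mem hα) (h.inv_move c hα hy) (Perm.eq_inv_iff_eq.2 e))
      (inv_mem (mem_zpowers _))
    exact ⟨_, P.pow_mem hk₀ n, by rw [crp _ hk₀, ← conj_pow, hn]⟩
  obtain ⟨hu1, hu2⟩ := h.tv_one c hg
  obtain ⟨hv1, hv2⟩ := h.tv_conj c hα hk₁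
  have hvA := mul_mem (mul_mem hα (h.crA c hk₁)) (inv_mem hα)
  have hvc : ∀ x, (α * cr Q k₁ * α⁻¹) x = x ↔ cr Q k₁ (α⁻¹ x) = α⁻¹ x := fun x =>
    (Perm.eq_inv_iff_eq (f := α) (x := cr Q k₁ (α⁻¹ x))).symm
  have hk₁' : k₁ ∉ Q := fun e => hy (by
    have := (hvc z).2 (by
      rw [cr_apply (h.norm c hk₁) (ham.inv_mem hzQ), (comm _ e _ (ham.inv_mem hzQ)).eq,
        mul_inv_cancel_right])
    rw [hv, mul_eq_left, inv_eq_one] at this
    exact this ▸ one_mem _)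
  generalize hvd : α * cr Q k₁ * α⁻¹ = v at *
  have huA := h.crA c hg
  have hu := homOn_of_mem_autF huA
  have hvh := homOn_of_mem_autF hvA
  have hN := h.norm c hg
  have top : ∀ k ∈ P, ∃ n : ℕ, (g ^ n)⁻¹ * k ∈ Q := fun k hk => by
    obtain ⟨n, hn⟩ := exists_pow_of_mem_zp c.ord (mem_zpowers z)
      (fun e => hy (by rw [e, ha.map_one]; exact one_mem _)) ((h.tv_one c hk).2 _ hyQ)
    have h1 := tv_pow hu hyQ hzQ hu1 gy n
    rw [hn, mul_inv_cancel_left, ← crp g hg, cr_apply (h.norm c (P.pow_mem hg n)) hyQ,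
      cr_apply (h.norm c hk) hyQ] at h1
    refine ⟨n, cy _ (P.mul_mem (P.inv_mem (P.pow_mem hg n)) hk) ?_⟩
    calc (g ^ n)⁻¹ * k * α z = (g ^ n)⁻¹ * (k * α z * k⁻¹) * k := by group
      _ = α z * ((g ^ n)⁻¹ * k) := by rw [← h1]; group
  have uy : ∀ j : ℕ, cr Q g (α z ^ j) = α z ^ j * z ^ j := fun j => by
    rw [hu.map_pow hyQ, gy, (comm _ hyQ _ hzQ).mul_pow]
  have vz : ∀ j : ℕ, v (z ^ j) = z ^ j * (α z)⁻¹ ^ j := fun j => by
    rw [hvh.map_pow hzQ, hv, (comm _ hzQ _ (Q.inv_mem hyQ)).mul_pow]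
  have mid : ∀ q ∈ Q, ∃ j : ℕ, q * (α z ^ j)⁻¹ ∈ centralizerIn P P := fun q hq => by
    obtain ⟨j, hj⟩ := exists_pow_of_mem_zp c.ord (mem_zpowers z)
      (fun e => hy (by rw [e, ha.map_one]; exact one_mem _)) (hu2 q hq)
    have h1 := Q.mul_mem hq (Q.inv_mem (Q.pow_mem hyQ j))
    have h2 : Commute g (q * (α z ^ j)⁻¹) := by
      refine mul_inv_eq_iff_eq_mul.1 ?_
      rw [← cr_apply hN h1, hu.map_mul hq (Q.inv_mem (Q.pow_mem hyQ j)),
        hu.map_inv (Q.pow_mem hyQ j), uy, ← mul_inv_cancel_left q (cr Q g q), ← hj]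
      group
    refine ⟨j, h.lt.le h1, fun k hk => ?_⟩
    obtain ⟨n, hn⟩ := top k hk
    rw [← mul_inv_cancel_left (g ^ n) k]
    exact (h2.pow_left n).mul_left (comm _ hn _ h1)
  let W := fixMod (Y := ⊥) Subgroup.le_normalizer_of_normal (hvh.mono hZQ)
  have hW : ∀ x, x ∈ W ↔ x ∈ centralizerIn P P ∧ v x = x := fun x =>
    and_congr_right' (Subgroup.mem_bot.trans (inv_mul_eq_one.trans eq_comm))
  have hzZ : z ∈ centralizerIn P P := ⟨c.mem, c.cent⟩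
  have low : ∀ x ∈ centralizerIn P P, ∃ i : ℕ, x * (z ^ i)⁻¹ ∈ W := fun x hx => by
    obtain ⟨i, hi⟩ := exists_pow_of_mem_zp hyp (inv_mem (mem_zpowers _))
      (fun e => hy (inv_eq_one.1 e ▸ one_mem _)) (hv2 x (hZQ hx))
    refine ⟨i, (hW _).2 ⟨mul_mem hx (inv_mem (pow_mem hzZ i)), ?_⟩⟩
    rw [hvh.map_mul (hZQ hx) (Q.inv_mem (Q.pow_mem hzQ i)), hvh.map_inv (Q.pow_mem hzQ i), vz,
      ← mul_inv_cancel_left x (v x), ← hi]
    group
  have hV : zpowers z ⊔ zpowers (α z) ≤ Q :=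
    sup_le (Subgroup.zpowers_le.2 hzQ) (Subgroup.zpowers_le.2 hyQ)
  have : Finite W := finite_of_le (Q := S) fun x hx => h.le (hZQ ((hW x).1 hx).1)
  let K := AutF F Q ⊓ trivMod Q (zpowers z ⊔ zpowers (α z)) ⊓ trivMod W ⊥
  have hK : ∀ δ ∈ AutF F Q, (∀ x ∈ Q, x⁻¹ * δ x ∈ zpowers z ⊔ zpowers (α z)) →
      (∀ w ∈ W, δ w = w) → δ ∈ K := fun δ h1 h2 h3 =>
    ⟨⟨h1, maps_of_mem_autF h1, h2⟩, (maps_one W).congr fun x hx => (h3 x hx).symm,
      fun x hx => by rw [h3 x hx, inv_mul_cancel]; exact one_mem _⟩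
  have hK' : ∀ δ ∈ K, ∀ w ∈ W, δ w = w := fun δ h1 w hw =>
    (inv_mul_eq_one.1 (Subgroup.mem_bot.1 (h1.2.2 w hw))).symm
  have huK : cr Q g ∈ K := hK _ huA (fun x hx => Subgroup.mem_sup_left (hu2 x hx)) fun w hw => by
    rw [cr_apply hN (hZQ ((hW w).1 hw).1), ((hW w).1 hw).1.2 g hg, mul_inv_cancel_right]
  have hvK : v ∈ K := hK _ hvA (fun x hx => Subgroup.mem_sup_right (hv2 x hx))
    fun w hw => ((hW w).1 hw).2
  have hω := mul_mem (mul_mem huK hvK) huK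
  obtain ⟨w1, w2⟩ := tv_weyl hu hvh hyQ hzQ (comm _ hyQ _ hzQ) hu1 gy hv1 hv
  generalize cr Q g * v * cr Q g = ω at hω w1 w2
  have hωh := homOn_of_mem_autF hω.1.1
  have dec0 : ∀ β ∈ AutF F Q, ∃ δ ∈ K, (δ * β) z ∈ zpowers z := fun β hβ => by
    by_cases hb : β z ∈ zpowers z
    · exact ⟨1, one_mem _, hb⟩
    have hq := (maps_of_mem_autF hβ).mem hzQ
    obtain ⟨j, hj⟩ := mid _ hq
    obtain ⟨i, hi⟩ := low _ hj
    have hgQ : g ∉ Q := fun e => hy (by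
      rw [cr_apply hN hyQ, (comm _ e _ hyQ).eq, mul_inv_cancel_right, left_eq_mul] at gy
      rw [gy, ha.map_one]; exact one_mem _)
    obtain ⟨n, hn⟩ := exists_tv_pow hu hq hzQ c.ord hu1 (hu2 _ hq) (mv g hg hgQ β hβ hb)
      (inv_mem (pow_mem (mem_zpowers z) i))
    have hδ := pow_mem huK n
    have h1 : v ((cr Q g ^ n * β) z) = (cr Q g ^ n * β) z := by
      have e : β z * (z ^ i)⁻¹ = β z * (α z ^ j)⁻¹ * (z ^ i)⁻¹ * α z ^ j := by
        rw [mul_assoc, mul_assoc, (comm _ (Q.inv_mem (Q.pow_mem hzQ i)) _ (Q.pow_mem hyQ j)).eq,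
          inv_mul_cancel_left]
      rw [mul_ap, hn, e, hvh.map_mul (hZQ ((hW _).1 hi).1) (Q.pow_mem hyQ j), ((hW _).1 hi).2,
        hvh.map_pow hyQ, hv1]
    have h2 : α⁻¹ ((cr Q g ^ n * β) z) ∈ zpowers z := by
      by_contra h2
      exact mv _ hk₁ hk₁' (α⁻¹ * (cr Q g ^ n * β)) (mul_mem (inv_mem hα) (mul_mem hδ.1.1 hβ)) h2
        ((hvc _).1 h1)
    have h3 := HomOn.map_zp ha hzQ (mem_zpowers _) h2
    rw [ap_inv] at h3
    exact ⟨ω * cr Q g ^ n, mul_mem hω hδ, HomOn.map_zp hωh hyQ (w2.symm ▸ mem_zpowers z) h3⟩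
  have dec : ∀ β ∈ AutF F Q, ∃ δ ∈ K, ∃ τ, Iso F P P τ ∧ ∀ x ∈ Q, τ x = δ (β x) := fun β hβ => by
    obtain ⟨δ, h1, h2⟩ := dec0 β hβ
    exact ⟨δ, h1, h.ext_of_fix c (mul_mem h1.1.1 hβ) h2⟩
  have invZ : ∀ β ∈ AutF F Q, ∀ w ∈ W, β w ∈ centralizerIn P P := fun β hβ w hw => by
    obtain ⟨δ, h1, τ, h2, h3⟩ := dec _ (inv_mem hβ)
    have h4 := h3 _ ((maps_of_mem_autF hβ).mem (hZQ ((hW w).1 hw).1))
    rw [inv_ap, hK' δ h1 w hw] at h4
    rw [Perm.eq_inv_iff_eq.2 h4]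
    exact (h2.hom.maps_centralizerIn h2.maps le_rfl h2.maps).inv_mem ((hW w).1 hw).1
  refine ⟨W, α z, g, h, c, hyQ, hyp, hy, hg, (cr_apply hN hyQ).symm.trans gy, comm, cy, top, mid,
    fun x hx => ((hW x).1 hx).1, low, fun w hw hz => ?_, fun β hβ w hw => (hW _).2
    ⟨invZ β hβ w hw, (hvc _).2 ?_⟩, fun β hβ => ?_, fun β hβ => ?_, ?_, fun hq x hx =>
      triv _ (hq x hx) (by rw [ha.map_pow hx]; exact hq _ (ham.mem hx))⟩
  · by_contra h1
    obtain ⟨m, hm⟩ := exists_pow_of_mem_zp c.ord hz h1 (mem_zpowers z)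
    have := ((hW z).1 (hm ▸ pow_mem hw m)).2
    rw [hv, mul_eq_left, inv_eq_one] at this
    exact hy (this ▸ one_mem _)
  · have := invZ _ (mul_mem (inv_mem hα) hβ) w hw
    rw [mul_ap] at this
    rw [cr_apply (h.norm c hk₁) (hZQ this), this.2 k₁ hk₁, mul_inv_cancel_right]
  · obtain ⟨δ, h1, h2⟩ := dec0 _ (mul_mem hβ hα)
    have := mul_mem (Subgroup.mem_sup_left h2)
      ((inv_mem h1).1.2.2 _ (Subgroup.zpowers_le.2 hzQ h2))
    rwa [mul_inv_cancel_left, mul_ap, inv_ap] at this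
  · obtain ⟨δ, h1, τ, h2, h3⟩ := dec β hβ
    refine ⟨δ⁻¹, τ, h2, hK' _ (inv_mem h1), (inv_mem h1).1.2.2, fun x hx => ?_⟩
    rw [h3 x hx, inv_ap]
    exact ⟨(maps_of_mem_autF h1.1.1).mem ((maps_of_mem_autF hβ).mem hx), rfl⟩
  · have e1 : (ω * ω) z = z⁻¹ := by rw [mul_ap, w1, hωh.map_inv hyQ, w2]
    have e2 : (ω * ω) (α z) = (α z)⁻¹ := by rw [mul_ap, w2, w1]
    obtain ⟨τ, h1, h2⟩ := h.ext_of_fix c (mul_mem hω hω).1.1 (e1 ▸ inv_mem (mem_zpowers z))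
    refine ⟨τ, h1, (h2 z hzQ).trans e1, fun w hw => (h2 w (hZQ ((hW w).1 hw).1)).trans
      (hK' _ (mul_mem hω hω) w hw), cy _ (P.mul_mem (P.inv_mem hg) (h1.mem hg)) ?_⟩
    rw [cr_apply hN hyQ] at gy
    have h3 := congrArg τ gy
    rw [h1.hom.map_conj hg (h.lt.le hyQ), h1.hom.map_mul (h.lt.le hyQ) c.mem, h2 _ hyQ, h2 z hzQ,
      e1, e2, ← mul_inv_rev, ← (comm _ hyQ _ hzQ).eq, ← gy] at h3
    calc g⁻¹ * τ g * α z = g⁻¹ * (τ g * (α z)⁻¹ * (τ g)⁻¹)⁻¹ * τ g := by group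
      _ = α z * (g⁻¹ * τ g) := by rw [h3]; group

theorem exists_c2 [Finite P] (hP : IsPGroup p P) (h : Nat.card (⁅P, P⁆ : Subgroup Ω) = p) :
    ∃ z, C2 p P z ∧ zpowers z = ⁅P, P⁆ := by
  obtain ⟨z, h2⟩ := (Subgroup.isCyclic_iff_exists_zpowers_eq_top _).1 (isCyclic_of_prime_card h)
  have h1 := h2.le (mem_zpowers z)
  have h3 : ⁅P, P⁆ ≤ P := H10.comm_le_left Subgroup.le_normalizer
  have h4 : z ^ p = 1 := by rw [← h, ← h2, Nat.card_zpowers, pow_orderOf_eq_one]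
  refine ⟨z, ⟨h3 h1, h4, fun g hg => ?_, fun a ha b hb =>
    h2.ge (Subgroup.commutator_mem_commutator ha hb)⟩, h2⟩
  obtain ⟨k, hk⟩ := isPGroup_iff_mem.1 hP g hg
  refine mul_inv_eq_iff_eq_mul.1 (conj_eq_of_mem_zpowers hk h4 ?_)
  simpa [commutatorElement_def] using mul_mem
    (h2.ge (Subgroup.commutator_mem_commutator hg (h3 h1))) (mem_zpowers z)

theorem TV.zne (h : TV p F P Q W z y g) : z ≠ 1 := fun e => h.rr.lt.not_ge fun k hk =>
  h.cy k hk (commutatorElement_eq_one_iff_commute.1 (by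
    simpa [e] using h.c2.comm k hk y (h.rr.lt.le h.yQ)))

theorem TV.gQ (h : TV p F P Q W z y g) : g ∉ Q := fun e => h.zne (by
  have := h.gy
  rwa [(h.comm _ e _ h.yQ).eq, mul_inv_cancel_right, left_eq_mul] at this)

theorem TV.cenQ (h : TV p F P Q W z y g) : centralizerIn P P ≤ Q := fun x hx =>
  h.cy x hx.1 (hx.2 y (h.rr.lt.le h.yQ) : Commute y x).symm

theorem TV.vle (h : TV p F P Q W z y g) : zpowers z ⊔ zpowers y ≤ Q :=
  sup_le (Subgroup.zpowers_le.2 (h.rr.zmem h.c2)) (Subgroup.zpowers_le.2 h.yQ)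

theorem TV.ele (h : TV p F P Q W z y g) : zpowers z ⊔ zpowers y ⊔ zpowers g ≤ P :=
  sup_le (h.vle.trans h.rr.lt.le) (Subgroup.zpowers_le.2 h.gP)

theorem C2.norm (c : C2 p P z) {K : Subgroup Ω} (h1 : z ∈ K) (h2 : K ≤ P) :
    P ≤ Subgroup.normalizer (K : Set Ω) := le_normalizer_iff.2 fun g hg x hx => by
  have := K.mul_mem (Subgroup.zpowers_le.2 h1 (c.comm g hg x (h2 hx))) hx
  rwa [commutatorElement_def, inv_mul_cancel_right] at this

theorem TV.card_z (h : TV p F P Q W z y g) : Nat.card (zpowers z) = p := by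
  rw [Nat.card_zpowers, orderOf_eq_prime h.c2.ord h.zne]

theorem TV.card_v (h : TV p F P Q W z y g) :
    Nat.card (zpowers z ⊔ zpowers y : Subgroup Ω) = p * Nat.card (zpowers z) :=
  H9.card_sup_zpowers hp.out (h.c2.norm (mem_zpowers z) (Subgroup.zpowers_le.2 h.c2.mem)
    (h.rr.lt.le h.yQ)) h.yz (h.yp ▸ one_mem _)

theorem TV.card_e' (h : TV p F P Q W z y g) (hg : g ^ p ∈ zpowers z) :
    Nat.card (zpowers z ⊔ zpowers y ⊔ zpowers g : Subgroup Ω) =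
      p * Nat.card (zpowers z ⊔ zpowers y : Subgroup Ω) :=
  H9.card_sup_zpowers hp.out (h.c2.norm (Subgroup.mem_sup_left (mem_zpowers z))
    (h.vle.trans h.rr.lt.le) h.gP) (fun e => h.gQ (h.vle e)) (Subgroup.mem_sup_left hg)

theorem TV.card_e (h : TV p F P Q W z y g) (hg : g ^ p ∈ zpowers z) :
    Nat.card (zpowers z ⊔ zpowers y ⊔ zpowers g : Subgroup Ω) = p ^ 3 := by
  rw [h.card_e' hg, h.card_v, h.card_z]; ring

theorem TV.not_comm (h : TV p F P Q W z y g) :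
    ¬ IsMulCommutative (zpowers z ⊔ zpowers y ⊔ zpowers g : Subgroup Ω) := fun _ =>
  h.gQ (h.cy g h.gP (setLike_mul_comm (s := zpowers z ⊔ zpowers y ⊔ zpowers g)
    (Subgroup.mem_sup_right (mem_zpowers g))
    (Subgroup.mem_sup_left (Subgroup.mem_sup_right (mem_zpowers y)))))

theorem TV.q_le (h : TV p F P Q W z y g) : Q ≤ zpowers z ⊔ zpowers y ⊔ W := fun q hq => by
  obtain ⟨j, hj⟩ := h.mid q hq
  obtain ⟨i, hi⟩ := h.low _ hj
  have := mul_mem (mul_mem (Subgroup.mem_sup_right hi) (Subgroup.mem_sup_left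
    (Subgroup.mem_sup_left (T := zpowers y) (pow_mem (mem_zpowers z) i))))
    (Subgroup.mem_sup_left (Subgroup.mem_sup_right (pow_mem (mem_zpowers y) j)))
  rwa [inv_mul_cancel_right, inv_mul_cancel_right] at this

theorem TV.sup_eq (h : TV p F P Q W z y g) : zpowers z ⊔ zpowers y ⊔ zpowers g ⊔ W = P := by
  refine le_antisymm (sup_le h.ele (h.wle.trans inf_le_left)) fun k hk => ?_
  obtain ⟨n, hn⟩ := h.top k hk
  have := mul_mem (Subgroup.mem_sup_left (Subgroup.mem_sup_right (pow_mem (mem_zpowers g) n)))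
    (sup_le_sup_right le_sup_left W (h.q_le hn))
  rwa [mul_inv_cancel_left] at this

theorem TV.inf_eq (h : TV p F P Q W z y g) (hg : g ^ p ∈ zpowers z) :
    (zpowers z ⊔ zpowers y ⊔ zpowers g) ⊓ centralizerIn P P = zpowers z := by
  have := finite_of_le (h.ele.trans h.rr.sc.1)
  have := finite_of_le (h.vle.trans h.rr.le)
  have hz : zpowers z ≤ centralizerIn P P := Subgroup.zpowers_le.2 ⟨h.c2.mem, h.c2.cent⟩
  have h1 := (eq_or_eq_of_card (le_inf le_sup_left h.vle) inf_le_left (h.card_e' hg)).resolve_right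
    fun e => h.gQ (e.ge (Subgroup.mem_sup_right (mem_zpowers g))).2
  have h2 := (eq_or_eq_of_card (le_inf le_sup_left hz) inf_le_left h.card_v).resolve_right
    fun e => h.gQ (h.cy g h.gP ((e.ge (Subgroup.mem_sup_right (mem_zpowers y))).2.2 g h.gP))
  exact le_antisymm (fun x hx => h2.le ⟨h1.le ⟨hx.1, h.cenQ hx.2⟩, hx.2⟩)
    (le_inf (le_sup_left.trans le_sup_left) hz)

theorem TV.equiv_prod (h : TV p F P Q W z y g) (hg : g ^ p ∈ zpowers z) :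
    Nonempty (P ≃* (zpowers z ⊔ zpowers y ⊔ zpowers g : Subgroup Ω) × W) := by
  have hc : ∀ (a : (zpowers z ⊔ zpowers y ⊔ zpowers g : Subgroup Ω)) (b : W),
      Commute (Subgroup.subtype _ a) (W.subtype b) := fun a b => (h.wle b.2).2 a (h.ele a.2)
  refine ⟨((MonoidHom.ofInjective (f := MonoidHom.noncommCoprod _ _ hc) ?_).trans
    (MulEquiv.subgroupCongr ?_)).symm⟩
  · refine (MonoidHom.noncommCoprod_injective _ _ hc).2 ⟨Subgroup.subtype_injective _,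
      Subgroup.subtype_injective _, ?_⟩
    rw [Subgroup.range_subtype, Subgroup.range_subtype, Subgroup.disjoint_def]
    exact fun h1 h2 => h.disj _ h2 ((h.inf_eq hg).le ⟨h1, h.wle h2⟩)
  · rw [MonoidHom.noncommCoprod_range, Subgroup.range_subtype, Subgroup.range_subtype, h.sup_eq]

theorem C2.mul_pow (c : C2 p P z) (hp2 : p ≠ 2) {a b : Ω} (ha : a ∈ P) (hb : b ∈ P) :
    (a * b) ^ p = a ^ p * b ^ p := by
  obtain ⟨k, hk⟩ := c.comm b hb a ha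
  refine H9.mul_pow_of_odd (hk ▸ (c.cent a ha).zpow_right k) (hk ▸ (c.cent b hb).zpow_right k)
    (hp.out.odd_of_ne_two hp2) ?_
  rw [← hk]
  simp only
  rw [← zpow_natCast, ← zpow_mul, mul_comm, zpow_mul, zpow_natCast, c.ord, one_zpow]

theorem TV.pow_eq_one (h : TV p F P Q W z y g) (hp2 : p ≠ 2) (hg : g ^ p ∈ zpowers z)
    (hQ : ∀ q ∈ Q, q ^ p = 1) : ∀ x ∈ P, x ^ p = 1 := by
  obtain ⟨τ, h1, h2, -, h3⟩ := h.tau
  have h4 : g ^ p = 1 := by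
    have e1 : τ (g ^ p) = g ^ p := by
      rw [h1.hom.map_pow h.gP, ← mul_inv_cancel_left g (τ g),
        h.c2.mul_pow hp2 h.gP (h.rr.lt.le h3), hQ _ h3, mul_one]
    obtain ⟨k, hk⟩ := hg
    rw [← hk] at e1 ⊢
    simp only at e1 ⊢
    rw [h1.hom.map_zpow h.c2.mem, h2, inv_zpow, inv_eq_iff_mul_eq_one, ← pow_two] at e1
    refine orderOf_eq_one_iff.1 (Nat.eq_one_of_dvd_coprimes ((Nat.coprime_primes Nat.prime_two
      hp.out).2 hp2.symm) (orderOf_dvd_of_pow_eq_one e1) (orderOf_dvd_of_pow_eq_one ?_))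
    rw [← zpow_natCast, ← zpow_mul, mul_comm, zpow_mul, zpow_natCast, h.c2.ord, one_zpow]
  intro x hx
  obtain ⟨n, hn⟩ := h.top x hx
  rw [← mul_inv_cancel_left (g ^ n) x, h.c2.mul_pow hp2 (P.pow_mem h.gP n) (h.rr.lt.le hn),
    hQ _ hn, ← pow_mul, mul_comm n, pow_mul, h4, one_pow, mul_one]

theorem TV.dihedral (h : TV p F P Q W z y g) (hp2 : p = 2) (hg : g ^ p ∈ zpowers z) :
    Nonempty ((zpowers z ⊔ zpowers y ⊔ zpowers g : Subgroup Ω) ≃* DihedralGroup 4) := by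
  subst hp2
  have := finite_of_le (h.ele.trans h.rr.sc.1)
  have hz : z * z = 1 := pow_two z ▸ h.c2.ord
  have hy : y * y = 1 := pow_two y ▸ h.yp
  have hgE : g ∈ zpowers z ⊔ zpowers y ⊔ zpowers g := Subgroup.mem_sup_right (mem_zpowers g)
  have hyE : y ∈ zpowers z ⊔ zpowers y ⊔ zpowers g :=
    Subgroup.mem_sup_left (Subgroup.mem_sup_right (mem_zpowers y))
  have h1 : y * g * y⁻¹ = g * z := by
    calc y * g * y⁻¹ = y * (g * y * g⁻¹)⁻¹ * g := by group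
      _ = y * (z * y)⁻¹ * g := by rw [h.gy, (h.c2.cent y (h.rr.lt.le h.yQ)).eq]
      _ = z⁻¹ * g := by group
      _ = g * z := by rw [(h.c2.cent g h.gP).eq, inv_eq_of_mul_eq_one_left hz]
  obtain ⟨r, hr, h2, h3⟩ : ∃ r ∈ zpowers z ⊔ zpowers y ⊔ zpowers g,
      r * r = z ∧ y * r * y⁻¹ = r * z := by
    by_cases h0 : g * g = 1
    · refine ⟨g * y, mul_mem hgE hyE, ?_, ?_⟩
      · calc _ = g * (y * g * y⁻¹) * (y * y) := by group
          _ = z := by rw [h1, hy, ← mul_assoc, h0]; group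
      · calc _ = y * g * y⁻¹ * y := by group
          _ = _ := by rw [h1, mul_assoc, ← (h.c2.cent y (h.rr.lt.le h.yQ)).eq, mul_assoc]
    · obtain ⟨k, hk⟩ := exists_pow_of_mem_zp h.c2.ord (mem_zpowers z) h.zne hg
      refine ⟨g, hgE, ?_, h1⟩
      rw [← pow_two, ← hk] at h0 ⊢
      rcases Nat.even_or_odd' k with ⟨k, rfl | rfl⟩
      · exact absurd (by rw [pow_mul, h.c2.ord, one_pow]) h0
      · rw [pow_succ, pow_mul, h.c2.ord, one_pow, one_mul]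
  obtain ⟨e⟩ := H6.closure_equiv_dihedral (n := 4) (a := r) (b := y)
    (H6.orderOf_eq_four_iff.2 ⟨h2 ▸ hz, h2 ▸ h.zne⟩) hy
    (h3.trans (eq_inv_of_mul_eq_one_right (by rw [← mul_assoc, h2, hz]))) (by
      rintro ⟨k, rfl⟩
      rw [(Commute.zpow_self r k).eq, mul_inv_cancel_right, left_eq_mul] at h3
      exact h.zne h3)
  refine ⟨(MulEquiv.subgroupCongr (eq_of_le_of_card_le ((Subgroup.closure_le _).2 ?_)
    (le_of_eq ?_)).symm).trans e⟩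
  · rintro _ (rfl | rfl)
    exacts [hr, hyE]
  · rw [h.card_e hg, Nat.card_congr e.toEquiv, DihedralGroup.nat_card]; rfl

end H3
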