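import Cfsg.Agent.H3.R7b
import Cfsg.Agent.H8.Z4c

/-! A simple group of order 5616 with small involution centralizers has 2-rank at most two. -/

set_option autoImplicit false
set_option linter.unusedSectionVars false
open Subgroup Cfsg

namespace Cfsg.Agent.H3.U2

variable {G : Type*} [Group G] [Finite G]

theorem f48 : Nat.factorization 48 2 = 4 := by
  rw [Nat.factorization_def _ (by norm_num)]; decide +kernel

theorem ex16 {K L : Subgroup G} (hK : Nat.card K = 48) (hL : L ≤ K) (h2 : IsPGroup 2 L) :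
    ∃ T : Subgroup G, L ≤ T ∧ T ≤ K ∧ Nat.card T = 16 := by
  obtain ⟨Q, hQ⟩ := (h2.of_equiv (subgroupOfEquivOfLe hL).symm).exists_le_sylow
  refine ⟨(Q : Subgroup K).map K.subtype, fun x hx => ⟨⟨x, hL hx⟩, hQ hx, rfl⟩, map_subtype_le _, ?_⟩
  rw [card_subtype, Q.card_eq_multiplicity, hK, f48]; rfl

theorem syl {K T : Subgroup G} (hK : Nat.card K = 48) (hT : T ≤ K) (c : Nat.card T = 16) {x : G}
    (hx : x ∈ K) (h4 : x ^ 4 = 1) : ∃ c ∈ K, c * x * c⁻¹ ∈ T := by
  have h2 : IsPGroup 2 (zpowers (⟨x, hx⟩ : K)) := IsPGroup.iff_card.2 (by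
    rw [Nat.card_zpowers]
    obtain ⟨k, -, hk⟩ := (Nat.dvd_prime_pow Nat.prime_two (m := 2)).1
      (orderOf_dvd_of_pow_eq_one (x := (⟨x, hx⟩ : K)) (Subtype.ext h4))
    exact ⟨k, hk⟩)
  obtain ⟨Q, hQ⟩ := h2.exists_le_sylow
  let P : Sylow 2 K := Sylow.ofCard (T.subgroupOf K) (by
    rw [Nat.card_congr (subgroupOfEquivOfLe hT).toEquiv, c, hK, f48]; rfl)
  obtain ⟨g, hg⟩ := MulAction.exists_smul_eq K Q P
  have : MulAut.conj g ⟨x, hx⟩ ∈ (P : Subgroup K) := by
    rw [← hg, Sylow.coe_subgroup_smul]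
    exact smul_mem_pointwise_smul _ _ _ (hQ (mem_zpowers _))
  exact ⟨g, g.2, this⟩

theorem idx {E T : Subgroup G} (h : E ≤ T) (hc : Nat.card T = 2 * Nat.card E) :
    ∀ a ∈ T, ∀ b ∈ T, a ∉ E → b ∉ E → a * b ∈ E := fun a ha b hb a1 b1 => by
  have h1 := (E.subgroupOf T).card_mul_index
  rw [Nat.card_congr (subgroupOfEquivOfLe h).toEquiv, hc, mul_comm] at h1
  exact (mul_mem_iff_of_index_two (a := ⟨a, ha⟩) (b := ⟨b, hb⟩)
    (Nat.eq_of_mul_eq_mul_right Nat.card_pos h1)).2 (iff_of_false a1 b1)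

theorem idx' {E T : Subgroup G} (h : E ≤ T) (hc : Nat.card T = 2 * Nat.card E) {y : G}
    (hT : ∀ a ∈ T, y * a * y⁻¹ ∈ T) (hE : ∀ a ∈ E, y * a * y⁻¹ ∈ E) (hE' : ∀ a ∈ E, y⁻¹ * a * y ∈ E) :
    ∀ a ∈ T, y * a * y⁻¹ * a⁻¹ ∈ E := fun a ha => by
  by_cases e : a ∈ E
  · exact mul_mem (hE a e) (inv_mem e)
  · exact idx h hc _ (hT a ha) _ (inv_mem ha) (fun e' => e (by simpa [mul_assoc] using hE' _ e'))
      (by rwa [inv_mem_iff])

theorem ord2 {z : G} (h1 : z ≠ 1) (h2 : z * z = 1) : orderOf z = 2 :=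
  orderOf_eq_prime (by rw [pow_two, h2]) h1

theorem lemL (a1 : ∀ t : G, orderOf t = 2 → Nat.card (centralizer ({t} : Set G)) = 48)
    (a2 : ∀ t y : G, orderOf t = 2 → orderOf y = 3 → t*y = y*t →
      ¬ 8 ∣ Nat.card (centralizer ({y} : Set G))) {E T : Subgroup G} (c8 : Nat.card E = 8)
    (e2 : ∀ x ∈ E, x * x = 1) (ab : ∀ x ∈ E, ∀ y ∈ E, x * y = y * x) (hET : E ≤ T)
    (c16 : Nat.card T = 16) (nc : ¬ T ≤ centralizer (E : Set G)) :
    4 ≤ Nat.card ↥(E ⊓ centralizer (T : Set G)) ∧ ∀ z ∈ E ⊓ centralizer (T : Set G), z ≠ 1 →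
      ∀ g, g * z = z * g → ∀ u ∈ E ⊓ centralizer (T : Set G), g * u = u * g := by
  obtain ⟨s, hs, s1⟩ := SetLike.not_le_iff_exists.1 nc
  have sE : s ∉ E := fun e => s1 fun x hx => ab x hx s e
  have two := idx hET (by omega)
  have dec : ∀ a ∈ T, a ∈ E ∨ ∃ e ∈ E, a = e * s := fun a ha => or_iff_not_imp_left.2 fun e =>
    ⟨a * s⁻¹, two a ha _ (inv_mem hs) e (by rwa [inv_mem_iff]), by simp⟩
  have nE : ∀ e ∈ E, s * e * s⁻¹ ∈ E := fun e he => by
    by_contra hh
    have := two _ (mul_mem (mul_mem hs (hET he)) (inv_mem hs)) s hs hh sE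
    rw [inv_mul_cancel_right] at this
    exact sE ((mul_mem_cancel_right he).1 this)
  have mZ : ∀ z ∈ E, s * z = z * s → z ∈ E ⊓ centralizer (T : Set G) := fun z hz e => ⟨hz, fun a ha => by
    rcases dec a ha with h | ⟨e', he', rfl⟩
    · exact ab a h z hz
    · exact ((show Commute e' z from ab e' he' z hz).mul_left e).eq⟩
  let δ : E →* E := MonoidHom.mk' (fun e => ⟨s * e * s⁻¹ * e, mul_mem (nE _ e.2) e.2⟩) fun a b =>
    Subtype.ext (by
      change s * (a * b) * s⁻¹ * (a * b) = s * a * s⁻¹ * a * (s * b * s⁻¹ * b)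
      rw [(show Commute (a : G) _ from ab _ a.2 _ (nE _ b.2)).mul_mul_mul_comm, conj_mul])
  have kδ : ∀ e : E, e ∈ δ.ker ↔ s * e = e * s := fun e => by
    rw [MonoidHom.mem_ker, Subtype.ext_iff, ← mul_inv_eq_iff_eq_mul]
    change s * e * s⁻¹ * e = 1 ↔ _
    rw [mul_eq_one_iff_eq_inv, inv_eq_of_mul_eq_one_right (e2 _ e.2)]
  have rk : δ.range ≤ δ.ker := by
    rintro _ ⟨e, rfl⟩
    rw [kδ]
    apply R4.comm_of_conj
    change s * (s * e * s⁻¹ * e) * s⁻¹ = s * e * s⁻¹ * e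
    calc _ = s * s * e * (s * s)⁻¹ * (s * e * s⁻¹) := by group
      _ = _ := by rw [ab _ (two s hs s hs sE sE) _ e.2, mul_inv_cancel_right, ab _ e.2 _ (nE _ e.2)]
  have k1 := δ.ker.card_mul_index
  rw [index_ker, c8] at k1
  have k2 := card_le_of_le rk
  have k3 : δ.ker < ⊤ := lt_top_iff_ne_top.2 fun e => s1 fun x hx =>
    ((kδ ⟨x, hx⟩).1 (e.ge trivial)).symm
  have k4 := H12.SR.two_le k3
  rw [card_top, c8] at k4
  have k5 : Nat.card δ.ker = 4 ∧ Nat.card δ.range = 2 := by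
    generalize Nat.card δ.ker = a at *
    generalize Nat.card δ.range = b at *
    have : a ≤ 4 := by omega
    interval_cases a <;> omega
  have eZ : E ⊓ centralizer (T : Set G) = δ.ker.map E.subtype := le_antisymm
    (fun z hz => ⟨⟨z, hz.1⟩, (kδ _).2 (hz.2 s hs), rfl⟩) (by
      rintro _ ⟨z, hz, rfl⟩
      exact mZ _ z.2 ((kδ z).1 hz))
  have cZ : Nat.card ↥(E ⊓ centralizer (T : Set G)) = 4 := by rw [eZ, card_subtype, k5.1]
  refine ⟨cZ.ge, ?_⟩
  obtain ⟨⟨⟨v, vE⟩, hv⟩, v1, hu⟩ := (Nat.card_eq_two_iff' (1 : δ.range)).1 k5.2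
  have v1' : v ≠ 1 := fun e => v1 (Subtype.ext (Subtype.ext e))
  have vZ := mZ v vE ((kδ _).1 (rk hv))
  have vv := e2 v vE
  have dv : ∀ e ∈ E, s * e * s⁻¹ = e ∨ s * e * s⁻¹ = v * e := fun e he => by
    have i := inv_eq_of_mul_eq_one_right (e2 e he)
    by_cases h : δ ⟨e, he⟩ = 1
    · exact Or.inl ((eq_inv_of_mul_eq_one_left (congrArg Subtype.val h)).trans i)
    · have := congrArg (fun x => x.1.1) (hu ⟨_, ⟨e, he⟩, rfl⟩ fun h' => h (congrArg Subtype.val h'))
      exact Or.inr ((eq_mul_inv_of_mul_eq this).trans (by rw [i]))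
  let W : Set G → Subgroup G := fun D =>
    { carrier := {g | g * v = v * g ∧ ∀ d ∈ D, g * d * g⁻¹ = d ∨ g * d * g⁻¹ = v * d}
      one_mem' := ⟨by simp, fun d _ => Or.inl (by simp)⟩
      mul_mem' := by
        rintro a b ⟨a1, a2⟩ ⟨b1, b2⟩
        refine ⟨(show Commute a v from a1).mul_left b1, fun d hd => ?_⟩
        rw [show a * b * d * (a * b)⁻¹ = a * (b * d * b⁻¹) * a⁻¹ by group]
        rcases b2 d hd with e | e
        · rw [e]; exact a2 d hd
        · rw [e, ← conj_mul, a1, mul_inv_cancel_right]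
          rcases a2 d hd with e' | e'
          · right; rw [e']
          · left; rw [e', ← mul_assoc, vv, one_mul]
      inv_mem' := by
        rintro a ⟨a1, a2⟩
        refine ⟨(show Commute a v from a1).inv_left, fun d hd => (a2 d hd).imp (fun e => ?_) fun e => ?_⟩
        · conv_lhs => rw [← e]
          group
        · have : d = v * (a * d * a⁻¹) := by rw [e, ← mul_assoc, vv, one_mul]
          conv_lhs => rw [this, ← mul_assoc, (show Commute a v from a1).inv_left.eq]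
          group }
  have hTW : T ≤ W T := fun a ha => by
    have sW : s ∈ W T := ⟨vZ.2 s hs, fun d hd => by
      rcases dec d hd with h | ⟨e, he, rfl⟩
      · exact dv d h
      · rw [← conj_mul, mul_inv_cancel_right, ← mul_assoc v, mul_left_inj, mul_left_inj]
        exact dv e he⟩
    have eW : ∀ e ∈ E, e ∈ W T := fun e he => ⟨ab e he v vE, fun d hd => by
      rcases dec d hd with h | ⟨e', he', rfl⟩
      · left; rw [ab e he d h, mul_inv_cancel_right]
      · have : e * (e' * s) * e⁻¹ = e * (s * e⁻¹ * s⁻¹) * (e' * s) := by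
          rw [mul_assoc e (s * e⁻¹ * s⁻¹), ← mul_assoc (s * e⁻¹ * s⁻¹) e',
            ab _ (nE _ (inv_mem he)) e' he']; group
        rw [this]
        rcases dv _ (inv_mem he) with h | h
        · left; rw [h, mul_inv_cancel, one_mul]
        · right; rw [h, ← mul_assoc e, ab e he v vE, mul_inv_cancel_right]⟩
    rcases dec a ha with h | ⟨e, he, rfl⟩
    exacts [eW a h, mul_mem (eW e he) sW]
  have cv := a1 v (ord2 v1' vv)
  have : Fact (Nat.Prime 3) := ⟨by norm_num⟩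
  obtain ⟨⟨y, hy⟩, y3⟩ := exists_prime_orderOf_dvd_card' (G := centralizer ({v} : Set G)) 3
    (by rw [cv]; norm_num)
  rw [orderOf_mk] at y3
  have yv : y * v = v * y := mem_centralizer_singleton_iff.1 hy
  have y3' : y ^ 3 = 1 := y3 ▸ pow_orderOf_eq_one y
  have fixW : ∀ D : Set G, y ∈ W D → ∀ d ∈ D, y * d = d * y := fun D h d hd => R4.comm_of_conj (by
    rcases h.2 d hd with e | e
    · exact e
    · exact absurd (R4.HF y3' e yv (by rw [show 4 = 2 * 2 from rfl, pow_mul, pow_two v, vv, one_pow])) v1')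
  have TC : T ≤ centralizer {v} := fun a ha => mem_centralizer_singleton_iff.2 (vZ.2 a ha)
  have top : ∀ L : Subgroup G, T < L → L ≤ centralizer {v} → L = centralizer {v} := fun L h1 h2 => by
    have b1 := card_dvd_of_le h1.le
    have b2 := card_dvd_of_le h2
    have b3 := H12.SR.two_le h1
    refine eq_of_le_of_card_ge h2 ?_
    rw [cv] at b2 ⊢
    rw [c16] at b1 b3
    have := Nat.le_of_dvd (by norm_num) b2
    generalize Nat.card L = n at *
    obtain ⟨m, rfl⟩ := b1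
    have : m ≤ 3 := by omega
    interval_cases m <;> omega
  let T2 := T.map (MulAut.conj y).toMonoidHom
  have cT2 : Nat.card T2 = 16 := by rw [← c16]; exact card_map_of_injective (MulAut.conj y).injective
  have T2C : T2 ≤ centralizer {v} := by
    rintro _ ⟨a, ha, rfl⟩
    exact mul_mem (mul_mem hy (TC ha)) (inv_mem hy)
  have yT : T2 ≤ T := by
    by_contra hh
    have b1 := top (T ⊔ T2) (lt_of_le_of_ne le_sup_left fun e => hh (e ▸ le_sup_right)) (sup_le TC T2C)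
    have b2 : T ⊔ T2 ≤ W (T ⊓ T2 : Subgroup G) := sup_le
      (fun a ha => ⟨(hTW ha).1, fun d hd => (hTW ha).2 d hd.1⟩) (by
        rintro _ ⟨a, ha, rfl⟩
        refine ⟨mem_centralizer_singleton_iff.1 (T2C ⟨a, ha, rfl⟩), ?_⟩
        rintro _ ⟨-, d, hd, rfl⟩
        change y * a * y⁻¹ * (y * d * y⁻¹) * (y * a * y⁻¹)⁻¹ = y * d * y⁻¹ ∨
          y * a * y⁻¹ * (y * d * y⁻¹) * (y * a * y⁻¹)⁻¹ = v * (y * d * y⁻¹)
        rw [show y * a * y⁻¹ * (y * d * y⁻¹) * (y * a * y⁻¹)⁻¹ = y * (a * d * a⁻¹) * y⁻¹ by group]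
        rcases (hTW ha).2 d hd with e | e
        · left; rw [e]
        · right; rw [e, ← mul_assoc y, yv]; group)
    have b3 : T ⊓ T2 ≤ centralizer {y} := fun d hd =>
      mem_centralizer_singleton_iff.2 (fixW _ (b2 (b1 ▸ hy)) d hd).symm
    have b4 := H12.SR.card_le_idx (T := T) T2 T2C (m := 3) (H12.SR.idx_of_card TC (by omega))
    have b5 := card_dvd_of_le (inf_le_left : T ⊓ T2 ≤ T)
    refine a2 v y (ord2 v1' vv) y3 yv.symm (Dvd.dvd.trans ?_ (card_dvd_of_le b3))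
    rw [c16] at b5
    rw [cT2] at b4
    have := Nat.le_of_dvd (by norm_num) b5
    generalize Nat.card ↥(T ⊓ T2) = n at *
    have : 6 ≤ n := by omega
    interval_cases n <;> omega
  have yT' : T ≤ T2 := (eq_of_le_of_card_ge yT (by omega)).ge
  have yZ : ∀ z ∈ E ⊓ centralizer (T : Set G), y * z * y⁻¹ ∈ E ⊓ centralizer (T : Set G) := by
    intro z hz
    have b1 : y * z * y⁻¹ ∈ centralizer (T : Set G) := fun a ha => by
      obtain ⟨a', ha', rfl⟩ := yT' ha
      change y * a' * y⁻¹ * _ = _ * (y * a' * y⁻¹)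
      rw [conj_mul, conj_mul, hz.2 a' ha']
    refine ⟨?_, b1⟩
    rcases dec _ (yT ⟨z, hET hz.1, rfl⟩) with h | ⟨e, he, h⟩
    · exact h
    refine absurd (fun x hx => ?_) s1
    have b2 := b1 x (hET hx)
    change y * z * y⁻¹ = _ at h
    rwa [h, ← mul_assoc, ab x hx e he, mul_assoc, mul_assoc, mul_right_inj] at b2
  have zv : ∀ a ∈ zpowers v, y * a = a * y := fun a ha => by
    obtain ⟨k, rfl⟩ := ha
    exact (show Commute y v from yv).zpow_right k
  have yW : ∀ z ∈ E ⊓ centralizer (T : Set G), y * z = z * y := fun z hz => by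
    have := idx' (zpowers_le_of_mem vZ) (by rw [cZ, Nat.card_zpowers, ord2 v1' vv]) yZ
      (fun a ha => by rwa [zv a ha, mul_inv_cancel_right])
      (fun a ha => by rwa [mul_assoc, ← zv a ha, inv_mul_cancel_left]) z hz
    have h1 := R4.HF y3' (x := z) (c := y * z * y⁻¹ * z⁻¹) (by group) (zv _ this) (by
      rw [show 4 = 2 * 2 from rfl, pow_mul, pow_two (_ * _), e2 _ (zpowers_le_of_mem vE this), one_pow])
    rwa [mul_inv_eq_one, mul_inv_eq_iff_eq_mul] at h1
  have b6 := top (T ⊔ zpowers y) (lt_of_le_of_ne le_sup_left fun e => by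
    have := orderOf_dvd_natCard (⟨y, e ▸ mem_sup_right (mem_zpowers y)⟩ : T)
    rw [orderOf_mk, y3, c16] at this
    omega) (sup_le TC (zpowers_le_of_mem hy))
  have b7 : ∀ u ∈ E ⊓ centralizer (T : Set G), centralizer {v} ≤ centralizer {u} := fun u hu =>
    b6 ▸ sup_le (fun a ha => mem_centralizer_singleton_iff.2 (hu.2 a ha))
      (zpowers_le_of_mem (mem_centralizer_singleton_iff.2 (yW u hu)))
  intro z hz z1 g hg u hu
  have := eq_of_le_of_card_ge (b7 z hz) (by rw [cv, a1 z (ord2 z1 (e2 z hz.1))])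
  exact mem_centralizer_singleton_iff.1 (b7 u hu (this.ge (mem_centralizer_singleton_iff.2 hg)))

theorem u2 [IsSimpleGroup G] (h : Nat.card G = 5616) (a1 : ∀ t : G, orderOf t = 2 → Nat.card (centralizer ({t} : Set G)) = 48) (a2 : ∀ t y : G, orderOf t = 2 → orderOf y = 3 → t*y = y*t → ¬ 8 ∣ Nat.card (centralizer ({y} : Set G))) (a4 : ∀ K : Subgroup G, Nat.card K = 16 → ¬ ∀ g ∈ K, g*g = 1) : PRankLE 2 2 G := by
  intro E hE hp
  by_contra hh
  have e2 : ∀ x ∈ E, x * x = 1 := fun x hx => pow_two x ▸ hp x hx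
  have ab : ∀ x ∈ E, ∀ y ∈ E, x * y = y * x := fun x hx y hy =>
    congrArg Subtype.val (hE.1.1 ⟨x, hx⟩ ⟨y, hy⟩)
  have p2 : IsPGroup 2 E := fun x => ⟨1, Subtype.ext (hp x x.2)⟩
  have c8 : Nat.card E = 8 := by
    obtain ⟨k, hk⟩ := p2.exists_card_eq
    have h1 := card_subgroup_dvd_card E
    have h2 : Nat.card E ≠ 16 := fun e => a4 E e e2
    rw [h] at h1
    rw [hk] at h1 h2 hh ⊢
    have : k ≤ 4 := by
      by_contra h3
      exact absurd ((pow_dvd_pow 2 (show 5 ≤ k by omega)).trans h1) (by norm_num)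
    interval_cases k <;> omega
  have ex : ∀ u ∈ E, u ≠ 1 → ∃ T : Subgroup G, E ≤ T ∧ T ≤ centralizer {u} ∧ Nat.card T = 16 :=
    fun u hu u1 => ex16 (a1 u (ord2 u1 (e2 u hu)))
      (fun x hx => mem_centralizer_singleton_iff.2 (ab x hx u hu)) p2
  have nc : ∀ T : Subgroup G, E ≤ T → Nat.card T = 16 → ¬ T ≤ centralizer (E : Set G) := by
    intro T hET c16 hc
    have two := idx hET (by omega)
    obtain ⟨x, hx, x1⟩ : ∃ x ∈ T, x * x ≠ 1 := by
      by_contra h3
      push Not at h3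
      exact a4 T c16 h3
    have xE : x ∉ E := fun e => x1 (e2 x e)
    have dec : ∀ a ∈ T, a ∈ E ∨ ∃ e ∈ E, a = e * x := fun a ha => or_iff_not_imp_left.2 fun e =>
      ⟨a * x⁻¹, two a ha _ (inv_mem hx) e (by rwa [inv_mem_iff]), by simp⟩
    have sq : ∀ a ∈ T, a * a = 1 ∨ a * a = x * x := fun a ha => by
      rcases dec a ha with h | ⟨e, he, rfl⟩
      · exact Or.inl (e2 a h)
      · right
        rw [(show Commute x e from (hc hx e he).symm).mul_mul_mul_comm, e2 e he, one_mul]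
    have abT : ∀ a ∈ T, T ≤ centralizer {a} := fun a ha b hb => mem_centralizer_singleton_iff.2 (by
      rcases dec a ha with h | ⟨e, he, rfl⟩
      · exact (hc hb a h).symm
      refine (show Commute b e from (hc hb e he).symm).mul_right ?_
      rcases dec b hb with h | ⟨e', he', rfl⟩
      · exact hc hx b h
      · exact (show Commute e' x from hc hx e' he').mul_left (Commute.refl x))
    have zz := e2 _ (two x hx x hx xE xE)
    have o2 := ord2 x1 zz
    have p4 : ∀ a : G, a ^ 4 = a * a * (a * a) := fun a => by simp [pow_succ, mul_assoc]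
    refine H8.Z4.not_isolated (z := x * x) inferInstance (fun hG => ?_) ⟨o2, fun g hg => ?_⟩
    · have := a1 _ o2
      rw [(centralizer_eq_top_iff_subset).2 (by
        rintro _ rfl
        exact mem_center_iff.2 fun g => hG.1.1 _ _), card_top] at this
      omega
    obtain ⟨c, c1, c2⟩ := syl (a1 _ o2) (abT _ (mul_mem hx hx)) c16
      (mem_centralizer_singleton_iff.2 hg.symm.eq) (by rw [p4, conj_mul, conj_mul, zz]; simp)
    obtain ⟨x', ex'⟩ : ∃ x', x' = c * (g * x * g⁻¹) * c⁻¹ := ⟨_, rfl⟩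
    have e1 : c * (g * (x * x) * g⁻¹) * c⁻¹ = x' * x' := by rw [ex', conj_mul, conj_mul]
    have w1 : x' * x' ≠ 1 := by rw [← e1]; simpa using x1
    have w2 : x' * x' * (x' * x') = 1 := by rw [← e1, conj_mul, conj_mul, zz]; simp
    rw [e1] at c2
    obtain ⟨c', c3, c4⟩ := syl (a1 _ (ord2 w1 w2)) (abT _ c2) c16 (x := x')
      (mem_centralizer_singleton_iff.2 (mul_assoc _ _ _).symm) (by rw [p4, w2])
    have e3 := sq _ c4
    rw [conj_mul, mem_centralizer_singleton_iff.1 c3, mul_inv_cancel_right] at e3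
    rw [e3.resolve_left w1, mul_inv_eq_iff_eq_mul, ← mem_centralizer_singleton_iff.1 c1] at e1
    exact mul_left_cancel e1
  have : Nontrivial E := Finite.one_lt_card_iff_nontrivial.1 (by omega)
  obtain ⟨⟨u0, hu0⟩, u1⟩ := exists_ne (1 : E)
  obtain ⟨T, hT, -, cT⟩ := ex u0 hu0 fun e => u1 (Subtype.ext e)
  refine nc T hT cT fun g hg u hu => ?_
  by_cases e : u = 1
  · simp [e]
  obtain ⟨T', hT', uT, cT'⟩ := ex u hu e
  obtain ⟨b1, -⟩ := lemL a1 a2 c8 e2 ab hT cT (nc T hT cT)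
  obtain ⟨b2, b3⟩ := lemL a1 a2 c8 e2 ab hT' cT' (nc T' hT' cT')
  have b4 := H12.SR.card_le_idx (T := E ⊓ centralizer (T : Set G)) (E ⊓ centralizer (T' : Set G))
    inf_le_left (m := 2) (H12.SR.idx_of_card inf_le_left (by omega))
  have : Nontrivial ↥(E ⊓ centralizer (T : Set G) ⊓ (E ⊓ centralizer (T' : Set G))) :=
    Finite.one_lt_card_iff_nontrivial.1 (by omega)
  obtain ⟨⟨z, hz⟩, z1⟩ := exists_ne (1 : ↥(E ⊓ centralizer (T : Set G) ⊓ (E ⊓ centralizer (T' : Set G))))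
  exact (b3 z hz.2 (fun e => z1 (Subtype.ext e)) g (hz.1.2 g hg) u
    ⟨hu, fun a ha => mem_centralizer_singleton_iff.1 (uT ha)⟩).symm

end Cfsg.Agent.H3.U2
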